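import Mathlib
import Cfsg.Prelude.Def_Transfer
import Cfsg.Agent.H2.MinNormal

/-!
# `pResidual`, normal `p`-complements, evaluation of the transfer

`pResidual n G` is treated for an arbitrary natural number `n` (it is `O^π(G)` for `π` the set of
primes dividing `n`).
-/

namespace H3

open Subgroup Cfsg
open scoped Pointwise commutatorElement

variable {G : Type*} [Group G]

/-! ### elements -/

theorem exists_pow_orderOf_coprime [Finite G] (n : ℕ) (g : G) :
    ∃ k : ℕ, (orderOf (g ^ n ^ k)).Coprime n := by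
  induction h : orderOf g using Nat.strong_induction_on generalizing g with
  | _ m ih =>
    by_cases hc : (orderOf g).Coprime n
    · exact ⟨0, by simpa using hc⟩
    · have hlt : orderOf (g ^ n) < m := by
        rw [orderOf_pow, ← h]
        refine Nat.div_lt_self (orderOf_pos g) ?_
        have h0 : 0 < (orderOf g).gcd n := Nat.gcd_pos_of_pos_left _ (orderOf_pos g)
        have h1 : (orderOf g).gcd n ≠ 1 := hc
        omega
      obtain ⟨k, hk⟩ := ih _ hlt (g ^ n) rfl
      exact ⟨k + 1, by rwa [pow_succ', pow_mul]⟩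

theorem eq_one_of_pow_eq_one_of_coprime {g : G} {m n : ℕ} (hm : g ^ m = 1) (hn : g ^ n = 1)
    (h : m.Coprime n) : g = 1 :=
  orderOf_eq_one_iff.mp (Nat.eq_one_of_dvd_coprimes h (orderOf_dvd_of_pow_eq_one hm)
    (orderOf_dvd_of_pow_eq_one hn))

theorem eq_one_of_isPGroup_of_coprime {n : ℕ} (hG : IsPGroup n G) {g : G}
    (h : (orderOf g).Coprime n) : g = 1 := by
  obtain ⟨k, hk⟩ := hG g
  exact eq_one_of_pow_eq_one_of_coprime (pow_orderOf_eq_one g) hk (h.pow_right k)

theorem eq_one_of_mem_of_coprime {n : ℕ} {Q : Subgroup G} (hQ : IsPGroup n Q) {g : G}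
    (hg : g ∈ Q) (h : (orderOf g).Coprime n) : g = 1 := by
  have := eq_one_of_isPGroup_of_coprime hQ (g := ⟨g, hg⟩) (by rwa [← orderOf_coe])
  exact congrArg Subtype.val this

theorem orderOf_coprime_of_mem {n : ℕ} {K : Subgroup G} (hK : (Nat.card K).Coprime n) {g : G}
    (hg : g ∈ K) : (orderOf g).Coprime n :=
  hK.coprime_dvd_left (K.orderOf_dvd_natCard hg)

theorem card_coprime_of_forall_orderOf [Finite G] {n : ℕ} {K : Subgroup G}
    (h : ∀ g ∈ K, (orderOf g).Coprime n) : (Nat.card K).Coprime n := by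
  refine Nat.coprime_of_dvd fun q hq h1 h2 => ?_
  obtain ⟨x, hx, ho⟩ := H2.exists_mem_orderOf_eq_prime hq h1
  have := h x hx
  rw [ho] at this
  exact hq.one_lt.ne' (Nat.eq_one_of_dvd_coprimes this dvd_rfl h2)

/-- an element is a power of any of its powers with exponent prime to its order -/
theorem mem_of_pow_mem_of_coprime [Finite G] {H : Subgroup G} {g : G} {m : ℕ}
    (hm : g ^ m ∈ H) (h : (orderOf g).Coprime m) : g ∈ H := by
  obtain ⟨k, hk⟩ := exists_pow_eq_self_of_coprime h.symm
  exact hk ▸ H.pow_mem hm k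

/-- every element is the product of two commuting powers of itself, one of order dividing a power
of `n` and one of order prime to `n` -/
theorem exists_decomp [Finite G] (n : ℕ) (g : G) :
    ∃ a ∈ zpowers g, ∃ b ∈ zpowers g, (∃ k, a ^ n ^ k = 1) ∧ (orderOf b).Coprime n ∧
      g = a * b := by
  obtain ⟨k, hk⟩ := exists_pow_orderOf_coprime n g
  obtain ⟨m, hm⟩ := exists_pow_eq_self_of_coprime (hk.pow_right k).symm
  refine ⟨g * ((g ^ n ^ k) ^ m)⁻¹, mul_mem (mem_zpowers g) (inv_mem (pow_mem (pow_mem
    (mem_zpowers g) _) _)), (g ^ n ^ k) ^ m, pow_mem (pow_mem (mem_zpowers g) _) _, ⟨k, ?_⟩,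
    hk.coprime_dvd_left (orderOf_pow_dvd m), by group⟩
  have hc : Commute g ((g ^ n ^ k) ^ m)⁻¹ := (((Commute.refl g).pow_right _).pow_right _).inv_right
  rw [hc.mul_pow, inv_pow, ← pow_mul (g ^ n ^ k), mul_comm m, pow_mul, hm, mul_inv_cancel]

/-! ### `pResidual` -/

theorem mem_pResidual_of_coprime {n : ℕ} {g : G} (h : (orderOf g).Coprime n) :
    g ∈ pResidual n G := subset_closure h

theorem pResidual_le_iff {n : ℕ} {H : Subgroup G} :
    pResidual n G ≤ H ↔ ∀ g : G, (orderOf g).Coprime n → g ∈ H := closure_le H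

theorem le_pResidual_of_coprime {n : ℕ} {K : Subgroup G} (hK : (Nat.card K).Coprime n) :
    K ≤ pResidual n G := fun _ hg => mem_pResidual_of_coprime (orderOf_coprime_of_mem hK hg)

theorem map_pResidual_le {G' : Type*} [Group G'] (n : ℕ) (f : G →* G') :
    (pResidual n G).map f ≤ pResidual n G' := by
  rw [map_le_iff_le_comap, pResidual_le_iff]
  exact fun g hg => mem_pResidual_of_coprime (hg.coprime_dvd_left (orderOf_map_dvd f g))

instance pResidual_characteristic (n : ℕ) (G : Type*) [Group G] :
    (pResidual n G).Characteristic :=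
  characteristic_iff_map_le.mpr fun e => map_pResidual_le n e.toMonoidHom

instance pResidual_normal (n : ℕ) (G : Type*) [Group G] : (pResidual n G).Normal :=
  normal_of_characteristic _

theorem pResidual_le_ker {A : Type*} [Group A] {n : ℕ} (hA : IsPGroup n A) (f : G →* A) :
    pResidual n G ≤ f.ker :=
  pResidual_le_iff.mpr fun g hg =>
    eq_one_of_isPGroup_of_coprime hA (hg.coprime_dvd_left (orderOf_map_dvd f g))

theorem pResidual_le_of_isPGroup_quotient {n : ℕ} (N : Subgroup G) [N.Normal]
    (h : IsPGroup n (G ⧸ N)) : pResidual n G ≤ N := by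
  have := pResidual_le_ker h (QuotientGroup.mk' N)
  rwa [QuotientGroup.ker_mk'] at this

theorem isPGroup_quotient_of_pResidual_le [Finite G] {n : ℕ} (N : Subgroup G) [N.Normal]
    (h : pResidual n G ≤ N) : IsPGroup n (G ⧸ N) := by
  intro x
  obtain ⟨g, rfl⟩ := QuotientGroup.mk_surjective x
  obtain ⟨k, hk⟩ := exists_pow_orderOf_coprime n g
  exact ⟨k, by
    rw [← QuotientGroup.mk_pow, QuotientGroup.eq_one_iff]
    exact h (mem_pResidual_of_coprime hk)⟩

theorem isPGroup_quotient_pResidual (n : ℕ) (G : Type*) [Group G] [Finite G] :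
    IsPGroup n (G ⧸ pResidual n G) :=
  isPGroup_quotient_of_pResidual_le _ le_rfl

theorem index_pResidual_dvd_pow (n : ℕ) (G : Type*) [Group G] [Finite G] :
    ∃ k, (pResidual n G).index ∣ n ^ k :=
  isPGroup_iff_card_dvd_pow.mp (isPGroup_quotient_pResidual n G)

theorem pResidual_le_of_index_dvd_pow {n k : ℕ} (N : Subgroup G) [N.Normal]
    (h : N.index ∣ n ^ k) : pResidual n G ≤ N :=
  pResidual_le_of_isPGroup_quotient N (IsPGroup.of_card_dvd_pow h)

theorem pResidual_eq_bot_iff [Finite G] {n : ℕ} : pResidual n G = ⊥ ↔ IsPGroup n G := by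
  constructor
  · intro h g
    obtain ⟨k, hk⟩ := exists_pow_orderOf_coprime n g
    exact ⟨k, mem_bot.mp (h ▸ mem_pResidual_of_coprime hk)⟩
  · intro h
    exact le_bot_iff.mp (pResidual_le_iff.mpr fun g hg => eq_one_of_isPGroup_of_coprime h hg)

theorem pResidual_sup_eq_top_of_coprime [Finite G] {n : ℕ} {H : Subgroup G}
    (h : H.index.Coprime n) : pResidual n G ⊔ H = ⊤ := by
  obtain ⟨k, hk⟩ := index_pResidual_dvd_pow n G
  rw [← index_eq_one]
  exact Nat.eq_one_of_dvd_coprimes (h.pow_right k) (index_dvd_of_le le_sup_right)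
    ((index_dvd_of_le le_sup_left).trans hk)

theorem sylow_index_coprime [Finite G] {p : ℕ} [hp : Fact p.Prime] (P : Sylow p G) :
    (P : Subgroup G).index.Coprime p :=
  (hp.out.coprime_iff_not_dvd.mpr P.not_dvd_index).symm

theorem pResidual_sup_sylow [Finite G] {p : ℕ} [Fact p.Prime] (P : Sylow p G) :
    pResidual p G ⊔ P = ⊤ :=
  pResidual_sup_eq_top_of_coprime (sylow_index_coprime P)

theorem map_subtype_pResidual_le (n : ℕ) (K : Subgroup G) :
    (pResidual n K).map K.subtype ≤ pResidual n G ⊓ K :=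
  le_inf (map_pResidual_le n _) (map_subtype_le _)

theorem mem_map_subtype_pResidual {n : ℕ} {K : Subgroup G} {g : G} (hg : g ∈ K)
    (h : (orderOf g).Coprime n) : g ∈ (pResidual n K).map K.subtype :=
  ⟨⟨g, hg⟩, mem_pResidual_of_coprime (by rwa [← orderOf_coe]), rfl⟩

theorem map_subtype_pResidual_eq_closure (n : ℕ) (K : Subgroup G) :
    (pResidual n K).map K.subtype = closure {g : G | g ∈ K ∧ (orderOf g).Coprime n} := by
  apply le_antisymm
  · rw [map_le_iff_le_comap, pResidual_le_iff]
    exact fun g hg => subset_closure ⟨g.2, by rwa [coe_subtype, orderOf_coe]⟩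
  · rw [closure_le]
    exact fun g hg => mem_map_subtype_pResidual hg.1 hg.2

theorem map_subtype_pResidual_mono {n : ℕ} {K L : Subgroup G} (h : K ≤ L) :
    (pResidual n K).map K.subtype ≤ (pResidual n L).map L.subtype := by
  rw [map_subtype_pResidual_eq_closure, map_subtype_pResidual_eq_closure]
  exact closure_mono fun g hg => ⟨h hg.1, hg.2⟩

theorem map_subtype_pResidual_eq {n : ℕ} {K : Subgroup G} (h : pResidual n G ≤ K) :
    (pResidual n K).map K.subtype = pResidual n G :=
  le_antisymm (map_pResidual_le n _) (pResidual_le_iff.mpr fun _ hg =>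
    mem_map_subtype_pResidual (h (mem_pResidual_of_coprime hg)) hg)

theorem pResidual_pResidual (n : ℕ) (G : Type*) [Group G] :
    pResidual n (pResidual n G) = ⊤ := by
  apply map_injective (pResidual n G).subtype_injective
  rw [map_subtype_pResidual_eq le_rfl, ← MonoidHom.range_eq_map, range_subtype]

theorem map_pResidual_eq_of_surjective [Finite G] {G' : Type*} [Group G'] (n : ℕ) {f : G →* G'}
    (hf : Function.Surjective f) : (pResidual n G).map f = pResidual n G' := by
  refine le_antisymm (map_pResidual_le n f) (pResidual_le_iff.mpr fun y hy => ?_)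
  obtain ⟨g, rfl⟩ := hf y
  obtain ⟨a, -, b, -, ⟨k, hk⟩, hb, rfl⟩ := exists_decomp n g
  have : Finite G' := Finite.of_surjective f hf
  obtain ⟨j, hj⟩ := exists_pow_orderOf_coprime n (a * b)
  refine mem_of_pow_mem_of_coprime (m := n ^ j) ?_ (hy.pow_right j)
  rw [← map_pow]
  exact mem_map_of_mem f (mem_pResidual_of_coprime hj)

theorem map_pResidual_equiv {G' : Type*} [Group G'] (n : ℕ) (e : G ≃* G') :
    (pResidual n G).map (e : G →* G') = pResidual n G' := by
  refine le_antisymm (map_pResidual_le n _) (pResidual_le_iff.mpr fun y hy => ?_)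
  exact ⟨e.symm y, mem_pResidual_of_coprime (by rwa [MulEquiv.orderOf_eq]), by simp⟩

/-- the normalizer of `K` normalizes the characteristic subgroups of `K` -/
theorem normalizer_le_normalizer_map_of_characteristic {K : Subgroup G} (C : Subgroup K)
    [hC : C.Characteristic] :
    normalizer (K : Set G) ≤ normalizer ((C.map K.subtype : Subgroup G) : Set G) := by
  rw [le_normalizer_iff]
  rintro g hg _ ⟨x, hx, rfl⟩
  exact ⟨K.normalizerMonoidHom ⟨g, hg⟩ x,
    characteristic_iff_map_le.mp hC (K.normalizerMonoidHom ⟨g, hg⟩) (mem_map_of_mem _ hx), rfl⟩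

theorem normalizer_le_normalizer_map_pResidual (n : ℕ) (K : Subgroup G) :
    normalizer (K : Set G) ≤ normalizer (((pResidual n K).map K.subtype : Subgroup G) : Set G) :=
  normalizer_le_normalizer_map_of_characteristic (pResidual n K)

theorem commutator_le_pResidual_of_abelian [Finite G] {n : ℕ} {H : Subgroup G}
    (h : H.index.Coprime n) (hc : IsMulCommutative H) : commutator G ≤ pResidual n G := by
  rw [← Normal.quotient_commutative_iff_commutator_le]
  have hs : H.map (QuotientGroup.mk' (pResidual n G)) = ⊤ := by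
    apply comap_injective (QuotientGroup.mk'_surjective _)
    rw [H2.comap_map_mk', sup_comm, pResidual_sup_eq_top_of_coprime h, comap_top]
  refine ⟨⟨fun a b => ?_⟩⟩
  obtain ⟨x, hx, rfl⟩ : a ∈ H.map (QuotientGroup.mk' (pResidual n G)) := hs ▸ mem_top a
  obtain ⟨y, hy, rfl⟩ : b ∈ H.map (QuotientGroup.mk' (pResidual n G)) := hs ▸ mem_top b
  rw [← map_mul, ← map_mul, setLike_mul_comm hx hy]

/-! ### normal `p`-complements -/

theorem isComplement'_of_inf_eq_bot_of_sup_eq_top {N H : Subgroup G} [N.Normal]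
    (h1 : N ⊓ H = ⊥) (h2 : N ⊔ H = ⊤) : N.IsComplement' H :=
  isComplement'_of_disjoint_and_mul_eq_univ (disjoint_iff.mpr h1)
    (by rw [← normal_mul, h2, coe_top])

section prime

variable {p : ℕ} [hp : Fact p.Prime]

theorem card_coprime_of_isComplement'_sylow [Finite G] {P : Sylow p G} {N : Subgroup G}
    (hN : N.IsComplement' (P : Subgroup G)) : (Nat.card N).Coprime p := by
  rw [← hN.index_eq_card]
  exact sylow_index_coprime P

theorem isPGroup_quotient_of_isComplement'_sylow [Finite G] {P : Sylow p G} {N : Subgroup G}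
    [N.Normal] (hN : N.IsComplement' (P : Subgroup G)) : IsPGroup p (G ⧸ N) := by
  obtain ⟨k, hk⟩ := IsPGroup.iff_card.mp P.2
  exact IsPGroup.of_card (n := k) (by rw [← hk, ← hN.symm.index_eq_card]; rfl)

theorem eq_pResidual_of_isComplement'_sylow [Finite G] {P : Sylow p G} {N : Subgroup G}
    [N.Normal] (hN : N.IsComplement' (P : Subgroup G)) : N = pResidual p G :=
  le_antisymm (le_pResidual_of_coprime (card_coprime_of_isComplement'_sylow hN))
    (pResidual_le_of_isPGroup_quotient N (isPGroup_quotient_of_isComplement'_sylow hN))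

theorem isComplement'_pResidual_of_coprime [Finite G] (P : Sylow p G)
    (h : (Nat.card (pResidual p G)).Coprime p) : (pResidual p G).IsComplement' (P : Subgroup G) :=
  isComplement'_of_inf_eq_bot_of_sup_eq_top
    (H2.IsPGroup.eq_bot_of_coprime P.2.to_inf_right
      (h.coprime_dvd_left (card_dvd_of_le inf_le_left))) (pResidual_sup_sylow P)

theorem hasNPC_iff_coprime [Finite G] :
    HasNormalPComplement p G ↔ (Nat.card (pResidual p G)).Coprime p := by
  constructor
  · rintro ⟨P, N, hN, h⟩
    rw [← eq_pResidual_of_isComplement'_sylow h]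
    exact card_coprime_of_isComplement'_sylow h
  · intro h
    obtain ⟨P⟩ : Nonempty (Sylow p G) := inferInstance
    exact ⟨P, _, inferInstance, isComplement'_pResidual_of_coprime P h⟩

theorem hasNPC_iff_forall_orderOf [Finite G] :
    HasNormalPComplement p G ↔ ∀ g ∈ pResidual p G, (orderOf g).Coprime p := by
  rw [hasNPC_iff_coprime]
  exact ⟨fun h _ hg => orderOf_coprime_of_mem h hg, card_coprime_of_forall_orderOf⟩

theorem HasNPC.isComplement' [Finite G] (h : HasNormalPComplement p G) (P : Sylow p G) :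
    (pResidual p G).IsComplement' (P : Subgroup G) :=
  isComplement'_pResidual_of_coprime P (hasNPC_iff_coprime.mp h)

theorem hasNPC_iff_sylow [Finite G] (P : Sylow p G) :
    HasNormalPComplement p G ↔ ∃ N : Subgroup G, N.Normal ∧ N.IsComplement' (P : Subgroup G) :=
  ⟨fun h => ⟨_, inferInstance, HasNPC.isComplement' h P⟩, fun ⟨N, h1, h2⟩ => ⟨P, N, h1, h2⟩⟩

theorem card_coprime_of_inf_sylow_eq_bot [Finite G] (P : Sylow p G) (N : Subgroup G) [N.Normal]
    (h : N ⊓ P = ⊥) : (Nat.card N).Coprime p := by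
  have h1 := H2.card_sup_mul_card_inf (H := (P : Subgroup G)) (K := N) le_normalizer_of_normal
  rw [inf_comm, h, card_bot, mul_one] at h1
  have h2 := H2.card_mul_relIndex (le_sup_left : (P : Subgroup G) ≤ (P : Subgroup G) ⊔ N)
  have h3 : Nat.card N = (P : Subgroup G).relIndex ((P : Subgroup G) ⊔ N) :=
    Nat.eq_of_mul_eq_mul_left Nat.card_pos (h1.symm.trans h2.symm)
  rw [h3]
  exact (sylow_index_coprime P).coprime_dvd_left (relIndex_dvd_index_of_le le_sup_left)

theorem hasNPC_iff_inf_eq_bot [Finite G] (P : Sylow p G) :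
    HasNormalPComplement p G ↔ pResidual p G ⊓ P = ⊥ :=
  ⟨fun h => disjoint_iff.mp (HasNPC.isComplement' h P).disjoint,
    fun h => hasNPC_iff_coprime.mpr (card_coprime_of_inf_sylow_eq_bot P _ h)⟩

theorem hasNPC_of_normal [Finite G] (N : Subgroup G) [N.Normal] (hN : (Nat.card N).Coprime p)
    (hQ : IsPGroup p (G ⧸ N)) : HasNormalPComplement p G :=
  hasNPC_iff_coprime.mpr
    (hN.coprime_dvd_left (card_dvd_of_le (pResidual_le_of_isPGroup_quotient N hQ)))

theorem hasNPC_of_isPGroup [Finite G] (h : IsPGroup p G) : HasNormalPComplement p G :=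
  hasNPC_of_normal ⊥ (by simp) (h.to_quotient ⊥)

theorem hasNPC_of_coprime [Finite G] (h : (Nat.card G).Coprime p) : HasNormalPComplement p G :=
  hasNPC_iff_coprime.mpr (h.coprime_dvd_left (card_subgroup_dvd_card _))

theorem HasNPC.of_injective [Finite G] {H : Type*} [Group H] (h : HasNormalPComplement p G)
    (f : H →* G) (hf : Function.Injective f) : HasNormalPComplement p H := by
  have : Finite H := Finite.of_injective f hf
  rw [hasNPC_iff_forall_orderOf] at h ⊢
  intro g hg
  rw [← orderOf_injective f hf]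
  exact h _ (map_pResidual_le p f (mem_map_of_mem f hg))

theorem HasNPC.subgroup [Finite G] (h : HasNormalPComplement p G) (H : Subgroup G) :
    HasNormalPComplement p H :=
  HasNPC.of_injective h H.subtype H.subtype_injective

theorem HasNPC.of_le [Finite G] {H K : Subgroup G} (h : HasNormalPComplement p K) (hle : H ≤ K) :
    HasNormalPComplement p H :=
  HasNPC.of_injective h (inclusion hle) (inclusion_injective hle)

theorem HasNPC.of_equiv [Finite G] {H : Type*} [Group H] (h : HasNormalPComplement p G)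
    (e : G ≃* H) : HasNormalPComplement p H :=
  HasNPC.of_injective h e.symm.toMonoidHom e.symm.injective

theorem HasNPC.of_surjective [Finite G] {H : Type*} [Group H] (h : HasNormalPComplement p G)
    (f : G →* H) (hf : Function.Surjective f) : HasNormalPComplement p H := by
  have : Finite H := Finite.of_surjective f hf
  rw [hasNPC_iff_forall_orderOf] at h ⊢
  intro y hy
  rw [← map_pResidual_eq_of_surjective p hf] at hy
  obtain ⟨g, hg, rfl⟩ := hy
  exact (h g hg).coprime_dvd_left (orderOf_map_dvd f g)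

theorem HasNPC.quotient [Finite G] (h : HasNormalPComplement p G) (N : Subgroup G) [N.Normal] :
    HasNormalPComplement p (G ⧸ N) :=
  HasNPC.of_surjective h _ (QuotientGroup.mk'_surjective N)

theorem HasNPC.map [Finite G] {H : Type*} [Group H] {K : Subgroup G}
    (h : HasNormalPComplement p K) (f : G →* H) : HasNormalPComplement p (K.map f) :=
  HasNPC.of_surjective h (f.subgroupMap K) (f.subgroupMap_surjective K)

theorem hasNPC_top_iff [Finite G] :
    HasNormalPComplement p (⊤ : Subgroup G) ↔ HasNormalPComplement p G :=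
  ⟨fun h => HasNPC.of_equiv h topEquiv, fun h => HasNPC.subgroup h ⊤⟩

theorem hasNPC_of_eq_top [Finite G] {K : Subgroup G} (hK : K = ⊤)
    (h : HasNormalPComplement p K) : HasNormalPComplement p G :=
  hasNPC_top_iff.mp (hK ▸ h)

/-- a group is `p`-nilpotent when its quotient by a normal `p'`-subgroup is -/
theorem hasNPC_of_quotient_coprime [Finite G] (N : Subgroup G) [N.Normal]
    (hN : (Nat.card N).Coprime p) (h : HasNormalPComplement p (G ⧸ N)) :
    HasNormalPComplement p G := by
  rw [hasNPC_iff_coprime] at h ⊢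
  have h1 : pResidual p G ≤ (pResidual p (G ⧸ N)).comap (QuotientGroup.mk' N) :=
    map_le_iff_le_comap.mp (map_pResidual_le p _)
  refine Nat.Coprime.coprime_dvd_left (card_dvd_of_le h1) ?_
  rw [H2.card_comap_mk']
  exact hN.mul_left h

/-- a group is `p`-nilpotent when `O^p(G)` lies in a `p`-nilpotent subgroup -/
theorem hasNPC_of_pResidual_le [Finite G] {K : Subgroup G} (hK : pResidual p G ≤ K)
    (h : HasNormalPComplement p K) : HasNormalPComplement p G := by
  rw [hasNPC_iff_coprime] at h ⊢
  rwa [← map_subtype_pResidual_eq hK, H2.card_map_subtype]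

theorem hasNPC_subgroup_iff [Finite G] {K : Subgroup G} :
    HasNormalPComplement p K ↔ (Nat.card ((pResidual p K).map K.subtype)).Coprime p := by
  rw [hasNPC_iff_coprime, H2.card_map_subtype]

/-- In a `p`-nilpotent group a `p'`-element centralizes every `p`-subgroup it normalizes. -/
theorem HasNPC.mem_centralizer [Finite G] (h : HasNormalPComplement p G) {Q : Subgroup G}
    (hQ : IsPGroup p Q) {g : G} (hg : g ∈ normalizer (Q : Set G)) (ho : (orderOf g).Coprime p) :
    g ∈ centralizer (Q : Set G) := by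
  rw [mem_centralizer_iff]
  intro x hx
  have h1 : g * x * g⁻¹ * x⁻¹ ∈ Q := mul_mem ((mem_normalizer_iff.mp hg x).mp hx) (inv_mem hx)
  have h2 : g * x * g⁻¹ * x⁻¹ ∈ pResidual p G := by
    have := (pResidual_normal p G).conj_mem _ (inv_mem (mem_pResidual_of_coprime ho)) x
    simpa [mul_assoc] using mul_mem (mem_pResidual_of_coprime ho) this
  have h3 := eq_one_of_mem_of_coprime hQ h1 (hasNPC_iff_forall_orderOf.mp h _ h2)
  rw [mul_inv_eq_one, mul_inv_eq_iff_eq_mul] at h3
  exact h3.symm

/-- the same inside a `p`-nilpotent subgroup `K` -/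
theorem HasNPC.mem_centralizer_of_mem [Finite G] {K : Subgroup G} (h : HasNormalPComplement p K)
    {Q : Subgroup G} (hQ : IsPGroup p Q) (hQK : Q ≤ K) {g : G} (hgK : g ∈ K)
    (hg : g ∈ normalizer (Q : Set G)) (ho : (orderOf g).Coprime p) :
    g ∈ centralizer (Q : Set G) := by
  have := HasNPC.mem_centralizer h (Q := Q.subgroupOf K) hQ.comap_subtype (g := ⟨g, hgK⟩)
    (by
      rw [mem_normalizer_iff]
      intro x
      exact mem_normalizer_iff.mp hg x) (by rwa [← orderOf_coe])
  rw [mem_centralizer_iff] at this ⊢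
  intro x hx
  exact congrArg Subtype.val (this ⟨x, hQK hx⟩ hx)

/-- Burnside's normal `p`-complement theorem -/
theorem hasNPC_of_normalizer_le_centralizer [Finite G] (P : Sylow p G)
    (h : normalizer (P : Set G) ≤ centralizer (P : Set G)) : HasNormalPComplement p G :=
  ⟨P, _, inferInstance, MonoidHom.ker_transferSylow_isComplement' P h⟩

theorem hasNPC_of_isNilpotent [Finite G] (h : Group.IsNilpotent G) : HasNormalPComplement p G := by
  obtain ⟨P⟩ : Nonempty (Sylow p G) := inferInstance
  have hP : (P : Subgroup G).Normal := H2.isNilpotent_iff_forall_sylow_normal.mp h p hp P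
  obtain ⟨K, hK⟩ := exists_left_complement'_of_coprime P.card_coprime_index
  refine ⟨P, K, ?_, hK⟩
  by_contra hn
  have h1 : K ≤ pPrimeCore p G :=
    H2.le_pPrimeCore_of_isSubnormal (H2.isSubnormal_of_isNilpotent K)
      (card_coprime_of_isComplement'_sylow hK)
  have h2 : K = pPrimeCore p G := by
    refine eq_of_le_of_card_ge h1 (Nat.le_of_dvd Nat.card_pos ?_)
    have h3 := card_subgroup_dvd_card (pPrimeCore p G)
    rw [← hK.card_mul_card] at h3
    obtain ⟨k, hk⟩ := IsPGroup.iff_card.mp P.2
    rw [hk] at h3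
    exact ((H2.pPrimeCore_coprime p G).pow_right k).dvd_of_dvd_mul_right h3
  exact hn (h2 ▸ inferInstance)

end prime

/-! ### evaluating the transfer -/

/-- If `φ` takes every conjugate of `x ^ k` lying in `H` to `a ^ k`, the transfer of `x` is
`a ^ [G : H]`. -/
theorem transfer_eq_pow_of_forall {A : Type*} [CommGroup A] {H : Subgroup G} [H.FiniteIndex]
    (φ : H →* A) (x : G) (a : A)
    (h : ∀ (k : ℕ) (g : G) (hk : g⁻¹ * x ^ k * g ∈ H), φ ⟨_, hk⟩ = a ^ k) :
    MonoidHom.transfer φ x = a ^ H.index := by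
  have : Fintype (Quotient (MulAction.orbitRel (zpowers x) (G ⧸ H))) := Fintype.ofFinite _
  rw [index_eq_sum_minimalPeriod H x, ← Finset.prod_pow_eq_pow_sum,
    MonoidHom.transfer_eq_prod_quotient_orbitRel_zpowers_quot]
  exact Finset.prod_congr rfl fun _ _ => h _ _ _

/-- If `φ` is constant on `G`-conjugates inside `H`, the transfer restricted to `H` is
`φ ^ [G : H]`. -/
theorem transfer_eq_pow_of_fusion {A : Type*} [CommGroup A] {H : Subgroup G} [H.FiniteIndex]
    (φ : H →* A)
    (h : ∀ (x : G) (hx : x ∈ H) (g : G) (hg : g⁻¹ * x * g ∈ H), φ ⟨_, hg⟩ = φ ⟨x, hx⟩) (x : H) :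
    MonoidHom.transfer φ x = φ x ^ H.index :=
  transfer_eq_pow_of_forall φ x (φ x) fun k g hk => by
    rw [h _ (pow_mem x.2 k) g hk, ← map_pow]; rfl

end H3
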