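import Mathlib
import Cfsg.Prelude.Def_Transfer
import Cfsg.Agent.H3.PNil

/-!
# Conjugate subgroups, Sylow subgroups of subgroups, control of fusion
-/

namespace H3

open Subgroup Cfsg
open scoped Pointwise commutatorElement

variable {G : Type*} [Group G]

/-! ### conjugates -/

theorem mem_conj_smul {g x : G} {H : Subgroup G} :
    x ∈ MulAut.conj g • H ↔ g⁻¹ * x * g ∈ H := by
  rw [mem_pointwise_smul_iff_inv_smul_mem]
  simp

theorem conj_mem_conj_smul {g x : G} {H : Subgroup G} :
    g * x * g⁻¹ ∈ MulAut.conj g • H ↔ x ∈ H := by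
  rw [mem_conj_smul]; simp [mul_assoc]

theorem map_conj_eq (g : G) (H : Subgroup G) :
    H.map (MulAut.conj g).toMonoidHom = MulAut.conj g • H := rfl

theorem conj_smul_le_iff {g : G} {H K : Subgroup G} :
    MulAut.conj g • H ≤ K ↔ ∀ x ∈ H, g * x * g⁻¹ ∈ K := by
  rw [← map_conj_eq, map_le_iff_le_comap]; rfl

theorem conj_smul_conj_smul (g h : G) (H : Subgroup G) :
    MulAut.conj g • MulAut.conj h • H = MulAut.conj (g * h) • H := by
  rw [map_mul, mul_smul]

theorem conj_one_smul (H : Subgroup G) : MulAut.conj (1 : G) • H = H := by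
  rw [map_one, one_smul]

theorem conj_inv_smul_conj_smul (g : G) (H : Subgroup G) :
    MulAut.conj g⁻¹ • MulAut.conj g • H = H := by
  rw [conj_smul_conj_smul, inv_mul_cancel, conj_one_smul]

theorem conj_smul_conj_inv_smul (g : G) (H : Subgroup G) :
    MulAut.conj g • MulAut.conj g⁻¹ • H = H := by
  rw [conj_smul_conj_smul, mul_inv_cancel, conj_one_smul]

theorem conj_smul_eq_iff {g : G} {H : Subgroup G} :
    MulAut.conj g • H = H ↔ g ∈ normalizer (H : Set G) :=
  mem_normalizer_iff_map_conj_eq.symm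

theorem conj_smul_eq_of_mem {g : G} {H : Subgroup G} (hg : g ∈ H) : MulAut.conj g • H = H :=
  conj_smul_eq_iff.mpr (le_normalizer hg)

theorem conj_smul_mono {g : G} {H K : Subgroup G} (h : H ≤ K) :
    MulAut.conj g • H ≤ MulAut.conj g • K := map_mono h

theorem conj_smul_le_conj_smul_iff {g : G} {H K : Subgroup G} :
    MulAut.conj g • H ≤ MulAut.conj g • K ↔ H ≤ K := pointwise_smul_le_pointwise_smul_iff

theorem conj_smul_le_of_le_of_mem {g : G} {H K : Subgroup G} (h : H ≤ K) (hg : g ∈ K) :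
    MulAut.conj g • H ≤ K := (conj_smul_mono h).trans (conj_smul_eq_of_mem hg).le

theorem card_conj_smul (g : G) (H : Subgroup G) :
    Nat.card ↥(MulAut.conj g • H) = Nat.card H :=
  card_map_of_injective (f := (MulAut.conj g).toMonoidHom) (MulAut.conj g).injective

theorem conj_smul_inf (g : G) (H K : Subgroup G) :
    MulAut.conj g • (H ⊓ K) = MulAut.conj g • H ⊓ MulAut.conj g • K := smul_inf _ _ _

theorem conj_smul_sup (g : G) (H K : Subgroup G) :
    MulAut.conj g • (H ⊔ K) = MulAut.conj g • H ⊔ MulAut.conj g • K := smul_sup _ _ _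

theorem conj_smul_normalizer (g : G) (H : Subgroup G) :
    MulAut.conj g • normalizer (H : Set G) = normalizer ((MulAut.conj g • H : Subgroup G) : Set G) :=
  map_equiv_normalizer_eq H (MulAut.conj g)

theorem conj_smul_centralizer (g : G) (H : Subgroup G) :
    MulAut.conj g • centralizer (H : Set G) =
      centralizer ((MulAut.conj g • H : Subgroup G) : Set G) := by
  ext x
  rw [mem_conj_smul, mem_centralizer_iff, mem_centralizer_iff]
  constructor
  · intro h y hy
    have := h _ (mem_conj_smul.mp hy)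
    calc y * x = g * (g⁻¹ * y * g * (g⁻¹ * x * g)) * g⁻¹ := by group
      _ = x * y := by rw [this]; group
  · intro h y hy
    have := h _ (conj_mem_conj_smul.mpr hy : g * y * g⁻¹ ∈ _)
    calc y * (g⁻¹ * x * g) = g⁻¹ * (g * y * g⁻¹ * x) * g := by group
      _ = g⁻¹ * x * g * y := by rw [this]; group

theorem conj_smul_commutator (g : G) (H K : Subgroup G) :
    MulAut.conj g • ⁅H, K⁆ = ⁅MulAut.conj g • H, MulAut.conj g • K⁆ :=
  map_commutator H K (MulAut.conj g).toMonoidHom

theorem relIndex_conj_smul (g : G) (H K : Subgroup G) :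
    (MulAut.conj g • H).relIndex (MulAut.conj g • K) = H.relIndex K :=
  relIndex_map_map_of_injective H K (f := (MulAut.conj g).toMonoidHom) (MulAut.conj g).injective

theorem index_conj_smul (g : G) (H : Subgroup G) : (MulAut.conj g • H).index = H.index :=
  index_map_equiv H (MulAut.conj g)

theorem isPGroup_conj_smul {p : ℕ} {H : Subgroup G} (h : IsPGroup p H) (g : G) :
    IsPGroup p ↥(MulAut.conj g • H) := h.map _

theorem eq_of_conj_smul_le [Finite G] {g : G} {H K : Subgroup G} (h : MulAut.conj g • H ≤ K)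
    (hc : Nat.card K ≤ Nat.card H) : MulAut.conj g • H = K :=
  eq_of_le_of_card_ge h (by rwa [card_conj_smul])

theorem mem_normalizer_of_conj_smul_le [Finite G] {g : G} {H : Subgroup G}
    (h : MulAut.conj g • H ≤ H) : g ∈ normalizer (H : Set G) :=
  conj_smul_eq_iff.mp (eq_of_conj_smul_le h le_rfl)

theorem mem_normalizer_of_forall [Finite G] {g : G} {H : Subgroup G}
    (h : ∀ x ∈ H, g * x * g⁻¹ ∈ H) : g ∈ normalizer (H : Set G) :=
  mem_normalizer_of_conj_smul_le (conj_smul_le_iff.mpr h)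

theorem normalizer_le_normalizer_centralizer (S : Set G) :
    normalizer S ≤ normalizer (centralizer S : Set G) :=
  le_normalizer_of_normal_subgroupOf (centralizer_le_normalizer S)

/-! ### indices -/

theorem relIndex_normal_eq (H N : Subgroup G) [Finite G] [N.Normal] :
    H.relIndex N = H.relIndex (H ⊔ N) := by
  have h1 := H2.card_sup_mul_card_inf (H := H) (K := N) le_normalizer_of_normal
  have h2 := H2.card_mul_relIndex (le_sup_left : H ≤ H ⊔ N)
  have h3 := H2.card_inf_mul_relIndex H N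
  rw [← h2, ← h3, mul_assoc, mul_comm (H.relIndex (H ⊔ N))] at h1
  exact (Nat.eq_of_mul_eq_mul_left Nat.card_pos (Nat.eq_of_mul_eq_mul_left Nat.card_pos h1)).symm

theorem relIndex_normal_dvd_index (H N : Subgroup G) [Finite G] [N.Normal] :
    H.relIndex N ∣ H.index := by
  rw [relIndex_normal_eq]
  exact relIndex_dvd_index_of_le le_sup_left

/-- if `N ≤ L` is normalized by `L` and `H ≤ L` then `[N : H ⊓ N]` divides `[L : H]` -/
theorem relIndex_dvd_relIndex_of_normalizer [Finite G] {H N L : Subgroup G} (hN : N ≤ L)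
    (hL : L ≤ normalizer (N : Set G)) : H.relIndex N ∣ H.relIndex L := by
  have : (N.subgroupOf L).Normal := (normal_subgroupOf_iff_le_normalizer hN).mpr hL
  have := relIndex_normal_dvd_index (H.subgroupOf L) (N.subgroupOf L)
  rwa [relIndex_subgroupOf hN] at this

/-! ### Sylow subgroups of subgroups -/

section sylow

variable [Finite G] {p : ℕ} [hp : Fact p.Prime]

theorem exists_conj_smul_le_sylow (P : Sylow p G) {B : Subgroup G} (hB : IsPGroup p B) :
    ∃ g : G, MulAut.conj g • B ≤ P := by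
  obtain ⟨Q, hQ⟩ := hB.exists_le_sylow
  obtain ⟨g, hg⟩ := MulAction.exists_smul_eq G Q P
  exact ⟨g, by rw [← hg, Sylow.coe_subgroup_smul]; exact conj_smul_mono hQ⟩

theorem exists_conj_mem_sylow (P : Sylow p G) {x : G} {k : ℕ} (hx : x ^ p ^ k = 1) :
    ∃ g : G, g * x * g⁻¹ ∈ P := by
  obtain ⟨g, hg⟩ := exists_conj_smul_le_sylow P (B := zpowers x)
    (IsPGroup.of_card_dvd_pow (n := k) (by
      rw [Nat.card_zpowers]; exact orderOf_dvd_of_pow_eq_one hx))
  exact ⟨g, conj_smul_le_iff.mp hg x (mem_zpowers x)⟩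

/-- If `A ⊓ L` is a Sylow `p`-subgroup of `L`, every `p`-subgroup of `L` is `L`-conjugate into
`A`. -/
theorem exists_conj_smul_le_of_relIndex {A B L : Subgroup G} (hA : IsPGroup p A)
    (hi : ¬ p ∣ A.relIndex L) (hB : IsPGroup p B) (hBL : B ≤ L) :
    ∃ c ∈ L, MulAut.conj c • B ≤ A := by
  obtain ⟨c, hc⟩ := exists_conj_smul_le_sylow
    ((hA.comap_subtype (K := L)).toSylow hi) (hB.comap_subtype (K := L))
  refine ⟨c, c.2, conj_smul_le_iff.mpr fun x hx => ?_⟩
  exact conj_smul_le_iff.mp hc ⟨x, hBL hx⟩ hx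

/-- a `p`-subgroup of `L` lies in a Sylow `p`-subgroup of `L` -/
theorem exists_le_relSylow {B L : Subgroup G} (hB : IsPGroup p B) (hBL : B ≤ L) :
    ∃ A : Subgroup G, B ≤ A ∧ A ≤ L ∧ IsPGroup p A ∧ ¬ p ∣ A.relIndex L := by
  obtain ⟨Q, hQ⟩ := (hB.comap_subtype (K := L)).exists_le_sylow
  refine ⟨(Q : Subgroup L).map L.subtype, fun x hx => ⟨⟨x, hBL hx⟩, hQ hx, rfl⟩,
    map_subtype_le _, Q.2.map _, ?_⟩
  rw [relIndex, subgroupOf, comap_map_eq_self_of_injective L.subtype_injective]
  exact Q.not_dvd_index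

/-- a `p`-subgroup of `L` lies in a Sylow `p`-subgroup `Q` of `G` with `Q ⊓ L` Sylow in `L` -/
theorem exists_sylow_not_dvd_relIndex {B L : Subgroup G} (hB : IsPGroup p B) (hBL : B ≤ L) :
    ∃ Q : Sylow p G, B ≤ Q ∧ ¬ p ∣ (Q : Subgroup G).relIndex L := by
  obtain ⟨A, h1, h2, h3, h4⟩ := exists_le_relSylow hB hBL
  obtain ⟨Q, hQ⟩ := h3.exists_le_sylow
  exact ⟨Q, h1.trans hQ, fun h => h4 (h.trans (relIndex_dvd_of_le_left L hQ))⟩

/-- a relative Sylow subgroup is maximal among the `p`-subgroups -/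
theorem le_of_relSylow {A B L : Subgroup G} (hi : ¬ p ∣ A.relIndex L) (hB : IsPGroup p B)
    (hAB : A ⊓ L ≤ B) (hBL : B ≤ L) : B ≤ A := by
  rw [← relIndex_eq_one]
  have h1 : A.relIndex B ∣ A.relIndex L := by
    have := relIndex_mul_relIndex (A ⊓ L) B L hAB hBL
    rw [inf_relIndex_right] at this
    rw [← this, ← inf_relIndex_right A B, ← inf_relIndex_right (A ⊓ L) B,
      inf_assoc, inf_eq_right.mpr hBL]
    exact dvd_mul_right _ _
  obtain ⟨k, hk⟩ := hB.index (A.subgroupOf B)
  rw [relIndex, hk] at h1 ⊢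
  rcases k with _ | k
  · rfl
  · exact absurd ((dvd_pow_self p k.succ_ne_zero).trans h1) hi

theorem sylow_not_dvd_relIndex_of_le (P : Sylow p G) {L : Subgroup G} (h : (P : Subgroup G) ≤ L) :
    ¬ p ∣ (P : Subgroup G).relIndex L :=
  fun hd => P.not_dvd_index (hd.trans (relIndex_dvd_index_of_le h))

theorem sylow_not_dvd_relIndex_of_normal (P : Sylow p G) (N : Subgroup G) [N.Normal] :
    ¬ p ∣ (P : Subgroup G).relIndex N :=
  fun hd => P.not_dvd_index (hd.trans (relIndex_normal_dvd_index _ N))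

theorem sylow_not_dvd_relIndex_of_le_normalizer (P : Sylow p G) {N : Subgroup G}
    (h : (P : Subgroup G) ≤ normalizer (N : Set G)) : ¬ p ∣ (P : Subgroup G).relIndex N :=
  fun hd => sylow_not_dvd_relIndex_of_le P h
    (hd.trans (relIndex_dvd_relIndex_of_normalizer le_normalizer le_rfl))

/-- two Sylow subgroups of `G` inside `L` are conjugate in `L` -/
theorem exists_smul_sylow_eq_of_le {P Q : Sylow p G} {L : Subgroup G} (hP : (P : Subgroup G) ≤ L)
    (hQ : (Q : Subgroup G) ≤ L) : ∃ c ∈ L, c • Q = P := by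
  obtain ⟨c, hc, h⟩ :=
    exists_conj_smul_le_of_relIndex P.2 (sylow_not_dvd_relIndex_of_le P hP) Q.2 hQ
  exact ⟨c, hc, Sylow.ext ((c • Q).3 P.2 h).symm⟩

/-- two `p`-subgroups of `L` can be conjugated by `L` into a common Sylow subgroup of `G` -/
theorem exists_sylow_conj_le {A B L : Subgroup G} (hA : IsPGroup p A) (hB : IsPGroup p B)
    (hAL : A ≤ L) (hBL : B ≤ L) :
    ∃ (Q : Sylow p G) (c : G), c ∈ L ∧ A ≤ Q ∧ MulAut.conj c • B ≤ Q := by
  obtain ⟨Q, h1, h2⟩ := exists_sylow_not_dvd_relIndex hA hAL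
  obtain ⟨c, hc, h⟩ := exists_conj_smul_le_of_relIndex Q.2 h2 hB hBL
  exact ⟨Q, c, hc, h1, h⟩

theorem lt_normalizer_inf_of_isPGroup {H K : Subgroup G} (hK : IsPGroup p K) (h : H < K) :
    H < normalizer (H : Set G) ⊓ K :=
  H2.lt_normalizer_inf_of_isNilpotent hK.isNilpotent h

/-! ### control of fusion -/

/-- Burnside's fusion lemma for normal subsets of a Sylow subgroup. -/
theorem burnside_fusion_set (P : Sylow p G) (X Y : Set G)
    (hX : (P : Subgroup G) ≤ normalizer X) (hY : (P : Subgroup G) ≤ normalizer Y) (g : G)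
    (hg : (fun y => g * y * g⁻¹) '' X = Y) :
    ∃ n ∈ normalizer (P : Set G), (fun y => n * y * n⁻¹) '' X = Y := by
  have h1 : ((g • P : Sylow p G) : Subgroup G) ≤ normalizer Y := by
    rw [Sylow.coe_subgroup_smul, conj_smul_le_iff]
    intro x hx
    have := mem_normalizer_iff_conj_image_eq.mp (hX hx)
    rw [mem_normalizer_iff_conj_image_eq, ← hg]
    conv_rhs => rw [← this]
    simp only [Set.image_image]
    refine Set.image_congr fun y _ => ?_
    simp [mul_assoc]
  obtain ⟨c, hc, h⟩ := exists_smul_sylow_eq_of_le hY h1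
  refine ⟨c * g, Sylow.smul_eq_iff_mem_normalizer.mp (by rwa [mul_smul]), ?_⟩
  rw [← mem_normalizer_iff_conj_image_eq.mp hc, ← hg, Set.image_image]
  refine Set.image_congr fun y _ => ?_
  simp [mul_assoc]

/-- Burnside's fusion lemma for normal subgroups of a Sylow subgroup. -/
theorem burnside_fusion_subgroup (P : Sylow p G) {X Y : Subgroup G}
    (hX : (P : Subgroup G) ≤ normalizer (X : Set G))
    (hY : (P : Subgroup G) ≤ normalizer (Y : Set G)) {g : G} (hg : MulAut.conj g • X = Y) :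
    ∃ n ∈ normalizer (P : Set G), MulAut.conj n • X = Y := by
  obtain ⟨n, hn, h⟩ := burnside_fusion_set P X Y hX hY g (by rw [← hg]; rfl)
  exact ⟨n, hn, SetLike.coe_injective h⟩

/-- elements centralizing `P` that are conjugate are conjugate under `N(P)` -/
theorem burnside_fusion_elem (P : Sylow p G) {x g : G} (hx : x ∈ centralizer (P : Set G))
    (hy : g * x * g⁻¹ ∈ centralizer (P : Set G)) :
    ∃ n ∈ normalizer (P : Set G), n * x * n⁻¹ = g * x * g⁻¹ := by
  obtain ⟨n, hn, h⟩ := P.conj_eq_normalizer_conj_of_mem_centralizer x g⁻¹ hx (by simpa using hy)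
  exact ⟨n⁻¹, inv_mem hn, by simpa using h.symm⟩

omit [Finite G] in
theorem isWeaklyClosed_iff {W P : Subgroup G} :
    IsWeaklyClosed W P ↔ W ≤ P ∧ ∀ g : G, MulAut.conj g • W ≤ P → MulAut.conj g • W = W :=
  Iff.rfl

/-- a weakly closed subgroup is the only one of its conjugates in each Sylow subgroup containing
it -/
theorem IsWeaklyClosed.conj_eq_of_le_sylow {P : Sylow p G} {Z : Subgroup G}
    (hW : IsWeaklyClosed Z P) {Q : Sylow p G} (hZ : Z ≤ Q) {g : G}
    (hg : MulAut.conj g • Z ≤ Q) : MulAut.conj g • Z = Z := by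
  obtain ⟨h, rfl⟩ := MulAction.exists_smul_eq G P Q
  have key : ∀ k : G, MulAut.conj k • Z ≤ (h • P : Sylow p G) →
      MulAut.conj k • Z = MulAut.conj h • Z := by
    intro k hk
    have h1 : MulAut.conj (h⁻¹ * k) • Z ≤ P := by
      rw [← conj_smul_conj_smul, ← conj_inv_smul_conj_smul h (P : Subgroup G)]
      exact conj_smul_mono hk
    have h2 : MulAut.conj (h⁻¹ * k) • Z = Z := hW.2 _ h1
    conv_rhs => rw [← h2, conj_smul_conj_smul, mul_inv_cancel_left]
  have h3 := key 1 (by rwa [conj_one_smul])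
  rw [conj_one_smul] at h3
  rw [key g hg, ← h3]

/-- The normalizer of a weakly closed central subgroup of `P` controls fusion of elements
of `P`. -/
theorem IsWeaklyClosed.controls_fusion {P : Sylow p G} {Z : Subgroup G}
    (hW : IsWeaklyClosed Z P) (hZ : Z ≤ centralizer (P : Set G)) {x g : G} (hx : x ∈ P)
    (hy : g * x * g⁻¹ ∈ P) : ∃ n ∈ normalizer (Z : Set G), n * x * n⁻¹ = g * x * g⁻¹ := by
  have hZp : IsPGroup p Z := P.2.to_le hW.1
  have h1 : Z ≤ centralizer {g * x * g⁻¹} := fun z hz =>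
    mem_centralizer_singleton_iff.mpr (hZ hz _ hy).symm
  have h2 : MulAut.conj g • Z ≤ centralizer {g * x * g⁻¹} := conj_smul_le_iff.mpr fun z hz =>
    mem_centralizer_singleton_iff.mpr (by
      have := hZ hz x hx
      calc g * z * g⁻¹ * (g * x * g⁻¹) = g * (z * x) * g⁻¹ := by group
        _ = _ := by rw [← this]; group)
  obtain ⟨Q, c, hc, h3, h4⟩ := exists_sylow_conj_le hZp (isPGroup_conj_smul hZp g) h1 h2
  rw [conj_smul_conj_smul] at h4
  refine ⟨c * g, conj_smul_eq_iff.mp (IsWeaklyClosed.conj_eq_of_le_sylow hW h3 h4), ?_⟩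
  have := mem_centralizer_singleton_iff.mp hc
  calc c * g * x * (c * g)⁻¹ = c * (g * x * g⁻¹) * c⁻¹ := by group
    _ = _ := by rw [this]; group

/-- weak closure in terms of normality in Sylow subgroups -/
theorem isWeaklyClosed_iff_normal_in_sylows (P : Sylow p G) (Z : Subgroup G)
    (hZP : Z ≤ (P : Subgroup G))
    (hZN : normalizer (P : Set G) ≤ normalizer (Z : Set G)) :
    IsWeaklyClosed Z P ↔
      ∀ R : Sylow p G, Z ≤ (R : Subgroup G) → (R : Subgroup G) ≤ normalizer (Z : Set G) := by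
  constructor
  · intro hW R hR x hx
    exact conj_smul_eq_iff.mp
      (IsWeaklyClosed.conj_eq_of_le_sylow hW hR (conj_smul_le_of_le_of_mem hR hx))
  · intro h
    refine ⟨hZP, fun g hg => ?_⟩
    rw [map_conj_eq] at hg ⊢
    have h1 : Z ≤ (g⁻¹ • P : Sylow p G) := by
      rw [Sylow.coe_subgroup_smul, ← conj_inv_smul_conj_smul g Z]
      exact conj_smul_mono hg
    have h2 : (P : Subgroup G) ≤ normalizer ((MulAut.conj g • Z : Subgroup G) : Set G) := by
      rw [← conj_smul_normalizer, ← conj_smul_conj_inv_smul g (P : Subgroup G)]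
      exact conj_smul_mono (h _ h1)
    obtain ⟨n, hn, h3⟩ := burnside_fusion_subgroup P (h P hZP) h2 rfl
    rw [← h3]
    exact conj_smul_eq_iff.mpr (hZN hn)

omit [Finite G] in
/-- the normalizer of a TI Sylow subgroup controls fusion -/
theorem ti_controls_fusion (P : Subgroup G)
    (hTI : ∀ g : G, MulAut.conj g • P ≠ P → P ⊓ MulAut.conj g • P = ⊥) {x g : G} (hx : x ∈ P)
    (hy : g * x * g⁻¹ ∈ P) : ∃ n ∈ normalizer (P : Set G), n * x * n⁻¹ = g * x * g⁻¹ := by
  by_cases h : MulAut.conj g • P = P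
  · exact ⟨g, conj_smul_eq_iff.mp h, rfl⟩
  · have h1 : g * x * g⁻¹ ∈ P ⊓ MulAut.conj g • P := ⟨hy, conj_mem_conj_smul.mpr hx⟩
    rw [hTI g h, mem_bot] at h1
    have h2 : x = 1 := by simpa using h1
    exact ⟨1, one_mem _, by simp [h2]⟩

end sylow

end H3
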