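import Mathlib
import Cfsg.Prelude.Def_Transfer
import Cfsg.Agent.H3.Fusion
import Cfsg.Agent.H2.Frattini

/-!
# Power formulas in groups of nilpotency class two and three
-/

namespace H3

open Subgroup Cfsg
open scoped Pointwise commutatorElement

variable {G : Type*} [Group G]

theorem choose_two_succ (n : ℕ) : (n + 1).choose 2 = n + n.choose 2 := by
  rw [Nat.choose_succ_succ' n 1, Nat.choose_one_right]

/-! ### class two -/

theorem pow_mul_eq_of_comm {x y c : G} (h : y * x = x * y * c) (hy : Commute c y) (n : ℕ) :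
    y ^ n * x = x * y ^ n * c ^ n := by
  induction n with
  | zero => simp
  | succ n ih =>
    rw [pow_succ', mul_assoc, ih, ← mul_assoc, ← mul_assoc, h, mul_assoc (x * y),
      (hy.pow_right n).eq, pow_succ' c]
    simp only [mul_assoc]

/-- `(x y) ^ n = x ^ n y ^ n c ^ (n choose 2)` when `y x = x y c` with `c` central in `⟨x, y⟩` -/
theorem mul_pow_eq_of_comm {x y c : G} (h : y * x = x * y * c) (hx : Commute c x)
    (hy : Commute c y) (n : ℕ) : (x * y) ^ n = x ^ n * y ^ n * c ^ n.choose 2 := by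
  induction n with
  | zero => simp
  | succ n ih =>
    rw [pow_succ, ih, choose_two_succ, pow_add c]
    calc x ^ n * y ^ n * c ^ n.choose 2 * (x * y)
        = x ^ n * (y ^ n * x) * y * c ^ n.choose 2 := by
          rw [mul_assoc (x ^ n * y ^ n), ((hx.mul_right hy).pow_left _).eq]
          simp only [mul_assoc]
      _ = _ := by
          rw [pow_mul_eq_of_comm h hy n, mul_assoc (x ^ n), mul_assoc (x * y ^ n),
            (hy.pow_left n).eq, pow_succ x, pow_succ y]
          simp only [mul_assoc]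

theorem commutator_pow_left {x y : G} (h : Commute ⁅x, y⁆ x) (n : ℕ) :
    ⁅x ^ n, y⁆ = ⁅x, y⁆ ^ n := by
  induction n with
  | zero => simp
  | succ n ih =>
    have e : ⁅x ^ (n + 1), y⁆ = x * ⁅x ^ n, y⁆ * x⁻¹ * ⁅x, y⁆ := by
      simp only [commutatorElement_def, pow_succ']; group
    rw [e, ih, ← (h.pow_left n).eq, mul_inv_cancel_right, pow_succ]

theorem commutator_pow_right {x y : G} (h : Commute ⁅x, y⁆ y) (n : ℕ) :
    ⁅x, y ^ n⁆ = ⁅x, y⁆ ^ n := by
  rw [← commutatorElement_inv, commutator_pow_left, ← inv_pow, commutatorElement_inv]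
  rw [← commutatorElement_inv]
  exact h.inv_left

theorem commutator_zpow_left {x y : G} (h : Commute ⁅x, y⁆ x) (n : ℤ) :
    ⁅x ^ n, y⁆ = ⁅x, y⁆ ^ n := by
  rcases Int.eq_nat_or_neg n with ⟨m, rfl | rfl⟩
  · rw [zpow_natCast, zpow_natCast, commutator_pow_left h]
  · have e : ⁅(x ^ m)⁻¹, y⁆ = (x ^ m)⁻¹ * ⁅x ^ m, y⁆⁻¹ * x ^ m := by
      simp only [commutatorElement_def]; group
    rw [zpow_neg, zpow_neg, zpow_natCast, zpow_natCast, e, commutator_pow_left h, mul_assoc,
      ((h.pow_left m).inv_left.pow_right m).eq, inv_mul_cancel_left]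

theorem commutator_zpow_right {x y : G} (h : Commute ⁅x, y⁆ y) (n : ℤ) :
    ⁅x, y ^ n⁆ = ⁅x, y⁆ ^ n := by
  rw [← commutatorElement_inv, commutator_zpow_left, ← inv_zpow, commutatorElement_inv]
  rw [← commutatorElement_inv]
  exact h.inv_left

theorem commutator_mul_left (a b y : G) : ⁅a * b, y⁆ = a * ⁅b, y⁆ * a⁻¹ * ⁅a, y⁆ := by
  simp only [commutatorElement_def]; group

theorem commutator_mul_right (x a b : G) : ⁅x, a * b⁆ = ⁅x, a⁆ * (a * ⁅x, b⁆ * a⁻¹) := by
  simp only [commutatorElement_def]; group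

theorem commutator_mul_left_of_commute {a b y : G} (h : Commute ⁅b, y⁆ a) :
    ⁅a * b, y⁆ = ⁅b, y⁆ * ⁅a, y⁆ := by
  rw [commutator_mul_left, ← h.eq, mul_inv_cancel_right]

theorem commutator_mul_right_of_commute {x a b : G} (h : Commute ⁅x, b⁆ a) :
    ⁅x, a * b⁆ = ⁅x, a⁆ * ⁅x, b⁆ := by
  rw [commutator_mul_right, ← h.eq, mul_inv_cancel_right]

/-- the class two formula with Mathlib's commutator -/
theorem mul_pow_eq_of_commute_commutator {x y : G} (hx : Commute ⁅x, y⁆ x)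
    (hy : Commute ⁅x, y⁆ y) (n : ℕ) :
    (x * y) ^ n = x ^ n * y ^ n * ⁅x, y⁆⁻¹ ^ n.choose 2 := by
  refine mul_pow_eq_of_comm ?_ hx.inv_left hy.inv_left n
  rw [← (hx.mul_right hy).inv_left.eq]
  simp only [commutatorElement_def]; group

theorem dvd_choose_two_of_odd {n : ℕ} (h : Odd n) : n ∣ n.choose 2 := by
  obtain ⟨k, rfl⟩ := h
  rw [Nat.choose_two_right, Nat.add_sub_cancel, Nat.mul_div_assoc _ (dvd_mul_right 2 k)]
  exact dvd_mul_right _ _

/-- for odd `n`, `(x y) ^ n = x ^ n y ^ n` if `[x, y]` is central in `⟨x, y⟩` of order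
dividing `n` -/
theorem mul_pow_eq_of_odd {x y : G} {n : ℕ} (hn : Odd n) (hx : Commute ⁅x, y⁆ x)
    (hy : Commute ⁅x, y⁆ y) (h : ⁅x, y⁆ ^ n = 1) : (x * y) ^ n = x ^ n * y ^ n := by
  obtain ⟨k, hk⟩ := dvd_choose_two_of_odd hn
  rw [mul_pow_eq_of_commute_commutator hx hy, hk, pow_mul, inv_pow, h, inv_one, one_pow, mul_one]

theorem mul_pow_eq_one_of_odd {x y : G} {n : ℕ} (hn : Odd n) (hx : Commute ⁅x, y⁆ x)
    (hy : Commute ⁅x, y⁆ y) (h1 : x ^ n = 1) (h2 : y ^ n = 1) : (x * y) ^ n = 1 := by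
  rw [mul_pow_eq_of_odd hn hx hy, h1, h2, one_mul]
  rw [← commutator_pow_left hx, h1, commutatorElement_one_left]

/-! ### class three -/

theorem mul_pow_eq_class_three {x y c d e : G} (h : y * x = x * y * c) (hcx : c * x = x * c * d)
    (hcy : c * y = y * c * e) (hdx : Commute d x) (hdy : Commute d y) (hdc : Commute d c)
    (hex : Commute e x) (hey : Commute e y) (hec : Commute e c) (hde : Commute d e) (n : ℕ) :
    (x * y) ^ n = x ^ n * y ^ n * c ^ n.choose 2 * d ^ n.choose 3 *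
      e ^ (n.choose 2 + 2 * n.choose 3) := by
  have h1 : ∀ m : ℕ, c ^ m * x = x * c ^ m * d ^ m := pow_mul_eq_of_comm hcx hdc
  have h2 : ∀ m : ℕ, c ^ m * y = y * c ^ m * e ^ m := pow_mul_eq_of_comm hcy hec
  have h3 : ∀ m : ℕ, c * y ^ m = y ^ m * c * e ^ m := by
    intro m
    induction m with
    | zero => simp
    | succ m ih =>
      rw [pow_succ, ← mul_assoc, ih, mul_assoc (y ^ m * c), (hey.pow_left m).eq, ← mul_assoc,
        mul_assoc (y ^ m), hcy, pow_succ' e]
      simp only [mul_assoc]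
  have h4 : ∀ m : ℕ, y ^ m * x = x * y ^ m * c ^ m * e ^ m.choose 2 := by
    intro m
    induction m with
    | zero => simp
    | succ m ih =>
      rw [pow_succ', mul_assoc, ih, choose_two_succ, pow_add e]
      calc y * (x * y ^ m * c ^ m * e ^ m.choose 2)
          = (y * x) * y ^ m * c ^ m * e ^ m.choose 2 := by simp only [mul_assoc]
        _ = x * y * (c * y ^ m) * c ^ m * e ^ m.choose 2 := by rw [h]; simp only [mul_assoc]
        _ = x * y * y ^ m * c * (e ^ m * c ^ m) * e ^ m.choose 2 := by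
          rw [h3]; simp only [mul_assoc]
        _ = _ := by
          rw [((hec.pow_left m).pow_right m).eq, pow_succ' c]; simp only [mul_assoc]
  induction n with
  | zero => simp
  | succ n ih =>
    have e2 : (n + 1).choose 2 = n + n.choose 2 := choose_two_succ n
    have e3 : (n + 1).choose 3 = n.choose 2 + n.choose 3 := Nat.choose_succ_succ' n 2
    rw [pow_succ, ih, e2, e3]
    set a := n.choose 2
    set b := n.choose 3
    have hz : Commute (d ^ b * e ^ (a + 2 * b)) (x * y) :=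
      ((hdx.mul_right hdy).pow_left _).mul_left ((hex.mul_right hey).pow_left _)
    calc x ^ n * y ^ n * c ^ a * d ^ b * e ^ (a + 2 * b) * (x * y)
        = x ^ n * y ^ n * c ^ a * (d ^ b * e ^ (a + 2 * b) * (x * y)) := by simp only [mul_assoc]
      _ = x ^ n * y ^ n * (c ^ a * x) * y * (d ^ b * e ^ (a + 2 * b)) := by
        rw [hz.eq]; simp only [mul_assoc]
      _ = x ^ n * (y ^ n * x) * c ^ a * (d ^ a * y) * (d ^ b * e ^ (a + 2 * b)) := by
        rw [h1]; simp only [mul_assoc]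
      _ = x ^ n * x * y ^ n * c ^ n * (e ^ a * (c ^ a * y)) * d ^ a *
            (d ^ b * e ^ (a + 2 * b)) := by
        rw [h4, (hdy.pow_left a).eq]; simp only [mul_assoc]; rfl
      _ = x ^ n * x * y ^ n * (c ^ n * c ^ a * y) * (e ^ a * d ^ a) *
            (d ^ b * e ^ (a + 2 * b)) := by
        rw [(((hec.pow_right a).mul_right hey).pow_left a).eq]; simp only [mul_assoc]
      _ = x ^ n * x * (y ^ n * y) * c ^ (n + a) * (e ^ (n + a) * e ^ a * (d ^ a * d ^ b)) *
            e ^ (a + 2 * b) := by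
        rw [← pow_add c, h2]; simp only [mul_assoc]
      _ = _ := by
        rw [← pow_add e, ← pow_add d, ← ((hde.pow_left _).pow_right _).eq, pow_succ x, pow_succ y,
          show n + a + 2 * (a + b) = n + a + a + (a + 2 * b) by ring, pow_add e (n + a + a)]
        simp only [mul_assoc]

/-- The class three formula for elements of a subgroup `K` with `[K, K, K, K] = 1`. -/
theorem exists_mul_pow_class_three {K : Subgroup G} (hK : ⁅⁅⁅K, K⁆, K⁆, K⁆ = ⊥) {x y : G}
    (hx : x ∈ K) (hy : y ∈ K) :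
    ∃ c ∈ ⁅K, K⁆, ∃ d ∈ ⁅⁅K, K⁆, K⁆, ∃ e ∈ ⁅⁅K, K⁆, K⁆,
      y * x = x * y * c ∧ c * x = x * c * d ∧ c * y = y * c * e ∧
      ∀ n : ℕ, (x * y) ^ n = x ^ n * y ^ n * c ^ n.choose 2 * d ^ n.choose 3 *
        e ^ (n.choose 2 + 2 * n.choose 3) := by
  have hc : ⁅y⁻¹, x⁻¹⁆ ∈ ⁅K, K⁆ := commutator_mem_commutator (inv_mem hy) (inv_mem hx)
  have hd := commutator_mem_commutator (inv_mem hc) (inv_mem hx)
  have he := commutator_mem_commutator (inv_mem hc) (inv_mem hy)
  have hle : ⁅K, K⁆ ≤ K := commutator_le_self K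
  have hle' : ⁅⁅K, K⁆, K⁆ ≤ K := (commutator_mono hle le_rfl).trans hle
  have hcen : ∀ z ∈ ⁅⁅K, K⁆, K⁆, ∀ k ∈ K, Commute z k := fun z hz k hk =>
    commutatorElement_eq_one_iff_commute.mp (mem_bot.mp (hK ▸ commutator_mem_commutator hz hk))
  have e1 : y * x = x * y * ⁅y⁻¹, x⁻¹⁆ := by simp only [commutatorElement_def]; group
  have e2 : ∀ c w : G, c * w = w * c * ⁅c⁻¹, w⁻¹⁆ := fun c w => by
    simp only [commutatorElement_def]; group
  exact ⟨_, hc, _, hd, _, he, e1, e2 _ _, e2 _ _, mul_pow_eq_class_three e1 (e2 _ _) (e2 _ _)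
    (hcen _ hd _ hx) (hcen _ hd _ hy) (hcen _ hd _ (hle hc)) (hcen _ he _ hx) (hcen _ he _ hy)
    (hcen _ he _ (hle hc)) (hcen _ hd _ (hle' he))⟩

/-- for `p > 3` and class at most three, the `p`-th power map is multiplicative when the derived
subgroup has exponent `p` -/
theorem mul_pow_eq_of_class_three {p : ℕ} (hp : p.Prime) (h3 : 3 < p) {K : Subgroup G}
    (hK : ⁅⁅⁅K, K⁆, K⁆, K⁆ = ⊥) (hder : ∀ c ∈ ⁅K, K⁆, c ^ p = 1) {x y : G} (hx : x ∈ K)
    (hy : y ∈ K) : (x * y) ^ p = x ^ p * y ^ p := by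
  obtain ⟨c, hc, d, hd, e, he, -, -, -, h⟩ := exists_mul_pow_class_three hK hx hy
  have hle : ⁅⁅K, K⁆, K⁆ ≤ ⁅K, K⁆ := commutator_mono (commutator_le_self K) le_rfl
  obtain ⟨a, ha⟩ := hp.dvd_choose_self two_ne_zero (by omega : 2 < p)
  obtain ⟨b, hb⟩ := hp.dvd_choose_self three_ne_zero h3
  rw [h p, ha, hb, show p * a + 2 * (p * b) = p * (a + 2 * b) by ring, pow_mul, pow_mul, pow_mul,
    hder c hc, hder d (hle hd), hder e (hle he)]
  simp

theorem mul_pow_eq_one_of_class_three {p : ℕ} (hp : p.Prime) (h3 : 3 < p) {K : Subgroup G}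
    (hK : ⁅⁅⁅K, K⁆, K⁆, K⁆ = ⊥) {x y : G} (hx : x ∈ K) (hy : y ∈ K) (hxp : x ^ p = 1)
    (hyp : y ^ p = 1) : (x * y) ^ p = 1 := by
  obtain ⟨c, hc, d, hd, e, he, h1, h2, h3', h⟩ := exists_mul_pow_class_three hK hx hy
  have hle : ⁅K, K⁆ ≤ K := commutator_le_self K
  have hcen : ∀ z ∈ ⁅⁅K, K⁆, K⁆, ∀ k ∈ K, Commute z k := fun z hz k hk =>
    commutatorElement_eq_one_iff_commute.mp (mem_bot.mp (hK ▸ commutator_mem_commutator hz hk))
  obtain ⟨a, ha⟩ := hp.dvd_choose_self two_ne_zero (by omega : 2 < p)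
  obtain ⟨b, hb⟩ := hp.dvd_choose_self three_ne_zero h3
  -- `d` and `e` have order dividing `p`
  have key : ∀ w ∈ K, ∀ f ∈ ⁅⁅K, K⁆, K⁆, c * w = w * c * f → w ^ p = 1 → f ^ p = 1 := by
    intro w hw f hf h4 h5
    have h6 : w * c = c * w * f⁻¹ := by rw [h4, mul_inv_cancel_right]
    have h7 := pow_mul_eq_of_comm h6 (hcen f hf w hw).inv_left p
    rw [h5, one_mul, mul_one, inv_pow, eq_comm, mul_eq_left, inv_eq_one] at h7
    exact h7
  have hdp := key x hx d hd h2 hxp
  have hep := key y hy e he h3' hyp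
  have hcp : c ^ p = 1 := by
    have h4 : x⁻¹ * y * x = y * c := by rw [mul_assoc, h1]; group
    have h5 : (y * c) ^ p = 1 := by
      have := conj_pow (a := x⁻¹) (b := y) (i := p)
      rw [inv_inv, h4, hyp] at this
      simpa using this
    rw [mul_pow_eq_of_comm h3' (hcen e he y hy) (hcen e he c (hle hc)), hyp, ha, pow_mul, hep]
      at h5
    simpa using h5
  rw [h p, ha, hb, show p * a + 2 * (p * b) = p * (a + 2 * b) by ring, pow_mul, pow_mul, pow_mul,
    hcp, hdp, hep, hxp, hyp]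
  simp

/-- if the elements of `K` killed by `n` are closed under products, the subgroup they generate
has exponent dividing `n` -/
theorem pow_eq_one_of_mem_closure {n : ℕ} {K : Subgroup G}
    (h : ∀ x ∈ K, ∀ y ∈ K, x ^ n = 1 → y ^ n = 1 → (x * y) ^ n = 1) {g : G}
    (hg : g ∈ closure {x : G | x ∈ K ∧ x ^ n = 1}) : g ∈ K ∧ g ^ n = 1 := by
  induction hg using closure_induction with
  | mem x hx => exact hx
  | one => exact ⟨one_mem _, one_pow _⟩
  | mul x y _ _ hx hy => exact ⟨mul_mem hx.1 hy.1, h x hx.1 y hy.1 hx.2 hy.2⟩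
  | inv x _ hx => exact ⟨inv_mem hx.1, by rw [inv_pow, hx.2, inv_one]⟩

theorem pow_eq_one_of_mem_closure' {n : ℕ}
    (h : ∀ x y : G, x ^ n = 1 → y ^ n = 1 → (x * y) ^ n = 1) {g : G}
    (hg : g ∈ closure {x : G | x ^ n = 1}) : g ^ n = 1 :=
  (pow_eq_one_of_mem_closure (K := ⊤) (fun x _ y _ => h x y) (by simpa using hg)).2

theorem commute_commutator_of_class_two {K : Subgroup G} (hK : ⁅⁅K, K⁆, K⁆ = ⊥) {x y z : G}
    (hx : x ∈ K) (hy : y ∈ K) (hz : z ∈ K) : Commute ⁅x, y⁆ z :=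
  commutatorElement_eq_one_iff_commute.mp
    (mem_bot.mp (hK ▸ commutator_mem_commutator (commutator_mem_commutator hx hy) hz))

/-- `Ω₁` of a group of class at most two has exponent `n` for odd `n` -/
theorem omega_pow_eq_one_of_class_two {n : ℕ} (hn : Odd n) {K : Subgroup G}
    (hK : ⁅⁅K, K⁆, K⁆ = ⊥) {g : G} (hg : g ∈ closure {x : G | x ∈ K ∧ x ^ n = 1}) : g ^ n = 1 :=
  (pow_eq_one_of_mem_closure (fun _ hx _ hy => mul_pow_eq_one_of_odd hn
    (commute_commutator_of_class_two hK hx hy hx) (commute_commutator_of_class_two hK hx hy hy))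
    hg).2

/-- `Ω₁` of a group of class at most three has exponent `p` for `p > 3` -/
theorem omega_pow_eq_one_of_class_three {p : ℕ} (hp : p.Prime) (h3 : 3 < p) {K : Subgroup G}
    (hK : ⁅⁅⁅K, K⁆, K⁆, K⁆ = ⊥) {g : G} (hg : g ∈ closure {x : G | x ∈ K ∧ x ^ p = 1}) :
    g ^ p = 1 :=
  (pow_eq_one_of_mem_closure (fun _ hx _ hy => mul_pow_eq_one_of_class_three hp h3 hK hx hy) hg).2

end H3
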