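import Mathlib
import Cfsg.Prelude.Def_Transfer
import Cfsg.Agent.H3.Power
import Cfsg.Agent.H2.Quaternion
import Cfsg.Agent.H2.MinNormal

/-!
# Normal chains and maximal abelian normal subgroups of `p`-groups
-/

namespace H3

open Subgroup Cfsg
open scoped Pointwise commutatorElement

variable {G : Type*} [Group G]

theorem comm_of_isMulCommutative {A : Subgroup G} (hA : IsMulCommutative A) {a b : G}
    (ha : a ∈ A) (hb : b ∈ A) : Commute a b := by
  have := hA.is_comm.comm (⟨a, ha⟩ : A) ⟨b, hb⟩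
  exact congrArg Subtype.val this

theorem isMulCommutative_of_comm {A : Subgroup G} (h : ∀ a ∈ A, ∀ b ∈ A, Commute a b) :
    IsMulCommutative A :=
  ⟨⟨fun a b => Subtype.ext (h a a.2 b b.2)⟩⟩

theorem le_centralizer_of_isMulCommutative {A : Subgroup G} (hA : IsMulCommutative A) :
    A ≤ centralizer (A : Set G) := fun _ ha _ hb => comm_of_isMulCommutative hA hb ha

theorem commutator_mem_of_normal_left {N : Subgroup G} [hN : N.Normal] {x : G} (hx : x ∈ N)
    (g : G) : ⁅x, g⁆ ∈ N := by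
  have := N.mul_mem hx (hN.conj_mem _ (N.inv_mem hx) g)
  simpa [commutatorElement_def, mul_assoc] using this

theorem commutator_mem_of_normal_right {N : Subgroup G} [hN : N.Normal] {x : G} (hx : x ∈ N)
    (g : G) : ⁅g, x⁆ ∈ N := by
  rw [← commutatorElement_inv]
  exact N.inv_mem (commutator_mem_of_normal_left hx g)

theorem exists_pow_not_mem_pow_mem {p : ℕ} (hG : IsPGroup p G) {N : Subgroup G} {x : G}
    (hx : x ∉ N) : ∃ k : ℕ, x ^ p ^ k ∉ N ∧ (x ^ p ^ k) ^ p ∈ N := by
  classical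
  have hex : ∃ n : ℕ, x ^ p ^ n ∈ N := by
    obtain ⟨n, hn⟩ := hG x
    exact ⟨n, hn ▸ N.one_mem⟩
  have h0 : Nat.find hex ≠ 0 := by
    intro h
    have := Nat.find_spec hex
    rw [h] at this
    exact hx (by simpa using this)
  obtain ⟨k, hk⟩ := Nat.exists_eq_succ_of_ne_zero h0
  refine ⟨k, Nat.find_min hex (by omega), ?_⟩
  have := Nat.find_spec hex
  rw [hk] at this
  rwa [← pow_mul, ← pow_succ]

/-- In a finite `p`-group, a normal subgroup `C` not contained in the normal subgroup `N`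
contains an element outside `N` which is central of order `p` modulo `N`. -/
theorem exists_central_mod [Finite G] {p : ℕ} [Fact p.Prime] (hG : IsPGroup p G)
    {N C : Subgroup G} [N.Normal] [C.Normal] (h : ¬ C ≤ N) :
    ∃ x ∈ C, x ∉ N ∧ x ^ p ∈ N ∧ ∀ g : G, ⁅x, g⁆ ∈ N := by
  have := hG.isNilpotent
  obtain ⟨x, hxC, hxN, hx⟩ := H2.exists_mem_central_mod h
  obtain ⟨k, hk1, hk2⟩ := exists_pow_not_mem_pow_mem hG hxN
  refine ⟨x ^ p ^ k, C.pow_mem hxC _, hk1, hk2, fun g => hx ?_⟩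
  exact commutator_mem_commutator (npow_mem_zpowers x _) trivial

theorem mem_zpowers_sup_iff {N : Subgroup G} {x : G} (hx : x ∈ normalizer (N : Set G)) {g : G} :
    g ∈ zpowers x ⊔ N ↔ ∃ k : ℤ, ∃ a ∈ N, g = x ^ k * a := by
  have hle : zpowers x ≤ normalizer (N : Set G) := zpowers_le.2 hx
  constructor
  · intro hg
    have : g ∈ ((zpowers x ⊔ N : Subgroup G) : Set G) := hg
    rw [coe_mul_of_left_le_normalizer_right _ _ hle] at this
    obtain ⟨_, ⟨k, rfl⟩, a, ha, rfl⟩ := this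
    exact ⟨k, a, ha, rfl⟩
  · rintro ⟨k, a, ha, rfl⟩
    exact mul_mem (mem_sup_left (zpow_mem_zpowers x k)) (mem_sup_right ha)

theorem normal_zpowers_sup {N : Subgroup G} [hN : N.Normal] {x : G} (h : ∀ g : G, ⁅x, g⁆ ∈ N) :
    (zpowers x ⊔ N).Normal := by
  refine ⟨fun y hy g => ?_⟩
  have hx : x ∈ normalizer (N : Set G) := by rw [normalizer_eq_top]; trivial
  obtain ⟨k, a, ha, rfl⟩ := (mem_zpowers_sup_iff hx).1 hy
  have h1 : g * x * g⁻¹ ∈ zpowers x ⊔ N := by
    have : g * x * g⁻¹ = ⁅x, g⁆⁻¹ * x := by simp [commutatorElement_def, mul_assoc]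
    rw [this]
    exact mul_mem (mem_sup_right (N.inv_mem (h g))) (mem_sup_left (mem_zpowers x))
  have : g * (x ^ k * a) * g⁻¹ = (g * x * g⁻¹) ^ k * (g * a * g⁻¹) := by
    rw [conj_zpow]; group
  rw [this]
  exact mul_mem (zpow_mem h1 k) (mem_sup_right (hN.conj_mem a ha g))

theorem isMulCommutative_zpowers_sup {A : Subgroup G} (hA : IsMulCommutative A) {x : G}
    (hx : x ∈ centralizer (A : Set G)) : IsMulCommutative ↥(zpowers x ⊔ A) := by
  rw [sup_comm]
  exact H2.isMulCommutative_sup hA inferInstance (zpowers_le.2 hx)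

theorem pow_eq_one_of_mem_zpowers_sup {A : Subgroup G} {x : G} {m : ℕ}
    (hx : x ∈ centralizer (A : Set G)) (hA : ∀ a ∈ A, a ^ m = 1) (hxm : x ^ m = 1) {g : G}
    (hg : g ∈ zpowers x ⊔ A) : g ^ m = 1 := by
  obtain ⟨k, a, ha, rfl⟩ := (mem_zpowers_sup_iff (centralizer_le_normalizer _ hx)).1 hg
  have hc : Commute (x ^ k) a := (Commute.zpow_right (hx a ha) k).symm
  rw [hc.mul_pow, hA a ha, mul_one, ← zpow_natCast, ← zpow_mul, mul_comm, zpow_mul, zpow_natCast,
    hxm, one_zpow]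

theorem exists_normal_step [Finite G] {p : ℕ} [hp : Fact p.Prime] (hG : IsPGroup p G)
    {N C : Subgroup G} [N.Normal] [C.Normal] (hle : N ≤ C) (h : ¬ C ≤ N) :
    ∃ M : Subgroup G, M.Normal ∧ N ≤ M ∧ M ≤ C ∧ Nat.card M = p * Nat.card N := by
  obtain ⟨x, hxC, hxN, hxp, hx⟩ := exists_central_mod hG h
  refine ⟨zpowers x ⊔ N, normal_zpowers_sup hx, le_sup_right, sup_le (zpowers_le.2 hxC) hle, ?_⟩
  exact H2.card_sup_zpowers_of_pow_prime_mem hp.out (by rw [normalizer_eq_top]; trivial) hxN hxp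

/-- Normal subgroups of every order between two given normal subgroups of a `p`-group. -/
theorem exists_normal_card_eq [Finite G] {p : ℕ} [hp : Fact p.Prime] (hG : IsPGroup p G)
    {N C : Subgroup G} [N.Normal] [C.Normal] (hle : N ≤ C) {a : ℕ} (ha : Nat.card N = p ^ a)
    (b : ℕ) (hab : a ≤ b) (hb : p ^ b ≤ Nat.card C) :
    ∃ M : Subgroup G, M.Normal ∧ N ≤ M ∧ M ≤ C ∧ Nat.card M = p ^ b := by
  induction b, hab using Nat.le_induction with
  | base => exact ⟨N, inferInstance, le_rfl, hle, ha⟩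
  | succ b hab ih =>
    have h1 : p ^ b < p ^ (b + 1) := Nat.pow_lt_pow_right hp.out.one_lt (Nat.lt_succ_self b)
    obtain ⟨M, hM, h1M, h2M, hc⟩ := ih (by omega)
    have : ¬ C ≤ M := fun h => by
      have := card_le_of_le h
      omega
    obtain ⟨M', hM', h1', h2', hc'⟩ := exists_normal_step hG h2M this
    exact ⟨M', hM', h1M.trans h1', h2', by rw [hc', hc, pow_succ']⟩

theorem exists_normal_card_eq' [Finite G] {p : ℕ} [hp : Fact p.Prime] (hG : IsPGroup p G)
    (C : Subgroup G) [C.Normal] (b : ℕ) (hb : p ^ b ≤ Nat.card C) :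
    ∃ M : Subgroup G, M.Normal ∧ M ≤ C ∧ Nat.card M = p ^ b := by
  obtain ⟨M, h1, -, h2, h3⟩ := exists_normal_card_eq hG (N := ⊥) (C := C) bot_le (a := 0)
    (by simp) b (Nat.zero_le _) hb
  exact ⟨M, h1, h2, h3⟩

/-- A normal subgroup of order `p ^ (a + 1)` is `⟨x⟩ A'` with `A'` normal of order `p ^ a`
and `x` central modulo `A'`. -/
theorem exists_normal_pred [Finite G] {p : ℕ} [hp : Fact p.Prime] (hG : IsPGroup p G)
    (A : Subgroup G) [A.Normal] {a : ℕ} (ha : Nat.card A = p ^ (a + 1)) :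
    ∃ (A' : Subgroup G) (x : G), A'.Normal ∧ Nat.card A' = p ^ a ∧ zpowers x ⊔ A' = A ∧
      x ∉ A' ∧ x ^ p ∈ A' ∧ ∀ g : G, ⁅x, g⁆ ∈ A' := by
  have h1 : p ^ a < p ^ (a + 1) := Nat.pow_lt_pow_right hp.out.one_lt (Nat.lt_succ_self a)
  obtain ⟨M, hM, hle, hc⟩ := exists_normal_card_eq' hG A a (by omega)
  have : ¬ A ≤ M := fun h => by
    have := card_le_of_le h
    omega
  obtain ⟨x, hxC, hxN, hxp, hx⟩ := exists_central_mod hG this
  refine ⟨M, x, hM, hc, ?_, hxN, hxp, hx⟩
  refine eq_of_le_of_card_ge (sup_le (zpowers_le.2 hxC) hle) ?_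
  rw [H2.card_sup_zpowers_of_pow_prime_mem hp.out (by rw [normalizer_eq_top]; trivial) hxN hxp,
    hc, ha, pow_succ']

theorem relIndex_centralizer_le_card [Finite G] (D N : Subgroup G) (x : G)
    (h : ∀ g ∈ D, ⁅g, x⁆ ∈ N) : (centralizer {x}).relIndex D ≤ Nat.card N := by
  let f : D ⧸ (centralizer {x}).subgroupOf D → N := fun q => ⟨⁅(q.out : G), x⁆, h _ q.out.2⟩
  refine Nat.card_le_card_of_injective f fun q q' hq => ?_
  rw [← q.out_eq, ← q'.out_eq]
  refine Quotient.sound (QuotientGroup.leftRel_apply.2 ?_)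
  have h1 : ⁅(q.out : G), x⁆ = ⁅(q'.out : G), x⁆ := congrArg Subtype.val hq
  rw [mem_subgroupOf, mem_centralizer_singleton_iff]
  simp only [commutatorElement_def, mul_left_inj] at h1
  simp only [coe_mul, coe_inv]
  calc (q.out : G)⁻¹ * q'.out * x = (q.out : G)⁻¹ * (q'.out * x * (q'.out : G)⁻¹) * q'.out := by
        group
    _ = x * ((q.out : G)⁻¹ * q'.out) := by rw [← h1]; group

theorem index_centralizer_le_card [Finite G] (N : Subgroup G) (x : G)
    (h : ∀ g : G, ⁅g, x⁆ ∈ N) : (centralizer {x}).index ≤ Nat.card N := by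
  simpa using relIndex_centralizer_le_card ⊤ N x fun g _ => h g

theorem centralizer_zpowers_sup (x : G) (A : Subgroup G) :
    centralizer ((zpowers x ⊔ A : Subgroup G) : Set G) =
      centralizer {x} ⊓ centralizer (A : Set G) := by
  apply le_antisymm
  · refine le_inf (centralizer_le ?_) (centralizer_le (by exact le_sup_right (a := zpowers x)))
    rintro _ rfl
    exact mem_sup_left (mem_zpowers _)
  · intro g hg
    have : zpowers x ⊔ A ≤ centralizer {g} := by
      refine sup_le (zpowers_le.2 ?_) fun a ha => ?_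
      · rw [mem_centralizer_singleton_iff]
        exact (mem_centralizer_singleton_iff.1 hg.1).symm
      · rw [mem_centralizer_singleton_iff]
        exact hg.2 a ha
    intro y hy
    exact mem_centralizer_singleton_iff.1 (this hy)

theorem succ_mul_div_two (a : ℕ) : (a + 1) * a / 2 = a + a * (a - 1) / 2 := by
  rcases a with _ | a
  · simp
  · rw [← Nat.choose_two_right, ← choose_two_succ, Nat.choose_two_right]; simp

/-- If `A` is a normal subgroup of order `p ^ a` of a `p`-group, its centralizer has index at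
most `p ^ (a choose 2)`. -/
theorem index_centralizer_le [Finite G] {p : ℕ} [hp : Fact p.Prime] (hG : IsPGroup p G)
    (a : ℕ) : ∀ (A : Subgroup G) [A.Normal], Nat.card A = p ^ a →
      (centralizer (A : Set G)).index ≤ p ^ (a * (a - 1) / 2) := by
  induction a with
  | zero =>
    intro A _ hA
    have : A = ⊥ := card_eq_one.1 (by simpa using hA)
    subst this
    have : centralizer ((⊥ : Subgroup G) : Set G) = ⊤ := centralizer_eq_top_iff_subset.2 (by simp)
    rw [this]
    simp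
  | succ a ih =>
    intro A _ hA
    obtain ⟨A', x, hn, hc, rfl, -, -, hx⟩ := exists_normal_pred hG A hA
    rw [centralizer_zpowers_sup, Nat.add_sub_cancel, succ_mul_div_two, pow_add]
    refine index_inf_le.trans (Nat.mul_le_mul ?_ (ih A' hc))
    rw [← hc]
    refine index_centralizer_le_card _ _ fun g => ?_
    rw [← commutatorElement_inv]
    exact A'.inv_mem (hx g)

theorem le_center_of_card_le_prime [Finite G] {p : ℕ} [hp : Fact p.Prime] (hG : IsPGroup p G)
    (A : Subgroup G) [A.Normal] (hA : Nat.card A ≤ p) : A ≤ center G := by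
  obtain ⟨a, ha⟩ := (IsPGroup.iff_card).1 (hG.to_subgroup A)
  have h1 : a ≤ 1 := by
    rw [ha] at hA
    exact (Nat.pow_le_pow_iff_right hp.out.one_lt).1 (by simpa using hA)
  have h2 := index_centralizer_le hG a A ha
  have h3 : a * (a - 1) / 2 = 0 := by interval_cases a <;> simp
  rw [h3, pow_zero] at h2
  have h4 : (centralizer (A : Set G)).index = 1 := by
    have := (centralizer (A : Set G)).index_ne_zero_of_finite
    omega
  rw [index_eq_one] at h4
  intro x hx
  rw [mem_center_iff]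
  intro g
  have : g ∈ centralizer (A : Set G) := h4 ▸ mem_top g
  exact (this x hx).symm

theorem index_centralizer_le_of_card_le_sq [Finite G] {p : ℕ} [hp : Fact p.Prime]
    (hG : IsPGroup p G) (A : Subgroup G) [A.Normal] (hA : Nat.card A ≤ p ^ 2) :
    (centralizer (A : Set G)).index ≤ p := by
  obtain ⟨a, ha⟩ := (IsPGroup.iff_card).1 (hG.to_subgroup A)
  have h1 : a ≤ 2 := by
    rw [ha] at hA
    exact (Nat.pow_le_pow_iff_right hp.out.one_lt).1 hA
  have h2 := index_centralizer_le hG a A ha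
  refine h2.trans ?_
  interval_cases a <;> simp [hp.out.one_le]

/-- A self-centralizing normal subgroup of order `p ^ a` bounds the order of the group. -/
theorem card_le_of_centralizer_le [Finite G] {p : ℕ} [hp : Fact p.Prime] (hG : IsPGroup p G)
    (A : Subgroup G) [A.Normal] (hC : centralizer (A : Set G) ≤ A) {a : ℕ}
    (ha : Nat.card A = p ^ a) : Nat.card G ≤ p ^ (a * (a + 1) / 2) := by
  have h1 := index_centralizer_le hG a A ha
  rw [← (centralizer (A : Set G)).card_mul_index, mul_comm a, succ_mul_div_two, pow_add]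
  exact Nat.mul_le_mul (ha ▸ card_le_of_le hC) h1

theorem card_le_of_maximal_abelian_normal [Finite G] {p : ℕ} [hp : Fact p.Prime]
    (hG : IsPGroup p G) (A : Subgroup G) [A.Normal] (hA : IsMulCommutative A)
    (hmax : ∀ B : Subgroup G, B.Normal → IsMulCommutative B → A ≤ B → B = A) {a : ℕ}
    (ha : Nat.card A = p ^ a) : Nat.card G ≤ p ^ (a * (a + 1) / 2) := by
  have := hG.isNilpotent
  exact card_le_of_centralizer_le hG A (H2.centralizer_eq_of_maximal_abelian_normal A hmax).le ha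

theorem normal_of_index_le_prime [Finite G] {p : ℕ} [hp : Fact p.Prime] (hG : IsPGroup p G)
    {H : Subgroup G} (h : H.index ≤ p) : H.Normal := by
  obtain ⟨k, hk⟩ := hG.index H
  have h1 : k ≤ 1 := by
    rw [hk] at h
    exact (Nat.pow_le_pow_iff_right hp.out.one_lt).1 (by simpa using h)
  interval_cases k
  · rw [pow_zero, index_eq_one] at hk
    rw [hk]; infer_instance
  · rw [pow_one] at hk
    exact H2.IsPGroup.normal_of_isCoatom hG (H2.isCoatom_of_index_prime (hk ▸ hp.out))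

/-- a proper subgroup of a `p`-subgroup has order at most `1/p` of it -/
theorem mul_card_le_of_lt [Finite G] {p : ℕ} [hp : Fact p.Prime] {H K : Subgroup G}
    (hK : IsPGroup p K) (h : H < K) : p * Nat.card H ≤ Nat.card K := by
  obtain ⟨b, hb⟩ := (IsPGroup.iff_card).1 hK
  obtain ⟨a, ha⟩ := (IsPGroup.iff_card).1 (hK.to_le h.le)
  have := H2.card_lt_of_lt h
  rw [ha, hb] at this ⊢
  rw [← pow_succ']
  exact Nat.pow_le_pow_right hp.out.pos ((Nat.pow_lt_pow_iff_right hp.out.one_lt).1 this)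

theorem exists_maximal_abelian_normal [Finite G] (m : ℕ) (A : Subgroup G) [hn : A.Normal]
    (hA : IsMulCommutative A) (hAe : ∀ a ∈ A, a ^ m = 1) :
    ∃ B : Subgroup G, A ≤ B ∧ B.Normal ∧ IsMulCommutative B ∧ (∀ a ∈ B, a ^ m = 1) ∧
      ∀ C : Subgroup G, C.Normal → IsMulCommutative C → (∀ b ∈ C, b ^ m = 1) → B ≤ C → C = B := by
  obtain ⟨B, h1, h2⟩ := Finite.exists_le_maximal
    (p := fun B : Subgroup G => B.Normal ∧ IsMulCommutative B ∧ ∀ a ∈ B, a ^ m = 1) ⟨hn, hA, hAe⟩
  exact ⟨B, h1, h2.prop.1, h2.prop.2.1, h2.prop.2.2,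
    fun C c1 c2 c3 c4 => (h2.eq_of_le ⟨c1, c2, c3⟩ c4).symm⟩

/-! ### Alperin's theorem on maximal abelian normal subgroups of bounded exponent -/

theorem conj_pow_formula {x b c d : G} (hb : x * b * x⁻¹ = c * b) (hc : x * c * x⁻¹ = d * c)
    (hd : Commute x d) (hdc : Commute d c) (i : ℕ) :
    x ^ i * b * (x ^ i)⁻¹ = d ^ i.choose 2 * c ^ i * b := by
  induction i with
  | zero => simp
  | succ i ih =>
    have h1 : x ^ (i + 1) * b * (x ^ (i + 1))⁻¹ = x * (x ^ i * b * (x ^ i)⁻¹) * x⁻¹ := by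
      rw [pow_succ']; group
    have h2 : x * (d ^ i.choose 2 * c ^ i * b) * x⁻¹ =
        (x * d * x⁻¹) ^ i.choose 2 * (x * c * x⁻¹) ^ i * (x * b * x⁻¹) := by
      rw [conj_pow, conj_pow]; group
    have h3 : x * d * x⁻¹ = d := by rw [hd.eq]; group
    rw [h1, ih, h2, h3, hc, hb, hdc.mul_pow, choose_two_succ, add_comm i, pow_add, pow_succ]
    simp only [mul_assoc]

theorem pow_eq_one_of_pow_prime_eq_one {p n : ℕ} (hn : n ≠ 0) {b : G} (h : b ^ p = 1) :
    b ^ p ^ n = 1 := by
  obtain ⟨k, rfl⟩ := Nat.exists_eq_succ_of_ne_zero hn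
  rw [pow_succ', pow_mul, h, one_pow]

theorem alperin_aux {p n : ℕ} (hp : p.Prime) (hn0 : n ≠ 0) (hn : p ^ n ≠ 2) {B : Subgroup G}
    [B.Normal] (hB : IsMulCommutative B) {x y : G}
    (hfix : ∀ b ∈ B, b ^ p ^ n = 1 → Commute x b) (hc : ⁅x, y⁆ ∈ B) (hy : Commute (x ^ p) y)
    (hd : ⁅x, ⁅x, y⁆⁆ ^ p = 1) : ⁅x, y⁆ ^ p = 1 := by
  set c := ⁅x, y⁆ with hcdef
  set d := ⁅x, c⁆ with hddef
  have hdB : d ∈ B := commutator_mem_of_normal_right hc x
  have h1 : x * y * x⁻¹ = c * y := by simp [hcdef, commutatorElement_def]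
  have h2 : x * c * x⁻¹ = d * c := by simp [hddef, commutatorElement_def]
  have h3 : Commute x d := hfix d hdB (pow_eq_one_of_pow_prime_eq_one hn0 hd)
  have h4 : Commute d c := comm_of_isMulCommutative hB hdB hc
  have h5 := conj_pow_formula h1 h2 h3 h4 p
  rw [hy.eq, mul_inv_cancel_right] at h5
  have h6 : d ^ p.choose 2 * c ^ p = 1 := by
    have := h5.symm
    rwa [mul_eq_right] at this
  rcases hp.eq_two_or_odd' with rfl | hodd
  · have h7 : c ^ 2 = d⁻¹ := by
      simp only [Nat.choose_self, pow_one] at h6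
      exact eq_inv_of_mul_eq_one_right h6
    have h8 : c ^ 2 ^ n = 1 := by
      obtain ⟨k, rfl⟩ : ∃ k, n = k + 2 := by
        refine ⟨n - 2, ?_⟩
        have : n ≠ 1 := by rintro rfl; simp at hn
        omega
      rw [pow_succ', pow_mul, h7, inv_pow, pow_eq_one_of_pow_prime_eq_one (by omega) hd, inv_one]
    have h9 : d = 1 := commutatorElement_eq_one_iff_commute.2 (hfix c hc h8)
    rw [h7, h9, inv_one]
  · obtain ⟨k, hk⟩ := dvd_choose_two_of_odd hodd
    rwa [hk, pow_mul, hd, one_pow, one_mul] at h6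

theorem alperin_aux₂ {p n : ℕ} (hp : p.Prime) (hn0 : n ≠ 0) (hn : p ^ n ≠ 2) {B : Subgroup G}
    [B.Normal] (hB : IsMulCommutative B) {x : G}
    (hfix : ∀ b ∈ B, b ^ p ^ n = 1 → Commute x b) (hx : ∀ b ∈ B, Commute (x ^ p) b) (k : ℕ) :
    ∀ b ∈ B, b ^ p ^ k = 1 → ⁅x, b⁆ ^ p = 1 := by
  induction k with
  | zero =>
    intro b _ hb
    simp only [pow_zero, pow_one] at hb
    simp [hb]
  | succ k ih =>
    intro b hb hbk
    have hc : ⁅x, b⁆ ∈ B := commutator_mem_of_normal_right hb x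
    refine alperin_aux hp hn0 hn hB hfix hc (hx b hb) ?_
    have h1 : ⁅x, b ^ p⁆ ^ p = 1 := ih _ (B.pow_mem hb p) (by rwa [← pow_mul, ← pow_succ'])
    rw [commutator_pow_right (comm_of_isMulCommutative hB hc hb)] at h1
    have h2 := hfix _ (B.pow_mem hc p) (pow_eq_one_of_pow_prime_eq_one hn0 h1)
    rw [← commutator_pow_right (comm_of_isMulCommutative hB (commutator_mem_of_normal_right hc x) hc)]
    exact commutatorElement_eq_one_iff_commute.2 h2

/-- Two elements stabilizing the chain `B ≥ A ≥ 1` commute on `B`. -/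
theorem commutator_mem_centralizer_of_stabilize {A B : Subgroup G} [hBn : B.Normal]
    (hA : IsMulCommutative A) {x y : G} (hx : x ∈ centralizer (A : Set G))
    (hy : y ∈ centralizer (A : Set G)) (hxB : ∀ b ∈ B, ⁅x, b⁆ ∈ A) (hyB : ∀ b ∈ B, ⁅y, b⁆ ∈ A) :
    ⁅x, y⁆ ∈ centralizer (B : Set G) := by
  have e3 : ∀ b ∈ B, x * y * b * (x * y)⁻¹ = y * x * b * (y * x)⁻¹ := by
    intro b hb
    have e1 : x * b * x⁻¹ = ⁅x, b⁆ * b := by simp [commutatorElement_def]
    have e2 : y * b * y⁻¹ = ⁅y, b⁆ * b := by simp [commutatorElement_def]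
    have c1 : Commute ⁅x, b⁆ y := hy _ (hxB b hb)
    have c2 : Commute ⁅y, b⁆ x := hx _ (hyB b hb)
    have c3 : Commute ⁅x, b⁆ ⁅y, b⁆ := comm_of_isMulCommutative hA (hxB b hb) (hyB b hb)
    calc x * y * b * (x * y)⁻¹ = x * (y * b * y⁻¹) * x⁻¹ := by group
      _ = ⁅y, b⁆ * (x * b * x⁻¹) := by rw [e2, ← mul_assoc x, ← c2.eq]; group
      _ = ⁅x, b⁆ * (y * b * y⁻¹) := by rw [e1, e2, ← mul_assoc, ← c3.eq, mul_assoc]
      _ = y * (x * b * x⁻¹) * y⁻¹ := by rw [e1, ← mul_assoc y ⁅x, b⁆, ← c1.eq]; group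
      _ = y * x * b * (y * x)⁻¹ := by group
  intro b hb
  have h1 := e3 _ (hBn.conj_mem b hb (y * x)⁻¹)
  calc b * ⁅x, y⁆ = y * x * ((y * x)⁻¹ * b * (y * x)⁻¹⁻¹) * (y * x)⁻¹ * ⁅x, y⁆ := by group
    _ = ⁅x, y⁆ * b := by rw [← h1, commutatorElement_def]; group

theorem dvd_choose_two_pow {p n : ℕ} (hp : p.Prime) (hn0 : n ≠ 0) (hn : p ^ n ≠ 2) :
    p ∣ (p ^ n).choose 2 := by
  rcases hp.eq_two_or_odd' with rfl | hodd
  · obtain ⟨k, rfl⟩ : ∃ k, n = k + 2 := by
      refine ⟨n - 2, ?_⟩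
      have : n ≠ 1 := by rintro rfl; simp at hn
      omega
    rw [Nat.choose_two_right, pow_succ, mul_right_comm, Nat.mul_div_cancel _ two_pos, pow_succ,
      mul_right_comm]
    exact Dvd.intro_left _ rfl
  · exact (dvd_pow_self p hn0).trans (dvd_choose_two_of_odd hodd.pow)

/-- **Alperin.** If `A` is maximal among the abelian normal subgroups of exponent dividing
`p ^ n ≠ 2`, every element of order dividing `p ^ n` centralizing `A` lies in `A`. -/
theorem mem_of_maximal_abelian_normal_exp [Finite G] {p : ℕ} [hp : Fact p.Prime]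
    (hG : IsPGroup p G) (n : ℕ) (hn : p ^ n ≠ 2) (A : Subgroup G) [hAn : A.Normal]
    (hA : IsMulCommutative A) (hAe : ∀ a ∈ A, a ^ p ^ n = 1)
    (hmax : ∀ B : Subgroup G, B.Normal → IsMulCommutative B → (∀ b ∈ B, b ^ p ^ n = 1) →
      A ≤ B → B = A)
    {x : G} (hx : x ∈ centralizer (A : Set G)) (hxn : x ^ p ^ n = 1) : x ∈ A := by
  rcases eq_or_ne n 0 with rfl | hn0
  · simp only [pow_zero, pow_one] at hxn
    exact hxn ▸ A.one_mem
  have := hG.isNilpotent
  obtain ⟨B, hAB, hBn, hB, hCB⟩ := H2.exists_selfCentralizing_normal_ge A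
  have hΩ : ∀ b ∈ B, b ^ p ^ n = 1 → b ∈ A := by
    intro b hb hbn
    have := hmax (H2.powKer B (p ^ n)) (H2.powKer_normal B _)
      (H2.isMulCommutative_of_le hB (H2.powKer_le B _)) (fun b hb => (H2.mem_powKer.1 hb).2)
      (fun a ha => H2.mem_powKer.2 ⟨hAB ha, hAe a ha⟩)
    exact this ▸ H2.mem_powKer.2 ⟨hb, hbn⟩
  -- the commutators `[x, b]`
  have hfix : ∀ x ∈ centralizer (A : Set G), ∀ b ∈ B, b ^ p ^ n = 1 → Commute x b :=
    fun x hx b hb hbn => (hx b (hΩ b hb hbn)).symm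
  have key : ∀ x ∈ centralizer (A : Set G), x ^ p ∈ A → ∀ b ∈ B, ⁅x, b⁆ ^ p = 1 := by
    intro x hx hxp b hb
    obtain ⟨k, hk⟩ := hG b
    exact alperin_aux₂ hp.out hn0 hn hB (hfix x hx)
      (fun b hb => comm_of_isMulCommutative hB (hAB hxp) hb) k b hb hk
  have keyA : ∀ x ∈ centralizer (A : Set G), x ^ p ∈ A → ∀ b ∈ B, ⁅x, b⁆ ∈ A :=
    fun x hx hxp b hb => hΩ _ (commutator_mem_of_normal_right hb x)
      (pow_eq_one_of_pow_prime_eq_one hn0 (key x hx hxp b hb))
  have key2 : ∀ x ∈ centralizer (A : Set G), x ^ p ∈ A → ∀ y ∈ centralizer (A : Set G),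
      y ^ p ∈ A → ⁅x, y⁆ ∈ A ∧ ⁅x, y⁆ ^ p = 1 := by
    intro x hx hxp y hy hyp
    have hc : ⁅x, y⁆ ∈ B := by
      rw [← hCB]
      exact commutator_mem_centralizer_of_stabilize hA hx hy (keyA x hx hxp) (keyA y hy hyp)
    have hcp : ⁅x, y⁆ ^ p = 1 :=
      alperin_aux hp.out hn0 hn hB (hfix x hx) hc (hy _ hxp) (key x hx hxp _ hc)
    exact ⟨hΩ _ hc (pow_eq_one_of_pow_prime_eq_one hn0 hcp), hcp⟩
  let S : Subgroup G :=
    { carrier := {x | x ∈ centralizer (A : Set G) ∧ x ^ p ∈ A ∧ x ^ p ^ n = 1}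
      one_mem' := ⟨one_mem _, by simp, by simp⟩
      inv_mem' := by
        rintro x ⟨h1, h2, h3⟩
        exact ⟨inv_mem h1, by rw [inv_pow]; exact inv_mem h2, by rw [inv_pow, h3, inv_one]⟩
      mul_mem' := by
        rintro x y ⟨h1, h2, h3⟩ ⟨k1, k2, k3⟩
        obtain ⟨c1, c2⟩ := key2 x h1 h2 y k1 k2
        have hf := mul_pow_eq_of_commute_commutator (x := x) (y := y) (h1 _ c1) (k1 _ c1)
        refine ⟨mul_mem h1 k1, ?_, ?_⟩
        · rw [hf]
          exact mul_mem (mul_mem h2 k2) (pow_mem (inv_mem c1) _)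
        · obtain ⟨k, hk⟩ := dvd_choose_two_pow hp.out hn0 hn
          rw [hf, h3, k3, hk, pow_mul, inv_pow, c2]
          simp }
  have hSn : S.Normal := ⟨by
    rintro x ⟨h1, h2, h3⟩ g
    refine ⟨(inferInstance : (centralizer (A : Set G)).Normal).conj_mem x h1 g, ?_, ?_⟩
    · rw [conj_pow]; exact hAn.conj_mem _ h2 g
    · rw [conj_pow, h3]; simp⟩
  have hSA : S ≤ A := by
    by_contra hSA
    obtain ⟨z, ⟨h1, h2, h3⟩, hzA, -, hz⟩ := exists_central_mod hG hSA
    have := hmax (zpowers z ⊔ A) (normal_zpowers_sup hz) (isMulCommutative_zpowers_sup hA h1)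
      (fun b hb => pow_eq_one_of_mem_zpowers_sup h1 hAe h3 hb) le_sup_right
    exact hzA (this ▸ mem_sup_left (mem_zpowers z))
  by_contra hxA
  obtain ⟨k, hk1, hk2⟩ := exists_pow_not_mem_pow_mem hG hxA
  refine hk1 (hSA ⟨pow_mem hx _, hk2, ?_⟩)
  rw [← pow_mul, mul_comm, pow_mul, hxn, one_pow]

/-- For odd `p`, a maximal elementary abelian normal subgroup `A` of a `p`-group contains every
element of order `p` of its centralizer. -/
theorem mem_of_maximal_elementary_normal [Finite G] {p : ℕ} [hp : Fact p.Prime] (hp2 : p ≠ 2)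
    (hG : IsPGroup p G) (A : Subgroup G) [hAn : A.Normal]
    (hA : IsMulCommutative A) (hAe : ∀ a ∈ A, a ^ p = 1)
    (hmax : ∀ B : Subgroup G, B.Normal → IsMulCommutative B → (∀ b ∈ B, b ^ p = 1) →
      A ≤ B → B = A)
    {x : G} (hx : x ∈ centralizer (A : Set G)) (hxn : x ^ p = 1) : x ∈ A :=
  mem_of_maximal_abelian_normal_exp hG 1 (by simpa using hp2) A hA (by simpa using hAe)
    (by simpa using hmax) hx (by simpa using hxn)

/-- For odd `p`, every elementary abelian normal subgroup lies in one which contains every element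
of order `p` of its centralizer. -/
theorem exists_maximal_elementary_normal [Finite G] {p : ℕ} [hp : Fact p.Prime] (hp2 : p ≠ 2)
    (hG : IsPGroup p G) (A : Subgroup G) [hAn : A.Normal]
    (hA : IsMulCommutative A) (hAe : ∀ a ∈ A, a ^ p = 1) :
    ∃ B : Subgroup G, A ≤ B ∧ B.Normal ∧ IsMulCommutative B ∧ (∀ a ∈ B, a ^ p = 1) ∧
      ∀ x ∈ centralizer (B : Set G), x ^ p = 1 → x ∈ B := by
  obtain ⟨B, h1, h2, h3, h4, h5⟩ := exists_maximal_abelian_normal p A hA hAe
  exact ⟨B, h1, h2, h3, h4, fun x hx hxp =>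
    mem_of_maximal_elementary_normal hp2 hG B h3 h4 h5 hx hxp⟩

theorem isMulCommutative_bot : IsMulCommutative (⊥ : Subgroup G) := inferInstance

/-- For odd `p`, a `p`-group with an elementary abelian subgroup of order at least `p ^ 3` has a
normal elementary abelian subgroup of order `p ^ 3`. -/
theorem card_le_sq_of_no_normal_cube [Finite G] {p : ℕ} [hp : Fact p.Prime] (hp2 : p ≠ 2)
    (hG : IsPGroup p G)
    (h : ∀ A : Subgroup G, A.Normal → IsMulCommutative A → (∀ a ∈ A, a ^ p = 1) →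
      Nat.card A ≠ p ^ 3)
    (E : Subgroup G) (hE : IsMulCommutative E) (hEe : ∀ e ∈ E, e ^ p = 1) :
    Nat.card E ≤ p ^ 2 := by
  obtain ⟨A, -, hAn, hA, hAe, hmax⟩ := exists_maximal_elementary_normal hp2 hG ⊥
    isMulCommutative_bot (by simp)
  have hA2 : Nat.card A ≤ p ^ 2 := by
    by_contra hlt
    obtain ⟨a, ha⟩ := (IsPGroup.iff_card).1 (hG.to_subgroup A)
    have h3 : p ^ 3 ≤ Nat.card A := by
      rw [ha] at hlt ⊢
      exact Nat.pow_le_pow_right hp.out.pos
        ((Nat.pow_lt_pow_iff_right hp.out.one_lt).1 (not_le.1 hlt))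
    obtain ⟨M, h1, h2, h3⟩ := exists_normal_card_eq' hG A 3 h3
    exact h M h1 (H2.isMulCommutative_of_le hA h2) (fun a ha => hAe a (h2 ha)) h3
  by_cases hAE : A ≤ E
  · refine le_trans (card_le_of_le fun e he => hmax e ?_ (hEe e he)) hA2
    exact centralizer_le hAE (le_centralizer_of_isMulCommutative hE he)
  · have h1 : centralizer (A : Set G) ⊓ E < A := by
      refine lt_of_le_of_ne (fun e he => hmax e he.1 (hEe e he.2)) fun h => hAE ?_
      exact h ▸ inf_le_right
    have h2 := mul_card_le_of_lt (hG.to_subgroup A) h1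
    have h3 : (centralizer (A : Set G)).relIndex E ≤ p :=
      (relIndex_le_of_le_right le_top (by simpa using index_ne_zero_of_finite)).trans
        (by simpa using index_centralizer_le_of_card_le_sq hG A hA2)
    rw [← H2.card_inf_mul_relIndex (centralizer (A : Set G)) E]
    calc _ ≤ Nat.card ↥(centralizer (A : Set G) ⊓ E) * p := Nat.mul_le_mul_left _ h3
      _ ≤ p ^ 2 := by rw [mul_comm]; exact h2.trans hA2

theorem exists_normal_elementary_cube [Finite G] {p : ℕ} [hp : Fact p.Prime] (hp2 : p ≠ 2)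
    (hG : IsPGroup p G) (E : Subgroup G) (hE : IsMulCommutative E) (hEe : ∀ e ∈ E, e ^ p = 1)
    (h : p ^ 2 < Nat.card E) :
    ∃ A : Subgroup G, A.Normal ∧ IsMulCommutative A ∧ (∀ a ∈ A, a ^ p = 1) ∧
      Nat.card A = p ^ 3 := by
  by_contra hne
  push Not at hne
  exact absurd (card_le_sq_of_no_normal_cube hp2 hG hne E hE hEe) (not_le.2 h)

/-- A noncyclic `p`-group, `p` odd, has a normal elementary abelian subgroup of order `p ^ 2`. -/
theorem exists_normal_elementary_sq [Finite G] {p : ℕ} [hp : Fact p.Prime] (hp2 : p ≠ 2)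
    (hG : IsPGroup p G) (hnc : ¬ IsCyclic G) :
    ∃ A : Subgroup G, A.Normal ∧ IsElementaryAbelian p A ∧ Nat.card A = p ^ 2 := by
  obtain ⟨A, -, hAn, hA, hAe, hmax⟩ := exists_maximal_elementary_normal hp2 hG ⊥
    isMulCommutative_bot (by simp)
  by_cases h2 : p ^ 2 ≤ Nat.card A
  · obtain ⟨M, h1, h2, h3⟩ := exists_normal_card_eq' hG A 2 h2
    exact ⟨M, h1, ⟨H2.isMulCommutative_of_le hA h2, fun a ha => hAe a (h2 ha)⟩, h3⟩
  · have hAp : Nat.card A ≤ p := by
      obtain ⟨a, ha⟩ := (IsPGroup.iff_card).1 (hG.to_subgroup A)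
      rw [ha] at h2 ⊢
      have := (Nat.pow_lt_pow_iff_right hp.out.one_lt).1 (not_le.1 h2)
      calc p ^ a ≤ p ^ 1 := Nat.pow_le_pow_right hp.out.pos (by omega)
        _ = p := pow_one p
    have hZ := le_center_of_card_le_prime hG A hAp
    refine absurd (H2.IsPGroup.isCyclic_of_odd_of_card_le hG hp2 fun E _ hEe => ?_) hnc
    refine le_trans (card_le_of_le fun e he => hmax e ?_ (hEe e he)) hAp
    intro a ha
    exact (mem_center_iff.1 (hZ ha) e).symm

theorem mem_of_pow_eq_one_of_isCyclic [Finite G] {p : ℕ} [Fact p.Prime] {C D : Subgroup G}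
    (hp : IsPGroup p C) (hC : IsCyclic C) (hD : D ≤ C) (hD1 : D ≠ ⊥) {c : G} (hc : c ∈ C)
    (hcp : c ^ p = 1) : c ∈ D := by
  obtain ⟨⟨d, hd⟩, hd1⟩ := ne_bot_iff_exists_ne_one.1 hD1
  have hu : H2.UniqueOrderP p C :=
    H2.uniqueOrderP_of_forall_isCyclic hp fun A _ _ => inferInstance
  have := hu.mem_zpowers hp (a := ⟨d, hD hd⟩) (y := ⟨c, hc⟩)
    (fun h => hd1 (by have := congrArg Subtype.val h; exact Subtype.ext this)) (Subtype.ext hcp)
  obtain ⟨k, hk⟩ := this
  have : d ^ k = c := congrArg Subtype.val hk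
  exact this ▸ D.zpow_mem hd k

/-- For odd `p`, in a noncyclic `p`-group with a cyclic maximal subgroup, the elements of order
dividing `p` form an elementary abelian subgroup of order `p ^ 2`. -/
theorem omega_of_cyclic_index_prime [Finite G] {p : ℕ} [hp : Fact p.Prime] (hp2 : p ≠ 2)
    (hG : IsPGroup p G) (hnc : ¬ IsCyclic G) (C : Subgroup G) (hC : IsCyclic C)
    (hCi : C.index = p) :
    IsElementaryAbelian p (closure {x : G | x ^ p = 1}) ∧
      Nat.card (closure {x : G | x ^ p = 1}) = p ^ 2 := by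
  obtain ⟨A, hAn, hA, hA2⟩ := exists_normal_elementary_sq hp2 hG hnc
  have hCn : C.Normal := normal_of_index_le_prime hG hCi.le
  have hAC : ¬ A ≤ C := by
    intro h
    have h1 : IsCyclic A := isCyclic_of_le h
    obtain ⟨g, hg⟩ := h1.exists_ofOrder_eq_natCard
    have h2 : orderOf g ∣ p := orderOf_dvd_of_pow_eq_one (Subtype.ext (hA.2 g g.2))
    rw [hg, hA2] at h2
    have := Nat.le_of_dvd hp.out.pos h2
    have := hp.out.one_lt
    nlinarith
  have hco : IsCoatom C := H2.isCoatom_of_index_prime (hCi ▸ hp.out)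
  have htop : A ⊔ C = ⊤ := hco.2 _ (right_lt_sup.2 hAC)
  have hlt : A ⊓ C < A := inf_lt_left.2 hAC
  have hle : Nat.card ↥(A ⊓ C) ≤ p := by
    have := mul_card_le_of_lt (hG.to_subgroup A) hlt
    rw [hA2, sq] at this
    exact Nat.le_of_mul_le_mul_left this hp.out.pos
  have hZ := le_center_of_card_le_prime hG (A ⊓ C) hle
  have hne : A ⊓ C ≠ ⊥ := by
    intro h
    have h1 := H2.card_sup_of_disjoint (H := A) (K := C) (by rw [normalizer_eq_top]; exact le_top) h
    rw [htop, card_top, ← C.card_mul_index, hCi, hA2, mul_comm] at h1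
    have h2 := Nat.eq_of_mul_eq_mul_right Nat.card_pos h1
    have := hp.out.one_lt
    nlinarith
  have heq : closure {x : G | x ^ p = 1} = A := by
    refine le_antisymm ((closure_le _).2 fun x hx => ?_) fun a ha => subset_closure (hA.2 a ha)
    have hx' : x ∈ A ⊔ C := htop ▸ mem_top x
    obtain ⟨a, ha, c, hc, rfl⟩ := mem_sup_of_normal_right.1 hx'
    have hm : ⁅a, c⁆ ∈ A ⊓ C :=
      ⟨commutator_mem_of_normal_left ha c, commutator_mem_of_normal_right hc a⟩
    have hcen := mem_center_iff.1 (hZ hm)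
    have h1 := mul_pow_eq_of_odd (hp.out.odd_of_ne_two hp2) (hcen a).symm (hcen c).symm
      (hA.2 _ hm.1)
    have hx1 : (a * c) ^ p = 1 := hx
    rw [hx1, hA.2 a ha, one_mul] at h1
    exact A.mul_mem ha
      (mem_of_pow_eq_one_of_isCyclic (hG.to_subgroup C) hC inf_le_right hne hc h1.symm).1
  rw [heq]
  exact ⟨hA, hA2⟩

theorem class_three_of_card_le [Finite G] {p : ℕ} [hp : Fact p.Prime] (hG : IsPGroup p G)
    (h : Nat.card G ≤ p ^ 4) : ⁅⁅⁅(⊤ : Subgroup G), (⊤ : Subgroup G)⁆, (⊤ : Subgroup G)⁆, (⊤ : Subgroup G)⁆ = ⊥ := by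
  have := hG.isNilpotent
  obtain ⟨m, hm⟩ := (IsPGroup.iff_card).1 hG
  have hm4 : m ≤ 4 := by
    rw [hm] at h
    exact (Nat.pow_le_pow_iff_right hp.out.one_lt).1 h
  have h3 : Group.nilpotencyClass G ≤ 3 := by
    by_cases h1 : 1 < m
    · have := H2.nilpotencyClass_le_of_card_eq_pow m G hm h1
      omega
    · have hc : IsCyclic G := by
        apply isCyclic_of_card_dvd_prime (p := p)
        rw [hm]
        have : m = 0 ∨ m = 1 := by omega
        rcases this with rfl | rfl <;> simp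
      have : IsMulCommutative G := hc.isMulCommutative
      have := Group.IsNilpotent.nilpotencyClass_le_one_iff.2 this
      omega
  exact Subgroup.lowerCentralSeries_eq_bot_iff_nilpotencyClass_le.2 h3

/-- a `p`-group of exponent `p` and rank at most two has order at most `p ^ 3` -/
theorem card_le_cube_of_exponent_of_rank [Finite G] {p : ℕ} [hp : Fact p.Prime]
    (hG : ∀ x : G, x ^ p = 1)
    (hrk : ∀ E : Subgroup G, IsElementaryAbelian p E → Nat.card E ≤ p ^ 2) :
    Nat.card G ≤ p ^ 3 := by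
  have hG' : IsPGroup p G := fun x => ⟨1, by simpa using hG x⟩
  have := hG'.isNilpotent
  obtain ⟨B, -, hBn, hB, hCB⟩ := H2.exists_selfCentralizing_normal_ge (⊥ : Subgroup G)
  obtain ⟨a, ha⟩ := (IsPGroup.iff_card).1 (hG'.to_subgroup B)
  have h1 := card_le_of_centralizer_le hG' B hCB.le ha
  have h2 := hrk B ⟨hB, fun b _ => hG b⟩
  rw [ha] at h2
  have h3 := (Nat.pow_le_pow_iff_right hp.out.one_lt).1 h2
  refine h1.trans (Nat.pow_le_pow_right hp.out.pos ?_)
  interval_cases a <;> simp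

theorem IsElementaryAbelian.map_subtype {p : ℕ} {K : Subgroup G} {E : Subgroup K}
    (h : IsElementaryAbelian p E) : IsElementaryAbelian p (E.map K.subtype) := by
  refine ⟨isMulCommutative_of_comm ?_, ?_⟩
  · rintro _ ⟨a, ha, rfl⟩ _ ⟨b, hb, rfl⟩
    exact (comm_of_isMulCommutative h.1 ha hb).map K.subtype
  · rintro _ ⟨a, ha, rfl⟩
    rw [← map_pow, h.2 a ha, map_one]

universe u in
theorem mul_pow_eq_one_of_rank_le_two_aux {p : ℕ} [hp : Fact p.Prime] (h3 : 3 < p) (n : ℕ) :
    ∀ (R : Type u) [Group R] [Finite R], Nat.card R = n → IsPGroup p R →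
      (∀ E : Subgroup R, IsElementaryAbelian p E → Nat.card E ≤ p ^ 2) →
      ∀ x y : R, x ^ p = 1 → y ^ p = 1 → (x * y) ^ p = 1 := by
  induction n using Nat.strong_induction_on with
  | _ n ih =>
    intro R _ _ hn hR hrk x y hx hy
    have sub : ∀ M : Subgroup R, M ≠ ⊤ → ∀ x ∈ M, ∀ y ∈ M, x ^ p = 1 → y ^ p = 1 →
        (x * y) ^ p = 1 := by
      intro M hM x hxM y hyM hx hy
      have := ih _ (hn ▸ H2.card_lt_of_ne_top hM) M rfl (hR.to_subgroup M)
        (fun E hE => by
          rw [← H2.card_map_subtype]; exact hrk _ (IsElementaryAbelian.map_subtype hE))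
        ⟨x, hxM⟩ ⟨y, hyM⟩ (Subtype.ext hx) (Subtype.ext hy)
      exact congrArg Subtype.val this
    by_cases hxt : zpowers x = ⊤
    · obtain ⟨k, rfl⟩ : y ∈ zpowers x := hxt ▸ mem_top y
      rw [((Commute.refl x).zpow_right k).mul_pow, hx, hy, one_mul]
    obtain ⟨M, hM, hxM⟩ := (eq_top_or_exists_le_coatom (zpowers x)).resolve_left hxt
    have hMn : M.Normal := H2.IsPGroup.normal_of_isCoatom hR hM
    set K : Subgroup R := closure {z : R | z ∈ M ∧ z ^ p = 1} with hK
    have hKe : ∀ z ∈ K, z ∈ M ∧ z ^ p = 1 := fun z hz =>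
      pow_eq_one_of_mem_closure (sub M hM.1) hz
    have hKn : K.Normal := ⟨fun z hz g => subset_closure
      ⟨hMn.conj_mem z (hKe z hz).1 g, by rw [conj_pow, (hKe z hz).2]; simp⟩⟩
    have hK3 : Nat.card K ≤ p ^ 3 :=
      card_le_cube_of_exponent_of_rank (fun z => Subtype.ext (hKe z z.2).2) fun E hE => by
        rw [← H2.card_map_subtype]; exact hrk _ (IsElementaryAbelian.map_subtype hE)
    have hxK : x ∈ K := subset_closure ⟨hxM (mem_zpowers x), hx⟩
    by_cases hyt : zpowers y ⊔ K = ⊤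
    · have h4 : Nat.card R ≤ p ^ 4 := by
        by_cases hyK : y ∈ K
        · rw [sup_eq_right.2 (zpowers_le.2 hyK)] at hyt
          rw [hyt, card_top] at hK3
          exact hK3.trans (Nat.pow_le_pow_right hp.out.pos (by norm_num))
        · have := H2.card_sup_zpowers_of_pow_prime_mem hp.out
            (by rw [normalizer_eq_top]; trivial) hyK (hy ▸ K.one_mem)
          rw [hyt, card_top] at this
          rw [this, pow_succ' p 3]
          exact Nat.mul_le_mul_left _ hK3
      exact mul_pow_eq_one_of_class_three hp.out h3 (class_three_of_card_le hR h4) trivial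
        trivial hx hy
    · exact sub _ hyt x (mem_sup_right hxK) y (mem_sup_left (mem_zpowers y)) hx hy

/-- For `p > 3`, `Ω₁` of a `p`-group of rank at most two has exponent `p`. -/
theorem omega_pow_eq_one_of_rank_le_two [Finite G] {p : ℕ} [Fact p.Prime] (h3 : 3 < p)
    (hG : IsPGroup p G) (hrk : ∀ E : Subgroup G, IsElementaryAbelian p E → Nat.card E ≤ p ^ 2)
    {g : G} (hg : g ∈ closure {x : G | x ^ p = 1}) : g ^ p = 1 :=
  pow_eq_one_of_mem_closure' (mul_pow_eq_one_of_rank_le_two_aux h3 _ G rfl hG hrk) hg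

/-- An abelian subgroup acts on a normal abelian subgroup of order `p ^ 3` as a group of order at
most `p ^ 2`. -/
theorem relIndex_centralizer_le_sq [Finite G] {p : ℕ} [hp : Fact p.Prime] (hG : IsPGroup p G)
    {A E : Subgroup G} [A.Normal] (hA : IsMulCommutative A) (hA3 : Nat.card A = p ^ 3)
    (hE : IsMulCommutative E) : (centralizer (A : Set G)).relIndex E ≤ p ^ 2 := by
  obtain ⟨A', x, hn, hc, hsup, -, -, hx⟩ := exists_normal_pred hG A hA3
  have hx' : ∀ g : G, ⁅g, x⁆ ∈ A' := fun g => by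
    rw [← commutatorElement_inv]; exact A'.inv_mem (hx g)
  have hle : A' ≤ A := hsup ▸ le_sup_right
  rw [← hsup, centralizer_zpowers_sup]
  by_cases hEA : E ≤ centralizer (A' : Set G)
  · rw [← inf_relIndex_right, inf_assoc, inf_eq_right.2 hEA, inf_relIndex_right, ← hc]
    exact relIndex_centralizer_le_card _ _ _ fun g _ => hx' g
  · obtain ⟨e, he, heA⟩ := SetLike.not_le_iff_exists.1 hEA
    have h1 : (centralizer (A' : Set G)).relIndex E ≤ p :=
      (relIndex_le_of_le_right le_top (by simpa using index_ne_zero_of_finite)).trans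
        (by simpa using index_centralizer_le_of_card_le_sq hG A' hc.le)
    have hlt : A' ⊓ centralizer {e} < A' := by
      refine inf_lt_left.2 fun h => heA fun a ha => ?_
      exact mem_centralizer_singleton_iff.1 (h ha)
    have h2 : Nat.card ↥(A' ⊓ centralizer {e}) ≤ p := by
      have := mul_card_le_of_lt (hG.to_subgroup A') hlt
      rw [hc, sq] at this
      exact Nat.le_of_mul_le_mul_left this hp.out.pos
    have h3 : (centralizer {x}).relIndex (centralizer (A' : Set G) ⊓ E) ≤ p := by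
      refine le_trans (relIndex_centralizer_le_card _ (A' ⊓ centralizer {e}) _
        fun f hf => ⟨hx' f, ?_⟩) h2
      have hef : Commute e f := comm_of_isMulCommutative hE he hf.2
      have c1 : Commute ⁅e, x⁆ f := hf.1 _ (hx' e)
      have c2 : Commute ⁅e, x⁆ ⁅f, x⁆ := comm_of_isMulCommutative hA (hle (hx' e)) (hle (hx' f))
      have e1 : ⁅e * f, x⁆ = e * ⁅f, x⁆ * e⁻¹ * ⁅e, x⁆ := commutator_mul_left e f x
      have e2 : ⁅f * e, x⁆ = ⁅e, x⁆ * ⁅f, x⁆ := commutator_mul_left_of_commute c1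
      rw [hef.eq, e2, c2.eq, mul_left_inj] at e1
      refine mem_centralizer_singleton_iff.2 ?_
      rw [eq_mul_inv_iff_mul_eq] at e1
      exact e1
    rw [← relIndex_inf_mul_relIndex, sq]
    exact Nat.mul_le_mul h3 h1

/-- For odd `p`, a `p`-group with an elementary abelian subgroup of order `p ^ 4` has a normal
one. -/
theorem exists_normal_elementary_four [Finite G] {p : ℕ} [hp : Fact p.Prime] (hp2 : p ≠ 2)
    (hG : IsPGroup p G) (E : Subgroup G) (hE : IsElementaryAbelian p E)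
    (hE4 : Nat.card E = p ^ 4) :
    ∃ A : Subgroup G, A.Normal ∧ IsElementaryAbelian p A ∧ Nat.card A = p ^ 4 := by
  have hlt : ∀ {a b : ℕ}, a < b → p ^ a < p ^ b := fun h => Nat.pow_lt_pow_right hp.out.one_lt h
  obtain ⟨A₀, hA0n, hA0, hA0e, hA03⟩ := exists_normal_elementary_cube hp2 hG E hE.1 hE.2
    (hE4 ▸ hlt (by norm_num))
  obtain ⟨A, hle, hAn, hA, hAe, hmax⟩ := exists_maximal_elementary_normal hp2 hG A₀ hA0 hA0e
  by_cases h4 : p ^ 4 ≤ Nat.card A
  · obtain ⟨M, h1, h2, h3⟩ := exists_normal_card_eq' hG A 4 h4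
    exact ⟨M, h1, ⟨H2.isMulCommutative_of_le hA h2, fun a ha => hAe a (h2 ha)⟩, h3⟩
  have hA3 : Nat.card A = p ^ 3 := by
    obtain ⟨a, ha⟩ := (IsPGroup.iff_card).1 (hG.to_subgroup A)
    have h1 := card_le_of_le hle
    rw [ha] at h4 h1 ⊢
    rw [hA03] at h1
    have := (Nat.pow_lt_pow_iff_right hp.out.one_lt).1 (not_le.1 h4)
    have := (Nat.pow_le_pow_iff_right hp.out.one_lt).1 h1
    congr 1
    omega
  by_cases hEn : E.Normal
  · exact ⟨E, hEn, hE, hE4⟩
  exfalso
  set C := centralizer (A : Set G) with hC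
  have hAE : ¬ A ≤ E := by
    intro h
    have : E ≤ A := fun e he =>
      hmax e (centralizer_le h (le_centralizer_of_isMulCommutative hE.1 he)) (hE.2 e he)
    have := card_le_of_le this
    omega
  have h1 : C ⊓ E < A := by
    refine lt_of_le_of_ne (fun e he => hmax e he.1 (hE.2 e he.2)) fun h => hAE ?_
    exact h ▸ inf_le_right
  have h2 : Nat.card ↥(C ⊓ E) ≤ p ^ 2 := by
    have := mul_card_le_of_lt (hG.to_subgroup A) h1
    rw [hA3, pow_succ' p 2] at this
    exact Nat.le_of_mul_le_mul_left this hp.out.pos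
  have h3 := relIndex_centralizer_le_sq hG hA hA3 hE.1
  have h5 := H2.card_inf_mul_relIndex C E
  have h6 : p ^ 2 ≤ C.relIndex E := by
    by_contra hh
    have : Nat.card ↥(C ⊓ E) * C.relIndex E < p ^ 2 * p ^ 2 :=
      Nat.mul_lt_mul_of_le_of_lt h2 (not_le.1 hh) (pow_pos hp.out.pos 2)
    rw [h5, hE4, ← pow_add] at this
    exact lt_irrefl _ this
  have h6' : p ^ 2 ≤ Nat.card ↥(C ⊓ E) := by
    by_contra hh
    have : Nat.card ↥(C ⊓ E) * C.relIndex E < p ^ 2 * p ^ 2 :=
      Nat.mul_lt_mul_of_lt_of_le (not_le.1 hh) h3 (pow_pos hp.out.pos 2)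
    rw [h5, hE4, ← pow_add] at this
    exact lt_irrefl _ this
  have h7 := index_centralizer_le hG 3 A hA3
  have hHn : (E ⊔ C).Normal := by
    refine normal_of_index_le_prime hG ?_
    have h8 := relIndex_mul_index (le_sup_right : C ≤ E ⊔ C)
    rw [relIndex_sup_right] at h8
    have h9 : p ^ 2 * (E ⊔ C).index ≤ p ^ 2 * p := by
      calc _ ≤ C.relIndex E * (E ⊔ C).index := Nat.mul_le_mul_right _ h6
        _ ≤ p ^ 3 := by rw [h8]; exact h7
        _ = _ := pow_succ p 2
    exact Nat.le_of_mul_le_mul_left h9 (pow_pos hp.out.pos 2)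
  have := hG.isNilpotent
  have hN : normalizer (E : Set G) < ⊤ := lt_top_iff_ne_top.2 fun h => hEn (normalizer_eq_top_iff.1 h)
  obtain ⟨g, hg, hgN⟩ := SetLike.exists_of_lt (Group.normalizerCondition_of_isNilpotent _ hN)
  set F := E.map (MulAut.conj g).toMonoidHom with hF
  have hmemF : ∀ x, x ∈ F ↔ g⁻¹ * x * g ∈ E := by
    intro x
    rw [hF, mem_map_equiv]
    simp
  have hFcard : Nat.card F = p ^ 4 := by
    rw [hF, card_map_of_injective (MulAut.conj g).injective, hE4]
  have hFN : F ≤ normalizer (E : Set G) := by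
    intro x hx
    have := (mem_normalizer_iff.1 hg _).1 (le_normalizer ((hmemF x).1 hx))
    simpa [mul_assoc] using this
  have hEN : ∀ e ∈ E, ∀ x ∈ F, e * x * e⁻¹ ∈ F := by
    intro e he x hx
    have h1 : g⁻¹ * e * g ∈ normalizer (E : Set G) := by
      have := (mem_normalizer_iff.1 (inv_mem hg) _).1 (le_normalizer he)
      simpa using this
    have := (mem_normalizer_iff.1 h1 _).1 ((hmemF x).1 hx)
    rw [hmemF]
    simpa [mul_assoc] using this
  have hFc : ∀ x ∈ F, ∀ y ∈ F, Commute x y := by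
    intro x hx y hy
    have := (comm_of_isMulCommutative hE.1 ((hmemF x).1 hx) ((hmemF y).1 hy)).map (MulAut.conj g)
    simpa [mul_assoc] using this
  have hFe : ∀ x ∈ F, x ^ p = 1 := by
    intro x hx
    have := congrArg (MulAut.conj g) (hE.2 _ ((hmemF x).1 hx))
    rw [map_pow] at this
    simpa [mul_assoc] using this
  have hFX : F ≤ E ⊔ A := by
    intro x hx
    have hx' : x ∈ E ⊔ C := by
      have := hHn.conj_mem _ (mem_sup_left ((hmemF x).1 hx)) g
      simpa [mul_assoc] using this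
    obtain ⟨e, he, c, hc, rfl⟩ := mem_sup_of_normal_right.1 hx'
    refine mul_mem (mem_sup_left he) (mem_sup_right (hmax c hc ?_))
    have hcE : ⁅e⁻¹, e * c⁆ ∈ E := by
      have := E.mul_mem (E.inv_mem he) ((mem_normalizer_iff.1 (hFN hx) _).1 he)
      simpa [commutatorElement_def, mul_assoc] using this
    have hcF : ⁅e⁻¹, e * c⁆ ∈ F := by
      have := F.mul_mem (hEN _ (E.inv_mem he) _ hx) (F.inv_mem hx)
      simpa [commutatorElement_def, mul_assoc] using this
    have := mul_pow_eq_one_of_odd (hp.out.odd_of_ne_two hp2)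
      (comm_of_isMulCommutative hE.1 hcE (E.inv_mem he)) (hFc _ hcF _ hx)
      (hE.2 _ (E.inv_mem he)) (hFe _ hx)
    simpa using this
  have hne : ¬ F ≤ E := by
    intro h
    have heq : F = E := eq_of_le_of_card_ge h (by rw [hFcard, hE4])
    refine hgN (inv_mem_iff.1 (mem_normalizer_iff.2 fun x => ?_))
    rw [inv_inv, ← hmemF, heq]
  have hX : Nat.card ↥(E ⊔ A) ≤ p ^ 5 := by
    have h8 := H2.card_sup_mul_card_inf (H := E) (K := A) (by rw [normalizer_eq_top]; exact le_top)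
    have h9 : p ^ 2 ≤ Nat.card ↥(E ⊓ A) :=
      h6'.trans (card_le_of_le (le_inf inf_le_right h1.le))
    have : Nat.card ↥(E ⊔ A) * p ^ 2 ≤ p ^ 5 * p ^ 2 := by
      calc _ ≤ _ := Nat.mul_le_mul_left _ h9
        _ = _ := by rw [h8, hE4, hA3]; ring
    exact Nat.le_of_mul_le_mul_right this (pow_pos hp.out.pos 2)
  have hFE : p ^ 5 ≤ Nat.card ↥(F ⊔ E) := by
    have := mul_card_le_of_lt (hG.to_subgroup (F ⊔ E)) (right_lt_sup.2 hne)
    rwa [hE4, ← pow_succ'] at this
  have heq : F ⊔ E = E ⊔ A := eq_of_le_of_card_ge (sup_le hFX le_sup_left) (hX.trans hFE)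
  have h10 : F ⊓ E ≤ C ⊓ E := by
    refine le_inf (fun x hx a ha => ?_) inf_le_right
    have h11 : F ⊔ E ≤ centralizer {x} := by
      refine sup_le (fun y hy => ?_) fun y hy => ?_
      · exact mem_centralizer_singleton_iff.2 (hFc _ hy _ hx.1)
      · exact mem_centralizer_singleton_iff.2 (comm_of_isMulCommutative hE.1 hy hx.2)
    exact mem_centralizer_singleton_iff.1 (h11 (heq ▸ mem_sup_right ha))
  have h12 := H2.card_sup_mul_card_inf hFN
  have h13 : Nat.card ↥(F ⊔ E) * Nat.card ↥(F ⊓ E) ≤ p ^ 5 * p ^ 2 :=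
    Nat.mul_le_mul (heq ▸ hX) ((card_le_of_le h10).trans h2)
  rw [h12, hFcard, hE4, ← pow_add, ← pow_add] at h13
  exact absurd h13 (not_le.2 (hlt (by norm_num)))

end H3
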