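import Mathlib
import Cfsg.Prelude.Def_Transfer
import Cfsg.Agent.H3.PGroup

/-!
# Special and extraspecial groups
-/

namespace H3

open Subgroup Cfsg
open scoped Pointwise commutatorElement

variable {G : Type*} [Group G]

theorem commute_commutator_of_le_center (h : commutator G ≤ center G) (x y z : G) :
    Commute ⁅x, y⁆ z :=
  (mem_center_iff.1 (h (commutator_mem_commutator trivial trivial)) z).symm

theorem IsSpecial.pow_mem_center [Finite G] {p : ℕ} [Fact p.Prime] (h : IsSpecial p G) (x : G) :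
    x ^ p ∈ center G :=
  h.2.1 ▸ H2.IsPGroup.pow_mem_frattini h.1 x

theorem IsSpecial.commutator_pow [Finite G] {p : ℕ} [Fact p.Prime] (h : IsSpecial p G) (x y : G) :
    ⁅x, y⁆ ^ p = 1 := by
  rw [← commutator_pow_left (commute_commutator_of_le_center h.2.2.le _ _ _)]
  exact commutatorElement_eq_one_iff_mul_comm.2
    (mem_center_iff.1 (IsSpecial.pow_mem_center h x) y).symm

/-- The centre of a special `p`-group has exponent `p`. -/
theorem IsSpecial.pow_eq_one_of_mem_center [Finite G] {p : ℕ} [Fact p.Prime] (h : IsSpecial p G)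
    {z : G} (hz : z ∈ center G) : z ^ p = 1 := by
  have : commutator G ≤ H2.powKer (center G) p := commutator_le.2 fun x _ y _ =>
    H2.mem_powKer.2 ⟨h.2.2.le (commutator_mem_commutator trivial trivial),
      IsSpecial.commutator_pow h x y⟩
  exact (H2.mem_powKer.1 (this (h.2.2 ▸ hz))).2

/-- For odd `p`, `Ω₁` of an extraspecial `p`-group has exponent `p` and index at most `p`. -/
theorem IsExtraspecial.omega_odd [Finite G] {p : ℕ} [hp : Fact p.Prime] (hp2 : p ≠ 2)
    (h : IsExtraspecial p G) :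
    (closure {x : G | x ^ p = 1}).index ≤ p ∧ ∀ g ∈ closure {x : G | x ^ p = 1}, g ^ p = 1 := by
  have hc := commute_commutator_of_le_center h.1.2.2.le
  let φ : G →* G := MonoidHom.mk' (fun x => x ^ p) fun x y =>
    mul_pow_eq_of_odd (hp.out.odd_of_ne_two hp2) (hc _ _ _) (hc _ _ _)
      (IsSpecial.commutator_pow h.1 x y)
  have h1 : closure {x : G | x ^ p = 1} = φ.ker := closure_eq φ.ker
  rw [h1, index_ker]
  refine ⟨?_, fun g hg => hg⟩
  rw [← h.2]
  refine card_le_of_le ?_
  rintro _ ⟨x, rfl⟩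
  exact IsSpecial.pow_mem_center h.1 x

/-- `K` is extraspecial with centre `⟨z⟩`, or equal to `⟨z⟩`. -/
structure XS (p : ℕ) (z : G) (K : Subgroup G) : Prop where
  ord : orderOf z = p
  mem : z ∈ K
  central : ∀ x ∈ K, Commute z x
  comm : ∀ x ∈ K, ∀ y ∈ K, ⁅x, y⁆ ∈ zpowers z
  pow : ∀ x ∈ K, x ^ p ∈ zpowers z
  center_le : ∀ x ∈ K, (∀ y ∈ K, Commute x y) → x ∈ zpowers z

theorem exists_generator_of_card_prime [Finite G] {p : ℕ} [hp : Fact p.Prime] {Z : Subgroup G}
    (h : Nat.card Z = p) : ∃ z : G, orderOf z = p ∧ zpowers z = Z := by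
  obtain ⟨z, hz, ho⟩ := H2.exists_mem_orderOf_eq_prime (H := Z) hp.out (h ▸ dvd_rfl)
  exact ⟨z, ho, eq_of_le_of_card_ge (zpowers_le.2 hz) (by rw [Nat.card_zpowers, ho, h])⟩

theorem IsExtraspecial.xs_top [Finite G] {p : ℕ} [hp : Fact p.Prime] (h : IsExtraspecial p G)
    {z : G} (hz : zpowers z = center G) : XS p z (⊤ : Subgroup G) where
  ord := by rw [← Nat.card_zpowers, hz, h.2]
  mem := trivial
  central x _ := (mem_center_iff.1 (hz ▸ mem_zpowers z) x).symm
  comm x _ y _ := hz ▸ h.1.2.2.le (commutator_mem_commutator trivial trivial)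
  pow x _ := hz ▸ IsSpecial.pow_mem_center h.1 x
  center_le x _ hx := hz ▸ mem_center_iff.2 fun g => (hx g trivial).symm

theorem IsExtraspecial.exists_xs_top [Finite G] {p : ℕ} [hp : Fact p.Prime]
    (h : IsExtraspecial p G) : ∃ z : G, XS p z (⊤ : Subgroup G) ∧ zpowers z ≠ ⊤ := by
  obtain ⟨z, ho, hz⟩ := exists_generator_of_card_prime h.2
  refine ⟨z, IsExtraspecial.xs_top h hz, fun ht => ?_⟩
  have h1 : IsMulCommutative G := (isCyclic_iff_exists_zpowers_eq_top.2 ⟨z, ht⟩).isMulCommutative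
  have h2 := h.2
  rw [← h.1.2.2, (commutator_eq_bot_iff G).2 h1, card_bot] at h2
  exact hp.out.one_lt.ne h2

theorem XS.map {G' : Type*} [Group G'] {p : ℕ} {z : G} {K : Subgroup G} (h : XS p z K)
    (f : G →* G') (hf : Function.Injective f) : XS p (f z) (K.map f) where
  ord := by rw [orderOf_injective f hf, h.ord]
  mem := mem_map_of_mem f h.mem
  central := by
    rintro _ ⟨x, hx, rfl⟩
    exact (h.central x hx).map f
  comm := by
    rintro _ ⟨x, hx, rfl⟩ _ ⟨y, hy, rfl⟩
    rw [← map_commutatorElement, ← MonoidHom.map_zpowers]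
    exact mem_map_of_mem f (h.comm x hx y hy)
  pow := by
    rintro _ ⟨x, hx, rfl⟩
    rw [← map_pow, ← MonoidHom.map_zpowers]
    exact mem_map_of_mem f (h.pow x hx)
  center_le := by
    rintro _ ⟨x, hx, rfl⟩ hc
    rw [← MonoidHom.map_zpowers]
    refine mem_map_of_mem f (h.center_le x hx fun y hy => hf ?_)
    rw [map_mul, map_mul]
    exact hc _ (mem_map_of_mem f hy)

theorem IsExtraspecial.exists_xs [Finite G] {p : ℕ} [hp : Fact p.Prime] {E : Subgroup G}
    (h : IsExtraspecial p E) :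
    ∃ z : G, XS p z E ∧ zpowers z ≠ E ∧ zpowers z = E ⊓ centralizer (E : Set G) := by
  obtain ⟨z, h1, h2⟩ := IsExtraspecial.exists_xs_top h
  have h3 := h1.map E.subtype E.subtype_injective
  rw [← MonoidHom.range_eq_map, range_subtype] at h3
  refine ⟨z, h3, fun h4 => h2 ?_, le_antisymm (zpowers_le.2 ⟨z.2, fun x hx => ?_⟩) fun x hx => ?_⟩
  · refine eq_top_iff.2 fun x _ => ?_
    obtain ⟨k, hk⟩ : (x : G) ∈ zpowers (z : G) := h4.symm ▸ x.2
    exact ⟨k, Subtype.ext hk⟩
  · exact (h3.central x hx).symm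
  · exact h3.center_le x hx.1 fun y hy => (hx.2 y hy).symm

namespace XS

variable {p : ℕ} {z : G} {K : Subgroup G}

theorem z_pow (h : XS p z K) : z ^ p = 1 := by rw [← h.ord, pow_orderOf_eq_one]

theorem pow_of_mem (h : XS p z K) {c : G} (hc : c ∈ zpowers z) : c ^ p = 1 := by
  obtain ⟨k, rfl⟩ := hc
  rw [← zpow_natCast, ← zpow_mul, mul_comm, zpow_mul, zpow_natCast, h.z_pow, one_zpow]

theorem isPGroup (h : XS p z K) : IsPGroup p K := fun x =>
  ⟨2, Subtype.ext (by
    simp only [sq, pow_mul, SubmonoidClass.coe_pow, OneMemClass.coe_one]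
    exact h.pow_of_mem (h.pow x x.2))⟩

theorem commute_of_mem (h : XS p z K) {c x : G} (hc : c ∈ zpowers z) (hx : x ∈ K) :
    Commute c x := by
  obtain ⟨k, rfl⟩ := hc
  exact (h.central x hx).zpow_left k

theorem z_ne_one [hp : Fact p.Prime] (h : XS p z K) : z ≠ 1 := by
  rintro rfl
  have := h.ord
  rw [orderOf_one] at this
  exact hp.out.one_lt.ne this

theorem isExtraspecial [Finite G] [hp : Fact p.Prime] (h : XS p z K) (hne : zpowers z ≠ K) :
    IsExtraspecial p K := by
  have hZ : center K = (zpowers z).subgroupOf K := by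
    ext x
    rw [mem_center_iff, mem_subgroupOf]
    constructor
    · intro hx
      exact h.center_le x x.2 fun y hy => (congrArg Subtype.val (hx ⟨y, hy⟩)).symm
    · intro hx g
      exact Subtype.ext (h.commute_of_mem hx g.2).symm
  have hc : Nat.card (center K) = p := by
    rw [hZ, H2.card_subgroupOf_of_le (zpowers_le.2 h.mem), Nat.card_zpowers, h.ord]
  have h1 : commutator K ≤ center K := by
    rw [hZ]
    exact commutator_le.2 fun x _ y _ => h.comm x x.2 y y.2
  have h2 : frattini K ≤ center K :=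
    H2.frattini_le_of_elementary_quotient hp.out h1 fun x => hZ ▸ h.pow x x.2
  have h3 : commutator K = center K := by
    by_contra h4
    have h5 := mul_card_le_of_lt (h.isPGroup.to_subgroup _) (lt_of_le_of_ne h1 h4)
    rw [hc] at h5
    have h6 : Nat.card (commutator K) = 1 := by
      have : 0 < Nat.card (commutator K) := Nat.card_pos
      have := hp.out.pos
      nlinarith
    have h7 := (commutator_eq_bot_iff K).1 (card_eq_one.1 h6)
    refine hne (le_antisymm (zpowers_le.2 h.mem) fun x hx => h.center_le x hx fun y hy => ?_)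
    exact congrArg Subtype.val (h7.is_comm.comm (⟨x, hx⟩ : K) ⟨y, hy⟩)
  exact ⟨⟨h.isPGroup, le_antisymm h2 (h3 ▸ H2.IsPGroup.commutator_le_frattini h.isPGroup), h3⟩, hc⟩

/-- a noncentral element has a partner -/
theorem exists_partner [hp : Fact p.Prime] (h : XS p z K) {x : G} (hx : x ∈ K)
    (hxz : x ∉ zpowers z) : ∃ y ∈ K, ⁅x, y⁆ = z := by
  obtain ⟨y, hy, hxy⟩ : ∃ y ∈ K, ¬ Commute x y := by
    by_contra hne
    push Not at hne
    exact hxz (h.center_le x hx hne)
  have h1 : ⁅x, y⁆ ≠ 1 := fun h => hxy (commutatorElement_eq_one_iff_commute.1 h)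
  have h2 : zpowers ⁅x, y⁆ = zpowers z := by
    have : Finite (zpowers z) := Nat.finite_of_card_ne_zero
      (by rw [Nat.card_zpowers, h.ord]; exact hp.out.ne_zero)
    refine eq_of_le_of_card_ge (zpowers_le.2 (h.comm x hx y hy)) ?_
    rw [Nat.card_zpowers, Nat.card_zpowers, h.ord,
      orderOf_eq_prime (h.pow_of_mem (h.comm x hx y hy)) h1]
  obtain ⟨k, hk⟩ : z ∈ zpowers ⁅x, y⁆ := h2 ▸ mem_zpowers z
  refine ⟨y ^ k, zpow_mem hy k, ?_⟩
  rw [commutator_zpow_right (h.commute_of_mem (h.comm x hx y hy) hy)]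
  exact hk

/-- An element acting on `K` through central commutators can be corrected to centralize a
hyperbolic pair. -/
theorem exists_correction (h : XS p z K) {x y : G} (hx : x ∈ K) (hy : y ∈ K) (hxy : ⁅x, y⁆ = z)
    {g : G} (hgx : ⁅g, x⁆ ∈ zpowers z) (hgy : ⁅g, y⁆ ∈ zpowers z) :
    ∃ i j : ℤ, x ^ i * y ^ j * g ∈ centralizer {x} ⊓ centralizer {y} := by
  obtain ⟨j, hj⟩ := hgx
  obtain ⟨i, hi⟩ := hgy
  simp only at hi hj
  have hm : x ^ (-i) * y ^ j ∈ K := mul_mem (zpow_mem hx _) (zpow_mem hy _)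
  have hyx : ⁅y, x⁆ = z⁻¹ := by rw [← hxy, commutatorElement_inv]
  refine ⟨-i, j, mem_centralizer_singleton_iff.2 (commutatorElement_eq_one_iff_mul_comm.1 ?_),
    mem_centralizer_singleton_iff.2 (commutatorElement_eq_one_iff_mul_comm.1 ?_)⟩
  · rw [commutator_mul_left_of_commute (hj ▸ h.commute_of_mem (zpow_mem_zpowers z j) hm),
      commutator_mul_left_of_commute (h.commute_of_mem (h.comm _ (zpow_mem hy _) _ hx)
        (zpow_mem hx _)),
      commutator_zpow_left (h.commute_of_mem (h.comm _ hy _ hx) hy),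
      commutator_zpow_left (by simp), hyx, ← hj]
    simp
  · rw [commutator_mul_left_of_commute (hi ▸ h.commute_of_mem (zpow_mem_zpowers z i) hm),
      commutator_mul_left_of_commute (h.commute_of_mem (h.comm _ (zpow_mem hy _) _ hy)
        (zpow_mem hx _)),
      commutator_zpow_left (h.commute_of_mem (h.comm _ hy _ hy) hy),
      commutator_zpow_left (h.commute_of_mem (h.comm _ hx _ hy) hx), hxy, ← hi]
    simp

theorem eq_sup (h : XS p z K) {x y : G} (hx : x ∈ K) (hy : y ∈ K) (hxy : ⁅x, y⁆ = z) :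
    K = zpowers y ⊔ (zpowers x ⊔ K ⊓ (centralizer {x} ⊓ centralizer {y})) := by
  refine le_antisymm (fun g hg => ?_)
    (sup_le (zpowers_le.2 hy) (sup_le (zpowers_le.2 hx) inf_le_left))
  obtain ⟨i, j, hij⟩ := h.exists_correction hx hy hxy (h.comm g hg x hx) (h.comm g hg y hy)
  have : g = y ^ (-j) * (x ^ (-i) * (x ^ i * y ^ j * g)) := by group
  rw [this]
  exact mul_mem (mem_sup_left (zpow_mem_zpowers _ _)) (mem_sup_right (mul_mem
    (mem_sup_left (zpow_mem_zpowers _ _))
    (mem_sup_right ⟨mul_mem (mul_mem (zpow_mem hx _) (zpow_mem hy _)) hg, hij⟩)))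

theorem le_centralizer (h : XS p z K) {x y : G} (hx : x ∈ K) (hy : y ∈ K) (hxy : ⁅x, y⁆ = z)
    {g : G} (hgx : Commute x g) (hgy : Commute y g)
    (hg : ∀ k ∈ K ⊓ (centralizer {x} ⊓ centralizer {y}), Commute k g) : ∀ k ∈ K, Commute k g := by
  have : K ≤ centralizer {g} := by
    rw [h.eq_sup hx hy hxy]
    exact sup_le (zpowers_le.2 (mem_centralizer_singleton_iff.2 hgy))
      (sup_le (zpowers_le.2 (mem_centralizer_singleton_iff.2 hgx))
        fun k hk => mem_centralizer_singleton_iff.2 (hg k hk))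
  exact fun k hk => mem_centralizer_singleton_iff.1 (this hk)

theorem step (h : XS p z K) {x y : G} (hx : x ∈ K) (hy : y ∈ K) (hxy : ⁅x, y⁆ = z) :
    XS p z (K ⊓ (centralizer {x} ⊓ centralizer {y})) where
  ord := h.ord
  mem := ⟨h.mem, mem_centralizer_singleton_iff.2 (h.central x hx),
    mem_centralizer_singleton_iff.2 (h.central y hy)⟩
  central a ha := h.central a ha.1
  comm a ha b hb := h.comm a ha.1 b hb.1
  pow a ha := h.pow a ha.1
  center_le a ha hc := h.center_le a ha.1 fun k hk =>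
    (h.le_centralizer hx hy hxy (mem_centralizer_singleton_iff.1 ha.2.1).symm
      (mem_centralizer_singleton_iff.1 ha.2.2).symm (fun k hk => (hc k hk).symm) k hk).symm

theorem card_eq_aux [Finite G] [hp : Fact p.Prime] (h : XS p z K) {L : Subgroup G} (hL : L ≤ K)
    {x y : G} (hx : x ∈ K) (hy : y ∈ L) (hxy : ¬ Commute y x) :
    Nat.card L = p * Nat.card ↥(L ⊓ centralizer {x}) := by
  apply le_antisymm
  · have h1 := relIndex_centralizer_le_card L (zpowers z) x fun g hg => h.comm g (hL hg) x hx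
    rw [Nat.card_zpowers, h.ord] at h1
    rw [← H2.card_inf_mul_relIndex (centralizer {x}) L, inf_comm, mul_comm]
    exact Nat.mul_le_mul_right _ h1
  · exact mul_card_le_of_lt (h.isPGroup.to_le hL)
      (inf_lt_left.2 fun h => hxy (mem_centralizer_singleton_iff.1 (h hy)))

theorem card_step [Finite G] [hp : Fact p.Prime] (h : XS p z K) {x y : G} (hx : x ∈ K)
    (hy : y ∈ K) (hxy : ⁅x, y⁆ = z) :
    Nat.card K = p ^ 2 * Nat.card ↥(K ⊓ (centralizer {x} ⊓ centralizer {y})) := by
  have hne : ¬ Commute x y := fun hc =>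
    h.z_ne_one (hxy ▸ commutatorElement_eq_one_iff_commute.2 hc)
  rw [h.card_eq_aux le_rfl hx hy fun hc => hne hc.symm,
    h.card_eq_aux (L := K ⊓ centralizer {x}) inf_le_left hy
      ⟨hx, mem_centralizer_singleton_iff.2 rfl⟩ hne, inf_assoc, sq, mul_assoc]

theorem card_step_lt [Finite G] [hp : Fact p.Prime] (h : XS p z K) {x y : G} (hx : x ∈ K)
    (hy : y ∈ K) (hxy : ⁅x, y⁆ = z) :
    Nat.card ↥(K ⊓ (centralizer {x} ⊓ centralizer {y})) < Nat.card K := by
  rw [h.card_step hx hy hxy]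
  have h1 : 0 < Nat.card ↥(K ⊓ (centralizer {x} ⊓ centralizer {y})) := Nat.card_pos
  have h2 := Nat.one_lt_pow (n := 2) (by omega) hp.out.one_lt
  nlinarith

theorem exists_not_mem (h : XS p z K) (hne : zpowers z ≠ K) : ∃ x ∈ K, x ∉ zpowers z :=
  SetLike.not_le_iff_exists.1 fun hle => hne (le_antisymm (zpowers_le.2 h.mem) hle)

/-- An element inducing central commutators on `K` acts as an inner automorphism. -/
theorem exists_mul_mem_centralizer [Finite G] [hp : Fact p.Prime] (h : XS p z K) {g : G}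
    (hz : Commute z g) (hg : ∀ k ∈ K, ⁅g, k⁆ ∈ zpowers z) :
    ∃ e ∈ K, ∀ k ∈ K, Commute k (e * g) := by
  induction hn : Nat.card K using Nat.strong_induction_on generalizing K g with
  | _ n ih =>
    by_cases hne : zpowers z = K
    · refine ⟨1, one_mem _, fun k hk => ?_⟩
      obtain ⟨i, rfl⟩ : k ∈ zpowers z := hne ▸ hk
      simpa using hz.zpow_left i
    obtain ⟨x, hx, hxz⟩ := h.exists_not_mem hne
    obtain ⟨y, hy, hxy⟩ := h.exists_partner hx hxz
    obtain ⟨i, j, hij⟩ := h.exists_correction hx hy hxy (hg x hx) (hg y hy)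
    have hm : x ^ i * y ^ j ∈ K := mul_mem (zpow_mem hx _) (zpow_mem hy _)
    obtain ⟨e, he, hc⟩ := ih _ (hn ▸ h.card_step_lt hx hy hxy) (h.step hx hy hxy)
      (g := x ^ i * y ^ j * g) ((h.central _ hm).mul_right hz) (fun k hk => by
        rw [commutator_mul_left_of_commute (h.commute_of_mem (hg k hk.1) hm)]
        exact mul_mem (hg k hk.1) (h.comm _ hm _ hk.1)) rfl
    refine ⟨e * (x ^ i * y ^ j), mul_mem he.1 hm, ?_⟩
    rw [mul_assoc]
    exact h.le_centralizer hx hy hxy
      (mem_centralizer_singleton_iff.1 (mul_mem he.2.1 hij.1)).symm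
      (mem_centralizer_singleton_iff.1 (mul_mem he.2.2 hij.2)).symm hc

end XS

/-- If `E` is extraspecial in a `p`-group `G` and `[G, E] ≤ Z(E)` then `G = E C_G(E)`. -/
theorem sup_centralizer_eq_top_of_extraspecial [Finite G] {p : ℕ} [Fact p.Prime]
    (hG : IsPGroup p G) (E : Subgroup G) (hE : IsExtraspecial p E)
    (h : ⁅(⊤ : Subgroup G), E⁆ ≤ E ⊓ centralizer (E : Set G)) :
    E ⊔ centralizer (E : Set G) = ⊤ := by
  obtain ⟨z, hz, -, hZ⟩ := IsExtraspecial.exists_xs hE
  have hEn : E.Normal := ⟨fun x hx g => by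
    have := E.mul_mem (h (commutator_mem_commutator (mem_top g) hx)).1 hx
    simpa [commutatorElement_def] using this⟩
  have hZn : (zpowers z).Normal := by rw [hZ]; infer_instance
  have hc := le_center_of_card_le_prime hG (zpowers z) (by rw [Nat.card_zpowers, hz.ord])
  refine eq_top_iff.2 fun g _ => ?_
  obtain ⟨e, he, hc⟩ := hz.exists_mul_mem_centralizer (g := g)
    (mem_center_iff.1 (hc (mem_zpowers z)) g).symm
    fun k hk => hZ ▸ h (commutator_mem_commutator (mem_top g) hk)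
  have : g = e⁻¹ * (e * g) := by group
  rw [this]
  exact mul_mem (mem_sup_left (inv_mem he)) (mem_sup_right hc)

/-- A decomposition of an extraspecial group as a central product of groups of order `p ^ 3`,
recording the `p`-th powers of the generators. -/
inductive XDec (p : ℕ) (z : G) : List (ℕ × ℕ) → Subgroup G → Prop
  | nil : orderOf z = p → XDec p z [] (zpowers z)
  | cons {K : Subgroup G} {l : List (ℕ × ℕ)} {d : ℕ × ℕ} (x y : G) : XS p z K → x ∈ K → y ∈ K →
      ⁅x, y⁆ = z → x ^ p = z ^ d.1 → y ^ p = z ^ d.2 →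
      XDec p z l (K ⊓ (centralizer {x} ⊓ centralizer {y})) → XDec p z (d :: l) K

theorem XDec.card [Finite G] {p : ℕ} [Fact p.Prime] {z : G} {l : List (ℕ × ℕ)} {K : Subgroup G}
    (h : XDec p z l K) : Nat.card K = p ^ (2 * l.length + 1) := by
  induction h with
  | nil ho => simp [Nat.card_zpowers, ho]
  | cons x y hK hx hy hxy _ _ _ ih =>
    rw [hK.card_step hx hy hxy, ih, List.length_cons]
    ring

theorem XS.exists_xdec [Finite G] {p : ℕ} [Fact p.Prime] {z : G} {K : Subgroup G}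
    (h : XS p z K) : ∃ l, XDec p z l K := by
  induction hn : Nat.card K using Nat.strong_induction_on generalizing K with
  | _ n ih =>
    by_cases hne : zpowers z = K
    · exact ⟨[], hne ▸ XDec.nil h.ord⟩
    obtain ⟨x, hx, hxz⟩ := h.exists_not_mem hne
    obtain ⟨y, hy, hxy⟩ := h.exists_partner hx hxz
    obtain ⟨l, hl⟩ := ih _ (hn ▸ h.card_step_lt hx hy hxy) (h.step hx hy hxy) rfl
    obtain ⟨a, ha⟩ := (mem_powers_iff_mem_zpowers).2 (h.pow x hx)
    obtain ⟨b, hb⟩ := (mem_powers_iff_mem_zpowers).2 (h.pow y hy)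
    exact ⟨(a, b) :: l, XDec.cons x y h hx hy hxy ha.symm hb.symm hl⟩

theorem XDec.eq_zpowers {p : ℕ} {z : G} {K : Subgroup G} (h : XDec p z [] K) : K = zpowers z := by
  cases h
  rfl

/-- An extraspecial `p`-group has order `p ^ (2 n + 1)` with `n ≥ 1`. -/
theorem IsExtraspecial.card_eq [Finite G] {p : ℕ} [Fact p.Prime] (h : IsExtraspecial p G) :
    ∃ n : ℕ, 1 ≤ n ∧ Nat.card G = p ^ (2 * n + 1) := by
  obtain ⟨z, h1, h2⟩ := IsExtraspecial.exists_xs_top h
  obtain ⟨l, hl⟩ := h1.exists_xdec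
  refine ⟨l.length, ?_, by rw [← hl.card, card_top]⟩
  rcases l with _ | ⟨d, l⟩
  · exact absurd hl.eq_zpowers.symm h2
  · simp

theorem card_zpowers_sup_le [Finite G] {p : ℕ} (hp : p.Prime) {H : Subgroup G} {t : G}
    (hn : t ∈ normalizer (H : Set G)) (htp : t ^ p ∈ H) :
    Nat.card ↥(zpowers t ⊔ H) ≤ p * Nat.card H := by
  by_cases ht : t ∈ H
  · rw [sup_eq_right.2 (zpowers_le.2 ht)]
    exact Nat.le_mul_of_pos_left _ hp.pos
  · exact (H2.card_sup_zpowers_of_pow_prime_mem hp hn ht htp).le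

theorem mem_normalizer_of_forall_commutator_mem [Finite G] {H : Subgroup G} {t : G}
    (h : ∀ x ∈ H, ⁅t, x⁆ ∈ H) : t ∈ normalizer (H : Set G) := by
  refine mem_normalizer_fintype fun x hx => ?_
  have := H.mul_mem (h x hx) hx
  simpa [commutatorElement_def] using this

theorem XDec.exists_graph {G' : Type*} [Group G'] [Finite G] [Finite G'] {p : ℕ}
    [hp : Fact p.Prime] {z : G} {z' : G'} {l : List (ℕ × ℕ)} {K : Subgroup G}
    (h : XDec p z l K) : ∀ {K' : Subgroup G'}, XDec p z' l K' →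
      ∃ H : Subgroup (G × G'), (z, z') ∈ H ∧ H.map (MonoidHom.fst G G') = K ∧
        H.map (MonoidHom.snd G G') = K' ∧ Nat.card H ≤ p ^ (2 * l.length + 1) := by
  induction h with
  | nil ho =>
    intro K' h'
    cases h' with
    | nil ho' =>
      refine ⟨zpowers (z, z'), mem_zpowers _, MonoidHom.map_zpowers _ _,
        MonoidHom.map_zpowers _ _, ?_⟩
      rw [Nat.card_zpowers, Prod.orderOf, ho, ho']
      simp
  | @cons K l d x y hK hx hy hxy hxp hyp _ ih =>
    intro K' h'
    cases h' with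
    | cons x' y' hK' hx' hy' hxy' hxp' hyp' hl' =>
      obtain ⟨H, hz, h1, h2, hc⟩ := ih hl'
      have hH1 : ∀ w ∈ H, w.1 ∈ K ⊓ (centralizer {x} ⊓ centralizer {y}) := fun w hw =>
        h1 ▸ mem_map_of_mem (MonoidHom.fst G G') hw
      have hH2 : ∀ w ∈ H, w.2 ∈ K' ⊓ (centralizer {x'} ⊓ centralizer {y'}) := fun w hw =>
        h2 ▸ mem_map_of_mem (MonoidHom.snd G G') hw
      have hcx : ∀ w ∈ H, Commute (x, x') w := fun w hw => Prod.ext
        (mem_centralizer_singleton_iff.1 (hH1 w hw).2.1).symm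
        (mem_centralizer_singleton_iff.1 (hH2 w hw).2.1).symm
      have hcy : ∀ w ∈ H, Commute (y, y') w := fun w hw => Prod.ext
        (mem_centralizer_singleton_iff.1 (hH1 w hw).2.2).symm
        (mem_centralizer_singleton_iff.1 (hH2 w hw).2.2).symm
      have hnx : (x, x') ∈ normalizer (H : Set (G × G')) :=
        centralizer_le_normalizer _ fun w hw => (hcx w hw).symm
      have hny : (y, y') ∈ normalizer ((zpowers (x, x') ⊔ H : Subgroup (G × G')) : Set (G × G')) := by
        refine mem_normalizer_of_forall_commutator_mem fun w hw => ?_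
        obtain ⟨k, a, ha, rfl⟩ := (mem_zpowers_sup_iff hnx).1 hw
        have e1 : ⁅((y, y') : G × G'), (x, x')⁆ = (z, z')⁻¹ := by
          rw [← commutatorElement_inv, inv_inj, ← hxy, ← hxy']
          rfl
        rw [commutator_mul_right, commutatorElement_eq_one_iff_commute.2 (hcy a ha), mul_one,
          mul_inv_cancel, mul_one, commutator_zpow_right (e1 ▸ (hcx _ (inv_mem hz)).symm), e1]
        exact mem_sup_right (zpow_mem (inv_mem hz) k)
      refine ⟨zpowers (y, y') ⊔ (zpowers (x, x') ⊔ H), mem_sup_right (mem_sup_right hz),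
        ?_, ?_, ?_⟩
      · rw [Subgroup.map_sup, Subgroup.map_sup, h1, MonoidHom.map_zpowers, MonoidHom.map_zpowers]
        exact (hK.eq_sup hx hy hxy).symm
      · rw [Subgroup.map_sup, Subgroup.map_sup, h2, MonoidHom.map_zpowers, MonoidHom.map_zpowers]
        exact (hK'.eq_sup hx' hy' hxy').symm
      · have e1 : ((x, x') : G × G') ^ p = (z, z') ^ d.1 := Prod.ext hxp hxp'
        have e2 : ((y, y') : G × G') ^ p = (z, z') ^ d.2 := Prod.ext hyp hyp'
        have c1 := card_zpowers_sup_le hp.out hnx (e1 ▸ pow_mem hz _)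
        have c2 := card_zpowers_sup_le hp.out hny (e2 ▸ mem_sup_right (pow_mem hz _))
        calc _ ≤ _ := c2
          _ ≤ p * (p * p ^ (2 * l.length + 1)) :=
            Nat.mul_le_mul_left _ (c1.trans (Nat.mul_le_mul_left _ hc))
          _ = _ := by rw [List.length_cons]; ring

/-- A subgroup of a product projecting bijectively gives an isomorphism. -/
theorem exists_mulEquiv_of_graph {G' : Type*} [Group G'] [Finite G] [Finite G']
    (H : Subgroup (G × G')) (h1 : H.map (MonoidHom.fst G G') = ⊤)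
    (h2 : H.map (MonoidHom.snd G G') = ⊤) (c1 : Nat.card H ≤ Nat.card G)
    (c2 : Nat.card H ≤ Nat.card G') : ∃ e : G ≃* G', ∀ w ∈ H, e w.1 = w.2 := by
  have s1 : Function.Surjective ((MonoidHom.fst G G').comp H.subtype) := fun g => by
    obtain ⟨w, hw, rfl⟩ : g ∈ H.map (MonoidHom.fst G G') := h1 ▸ mem_top g
    exact ⟨⟨w, hw⟩, rfl⟩
  have s2 : Function.Surjective ((MonoidHom.snd G G').comp H.subtype) := fun g => by
    obtain ⟨w, hw, rfl⟩ : g ∈ H.map (MonoidHom.snd G G') := h2 ▸ mem_top g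
    exact ⟨⟨w, hw⟩, rfl⟩
  let e1 := MulEquiv.ofBijective _ (s1.bijective_of_nat_card_le c1)
  let e2 := MulEquiv.ofBijective _ (s2.bijective_of_nat_card_le c2)
  refine ⟨e1.symm.trans e2, fun w hw => ?_⟩
  have : e1.symm w.1 = ⟨w, hw⟩ := e1.symm_apply_eq.2 rfl
  rw [MulEquiv.trans_apply, this]
  rfl

theorem XDec.exists_mulEquiv {G' : Type*} [Group G'] [Finite G] [Finite G'] {p : ℕ}
    [Fact p.Prime] {z : G} {z' : G'} {l : List (ℕ × ℕ)} (h : XDec p z l (⊤ : Subgroup G))
    (h' : XDec p z' l (⊤ : Subgroup G')) : ∃ e : G ≃* G', e z = z' := by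
  obtain ⟨H, hz, h1, h2, hc⟩ := h.exists_graph h'
  obtain ⟨e, he⟩ := exists_mulEquiv_of_graph H h1 h2 (by rwa [← h.card, card_top] at hc)
    (by rwa [← h'.card, card_top] at hc)
  exact ⟨e, he _ hz⟩

theorem XS.exists_xdec_of_exponent [Finite G] {p : ℕ} [Fact p.Prime] {z : G} {K : Subgroup G}
    (h : XS p z K) (he : ∀ x ∈ K, x ^ p = 1) : ∃ n, XDec p z (List.replicate n (0, 0)) K := by
  induction hn : Nat.card K using Nat.strong_induction_on generalizing K with
  | _ n ih =>
    by_cases hne : zpowers z = K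
    · exact ⟨0, hne ▸ XDec.nil h.ord⟩
    obtain ⟨x, hx, hxz⟩ := h.exists_not_mem hne
    obtain ⟨y, hy, hxy⟩ := h.exists_partner hx hxz
    obtain ⟨m, hl⟩ := ih _ (hn ▸ h.card_step_lt hx hy hxy) (h.step hx hy hxy)
      (fun a ha => he a ha.1) rfl
    exact ⟨m + 1, XDec.cons x y h hx hy hxy (by simpa using he x hx) (by simpa using he y hy) hl⟩

/-- Extraspecial groups of exponent `p` are determined by their order. -/
theorem nonempty_mulEquiv_of_extraspecial_exponent {G' : Type*} [Group G'] [Finite G] [Finite G']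
    {p : ℕ} [hp : Fact p.Prime] (h : IsExtraspecial p G) (h' : IsExtraspecial p G')
    (he : ∀ x : G, x ^ p = 1) (he' : ∀ x : G', x ^ p = 1) (hc : Nat.card G = Nat.card G') :
    Nonempty (G ≃* G') := by
  obtain ⟨z, h1, -⟩ := IsExtraspecial.exists_xs_top h
  obtain ⟨z', h1', -⟩ := IsExtraspecial.exists_xs_top h'
  obtain ⟨n, hn⟩ := h1.exists_xdec_of_exponent fun x _ => he x
  obtain ⟨n', hn'⟩ := h1'.exists_xdec_of_exponent fun x _ => he' x
  have c1 := hn.card
  have c2 := hn'.card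
  rw [card_top, List.length_replicate] at c1 c2
  rw [c1, c2] at hc
  obtain rfl : n = n' := by
    have := Nat.pow_right_injective hp.out.two_le hc
    omega
  obtain ⟨e, -⟩ := hn.exists_mulEquiv hn'
  exact ⟨e⟩

theorem XS.sq_cases {z : G} {K : Subgroup G} (h : XS 2 z K) {x : G} (hx : x ∈ K) :
    x ^ 2 = 1 ∨ x ^ 2 = z := by
  obtain ⟨k, hk⟩ := h.pow x hx
  have h2 : z ^ (2 : ℤ) = 1 := by exact_mod_cast h.z_pow
  rw [← hk]
  rcases Int.even_or_odd' k with ⟨m, rfl | rfl⟩
  · left; simp [zpow_mul, h2]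
  · right; simp [zpow_add, zpow_mul, h2]

/-- An extraspecial `2`-group is a central product of dihedral groups of order `8` and at most one
quaternion group. -/
theorem XS.exists_xdec_two [Finite G] {z : G} {K : Subgroup G} (h : XS 2 z K)
    (hne : zpowers z ≠ K) :
    ∃ (n : ℕ) (ε : ℕ), ε ≤ 1 ∧ XDec 2 z (List.replicate n (0, 0) ++ [(ε, ε)]) K := by
  induction hn : Nat.card K using Nat.strong_induction_on generalizing K with
  | _ n ih =>
    by_cases hinv : ∃ x ∈ K, x ∉ zpowers z ∧ x ^ 2 = 1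
    · obtain ⟨x, hx, hxz, hx2⟩ := hinv
      obtain ⟨y, hy, hxy, hy2⟩ : ∃ y ∈ K, ⁅x, y⁆ = z ∧ y ^ 2 = 1 := by
        obtain ⟨y, hy, hxy⟩ := h.exists_partner hx hxz
        rcases h.sq_cases hy with h1 | h1
        · exact ⟨y, hy, hxy, h1⟩
        · refine ⟨x * y, mul_mem hx hy, ?_, ?_⟩
          · rw [commutator_mul_right_of_commute (hxy ▸ h.central x hx), hxy]
            simp
          · rw [mul_pow_eq_of_commute_commutator (hxy ▸ h.central x hx) (hxy ▸ h.central y hy),
              hx2, h1, hxy]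
            simp
      by_cases hne' : zpowers z = K ⊓ (centralizer {x} ⊓ centralizer {y})
      · exact ⟨0, 0, zero_le_one, XDec.cons x y h hx hy hxy (by simpa using hx2)
          (by simpa using hy2) (hne' ▸ XDec.nil h.ord)⟩
      · obtain ⟨m, ε, hε, hl⟩ := ih _ (hn ▸ h.card_step_lt hx hy hxy) (h.step hx hy hxy) hne' rfl
        exact ⟨m + 1, ε, hε, XDec.cons x y h hx hy hxy (by simpa using hx2)
          (by simpa using hy2) hl⟩
    · push Not at hinv
      have hsq : ∀ x ∈ K, x ∉ zpowers z → x ^ 2 = z := fun x hx hxz =>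
        (h.sq_cases hx).resolve_left (hinv x hx hxz)
      obtain ⟨x, hx, hxz⟩ := h.exists_not_mem hne
      obtain ⟨y, hy, hxy⟩ := h.exists_partner hx hxz
      have hyz : y ∉ zpowers z := fun hyz => h.z_ne_one
        (hxy ▸ commutatorElement_eq_one_iff_commute.2 (h.commute_of_mem hyz hx).symm)
      have hne' : zpowers z = K ⊓ (centralizer {x} ⊓ centralizer {y}) := by
        by_contra hne'
        obtain ⟨w, hw, hwz⟩ := (h.step hx hy hxy).exists_not_mem hne'
        have c1 : Commute w x := mem_centralizer_singleton_iff.1 hw.2.1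
        have c2 : Commute w y := mem_centralizer_singleton_iff.1 hw.2.2
        refine hinv (w * x) (mul_mem hw.1 hx) (fun hm => h.z_ne_one ?_) ?_
        · have := commutatorElement_eq_one_iff_commute.2 (h.commute_of_mem hm hy)
          rwa [commutator_mul_left_of_commute (hxy ▸ h.central w hw.1), hxy,
            commutatorElement_eq_one_iff_commute.2 c2, mul_one] at this
        · rw [c1.mul_pow, hsq w hw.1 hwz, hsq x hx hxz, ← sq, h.z_pow]
      exact ⟨0, 1, le_rfl, XDec.cons x y h hx hy hxy (by simpa using hsq x hx hxz)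
        (by simpa using hsq y hy hyz) (hne' ▸ XDec.nil h.ord)⟩

theorem IsExtraspecial.exists_xdec_two [Finite G] (h : IsExtraspecial 2 G) :
    ∃ (z : G) (n : ℕ) (ε : ℕ), ε ≤ 1 ∧ Nat.card G = 2 ^ (2 * (n + 1) + 1) ∧
      XDec 2 z (List.replicate n (0, 0) ++ [(ε, ε)]) (⊤ : Subgroup G) := by
  obtain ⟨z, h1, h2⟩ := IsExtraspecial.exists_xs_top h
  obtain ⟨n, ε, hε, hl⟩ := h1.exists_xdec_two h2
  exact ⟨z, n, ε, hε, by simpa using hl.card, hl⟩

/-- There are at most two extraspecial `2`-groups of each order. -/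
theorem extraspecial_two_classes {E₁ E₂ E₃ : Type*} [Group E₁] [Group E₂] [Group E₃] [Finite E₁]
    [Finite E₂] [Finite E₃] (h₁ : IsExtraspecial 2 E₁) (h₂ : IsExtraspecial 2 E₂)
    (h₃ : IsExtraspecial 2 E₃) (h12 : Nat.card E₁ = Nat.card E₂)
    (h23 : Nat.card E₂ = Nat.card E₃) :
    Nonempty (E₁ ≃* E₂) ∨ Nonempty (E₂ ≃* E₃) ∨ Nonempty (E₁ ≃* E₃) := by
  obtain ⟨z₁, n₁, ε₁, e₁, c₁, d₁⟩ := IsExtraspecial.exists_xdec_two h₁
  obtain ⟨z₂, n₂, ε₂, e₂, c₂, d₂⟩ := IsExtraspecial.exists_xdec_two h₂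
  obtain ⟨z₃, n₃, ε₃, e₃, c₃, d₃⟩ := IsExtraspecial.exists_xdec_two h₃
  rw [c₂, c₃] at h23
  rw [c₁, c₂] at h12
  obtain rfl : n₁ = n₂ := by
    have := Nat.pow_right_injective le_rfl h12
    omega
  obtain rfl : n₁ = n₃ := by
    have := Nat.pow_right_injective le_rfl h23
    omega
  have : ε₁ = ε₂ ∨ ε₂ = ε₃ ∨ ε₁ = ε₃ := by omega
  rcases this with rfl | rfl | rfl
  · obtain ⟨e, -⟩ := d₁.exists_mulEquiv d₂
    exact Or.inl ⟨e⟩
  · obtain ⟨e, -⟩ := d₂.exists_mulEquiv d₃
    exact Or.inr (Or.inl ⟨e⟩)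
  · obtain ⟨e, -⟩ := d₁.exists_mulEquiv d₃
    exact Or.inr (Or.inr ⟨e⟩)

end H3
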