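import Mathlib
import Cfsg.Prelude.Def_Transfer
import Cfsg.Agent.H3.Fusion

/-!
# Consequences of the transfer: focal subgroups, Grün, Tate, Thompson's transfer lemma
-/

namespace H3

open Subgroup Cfsg
open scoped Pointwise commutatorElement IsMulCommutative

variable {G : Type*} [Group G]

/-! ### focal subgroups -/

theorem mem_ker_transferFocal_iff {H : Subgroup G} [H.FiniteIndex] {x : G} (hx : x ∈ H) :
    x ∈ (transferFocal H).ker ↔ x ^ H.index ∈ focalSubgroup H := by
  rw [MonoidHom.mem_ker, show x = ((⟨x, hx⟩ : H) : G) from rfl, transferFocal_eq_pow,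
    ← QuotientGroup.mk_pow, QuotientGroup.eq_one_iff]
  rfl

theorem commutator_le_ker_transferFocal (H : Subgroup G) [H.FiniteIndex] :
    commutator G ≤ (transferFocal H).ker :=
  Abelianization.commutator_subset_ker _

theorem pow_index_mem_focal_of_mem_commutator {H : Subgroup G} [H.FiniteIndex] {x : G}
    (hx : x ∈ H) (h : x ∈ commutator G) : x ^ H.index ∈ focalSubgroup H :=
  (mem_ker_transferFocal_iff hx).mp (commutator_le_ker_transferFocal H h)

theorem focal_le_iff {H K : Subgroup G} :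
    focalSubgroup H ≤ K ↔ ∀ x ∈ H, ∀ g : G, g * x * g⁻¹ ∈ H → x⁻¹ * (g * x * g⁻¹) ∈ K := by
  rw [focalSubgroup_def, closure_le]
  constructor
  · intro h x hx g hg
    refine h ⟨mul_mem (inv_mem hx) hg, x⁻¹, inv_mem hx, g, ?_⟩
    simp [commutatorElement_def, mul_assoc]
  · rintro h _ ⟨h1, x, hx, u, rfl⟩
    have h2 : u * x⁻¹ * u⁻¹ ∈ H := by
      have := mul_mem (inv_mem hx) h1
      simpa [commutatorElement_def, mul_assoc] using this
    have := h x⁻¹ (inv_mem hx) u h2
    simpa [commutatorElement_def, mul_assoc] using this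

/-- if `W` controls fusion in `H` then the focal subgroup lies in `[H, W]` -/
theorem focal_le_commutator_of_controls {H W : Subgroup G}
    (h : ∀ x ∈ H, ∀ g : G, g * x * g⁻¹ ∈ H → ∃ w ∈ W, w * x * w⁻¹ = g * x * g⁻¹) :
    focalSubgroup H ≤ ⁅H, W⁆ := by
  rw [focal_le_iff]
  intro x hx g hg
  obtain ⟨w, hw, e⟩ := h x hx g hg
  rw [← e]
  have := commutator_mem_commutator (inv_mem hx) hw
  simpa [commutatorElement_def, mul_assoc] using this

theorem commutator_le_focal_of_le_normalizer {H W : Subgroup G}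
    (h : W ≤ normalizer (H : Set G)) : ⁅H, W⁆ ≤ focalSubgroup H := by
  rw [commutator_le]
  intro x hx w hw
  exact subset_closure ⟨le_normalizer_iff_commutator_le_left.mp h (commutator_mem_commutator hx hw),
    x, hx, w, rfl⟩

/-- The kernel of the focal transfer when the index is prime to `|H : H*|`. -/
theorem ker_transferFocal_inf_of_coprime [Finite G] {H : Subgroup G}
    (h : H.index.Coprime (Nat.card (H ⧸ focalSubgroupOf H))) :
    (transferFocal H).ker ⊓ H = focalSubgroup H ∧ (transferFocal H).ker ⊔ H = ⊤ := by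
  have hb : Function.Bijective fun y : H ⧸ focalSubgroupOf H => y ^ H.index :=
    (powCoprime h.symm).bijective
  constructor
  · ext x
    constructor
    · rintro ⟨h1, hx⟩
      have h2 : transferFocal H ((⟨x, hx⟩ : H) : G) = 1 := h1
      rw [transferFocal_eq_pow] at h2
      have h3 : ((⟨x, hx⟩ : H) : H ⧸ focalSubgroupOf H) = 1 := hb.1 (by simpa using h2)
      exact (QuotientGroup.eq_one_iff (⟨x, hx⟩ : H)).mp h3
    · intro hx
      exact ⟨(mem_ker_transferFocal_iff (focalSubgroup_le H hx)).mpr (pow_mem hx _),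
        focalSubgroup_le H hx⟩
  · rw [eq_top_iff]
    intro g _
    obtain ⟨y, hy⟩ := hb.2 (transferFocal H g)
    obtain ⟨x, rfl⟩ := QuotientGroup.mk_surjective y
    have : g * (x : G)⁻¹ ∈ (transferFocal H).ker := by
      rw [MonoidHom.mem_ker, map_mul, map_inv, transferFocal_eq_pow, ← hy, mul_inv_cancel]
    simpa using mul_mem_sup this x.2

theorem card_quotient_focal_dvd (H : Subgroup G) :
    Nat.card (H ⧸ focalSubgroupOf H) ∣ ⁅H, H⁆.relIndex H :=
  relIndex_dvd_of_le_left H (commutator_le_focalSubgroup H)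

/-- the focal subgroup theorem when `[G : H]` is prime to `|H : H'|` -/
theorem focal_eq_of_coprime [Finite G] {H : Subgroup G}
    (h : H.index.Coprime (⁅H, H⁆.relIndex H)) : focalSubgroup H = commutator G ⊓ H := by
  refine le_antisymm (le_inf (focalSubgroup_le_commutator H) (focalSubgroup_le H)) ?_
  rw [← (ker_transferFocal_inf_of_coprime
    (h.coprime_dvd_right (card_quotient_focal_dvd H))).1]
  exact inf_le_inf_right _ (commutator_le_ker_transferFocal H)

theorem focal_eq_of_hall [Finite G] {H : Subgroup G} (h : (Nat.card H).Coprime H.index) :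
    focalSubgroup H = commutator G ⊓ H :=
  focal_eq_of_coprime (h.symm.coprime_dvd_right (relIndex_dvd_card _ _))

theorem pResidual_inf_le_focal [Finite G] {n : ℕ} {H : Subgroup G} (hH : IsPGroup n H)
    (h : H.index.Coprime n) : pResidual n G ⊓ H ≤ focalSubgroup H := by
  obtain ⟨k, hk⟩ := isPGroup_iff_card_dvd_pow.mp (hH.to_quotient (focalSubgroupOf H))
  rw [← (ker_transferFocal_inf_of_coprime ((h.pow_right k).coprime_dvd_right hk)).1]
  exact inf_le_inf_right _ (pResidual_le_ker (hH.to_quotient _) _)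

theorem pResidual_inf_sylow_le_commutator [Finite G] {p : ℕ} [Fact p.Prime] (P : Sylow p G) :
    pResidual p G ⊓ P ≤ commutator G :=
  (pResidual_inf_le_focal P.2 (sylow_index_coprime P)).trans (focalSubgroup_le_commutator _)

theorem map_subtype_focal_le (N H : Subgroup G) :
    (focalSubgroup (H.subgroupOf N)).map N.subtype ≤ focalSubgroup (N ⊓ H) := by
  rw [map_le_iff_le_comap, focal_le_iff]
  intro x hx g hg
  exact focal_le_iff.mp (le_refl (focalSubgroup (N ⊓ H))) x ⟨x.2, hx⟩ g ⟨(g * x * g⁻¹).2, hg⟩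

/-- `U = O^n(G) ⊓ H` is its own focal subgroup for an `n`-subgroup `H` of index prime to `n` -/
theorem pResidual_inf_le_focal_self [Finite G] {n : ℕ} {H : Subgroup G} (hH : IsPGroup n H)
    (h : H.index.Coprime n) : pResidual n G ⊓ H ≤ focalSubgroup (pResidual n G ⊓ H) := by
  have h1 := pResidual_inf_le_focal (G := pResidual n G) (H := H.subgroupOf _) hH.comap_subtype
    (h.coprime_dvd_left (relIndex_normal_dvd_index H _))
  rw [pResidual_pResidual, top_inf_eq] at h1
  refine le_trans ?_ (map_subtype_focal_le _ H)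
  exact fun x hx => ⟨⟨x, hx.1⟩, h1 hx.2, rfl⟩

/-- if `W` controls fusion in `H` then `U = O^n(G) ⊓ H` satisfies `U ≤ [U, W]` -/
theorem pResidual_inf_le_commutator_of_controls [Finite G] {n : ℕ} {H W : Subgroup G}
    (hH : IsPGroup n H) (hi : H.index.Coprime n)
    (h : ∀ x ∈ H, ∀ g : G, g * x * g⁻¹ ∈ H → ∃ w ∈ W, w * x * w⁻¹ = g * x * g⁻¹) :
    pResidual n G ⊓ H ≤ ⁅pResidual n G ⊓ H, W⁆ :=
  (pResidual_inf_le_focal_self hH hi).trans
    (focal_le_commutator_of_controls fun x hx g hg => h x hx.2 g hg.2)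

/-- A nilpotent Hall subgroup controlling its own fusion has a normal complement. -/
theorem isComplement'_pResidual_of_no_fusion [Finite G] {n : ℕ} {H : Subgroup G}
    (hn : Group.IsNilpotent H) (hH : IsPGroup n H) (hi : H.index.Coprime n)
    (h : ∀ x ∈ H, ∀ g : G, g * x * g⁻¹ ∈ H → ∃ w ∈ H, w * x * w⁻¹ = g * x * g⁻¹) :
    (pResidual n G).IsComplement' H :=
  isComplement'_of_inf_eq_bot_of_sup_eq_top
    (H2.eq_bot_of_le_commutator_of_isNilpotent hn inf_le_right
      (pResidual_inf_le_commutator_of_controls hH hi h))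
    (pResidual_sup_eq_top_of_coprime hi)

/-- A subgroup with a normal complement controls its own fusion. -/
theorem no_fusion_of_isComplement' {N H : Subgroup G} [hN : N.Normal] (hc : N.IsComplement' H)
    {x g : G} (hx : x ∈ H) (hy : g * x * g⁻¹ ∈ H) : ∃ w ∈ H, w * x * w⁻¹ = g * x * g⁻¹ := by
  obtain ⟨⟨n, w⟩, rfl⟩ := hc.2 g
  refine ⟨w, w.2, ?_⟩
  set y : G := w * x * (w : G)⁻¹ with hy'
  have hyH : y ∈ H := mul_mem (mul_mem w.2 hx) (inv_mem w.2)
  have e : (n : G) * w * x * ((n : G) * w)⁻¹ = n * y * (n : G)⁻¹ := by rw [hy']; group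
  simp only at hy ⊢
  rw [e] at hy ⊢
  have h1 : (n : G) * y * (n : G)⁻¹ * y⁻¹ ∈ N := by
    simpa [mul_assoc] using mul_mem n.2 (hN.conj_mem _ (inv_mem n.2) y)
  have h2 : (n : G) * y * (n : G)⁻¹ * y⁻¹ = 1 :=
    disjoint_def.mp hc.disjoint h1 (mul_mem hy (inv_mem hyH))
  exact (mul_inv_eq_one.mp h2).symm

/-- A Sylow subgroup controlling its own fusion has a normal complement. -/
theorem hasNPC_of_no_fusion [Finite G] {p : ℕ} [Fact p.Prime] (P : Sylow p G)
    (h : ∀ x ∈ P, ∀ g : G, g * x * g⁻¹ ∈ P → ∃ w ∈ P, w * x * w⁻¹ = g * x * g⁻¹) :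
    HasNormalPComplement p G :=
  ⟨P, _, inferInstance,
    isComplement'_pResidual_of_no_fusion P.2.isNilpotent P.2 (sylow_index_coprime P) h⟩

/-- If `W ≥ P` controls fusion in `P` then `G' ⊓ P = W' ⊓ P`. -/
theorem commutator_inf_eq_of_controls [Finite G] {H W : Subgroup G}
    (hH : (Nat.card H).Coprime H.index) (hW : H ≤ W)
    (h : ∀ x ∈ H, ∀ g : G, g * x * g⁻¹ ∈ H → ∃ w ∈ W, w * x * w⁻¹ = g * x * g⁻¹) :
    commutator G ⊓ H = ⁅W, W⁆ ⊓ H := by
  refine le_antisymm (le_inf ?_ inf_le_right) (inf_le_inf_right _ (commutator_mono le_top le_top))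
  rw [← focal_eq_of_hall hH]
  exact (focal_le_commutator_of_controls h).trans (commutator_mono hW le_rfl)

/-- If `W ≤ N(H)` controls fusion in the Hall subgroup `H` then `G' ⊓ H = [H, W]`. -/
theorem commutator_inf_eq_commutator_of_controls [Finite G] {H W : Subgroup G}
    (hH : (Nat.card H).Coprime H.index) (hW : W ≤ normalizer (H : Set G))
    (h : ∀ x ∈ H, ∀ g : G, g * x * g⁻¹ ∈ H → ∃ w ∈ W, w * x * w⁻¹ = g * x * g⁻¹) :
    commutator G ⊓ H = ⁅H, W⁆ := by
  rw [← focal_eq_of_hall hH]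
  exact le_antisymm (focal_le_commutator_of_controls h) (commutator_le_focal_of_le_normalizer hW)

section sylow

variable [Finite G] {p : ℕ} [hp : Fact p.Prime]

theorem abelian_sylow_controls (P : Sylow p G) (hP : IsMulCommutative P) :
    ∀ x ∈ (P : Subgroup G), ∀ g : G, g * x * g⁻¹ ∈ (P : Subgroup G) →
      ∃ w ∈ normalizer (P : Set G), w * x * w⁻¹ = g * x * g⁻¹ := fun _ hx _ hg =>
  have : IsMulCommutative (P : Subgroup G) := hP
  burnside_fusion_elem P (le_centralizer (P : Subgroup G) hx) (le_centralizer (P : Subgroup G) hg)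

theorem abelian_sylow_commutator_inf (P : Sylow p G) (hP : IsMulCommutative P) :
    commutator G ⊓ P = ⁅(P : Subgroup G), normalizer (P : Set G)⁆ :=
  commutator_inf_eq_commutator_of_controls P.card_coprime_index le_rfl
    (abelian_sylow_controls P hP)

theorem abelian_sylow_pResidual_inf (P : Sylow p G) (hP : IsMulCommutative P) :
    pResidual p G ⊓ P = commutator G ⊓ P :=
  le_antisymm (le_inf (pResidual_inf_sylow_le_commutator P) inf_le_right)
    (inf_le_inf_right _ (commutator_le_pResidual_of_abelian (sylow_index_coprime P) hP))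

/-- Grün's second theorem -/
theorem gruen_second (P : Sylow p G) {Z : Subgroup G} (hZ : Z ≤ centralizer (P : Set G))
    (hW : IsWeaklyClosed Z P) {V : Subgroup G} (hV : normalizer (Z : Set G) ≤ V) :
    commutator G ⊓ P = ⁅V, V⁆ ⊓ P := by
  refine commutator_inf_eq_of_controls P.card_coprime_index ?_ fun x hx g hg => ?_
  · exact ((le_centralizer_iff.mp hZ).trans (centralizer_le_normalizer _)).trans hV
  · obtain ⟨n, hn, e⟩ := IsWeaklyClosed.controls_fusion hW hZ hx hg
    exact ⟨n, hV hn, e⟩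

end sylow

/-- a central element of `G` in `G' ⊓ H` has its `[G : H]`-th power in `H'` -/
theorem pow_index_mem_commutator_of_center {H : Subgroup G} [H.FiniteIndex] {z : G} (hz : z ∈ H)
    (hc : z ∈ center G) (h : z ∈ commutator G) : z ^ H.index ∈ ⁅H, H⁆ := by
  have h1 : MonoidHom.transfer (Abelianization.of (G := H)) z =
      Abelianization.of (⟨z, hz⟩ : H) ^ H.index :=
    transfer_eq_pow_of_forall _ z _ fun k g hk => by
      rw [← map_pow]
      congr 1
      apply Subtype.ext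
      have := mem_center_iff.mp (pow_mem hc k) g
      simp only [SubmonoidClass.mk_pow]
      rw [mul_assoc, ← this, inv_mul_cancel_left]
  have h2 : MonoidHom.transfer (Abelianization.of (G := H)) z = 1 :=
    Abelianization.commutator_subset_ker _ h
  rw [h2, ← map_pow, eq_comm, ← MonoidHom.mem_ker, Abelianization.ker_of] at h1
  rw [← map_subtype_commutator]
  exact ⟨_, h1, rfl⟩

/-- `H ⊓ G' ⊓ Z(G) ≤ H'` for a Hall subgroup `H` -/
theorem hall_inf_commutator_inf_center_le [Finite G] {H : Subgroup G}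
    (hH : (Nat.card H).Coprime H.index) : H ⊓ commutator G ⊓ center G ≤ ⁅H, H⁆ :=
  fun _ hz => mem_of_pow_mem_of_coprime (pow_index_mem_commutator_of_center hz.1.1 hz.2 hz.1.2)
    (orderOf_coprime_of_mem hH hz.1.1)

theorem abelian_hall_inf_commutator_inf_center [Finite G] {H : Subgroup G}
    (hc : IsMulCommutative H) (hH : (Nat.card H).Coprime H.index) :
    H ⊓ commutator G ⊓ center G = ⊥ :=
  le_bot_iff.mp ((hall_inf_commutator_inf_center_le hH).trans
    (commutator_self_eq_bot_iff.mpr hc).le)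

/-! ### Thompson's transfer lemma -/

theorem thompson_transfer [Finite G] (P Q : Subgroup G) (hP : Odd P.index)
    (hQi : Q.relIndex P = 2) (u : G) (hu : u * u = 1) (huP : u ∈ P) (huQ : u ∉ Q) :
    (∃ M : Subgroup G, M.Normal ∧ M.index = 2 ∧ u ∉ M) ∨ ∃ g : G, g * u * g⁻¹ ∈ Q := by
  by_cases h : ∃ g : G, g * u * g⁻¹ ∈ Q
  · exact Or.inr h
  left
  push Not at h
  have hn : (Q.subgroupOf P).Normal := normal_of_index_eq_two hQi
  have hc : Nat.card (P ⧸ Q.subgroupOf P) = 2 := hQi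
  have : Fact (Nat.Prime 2) := ⟨Nat.prime_two⟩
  have hcyc : IsCyclic (P ⧸ Q.subgroupOf P) := isCyclic_of_prime_card hc
  let φ : P →* P ⧸ Q.subgroupOf P := QuotientGroup.mk' _
  have hφ : ∀ x : P, φ x = 1 ↔ (x : G) ∈ Q := fun x => QuotientGroup.eq_one_iff x
  have ha : φ ⟨u, huP⟩ ≠ 1 := fun e => huQ ((hφ _).mp e)
  have huniq : ∀ b : P ⧸ Q.subgroupOf P, b ≠ 1 → b = φ ⟨u, huP⟩ := fun b hb => by
    obtain ⟨y, -, hy⟩ := (Nat.card_eq_two_iff' (1 : P ⧸ Q.subgroupOf P)).mp hc
    rw [hy b hb, hy _ ha]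
  have ha2 : φ ⟨u, huP⟩ ^ 2 = 1 := by rw [← hc]; exact pow_card_eq_one'
  have hu2 : u ^ 2 = 1 := by rw [sq, hu]
  have key : MonoidHom.transfer φ u = φ ⟨u, huP⟩ ^ P.index := by
    refine transfer_eq_pow_of_forall φ u _ fun k g hk => ?_
    rcases Nat.even_or_odd' k with ⟨j, rfl | rfl⟩
    · rw [pow_mul (φ _), ha2, one_pow, hφ]
      simp [pow_mul, hu2]
    · rw [pow_succ (φ _), pow_mul (φ _), ha2, one_pow, one_mul]
      refine huniq _ fun e => h g⁻¹ ?_
      simpa [pow_succ, pow_mul, hu2] using (hφ _).mp e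
  obtain ⟨j, hj⟩ := hP
  rw [hj, pow_succ, pow_mul, ha2, one_pow, one_mul] at key
  refine ⟨(MonoidHom.transfer φ).ker, inferInstance, ?_, fun e => ha (key ▸ e)⟩
  rw [index_ker]
  have h1 : Nat.card (MonoidHom.transfer φ).range ∣ 2 := hc ▸ card_subgroup_dvd_card _
  refine ((Nat.dvd_prime Nat.prime_two).mp h1).resolve_left fun e => ha ?_
  rw [card_eq_one] at e
  exact mem_bot.mp (e ▸ ⟨u, key⟩)

/-! ### Tate's theorem -/

/-- The homomorphism behind Tate's theorem (Gagola–Isaacs). -/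
theorem tate_hom [Finite G] {n : ℕ} (K H : Subgroup G) [hKn : K.Normal] (hK : pResidual n K = ⊤)
    {B : Type*} [Group B] (f : H →* B) (Z : Subgroup B) (hZ : Z ≤ center B) (hZn : IsPGroup n Z)
    (hU : ∀ u : H, (u : G) ∈ K → f u ∈ Z) :
    ∃ (m : ℕ) (ψ : H →* Z), m ∣ H.index ∧ ∀ u : H, (u : G) ∈ K → (ψ u : B) = f u ^ m := by
  have hZc : IsMulCommutative Z :=
    ⟨⟨fun a b => Subtype.ext (mem_center_iff.mp (hZ b.2) a)⟩⟩
  let Γ : Subgroup (G × H) :=
    { carrier := {x | x.1 * (x.2 : G)⁻¹ ∈ K}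
      one_mem' := by simp
      mul_mem' := fun {a b} ha hb => by
        have := mul_mem ha (hKn.conj_mem _ hb a.2)
        simpa [mul_assoc] using this
      inv_mem' := fun {a} ha => by
        have := hKn.conj_mem _ (inv_mem ha) a.1⁻¹
        simpa [mul_assoc] using this }
  let π : Γ →* G := (MonoidHom.fst G H).comp Γ.subtype
  let Δ : Subgroup Γ := H.comap π
  have hmem : ∀ x : Δ, f (⟨x.1.1.1, x.2⟩ * x.1.1.2⁻¹) ∈ Z := fun x => hU _ x.1.2
  let φ : Δ →* Z := MonoidHom.mk' (fun x => ⟨f (⟨x.1.1.1, x.2⟩ * x.1.1.2⁻¹), hmem x⟩)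
    fun a b => Subtype.ext (by
      have h1 := mem_center_iff.mp (hZ (hmem b)) (f a.1.1.2⁻¹)
      have e1 : (⟨(a * b).1.1.1, (a * b).2⟩ : H) = ⟨a.1.1.1, a.2⟩ * ⟨b.1.1.1, b.2⟩ := rfl
      have e2 : (a * b).1.1.2 = a.1.1.2 * b.1.1.2 := rfl
      show f (⟨(a * b).1.1.1, (a * b).2⟩ * (a * b).1.1.2⁻¹) =
        f (⟨a.1.1.1, a.2⟩ * a.1.1.2⁻¹) * f (⟨b.1.1.1, b.2⟩ * b.1.1.2⁻¹)
      rw [e1, e2]
      simp only [mul_inv_rev, map_mul] at h1 ⊢
      rw [mul_assoc, mul_assoc, ← mul_assoc (f ⟨b.1.1.1, b.2⟩), ← h1])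
  let V := MonoidHom.transfer φ
  let ι : K →* Γ := MonoidHom.mk' (fun k => ⟨(k, 1), by
    show (k : G) * ((1 : H) : G)⁻¹ ∈ K
    simp⟩) fun a b => Subtype.ext (by simp)
  have hι : ∀ k, V (ι k) = 1 := fun k => by
    have := pResidual_le_ker hZn (V.comp ι) (hK ▸ mem_top k)
    exact this
  let δ : H →* Γ := MonoidHom.mk' (fun h => ⟨(h, h), by
    show (h : G) * (h : G)⁻¹ ∈ K
    simp⟩) fun a b => Subtype.ext (by simp)
  refine ⟨Δ.index, (V.comp δ)⁻¹, ?_, fun u hu => ?_⟩
  · rw [index_comap]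
    exact relIndex_dvd_index_of_le fun h hh => ⟨δ ⟨h, hh⟩, rfl⟩
  · let y : Γ := ⟨(1, u), by
      show (1 : G) * (u : G)⁻¹ ∈ K
      simpa using hu⟩
    have e : δ u = ι ⟨u, hu⟩ * y := Subtype.ext (by simp [δ, ι, y])
    have hy : V y = (⟨f u, hU u hu⟩ : Z)⁻¹ ^ Δ.index := by
      refine transfer_eq_pow_of_forall φ y _ fun k g hk => Subtype.ext ?_
      have e1 : (⟨(g⁻¹ * y ^ k * g).1.1, hk⟩ : H) = 1 := Subtype.ext (by simp [y])
      have e2 : (g⁻¹ * y ^ k * g).1.2 = g.1.2⁻¹ * u ^ k * g.1.2 := by simp [y]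
      have h1 := mem_center_iff.mp (hZ (pow_mem (hU u hu) k)) (f g.1.2)
      show f (⟨(g⁻¹ * y ^ k * g).1.1, hk⟩ * (g⁻¹ * y ^ k * g).1.2⁻¹) = _
      rw [e1, e2, one_mul, map_inv, map_mul, map_mul, map_inv, map_pow, mul_assoc, ← h1]
      simp
    rw [MonoidHom.inv_apply, MonoidHom.comp_apply, e, map_mul, hι, one_mul, hy]
    simp

/-- Tate, general form: with `U = K ⊓ H`, `K = O^n(K)` normal and `[G : H]` prime to `n`, for a
normal subgroup `X` of `H` with `[U, H] ≤ X` and `U X / X` an `n`-group there is a normal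
subgroup `M ≥ H'` of `H` with `U M = H` and `U ⊓ M ≤ X`. -/
theorem tate_exists [Finite G] {n : ℕ} (K H : Subgroup G) [K.Normal] (hK : pResidual n K = ⊤)
    (hi : H.index.Coprime n) (X : Subgroup H) [X.Normal] (hX : ⁅K.subgroupOf H, ⊤⁆ ≤ X)
    (hn : IsPGroup n ((K.subgroupOf H).map (QuotientGroup.mk' X))) :
    ∃ M : Subgroup H, M.Normal ∧ commutator H ≤ M ∧ pResidual n H ≤ M ∧
      K.subgroupOf H ⊔ M = ⊤ ∧ K.subgroupOf H ⊓ M ≤ X := by
  set Z := (K.subgroupOf H).map (QuotientGroup.mk' X)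
  have hZ : Z ≤ center _ := by
    rw [← commutator_top_right_eq_bot_iff_le_center,
      ← map_top_of_surjective _ (QuotientGroup.mk'_surjective X), ← map_commutator,
      H2.map_mk'_eq_bot_iff]
    exact hX
  have hZc : IsMulCommutative Z :=
    ⟨⟨fun a b => Subtype.ext (mem_center_iff.mp (hZ b.2) a)⟩⟩
  obtain ⟨m, ψ, hm, hψ⟩ := tate_hom K H hK (QuotientGroup.mk' X) Z hZ hn
    fun u hu => mem_map_of_mem _ hu
  have hb : Function.Bijective fun z : Z => z ^ m :=
    (hn.powEquiv (hi.symm.coprime_dvd_right hm)).bijective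
  refine ⟨ψ.ker, inferInstance, Abelianization.commutator_subset_ker _, pResidual_le_ker hn _,
    ?_, ?_⟩
  · rw [eq_top_iff]
    intro h _
    obtain ⟨⟨_, u, hu, rfl⟩, hz⟩ := hb.2 (ψ h)
    have h1 : ψ u = ψ h := Subtype.ext (by rw [hψ u hu, ← hz]; rfl)
    have h2 : u⁻¹ * h ∈ ψ.ker := by rw [MonoidHom.mem_ker, map_mul, map_inv, h1, inv_mul_cancel]
    simpa using mul_mem_sup hu h2
  · rintro u ⟨hu, h1⟩
    have h2 : (⟨QuotientGroup.mk' X u, mem_map_of_mem _ hu⟩ : Z) = 1 := hb.1 (Subtype.ext (by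
      have := hψ u hu
      rw [MonoidHom.mem_ker.mp h1] at this
      simpa using this.symm))
    exact (QuotientGroup.eq_one_iff u).mp (congrArg Subtype.val h2)

section tate

variable [Finite G] {p : ℕ} [hp : Fact p.Prime]

/-- **Tate's theorem**: if `[G : H]` is prime to `p` and `O^p(G) ⊓ H` is contained in every normal
subgroup `M ≥ H' O^p(H)` of `H` supplementing it, then `O^p(G) ⊓ H = O^p(H)`. -/
theorem tate_of_forall (K H : Subgroup G) [K.Normal] (hK : pResidual p K = ⊤)
    (hi : H.index.Coprime p)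
    (h : ∀ M : Subgroup H, M.Normal → commutator H ≤ M → pResidual p H ≤ M →
      K.subgroupOf H ⊔ M = ⊤ → K.subgroupOf H ≤ M) : K.subgroupOf H ≤ pResidual p H := by
  set U := K.subgroupOf H
  obtain ⟨M, h1, h2, h3, h4, h5⟩ := tate_exists K H hK hi (⁅U, ⊤⁆ ⊔ pResidual p H) le_sup_left
    ((isPGroup_quotient_of_pResidual_le _ le_sup_right).to_subgroup _)
  rw [inf_eq_left.mpr (h M h1 h2 h3 h4)] at h5
  rw [← H2.map_mk'_eq_bot_iff]
  have hnil := (isPGroup_quotient_pResidual p H).isNilpotent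
  refine H2.eq_bot_of_le_commutator_of_isNilpotent (K := ⊤) inferInstance le_top ?_
  refine (map_mono h5).trans ?_
  rw [Subgroup.map_sup, map_commutator, H2.map_mk'_eq_bot_iff.mpr le_rfl, sup_bot_eq]
  exact commutator_mono le_rfl le_top

/-- Tate: control of abelian `p`-quotients implies control of all `p`-quotients. -/
theorem tate_pResidual_inf_eq (P : Sylow p G) {V : Subgroup G} (hV : (P : Subgroup G) ≤ V)
    (h : pResidual p G ⊓ P ≤ ⁅V, V⁆ ⊔ (pResidual p V).map V.subtype) :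
    pResidual p G ⊓ V = (pResidual p V).map V.subtype := by
  refine le_antisymm ?_ (map_subtype_pResidual_le p V)
  have key := tate_of_forall (pResidual p G) V (pResidual_pResidual p G)
    ((sylow_index_coprime P).coprime_dvd_left (index_dvd_of_le hV)) fun M _ h2 h3 _ u hu => by
      obtain ⟨r, hr, y, hy, rfl⟩ := mem_sup_of_normal_left.mp
        (pResidual_sup_sylow (P.subtype hV) ▸ mem_top u)
      have h4 : (y : G) ∈ pResidual p G := by
        have h5 : (r : G) ∈ pResidual p G := map_pResidual_le p V.subtype (mem_map_of_mem _ hr)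
        exact (mul_mem_cancel_left h5).mp hu
      have h6 := h ⟨h4, hy⟩
      rw [← map_subtype_commutator, ← Subgroup.map_sup] at h6
      obtain ⟨y', hy', e⟩ := h6
      rw [show y' = y from Subtype.ext e] at hy'
      exact mul_mem (h3 hr) (sup_le h2 h3 hy')
  exact fun x hx => ⟨⟨x, hx.2⟩, key hx.1, rfl⟩

/-- Tate's normal `p`-complement theorem -/
theorem tate_hasNPC (P : Sylow p G) (N : Subgroup G) [N.Normal]
    (h : N ⊓ (P : Subgroup G) ≤ (frattini P).map (P : Subgroup G).subtype) :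
    HasNormalPComplement p N := by
  set K := (pResidual p N).map N.subtype with hKdef
  have hKN : K ≤ N := map_subtype_le _
  have hK : pResidual p K = ⊤ := by
    apply map_injective K.subtype_injective
    rw [← MonoidHom.range_eq_map, range_subtype, map_subtype_pResidual_eq_closure]
    refine le_antisymm (closure_le _ |>.mpr fun g hg => hg.1) ?_
    conv_lhs => rw [hKdef, map_subtype_pResidual_eq_closure]
    exact closure_mono fun g hg => ⟨mem_map_subtype_pResidual hg.1 hg.2, hg.2⟩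
  have key := tate_of_forall K P hK (sylow_index_coprime P) fun M _ _ _ h4 => by
    have h5 : K.subgroupOf P ≤ frattini P := fun u hu => by
      obtain ⟨v, hv, e⟩ := h ⟨hKN hu, u.2⟩
      rwa [← show v = u from Subtype.ext e]
    have h6 : M = ⊤ := frattini_nongenerating (by
      rw [eq_top_iff, ← h4, sup_comm]
      exact sup_le_sup_left h5 M)
    rw [h6]
    exact le_top
  rw [pResidual_eq_bot_iff.mpr P.2, le_bot_iff, subgroupOf_eq_bot, disjoint_iff] at key
  exact hasNPC_subgroup_iff.mpr (card_coprime_of_inf_sylow_eq_bot P K key)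

end tate

end H3
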