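import Mathlib
import Cfsg.Prelude.Def_Transfer
import Cfsg.Agent.H3.Transfer
import Cfsg.Agent.H2.Frattini
import Cfsg.Agent.H22.Alperin

/-!
# Frobenius' normal `p`-complement theorem and criteria for normal complements
-/

namespace H3

open Subgroup Cfsg
open scoped Pointwise commutatorElement IsMulCommutative

universe u

variable {G : Type*} [Group G]

section frobenius

variable [Finite G] {p : ℕ} [hp : Fact p.Prime]

/-- **Frobenius' normal `p`-complement theorem** -/
theorem frobenius_hasNPC (P : Sylow p G)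
    (h : ∀ Q : Subgroup G, Q ≤ (P : Subgroup G) → ∀ g ∈ normalizer (Q : Set G),
      (orderOf g).Coprime p → g ∈ centralizer (Q : Set G)) : HasNormalPComplement p G :=
  hasNPC_of_no_fusion P fun x hx g hg =>
    H22.alperin_rel P (fun a b => ∃ w ∈ P, w * a * w⁻¹ = b)
      (by
        rintro a _ ⟨w, hw, rfl⟩
        exact ⟨w⁻¹, inv_mem hw, by group⟩)
      (by
        rintro a _ _ ⟨w, hw, rfl⟩ ⟨v, hv, rfl⟩
        exact ⟨v * w, mul_mem hv hw, by group⟩)
      (fun _ _ s hs => ⟨s, hs, rfl⟩)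
      (fun X hX _ _ ⟨g, h1, h2, h3⟩ => absurd (h X hX g h1 h2) h3) hx hg

theorem hasNPC_iff_frobenius (P : Sylow p G) :
    HasNormalPComplement p G ↔ ∀ Q : Subgroup G, Q ≤ (P : Subgroup G) →
      ∀ g ∈ normalizer (Q : Set G), (orderOf g).Coprime p → g ∈ centralizer (Q : Set G) :=
  ⟨fun h _ hQ _ hg ho => HasNPC.mem_centralizer h (P.2.to_le hQ) hg ho, frobenius_hasNPC P⟩

/-- Frobenius' theorem, local form (only subgroups of a fixed Sylow subgroup are needed) -/
theorem hasNPC_of_local_le (P : Sylow p G)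
    (h : ∀ Q : Subgroup G, Q ≤ (P : Subgroup G) → Q ≠ ⊥ →
      HasNormalPComplement p (normalizer (Q : Set G))) : HasNormalPComplement p G :=
  frobenius_hasNPC P fun Q hQ g hg ho => by
    by_cases h1 : Q = ⊥
    · rw [h1, mem_centralizer_iff]
      intro x hx
      rw [show x = 1 from hx, one_mul, mul_one]
    · exact HasNPC.mem_centralizer_of_mem (h Q hQ h1) (P.2.to_le hQ) le_normalizer hg hg ho

theorem hasNPC_of_local
    (h : ∀ Q : Subgroup G, IsPGroup p Q → Q ≠ ⊥ →
      HasNormalPComplement p (normalizer (Q : Set G))) : HasNormalPComplement p G := by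
  obtain ⟨P⟩ : Nonempty (Sylow p G) := inferInstance
  exact hasNPC_of_local_le P fun Q hQ => h Q (P.2.to_le hQ)

end frobenius

/-- If an element `g` lies outside a subgroup `C` then so does a power of `g` of prime power
order. -/
theorem exists_primePow_not_mem [Finite G] {C : Subgroup G} {g : G} (hg : g ∉ C) :
    ∃ x ∈ zpowers g, x ∉ C ∧ ∃ q k : ℕ, q.Prime ∧ q ∣ orderOf g ∧ x ^ q ^ k = 1 := by
  by_contra hne
  push Not at hne
  refine hg (H2.le_of_forall_sylow_le (K := zpowers g) (fun q hq => ?_) (mem_zpowers g))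
  obtain ⟨Q⟩ : Nonempty (Sylow q (zpowers g)) := inferInstance
  refine ⟨Q, ?_⟩
  rintro _ ⟨x, hx, rfl⟩
  by_contra hxC
  obtain ⟨k, hk⟩ := Q.2 ⟨x, hx⟩
  have hk' : (x : G) ^ q ^ k = 1 := congrArg (fun y : Q => ((y : zpowers g) : G)) hk
  refine hne x x.2 hxC q k hq.out ?_ hk'
  have h1 : (x : G) ≠ 1 := fun e => hxC (by simp [e])
  have h2 : q ∣ orderOf (x : G) := by
    obtain ⟨j, -, hj⟩ := (Nat.dvd_prime_pow hq.out).mp (orderOf_dvd_of_pow_eq_one hk')
    rcases j with _ | j
    · exact absurd (orderOf_eq_one_iff.mp hj) h1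
    · exact hj ▸ dvd_pow_self q j.succ_ne_zero
  exact h2.trans (orderOf_dvd_of_mem_zpowers x.2)

/-- Frobenius' theorem with elements of prime power order -/
theorem exists_of_not_hasNPC [Finite G] {p : ℕ} [hp : Fact p.Prime] (P : Sylow p G)
    (h : ¬ HasNormalPComplement p G) :
    ∃ Q : Subgroup G, Q ≤ (P : Subgroup G) ∧ ∃ (g : G) (q k : ℕ), q.Prime ∧ q ≠ p ∧
      g ^ q ^ k = 1 ∧ g ∈ normalizer (Q : Set G) ∧ g ∉ centralizer (Q : Set G) := by
  rw [hasNPC_iff_frobenius P] at h
  push Not at h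
  obtain ⟨Q, hQ, g, hg, ho, hc⟩ := h
  obtain ⟨x, hx, hxc, q, k, hq, hd, hk⟩ := exists_primePow_not_mem hc
  refine ⟨Q, hQ, x, q, k, hq, ?_, hk, zpowers_le.mpr hg hx, hxc⟩
  rintro rfl
  exact hq.one_lt.ne' (Nat.eq_one_of_dvd_coprimes ho hd dvd_rfl)

/-- Itô's theorem on minimal non-`p`-nilpotent groups -/
theorem ito_minimal [Finite G] {p : ℕ} [hp : Fact p.Prime] (h1 : ¬ HasNormalPComplement p G)
    (h2 : ∀ H : Subgroup G, H ≠ ⊤ → HasNormalPComplement p H) :
    (∀ H : Subgroup G, H ≠ ⊤ → Group.IsNilpotent H) ∧ (∀ P : Sylow p G, (P : Subgroup G).Normal) ∧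
      ∃ q : ℕ, q.Prime ∧ q ≠ p ∧ ∃ g : G, IsPGroup q (zpowers g) ∧
        ∀ P : Sylow p G, (P : Subgroup G) ⊔ zpowers g = ⊤ := by
  obtain ⟨P⟩ : Nonempty (Sylow p G) := inferInstance
  obtain ⟨Q, hQ, g, q, k, hq, hqp, hk, hn, hc⟩ := exists_of_not_hasNPC P h1
  have : Fact q.Prime := ⟨hq⟩
  have hgq : IsPGroup q (zpowers g) := IsPGroup.of_card_dvd_pow (n := k) (by
    rw [Nat.card_zpowers]; exact orderOf_dvd_of_pow_eq_one hk)
  have hcop : (Nat.card (zpowers g)).Coprime p := H2.IsPGroup.card_coprime_of_ne hgq hqp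
  have htop : Q ⊔ zpowers g = ⊤ := by
    by_contra hne
    exact hc (HasNPC.mem_centralizer_of_mem (h2 _ hne) (P.2.to_le hQ) le_sup_left
      (mem_sup_right (mem_zpowers g)) hn (by rwa [← Nat.card_zpowers]))
  have hQn : Q.Normal := by
    rw [← normalizer_eq_top_iff, eq_top_iff, ← htop]
    exact sup_le le_normalizer (zpowers_le.mpr hn)
  have hQP : Q = P := le_antisymm hQ (H2.le_of_isPGroup_of_le_sup_coprime P.2 hcop (htop ▸ le_top))
  have hPn : (P : Subgroup G).Normal := hQP ▸ hQn
  have hall : ∀ R : Sylow p G, R = P := fun R =>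
    have := P.unique_of_normal hPn
    Subsingleton.elim _ _
  refine ⟨fun H hH => ?_, fun R => hall R ▸ hPn, q, hq, hqp, g, hgq,
    fun R => hall R ▸ hQP ▸ htop⟩
  have hqG : IsPGroup q (G ⧸ (P : Subgroup G)) := by
    have h3 := hgq.map (QuotientGroup.mk' (P : Subgroup G))
    have h4 : (zpowers g).map (QuotientGroup.mk' (P : Subgroup G)) = ⊤ := by
      apply comap_injective (QuotientGroup.mk'_surjective _)
      rw [H2.comap_map_mk', sup_comm, comap_top, ← hQP, htop]
    rw [h4] at h3
    exact h3.of_equiv topEquiv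
  have hK : IsPGroup q (pResidual p H) := by
    refine hqG.of_injective ((QuotientGroup.mk' _).comp (H.subtype.comp (Subgroup.subtype _))) ?_
    rw [injective_iff_map_eq_one]
    intro x hx
    have h5 : ((x : H) : G) ∈ (P : Subgroup G) := (QuotientGroup.eq_one_iff _).mp hx
    have h6 := hasNPC_iff_forall_orderOf.mp (h2 H hH) x x.2
    exact Subtype.ext (Subtype.ext (eq_one_of_mem_of_coprime P.2 h5 (by rwa [orderOf_coe])))
  have h7 : pResidual p H ≤ fittingSubgroup H :=
    H2.le_fitting inferInstance hK.isNilpotent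
  obtain ⟨R⟩ : Nonempty (Sylow p H) := inferInstance
  have h8 : (R : Subgroup H) ≤ fittingSubgroup H := by
    refine le_trans ?_ (H2.le_fitting (N := (P : Subgroup G).subgroupOf H) inferInstance
      P.2.comap_subtype.isNilpotent)
    obtain ⟨R', hR'⟩ := R.exists_comap_subtype_eq
    rw [← hR', hall R']
    exact le_rfl
  have h9 : fittingSubgroup H = ⊤ := eq_top_iff.mpr (pResidual_sup_sylow R ▸ sup_le h7 h8)
  have h10 : Group.IsNilpotent (fittingSubgroup H) := inferInstance
  rw [h9] at h10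
  exact Group.nilpotent_of_mulEquiv topEquiv

/-! ### automorphisms of prime order -/

/-- an element `g` normalizing `P` with `g ^ q ^ k` trivial fixes `|P|` points modulo `q` -/
theorem card_modEq_card_inf_centralizer [Finite G] {q k : ℕ} (hq : q.Prime) {P : Subgroup G}
    {g : G} (hg : g ∈ normalizer (P : Set G)) (hk : g ^ q ^ k = 1) :
    Nat.card P ≡ Nat.card ↥(P ⊓ centralizer {g}) [MOD q] := by
  have : Fact q.Prime := ⟨hq⟩
  have hgq : IsPGroup q (zpowers (⟨g, hg⟩ : normalizer (P : Set G))) :=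
    IsPGroup.of_card_dvd_pow (n := k) (by
      rw [Nat.card_zpowers]; exact orderOf_dvd_of_pow_eq_one (Subtype.ext hk))
  have h := hgq.card_modEq_card_fixedPoints P
  refine h.trans ?_
  suffices e : Nat.card (MulAction.fixedPoints (zpowers (⟨g, hg⟩ : normalizer (P : Set G))) P) =
      Nat.card ↥(P ⊓ centralizer {g}) by rw [e]
  have key : ∀ x : P, x ∈ MulAction.fixedPoints (zpowers (⟨g, hg⟩ : normalizer (P : Set G))) P ↔
      (x : G) ∈ centralizer {g} := by
    intro x
    rw [mem_centralizer_singleton_iff, MulAction.mem_fixedPoints]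
    constructor
    · intro h
      have h1 : g * x * g⁻¹ = x := congrArg Subtype.val (h ⟨_, mem_zpowers _⟩)
      rw [mul_inv_eq_iff_eq_mul] at h1
      exact h1.symm
    · rintro h ⟨⟨y, hy⟩, n, hn⟩
      apply Subtype.ext
      have h1 : y = g ^ n := (congrArg Subtype.val hn).symm
      show y * x * y⁻¹ = x
      rw [mul_inv_eq_iff_eq_mul, h1]
      exact (Commute.zpow_right h n).symm
  exact Nat.card_congr
    { toFun := fun x => ⟨x.1, x.1.2, (key _).mp x.2⟩
      invFun := fun x => ⟨⟨x.1, x.2.1⟩, (key _).mpr x.2.2⟩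
      left_inv := fun _ => rfl
      right_inv := fun _ => rfl }

/-- Burnside's theorem applies when no prime `q ≠ p` dividing `|G|` can act on the abelian Sylow
subgroup `P`. -/
theorem hasNPC_of_abelian_of_no_prime [Finite G] {p : ℕ} [hp : Fact p.Prime] (P : Sylow p G)
    (hP : IsMulCommutative P)
    (h : ∀ q d : ℕ, q.Prime → q ≠ p → q ∣ Nat.card G → d ∣ Nat.card P → d < Nat.card P →
      ¬ q ∣ Nat.card P - d) : HasNormalPComplement p G := by
  have hP' : IsMulCommutative (P : Subgroup G) := hP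
  refine hasNPC_of_normalizer_le_centralizer P fun g hg => ?_
  by_contra hc
  obtain ⟨x, hx, hxc, q, k, hq, hd, hk⟩ := exists_primePow_not_mem hc
  have hxn : x ∈ normalizer (P : Set G) := zpowers_le.mpr hg hx
  by_cases hqp : q = p
  · subst hqp
    have h1 : IsPGroup q (zpowers x) := IsPGroup.of_card_dvd_pow (n := k) (by
      rw [Nat.card_zpowers]; exact orderOf_dvd_of_pow_eq_one hk)
    have h2 : x ∈ zpowers x ⊓ normalizer (P : Set G) := ⟨mem_zpowers x, hxn⟩
    rw [h1.inf_normalizer_sylow] at h2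
    exact hxc (le_centralizer (P : Subgroup G) h2.2)
  · have h1 := card_modEq_card_inf_centralizer (P := (P : Subgroup G)) hq hxn hk
    have h2 : (P : Subgroup G) ⊓ centralizer {x} < P := lt_of_le_of_ne inf_le_left fun e => hxc (by
      rw [mem_centralizer_iff]
      intro y hy
      exact mem_centralizer_singleton_iff.mp (inf_eq_left.mp e hy))
    have h3 := H2.card_lt_of_lt h2
    exact h q _ hq hqp (hd.trans (orderOf_dvd_natCard g)) (card_dvd_of_le inf_le_left) h3
      ((Nat.modEq_iff_dvd' h3.le).mp h1.symm)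

/-- a simple group that is not a `p`-group and whose order is divisible by `p` has no normal
`p`-complement -/
theorem not_hasNPC_of_isSimpleGroup [Finite G] [IsSimpleGroup G] {p : ℕ} [hp : Fact p.Prime]
    (hd : p ∣ Nat.card G) (hG : ∃ x y : G, x * y ≠ y * x) : ¬ HasNormalPComplement p G := by
  intro h
  rcases IsSimpleGroup.eq_bot_or_eq_top_of_normal (pResidual p G) inferInstance with h1 | h1
  · have h2 := pResidual_eq_bot_iff.mp h1
    have h3 := h2.bot_lt_center
    have h4 := (IsSimpleGroup.eq_bot_or_eq_top_of_normal (center G) inferInstance).resolve_left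
      h3.ne'
    obtain ⟨x, y, hxy⟩ := hG
    exact hxy (mem_center_iff.mp (h4 ▸ mem_top y) x)
  · have h2 := hasNPC_iff_coprime.mp h
    rw [h1, card_top] at h2
    exact hp.out.one_lt.ne' (Nat.eq_one_of_dvd_coprimes h2 hd dvd_rfl)

/-! ### cyclic Sylow subgroups -/

theorem le_frattini_of_isCyclic [Finite G] {p : ℕ} [hp : Fact p.Prime] (hG : IsPGroup p G)
    (hc : IsCyclic G) {U : Subgroup G} (hU : U ≠ ⊤) : U ≤ frattini G := by
  obtain ⟨g, hg⟩ := IsCyclic.exists_generator (α := G)
  intro u hu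
  obtain ⟨k, rfl⟩ := hg u
  by_cases hk : (p : ℤ) ∣ k
  · obtain ⟨j, rfl⟩ := hk
    have := H2.IsPGroup.pow_mem_frattini hG (g ^ j)
    rwa [← zpow_natCast, ← zpow_mul, mul_comm] at this
  · exfalso
    refine hU (eq_top_iff.mpr fun x _ => zpowers_le.mpr ?_ (hg x))
    obtain ⟨n, hn⟩ := hG g
    have h1 : IsCoprime ((p : ℤ) ^ n) k :=
      ((Nat.prime_iff_prime_int.mp hp.out).coprime_iff_not_dvd.mpr hk).pow_left
    obtain ⟨a, b, hab⟩ := h1
    have h2 : g = (g ^ k) ^ b := by
      have h3 : g ^ ((p : ℤ) ^ n) = 1 := by rw [← hn, ← zpow_natCast]; simp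
      conv_lhs => rw [← zpow_one g, ← hab, zpow_add, mul_comm a, zpow_mul, h3, one_zpow, one_mul,
        mul_comm b, zpow_mul]
    rw [h2]
    exact zpow_mem hu b

theorem hasNPC_or_pResidual_eq_top_of_isCyclic [Finite G] {p : ℕ} [hp : Fact p.Prime]
    (P : Sylow p G) (hP : IsCyclic P) : HasNormalPComplement p G ∨ pResidual p G = ⊤ := by
  by_cases h : (P : Subgroup G) ≤ pResidual p G
  · right
    rw [← pResidual_sup_sylow P, sup_eq_left.mpr h]
  · left
    refine hasNPC_of_pResidual_le le_rfl (tate_hasNPC P _ fun x hx => ?_)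
    have h1 : (pResidual p G).subgroupOf P ≠ ⊤ := fun e => h (subgroupOf_eq_top.mp e)
    exact ⟨⟨x, hx.2⟩, le_frattini_of_isCyclic P.2 hP h1 hx.1, rfl⟩

/-! ### central Sylow subgroups of subgroups -/

/-- If `A` is a central Sylow `p`-subgroup of `C` then `C = A × O^p(C)`. -/
theorem hasNPC_of_central_relSylow [Finite G] {p : ℕ} [hp : Fact p.Prime] {A C : Subgroup G}
    (hA : IsPGroup p A) (hi : ¬ p ∣ A.relIndex C) (hC : C ≤ centralizer (A : Set G)) :
    HasNormalPComplement p C := by
  refine hasNPC_of_normalizer_le_centralizer ((hA.comap_subtype (K := C)).toSylow hi) fun x _ => ?_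
  rw [mem_centralizer_iff]
  intro y hy
  exact Subtype.ext (hC x.2 y hy)

theorem map_pResidual_sup_of_relSylow [Finite G] {n : ℕ} {A C : Subgroup G} (hAC : A ≤ C)
    (hi : (A.relIndex C).Coprime n) : (pResidual n C).map C.subtype ⊔ A = C := by
  have h := congrArg (Subgroup.map C.subtype) (pResidual_sup_eq_top_of_coprime (G := C) hi)
  rwa [Subgroup.map_sup, map_subgroupOf_eq_of_le hAC, ← MonoidHom.range_eq_map,
    range_subtype] at h

/-! ### nilpotent Hall subgroups -/

/-- Wielandt: two nilpotent Hall subgroups of the same order are conjugate. -/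
theorem nilpotent_hall_conj {G : Type u} [Group G] [Finite G] (H K : Subgroup G)
    (hH : Group.IsNilpotent H) (hK : Group.IsNilpotent K) (hc : (Nat.card H).Coprime H.index)
    (he : Nat.card H = Nat.card K) : ∃ g : G, MulAut.conj g • H = K := by
  induction hn : Nat.card G using Nat.strong_induction_on generalizing G with
  | _ n ih =>
  by_cases h1 : H = ⊥
  · rw [h1, card_bot, eq_comm, card_eq_one] at he
    exact ⟨1, by rw [conj_one_smul, h1, he]⟩
  obtain ⟨p, hp, hd⟩ := H2.exists_prime_dvd_card_of_ne_bot h1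
  have : Fact p.Prime := ⟨hp⟩
  have hiK : K.index = H.index := Nat.eq_of_mul_eq_mul_left Nat.card_pos
    (by rw [K.card_mul_index, ← he, H.card_mul_index])
  -- Sylow subgroups of `G` inside nilpotent Hall subgroups
  have key : ∀ L : Subgroup G, Group.IsNilpotent L → L.index = H.index →
      ∃ P : Sylow p G, (P : Subgroup G) ≤ L ∧ L ≤ normalizer (P : Set G) := by
    intro L hL hi
    obtain ⟨R⟩ : Nonempty (Sylow p L) := inferInstance
    have hR : (R : Subgroup L).Normal := H2.isNilpotent_iff_forall_sylow_normal.mp hL p this R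
    have h2 : ¬ p ∣ ((R : Subgroup L).map L.subtype).index := by
      rw [index_map_subtype, hi]
      exact hp.not_dvd_mul R.not_dvd_index
        fun h => hp.one_lt.ne' (Nat.eq_one_of_dvd_coprimes hc hd h)
    refine ⟨(R.2.map L.subtype).toSylow h2, map_subtype_le _, ?_⟩
    have := le_normalizer_map (H := (R : Subgroup L)) L.subtype
    rwa [normalizer_eq_top, ← MonoidHom.range_eq_map, range_subtype] at this
  obtain ⟨P, hP1, hP2⟩ := key H hH rfl
  obtain ⟨Q, hQ1, hQ2⟩ := key K hK hiK
  obtain ⟨g, rfl⟩ := MulAction.exists_smul_eq G P Q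
  set H' := MulAut.conj g • H with hH'
  have hH'n : Group.IsNilpotent H' := H2.isNilpotent_map hH _
  have hH'c : Nat.card H' = Nat.card H := card_conj_smul g H
  have hH'i : H'.index = H.index := index_conj_smul g H
  have hQH' : ((g • P : Sylow p G) : Subgroup G) ≤ H' := conj_smul_mono hP1
  have hH'Q : H' ≤ normalizer ((g • P : Sylow p G) : Set G) := by
    have := conj_smul_mono (g := g) hP2
    rwa [← P.coe_coe, conj_smul_normalizer] at this
  generalize g • P = Q at *
  suffices ∃ c : G, MulAut.conj c • H' = K by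
    obtain ⟨c, hc⟩ := this
    exact ⟨c * g, by rw [← conj_smul_conj_smul, hc]⟩
  by_cases hN : normalizer (Q : Set G) = ⊤
  · have hQn : (Q : Subgroup G).Normal := normalizer_eq_top_iff.mp hN
    have hQ1' : (Q : Subgroup G) ≠ ⊥ := Q.ne_bot_of_dvd_card (hd.trans (card_subgroup_dvd_card H))
    have hcard : ∀ L : Subgroup G, (Q : Subgroup G) ≤ L →
        Nat.card Q * Nat.card (L.map (QuotientGroup.mk' (Q : Subgroup G))) = Nat.card L := by
      intro L hL
      have := H2.card_map_mk'_mul (Q : Subgroup G) L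
      rwa [inf_eq_left.mpr hL] at this
    obtain ⟨c, hc'⟩ := ih _ (hn ▸ H2.card_quotient_lt hQ1') (H'.map (QuotientGroup.mk' _))
      (K.map (QuotientGroup.mk' (Q : Subgroup G))) (H2.isNilpotent_map hH'n _)
      (H2.isNilpotent_map hK _) (by
        refine Nat.Coprime.coprime_dvd_left (Dvd.intro_left _ (hcard H' hQH')) ?_
        rw [hH'c]
        exact hc.coprime_dvd_right (hH'i ▸ index_map_dvd _ (QuotientGroup.mk'_surjective _)))
      (Nat.eq_of_mul_eq_mul_left Nat.card_pos
        (by rw [hcard H' hQH', hcard K hQ1, hH'c, he])) rfl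
    obtain ⟨c, rfl⟩ := QuotientGroup.mk_surjective c
    refine ⟨c, eq_of_conj_smul_le (conj_smul_le_iff.mpr fun x hx => ?_) (by rw [hH'c, he])⟩
    have h3 := conj_smul_le_iff.mp hc'.le _ (mem_map_of_mem _ hx)
    have h4 : c * x * c⁻¹ ∈ (K.map (QuotientGroup.mk' (Q : Subgroup G))).comap
      (QuotientGroup.mk' (Q : Subgroup G)) := h3
    rwa [H2.comap_map_mk', sup_eq_left.mpr hQ1] at h4
  · obtain ⟨c, hc'⟩ := ih _ (hn ▸ H2.card_lt_of_ne_top hN)
      (H'.subgroupOf (normalizer (Q : Set G))) (K.subgroupOf _)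
      (H2.isNilpotent_subgroupOf hH'n _) (H2.isNilpotent_subgroupOf hK _) (by
        rw [H2.card_subgroupOf_of_le hH'Q, hH'c]
        exact hc.coprime_dvd_right (hH'i ▸ relIndex_dvd_index_of_le hH'Q))
      (by rw [H2.card_subgroupOf_of_le hH'Q, H2.card_subgroupOf_of_le hQ2, hH'c, he]) rfl
    refine ⟨c, eq_of_conj_smul_le (conj_smul_le_iff.mpr fun x hx => ?_) (by rw [hH'c, he])⟩
    exact conj_smul_le_iff.mp hc'.le ⟨x, hH'Q hx⟩ hx

/-- the same inside a subgroup `L` -/
theorem nilpotent_hall_conj_of_le [Finite G] {H K L : Subgroup G} (hHL : H ≤ L) (hKL : K ≤ L)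
    (hH : Group.IsNilpotent H) (hK : Group.IsNilpotent K)
    (hc : (Nat.card H).Coprime (H.relIndex L)) (he : Nat.card H = Nat.card K) :
    ∃ g ∈ L, MulAut.conj g • H = K := by
  obtain ⟨c, hc'⟩ := nilpotent_hall_conj (H.subgroupOf L) (K.subgroupOf L)
    (H2.isNilpotent_subgroupOf hH _) (H2.isNilpotent_subgroupOf hK _)
    (by rwa [H2.card_subgroupOf_of_le hHL])
    (by rw [H2.card_subgroupOf_of_le hHL, H2.card_subgroupOf_of_le hKL, he])
  refine ⟨c, c.2, eq_of_conj_smul_le (conj_smul_le_iff.mpr fun x hx => ?_) he.ge⟩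
  exact conj_smul_le_iff.mp hc'.le ⟨x, hHL hx⟩ hx

/-- the normalizer of an abelian Hall subgroup controls its fusion -/
theorem abelian_hall_controls [Finite G] {H : Subgroup G} (hc : IsMulCommutative H)
    (hHall : (Nat.card H).Coprime H.index) :
    ∀ x ∈ H, ∀ g : G, g * x * g⁻¹ ∈ H →
      ∃ w ∈ normalizer (H : Set G), w * x * w⁻¹ = g * x * g⁻¹ := by
  intro x hx g hy
  have h1 : H ≤ centralizer {g * x * g⁻¹} := fun z hz =>
    mem_centralizer_singleton_iff.mpr (setLike_mul_comm hz hy)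
  have h2 : MulAut.conj g • H ≤ centralizer {g * x * g⁻¹} := conj_smul_le_iff.mpr fun z hz =>
    mem_centralizer_singleton_iff.mpr (by
      calc g * z * g⁻¹ * (g * x * g⁻¹) = g * (z * x) * g⁻¹ := by group
        _ = _ := by rw [setLike_mul_comm hz hx]; group)
  have hn := H2.isNilpotent_of_isMulCommutative H
  obtain ⟨c, hc1, hc2⟩ := nilpotent_hall_conj_of_le h1 h2 hn (H2.isNilpotent_map hn _)
    (hHall.coprime_dvd_right (relIndex_dvd_index_of_le h1)) (card_conj_smul g H).symm
  refine ⟨c⁻¹ * g, conj_smul_eq_iff.mp ?_, ?_⟩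
  · rw [← conj_smul_conj_smul, ← hc2, conj_inv_smul_conj_smul]
  · have := mem_centralizer_singleton_iff.mp hc1
    calc c⁻¹ * g * x * (c⁻¹ * g)⁻¹ = c⁻¹ * (g * x * g⁻¹ * c) := by group
      _ = _ := by rw [← this]; group

/-- A Hall subgroup central in its normalizer has a normal complement. -/
theorem isComplement'_of_hall_normalizer_le_centralizer [Finite G] {H : Subgroup G}
    (hHall : (Nat.card H).Coprime H.index)
    (h : normalizer (H : Set G) ≤ centralizer (H : Set G)) :
    (pResidual (Nat.card H) G).IsComplement' H := by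
  have hc : IsMulCommutative H := le_centralizer_iff_isMulCommutative.mp (le_normalizer.trans h)
  refine isComplement'_pResidual_of_no_fusion (H2.isNilpotent_of_isMulCommutative H)
    IsPGroup.card hHall.symm fun x hx g hg => ⟨1, one_mem _, ?_⟩
  obtain ⟨w, hw, e⟩ := abelian_hall_controls hc hHall x hx g hg
  rw [← e, ← h hw x hx]
  group

end H3
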