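import Mathlib
import Cfsg.Agent.H24.Base5
import Cfsg.Agent.H21.OddInv

/-!
Bender's theorem on strongly embedded subgroups (1971), permutation form: definitions and the
elementary facts on involutions.
-/

set_option autoImplicit false
set_option linter.unusedSectionVars false

namespace H3
namespace B71

open H24 Subgroup MulAction

variable {G Ω : Type*} [Group G] [MulAction G Ω]

/-- `x` is an involution -/
def Inv (x : G) : Prop := x ≠ 1 ∧ x * x = 1

/-- every involution fixes exactly one point, every point is fixed by an involution -/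
structure SE (G Ω : Type*) [Group G] [MulAction G Ω] : Prop where
  ex : ∀ z : G, Inv z → ∃ a : Ω, z • a = a
  uniq : ∀ z : G, Inv z → ∀ a b : Ω, z • a = a → z • b = b → a = b
  pt : ∀ a : Ω, ∃ z : G, Inv z ∧ z • a = a

/-- `Y` contains a four-group fixing `a` -/
def Four (Y : Subgroup G) (a : Ω) : Prop :=
  ∃ u ∈ Y, ∃ v ∈ Y, Inv u ∧ Inv v ∧ u ≠ v ∧ u * v = v * u ∧ u • a = a ∧ v • a = a

/-- the kernel of the action of `Y` on the orbit of `a` -/
def Ker (Y : Subgroup G) (a : Ω) : Subgroup G where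
  carrier := {g | g ∈ Y ∧ ∀ y ∈ Y, g • y • a = y • a}
  mul_mem' := fun {g h} hg hh => ⟨Y.mul_mem hg.1 hh.1, fun y hy => by
    rw [mul_smul, hh.2 y hy, hg.2 y hy]⟩
  one_mem' := ⟨Y.one_mem, fun y _ => one_smul _ _⟩
  inv_mem' := fun {g} hg => ⟨Y.inv_mem hg.1, fun y hy => by
    rw [inv_smul_eq_iff, hg.2 y hy]⟩

/-- what the theorem (with Suzuki's theorem) says about a subgroup `Y` acting on the orbit of `a` -/
structure LS (Y : Subgroup G) (a : Ω) (Q : Subgroup G) : Prop where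
  le : Q ≤ Y
  fix : ∀ x ∈ Q, x • a = a
  ker_le : Ker Y a ≤ Q
  norm : ∀ y ∈ Y, y • a = a → y ∈ N[Q]
  two : ∀ x ∈ Q, ∃ n : ℕ, x ^ 2 ^ n ∈ Ker Y a
  trans : ∀ y ∈ Y, ∀ y' ∈ Y, y • a ≠ a → y' • a ≠ a → ∃ x ∈ Q, x • y • a = y' • a
  inv_mem : ∀ u ∈ Y, Inv u → u • a = a → u ∈ Q
  comm : ∀ u ∈ Y, Inv u → u • a = a → ∀ x ∈ Q, u * x * u⁻¹ * x⁻¹ ∈ Ker Y a

/-- the inductive situation -/
structure Min (G Ω : Type*) [Group G] [MulAction G Ω] : Prop where
  se : SE G Ω
  simple : IsSimpleGroup G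
  nontriv : Nontrivial Ω
  four : ∀ a : Ω, Four (⊤ : Subgroup G) a
  ls : ∀ (Y : Subgroup G) (a : Ω), Y ≠ ⊤ → Four Y a → (∃ y ∈ Y, y • a ≠ a) → ∃ Q, LS Y a Q

/-- `Q` is a normal subgroup of `G_a` which is regular on the other points -/
structure Reg (a : Ω) (Q : Subgroup G) : Prop where
  fix : ∀ x ∈ Q, x • a = a
  norm : ∀ g : G, g • a = a → g ∈ N[Q]
  trans : ∀ b c : Ω, b ≠ a → c ≠ a → ∃ x ∈ Q, x • b = c
  free : ∀ x ∈ Q, ∀ b : Ω, b ≠ a → x • b = b → x = 1

theorem mem_Ker {Y : Subgroup G} {a : Ω} {g : G} :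
    g ∈ Ker Y a ↔ g ∈ Y ∧ ∀ y ∈ Y, g • y • a = y • a := Iff.rfl

theorem Ker_le (Y : Subgroup G) (a : Ω) : Ker Y a ≤ Y := fun _ h => h.1

theorem Ker_fix {Y : Subgroup G} {a : Ω} {g : G} (h : g ∈ Ker Y a) : g • a = a := by
  simpa using h.2 1 Y.one_mem

theorem Ker_nml (Y : Subgroup G) (a : Ω) : Ker Y a ⊴ Y :=
  ⟨Ker_le Y a, le_N_iff.mpr fun g hg x hx => ⟨Y.mul_mem (Y.mul_mem hg hx.1) (Y.inv_mem hg),
    fun y hy => by
      have := hx.2 (g⁻¹ * y) (Y.mul_mem (Y.inv_mem hg) hy)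
      rw [mul_smul] at this
      rw [mul_smul, mul_smul, this, smul_inv_smul]⟩⟩

namespace Inv

variable {x y g : G}

theorem inv (h : Inv x) : x⁻¹ = x := H21.invol_inv h.2

theorem conj (h : Inv x) (g : G) : Inv (g * x * g⁻¹) :=
  ⟨fun e => h.1 (by simpa using e), by
    calc _ = g * (x * x) * g⁻¹ := by group
      _ = 1 := by rw [h.2]; group⟩

theorem orderOf_eq (h : Inv x) : orderOf x = 2 := orderOf_eq_prime (by rw [pow_two, h.2]) h.1

theorem smul_smul (h : Inv x) (a : Ω) : x • x • a = a := by rw [← mul_smul, h.2, one_smul]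

theorem smul_eq (h : Inv x) {a b : Ω} (e : x • a = b) : x • b = a := by rw [← e, h.smul_smul]

theorem mul (hx : Inv x) (hy : Inv y) (hne : x ≠ y) (hc : x * y = y * x) : Inv (x * y) :=
  ⟨fun e => hne (by rw [← hy.inv]; exact eq_inv_of_mul_eq_one_left e), by
    calc _ = x * (y * x) * y := by group
      _ = (x * x) * (y * y) := by rw [← hc]; group
      _ = 1 := by rw [hx.2, hy.2, one_mul]⟩

/-- the product of two involutions is inverted by the first -/
theorem conj_mul (hx : Inv x) (hy : Inv y) : x * (x * y) * x⁻¹ = (x * y)⁻¹ := by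
  rw [mul_inv_rev, hx.inv, hy.inv, ← mul_assoc, hx.2, one_mul]

/-- `k t` is an involution if `t` inverts `k` -/
theorem mul_of_inverts (h : Inv x) {k : G} (hk : x * k * x⁻¹ = k⁻¹) (h1 : k * x ≠ 1) :
    Inv (k * x) :=
  ⟨h1, by
    calc _ = k * (x * k * x⁻¹) := by rw [h.inv]; group
      _ = 1 := by rw [hk, mul_inv_cancel]⟩

theorem not_mem_odd (h : Inv x) {X : Subgroup G} (hX : Odd ♯X) : x ∉ X := fun hx =>
  h.1 (H21.eq_one_of_sq_of_mem_odd hX hx h.2)

theorem card_zpowers (h : Inv x) : ♯(zpowers x) = 2 := by rw [Nat.card_zpowers, h.orderOf_eq]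

theorem coprime (h : Inv x) {X : Subgroup G} (hX : Odd ♯X) : (♯X).Coprime ♯(zpowers x) := by
  rw [h.card_zpowers]; exact Nat.coprime_two_right.mpr hX

end Inv

theorem conj_smul (g x : G) (a : Ω) : (g * x * g⁻¹) • g • a = g • x • a := by
  rw [mul_smul, mul_smul, inv_smul_smul]

theorem conj_fix {g x : G} {a : Ω} (h : x • a = a) : (g * x * g⁻¹) • g • a = g • a := by
  rw [conj_smul, h]

theorem fix_of_conj {g x : G} {a : Ω} (h : (g * x * g⁻¹) • g • a = g • a) : x • a = a := by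
  rwa [conj_smul, smul_left_cancel_iff] at h

theorem comm_fix {g x : G} {a : Ω} (hc : x * g = g * x) (h : x • a = a) : x • g • a = g • a := by
  rw [← mul_smul, hc, mul_smul, h]

theorem odd_of_no_inv [Finite G] {X : Subgroup G} (h : ∀ z ∈ X, ¬ Inv z) : Odd ♯X := by
  by_contra e
  obtain ⟨z, hz, h1, h2⟩ := H21.exists_invol_of_even_card (Nat.not_odd_iff_even.mp e)
  exact h z hz ⟨h1, h2⟩

namespace SE

variable (h : SE G Ω) {a b c : Ω} {u v z t g k : G}
include h

/-- an element commuting with an involution fixes its point -/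
theorem fix_of_comm (hz : Inv z) (ha : z • a = a) (hc : z * g = g * z) : g • a = a :=
  h.uniq z hz _ _ (comm_fix hc ha) ha

/-- an element conjugating an involution at `a` to an involution at `b` maps `a` to `b` -/
theorem smul_of_conj (hz : Inv z) (ha : z • a = a) (hb : (g * z * g⁻¹) • b = b) : g • a = b :=
  h.uniq _ (hz.conj g) _ _ (conj_fix ha) hb

theorem smul_ne (hz : Inv z) (ha : z • a = a) (hb : b ≠ a) : z • b ≠ b := fun e =>
  hb (h.uniq z hz _ _ e ha)

theorem smul_ne' (hz : Inv z) (ha : z • a = a) (hb : b ≠ a) : z • b ≠ a := fun e =>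
  hb (by rw [← hz.smul_eq e, ha])

variable [Finite G]

theorem odd_of_fix {X : Subgroup G} (hab : a ≠ b) (ha : ∀ x ∈ X, x • a = a)
    (hb : ∀ x ∈ X, x • b = b) : Odd ♯X :=
  odd_of_no_inv fun z hz hi => hab (h.uniq z hi _ _ (ha z hz) (hb z hz))

theorem odd_stab (hab : a ≠ b) : Odd ♯(stabilizer G a ⊓ stabilizer G b) :=
  h.odd_of_fix hab (fun _ hx => hx.1) fun _ hx => hx.2

theorem odd_orderOf_of_fix (hab : a ≠ b) (ha : g • a = a) (hb : g • b = b) : Odd (orderOf g) :=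
  (h.odd_stab hab).of_dvd_nat (Subgroup.orderOf_dvd_natCard _ ⟨ha, hb⟩)

theorem odd_orderOf_mul (hu : Inv u) (hv : Inv v) (ha : u • a = a) (hb : v • b = b)
    (hab : a ≠ b) : Odd (orderOf (u * v)) := by
  by_contra e
  obtain ⟨z, h1, h2, h3, h4, -⟩ :=
    H21.exists_invol_comm_of_not_odd hu.2 hv.2 (isOfFinOrder_of_finite _) e
  exact hab (h.uniq z ⟨h1, h2⟩ _ _ (h.fix_of_comm hu ha h3.eq.symm)
    (h.fix_of_comm hv hb h4.eq.symm))

/-- two involutions with different points are conjugate by an involution of the group they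
generate -/
theorem exists_swap (hu : Inv u) (hv : Inv v) (ha : u • a = a) (hb : v • b = b) (hab : a ≠ b) :
    ∃ t, Inv t ∧ t * u * t⁻¹ = v ∧ t • a = b ∧ ∀ Y : Subgroup G, u ∈ Y → v ∈ Y → t ∈ Y := by
  obtain ⟨n, hn⟩ := H21.conj_of_odd_mul hv.2 hu.2 (h.odd_orderOf_mul hv hu hb ha hab.symm)
    (pow_orderOf_eq_one _)
  have e : (v * u) ^ n * u * u * ((v * u) ^ n * u)⁻¹ = v := by
    calc _ = (v * u) ^ n * u * (u * u⁻¹) * ((v * u) ^ n)⁻¹ := by group
      _ = v := by rw [mul_inv_cancel, mul_one, hn]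
  have e2 : ((v * u) ^ n * u) • a = b := h.smul_of_conj hu ha (by rw [e, hb])
  refine ⟨(v * u) ^ n * u, hu.mul_of_inverts ?_ fun e3 => hab ?_, e, e2,
    fun Y h1 h2 => Y.mul_mem (Y.pow_mem (Y.mul_mem h2 h1) n) h1⟩
  · rw [← conj_pow, ← inv_pow]
    congr 1
    rw [mul_inv_rev, hu.inv, hv.inv, mul_assoc, mul_assoc, hu.2, mul_one]
  · rw [← e2, e3, one_smul]

theorem exists_inv_smul (hab : a ≠ b) : ∃ t : G, Inv t ∧ t • a = b := by
  obtain ⟨u, hu, ha⟩ := h.pt a
  obtain ⟨v, hv, hb⟩ := h.pt b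
  obtain ⟨t, ht, -, e, -⟩ := h.exists_swap hu hv ha hb hab
  exact ⟨t, ht, e⟩

theorem exists_smul (a b : Ω) : ∃ g : G, g • a = b := by
  by_cases hab : a = b
  · exact ⟨1, by rw [one_smul, hab]⟩
  · obtain ⟨t, -, e⟩ := h.exists_inv_smul hab
    exact ⟨t, e⟩

/-- an element of odd order inverted by `t` and centralised by an involution with another point
is trivial -/
theorem eq_one_of_inv_comm (ht : Inv t) (hu : Inv u) (ha : t • a = a) (hb : u • b = b)
    (hab : a ≠ b) (hk : Odd (orderOf k)) (h1 : t * k * t⁻¹ = k⁻¹) (h2 : u * k = k * u) : k = 1 := by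
  have e1 : (t * u) * k * (t * u)⁻¹ = k⁻¹ := by
    calc _ = t * (u * k) * u⁻¹ * t⁻¹ := by group
      _ = t * k * t⁻¹ := by rw [h2]; group
      _ = _ := h1
  have e2 := H21.eq_inv_of_odd_inverts (h.odd_orderOf_mul ht hu ha hb hab)
    (pow_orderOf_eq_one _) e1
  exact H21.eq_one_of_sq_of_odd hk (pow_orderOf_eq_one _) (by nth_rewrite 2 [e2]; simp)

/-- the involution conjugating an involution at `a` to one at another point is unique -/
theorem swap_unique {t' : G} (hu : Inv u) (ha : u • a = a) (ht : Inv t) (ht' : Inv t')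
    (hta : t • a ≠ a) (e : t * u * t⁻¹ = t' * u * t'⁻¹) : t = t' := by
  have e1 : t' • a = t • a := h.smul_of_conj hu ha (by rw [← e]; exact conj_fix ha)
  obtain ⟨c, hc⟩ := h.ex t ht
  have hca : c ≠ a := fun e2 => hta (e2 ▸ hc)
  have e3 : t * t' = 1 := by
    refine h.eq_one_of_inv_comm ht hu hc ha hca ?_ (ht.conj_mul ht') ?_
    · refine h.odd_orderOf_of_fix hta.symm ?_ ?_
      · rw [mul_smul, e1, ht.smul_smul]
      · rw [mul_smul, ← e1, ht'.smul_smul, e1]
    · rw [ht.inv, ht'.inv] at e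
      calc u * (t * t') = t * (t * u * t) * t' := by
            rw [← mul_assoc, ← mul_assoc, ← mul_assoc, ht.2, one_mul]
        _ = t * t' * u := by rw [e, mul_assoc, mul_assoc, ht'.2, mul_one, mul_assoc]
  rw [← ht'.inv]; exact eq_inv_of_mul_eq_one_left e3

/-- `K` is transitive on the involutions at `a` -/
theorem exists_K (ht : Inv t) (hta : t • a = b) (hab : a ≠ b) (hu : Inv u) (hv : Inv v)
    (hua : u • a = a) (hva : v • a = a) :
    ∃ k, k • a = a ∧ k • b = b ∧ t * k * t⁻¹ = k⁻¹ ∧ k * u * k⁻¹ = v ∧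
      ∀ Y : Subgroup G, u ∈ Y → v ∈ Y → t ∈ Y → k ∈ Y := by
  obtain ⟨t', ht', e1, e2, hY⟩ := h.exists_swap hu (hv.conj t) hua
    (hta ▸ conj_fix hva : (t * v * t⁻¹) • b = b) hab
  refine ⟨t * t', by rw [mul_smul, e2, ht.smul_eq hta], by rw [mul_smul, ht'.smul_eq e2, hta],
    ht.conj_mul ht', ?_, fun Y h1 h2 h3 => Y.mul_mem h3
      (hY Y h1 (Y.mul_mem (Y.mul_mem h3 h2) (Y.inv_mem h3)))⟩
  calc _ = t * (t' * u * t'⁻¹) * t⁻¹ := by group
    _ = (t * t) * v * (t * t)⁻¹ := by rw [e1]; group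
    _ = v := by rw [ht.2]; group

/-- `K` acts regularly on the involutions at `a` -/
theorem K_inj {l : G} (ht : Inv t) (hta : t • a ≠ a) (hu : Inv u) (hua : u • a = a)
    (hk : k • a = a) (hl : l • a = a) (hk' : t * k * t⁻¹ = k⁻¹) (hl' : t * l * t⁻¹ = l⁻¹)
    (e : k * u * k⁻¹ = l * u * l⁻¹) : k = l := by
  have aux : ∀ k : G, k • a = a → t * k * t⁻¹ = k⁻¹ → Inv (t * k) := fun k hk hk' =>
    ⟨fun e => hta (by simpa [mul_smul, hk] using congrArg (· • a) e), by
      calc _ = (t * k * t⁻¹) * k := by rw [ht.inv]; group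
        _ = 1 := by rw [hk', inv_mul_cancel]⟩
  refine mul_left_cancel (h.swap_unique hu hua (aux k hk hk') (aux l hl hl')
    (by rwa [mul_smul, hk]) ?_)
  calc _ = t * (k * u * k⁻¹) * t⁻¹ := by group
    _ = _ := by rw [e]; group

theorem K_free (ht : Inv t) (hta : t • a ≠ a) (hu : Inv u) (hua : u • a = a)
    (hk : k • a = a) (hk' : t * k * t⁻¹ = k⁻¹) (e : k * u = u * k) : k = 1 :=
  h.K_inj ht hta hu hua hk (one_smul _ _) hk' (by simp) (by rw [e]; group)

end SE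

end B71
end H3
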