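import Mathlib
import Cfsg.Agent.H3.B71Defs
import Cfsg.Agent.H26.Coprime
import Cfsg.Agent.H17.ZStar
import Cfsg.Agent.H27.PF14

/-! Bender 1971: tools (counting, `Z*`, abelian blocks). -/

set_option autoImplicit false
set_option linter.unusedSectionVars false

namespace H3
namespace B71

open H24 H26 Subgroup MulAction Cfsg
open scoped commutatorElement

variable {G Ω : Type*} [Group G] [MulAction G Ω]

/-- two point stabiliser -/
abbrev D2 (G : Type*) {Ω : Type*} [Group G] [MulAction G Ω] (a b : Ω) : Subgroup G :=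
  stabilizer G a ⊓ stabilizer G b

theorem mem_D2 {a b : Ω} {g : G} : g ∈ D2 G a b ↔ g • a = a ∧ g • b = b := Iff.rfl

theorem D2_comm (a b : Ω) : D2 G a b = D2 G b a := inf_comm _ _

theorem cj_stab (g : G) (a : Ω) : cj g (stabilizer G a) = stabilizer G (g • a) := by
  ext x
  rw [mem_cj, mem_stabilizer_iff, mem_stabilizer_iff, mul_smul, mul_smul, inv_smul_eq_iff]

theorem cj_D2 (g : G) (a b : Ω) : cj g (D2 G a b) = D2 G (g • a) (g • b) := by
  rw [cj_inf, cj_stab, cj_stab]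

theorem fix_smul {X : Subgroup G} {g : G} {c : Ω} (hg : g ∈ N[X]) (hc : X ≤ stabilizer G c) :
    X ≤ stabilizer G (g • c) := by
  rw [← cj_stab, ← cj_of_mem_N hg]; exact cj_mono g hc

theorem mem_N_D2 {t : G} {a b : Ω} (h1 : t • a = b) (h2 : t • b = a) : t ∈ N[D2 G a b] := by
  rw [mem_N_iff_cj, cj_D2, h1, h2, D2_comm]

theorem zp_le_N {z : G} {X : Subgroup G} (h : z ∈ N[X]) : zpowers z ≤ N[X] := zpowers_le.mpr h

theorem mem_N_of_zp {z : G} {X : Subgroup G} (h : zpowers z ≤ N[X]) : z ∈ N[X] :=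
  h (mem_zpowers z)

theorem sol_of_odd [Finite G] {X : Subgroup G} (h : Odd ♯X) : Sol X := H27.Feit_Thompson _ h

theorem odd_of_le {X Y : Subgroup G} (h : Odd ♯Y) (hX : X ≤ Y) : Odd ♯X :=
  h.of_dvd_nat (card_dvd hX)

theorem odd_iff_isPi {X : Subgroup G} : Odd ♯X ↔ IsPi {2}ᶜ X := by
  rw [isPi_compl_iff Nat.prime_two, ← even_iff_two_dvd, Nat.not_even_iff_odd]

theorem odd_O [Finite G] (X : Subgroup G) : Odd ♯O[{2}ᶜ, X] := odd_iff_isPi.mpr (pcore_pi _ _)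

theorem odd_orderOf_of_mem {X : Subgroup G} (h : Odd ♯X) {x : G} (hx : x ∈ X) : Odd (orderOf x) :=
  h.of_dvd_nat (Subgroup.orderOf_dvd_natCard _ hx)

theorem odd_of_isPi {p : ℕ} (h2 : p ≠ 2) {X : Subgroup G} (h : IsPi {p} X) :
    Odd ♯X := odd_iff_isPi.mpr (h.compl_of_ne h2)

/-! ### counting modulo `p` -/

section Count

variable [Finite G] [Finite Ω] {p : ℕ} {P Y : Subgroup G} {S : Set Ω}

theorem ncard_modEq (hp : p.Prime) (hP : IsPi {p} P) (hS : ∀ x ∈ P, ∀ c ∈ S, x • c ∈ S) :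
    S.ncard ≡ {c ∈ S | P ≤ stabilizer G c}.ncard [MOD p] := by
  have := Fact.mk hp
  let T : SubMulAction P Ω := ⟨S, fun x c hc => hS x x.2 c hc⟩
  have h := (hP.isPGroup hp).card_modEq_card_fixedPoints T
  have e : Nat.card (fixedPoints P T) = {c ∈ S | P ≤ stabilizer G c}.ncard := by
    rw [← Nat.card_coe_set_eq]
    refine Nat.card_congr ⟨fun c => ⟨c.1.1, c.1.2, fun x hx => ?_⟩,
      fun c => ⟨⟨c.1, c.2.1⟩, fun x => Subtype.ext (c.2.2 x.2)⟩, fun _ => rfl, fun _ => rfl⟩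
    exact congrArg Subtype.val (c.2 ⟨x, hx⟩)
  rw [e] at h
  exact h

theorem dvd_ncard_of_no_fix (hp : p.Prime) (hP : IsPi {p} P)
    (hS : ∀ x ∈ P, ∀ c ∈ S, x • c ∈ S) (h : ∀ c ∈ S, ¬ P ≤ stabilizer G c) : p ∣ S.ncard := by
  have := ncard_modEq hp hP hS
  rw [show {c ∈ S | P ≤ stabilizer G c} = ∅ from Set.eq_empty_of_forall_notMem fun c hc =>
    h c hc.1 hc.2, Set.ncard_empty] at this
  exact (Nat.modEq_zero_iff_dvd).mp this

theorem exists_fix_of_not_dvd (hp : p.Prime) (hP : IsPi {p} P)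
    (hS : ∀ x ∈ P, ∀ c ∈ S, x • c ∈ S) (h : ¬ p ∣ S.ncard) : ∃ c ∈ S, P ≤ stabilizer G c := by
  by_contra e
  push Not at e
  exact h (dvd_ncard_of_no_fix hp hP hS e)

theorem ncard_modEq_one (hp : p.Prime) (hP : IsPi {p} P) (hS : ∀ x ∈ P, ∀ c ∈ S, x • c ∈ S)
    {d : Ω} (hd : d ∈ S) (hPd : P ≤ stabilizer G d)
    (h : ∀ c ∈ S, P ≤ stabilizer G c → c = d) : S.ncard ≡ 1 [MOD p] := by
  have := ncard_modEq hp hP hS
  rwa [show {c ∈ S | P ≤ stabilizer G c} = {d} from Set.eq_singleton_iff_unique_mem.mpr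
    ⟨⟨hd, hPd⟩, fun c hc => h c hc.1 hc.2⟩, Set.ncard_singleton] at this

theorem not_dvd_of_modEq_one (hp : p.Prime) {n : ℕ} (h : n ≡ 1 [MOD p]) : ¬ p ∣ n := fun e =>
  hp.one_lt.ne' (Nat.dvd_one.mp ((Nat.ModEq.dvd_iff h (dvd_refl p)).mp e))

/-- if `p` divides `|S|` and `P` fixes a point of `S`, it fixes another one -/
theorem exists_fix_ne (hp : p.Prime) (hP : IsPi {p} P) (hS : ∀ x ∈ P, ∀ c ∈ S, x • c ∈ S)
    {d : Ω} (hd : d ∈ S) (hPd : P ≤ stabilizer G d) (h : p ∣ S.ncard) :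
    ∃ c ∈ S, c ≠ d ∧ P ≤ stabilizer G c := by
  by_contra e
  push Not at e
  exact not_dvd_of_modEq_one hp (ncard_modEq_one hp hP hS hd hPd fun c hc h1 => by
    by_contra h2; exact e c hc h2 h1) h

/-- the orbit of `c` under `Y` -/
def Orb (Y : Subgroup G) (c : Ω) : Set Ω := {d | ∃ y ∈ Y, y • c = d}

theorem mem_Orb_self (Y : Subgroup G) (c : Ω) : c ∈ Orb Y c := ⟨1, Y.one_mem, one_smul _ _⟩

theorem smul_mem_Orb {c d : Ω} {x : G} (hx : x ∈ Y) (hd : d ∈ Orb Y c) : x • d ∈ Orb Y c := by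
  obtain ⟨y, hy, rfl⟩ := hd
  exact ⟨x * y, Y.mul_mem hx hy, mul_smul _ _ _⟩

theorem smul_mem_Orb' {c d : Ω} {x : G} (hx : x ∈ N[Y]) (hc : x • c = c) (hd : d ∈ Orb Y c) :
    x • d ∈ Orb Y c := by
  obtain ⟨y, hy, rfl⟩ := hd
  exact ⟨x * y * x⁻¹, conj_mem hx hy, by rw [← conj_smul x y c, hc]⟩

theorem ncard_Orb (Y : Subgroup G) (c : Ω) : (Orb Y c).ncard = (stabilizer G c).relIndex Y := by
  have := MulAction.index_stabilizer Y c
  rw [show Orb Y c = orbit Y c from Set.ext fun d =>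
    ⟨fun ⟨y, hy, e⟩ => ⟨⟨y, hy⟩, e⟩, fun ⟨y, e⟩ => ⟨y.1, y.2, e⟩⟩, ← this]
  rfl

theorem ncard_Orb_dvd (Y : Subgroup G) (c : Ω) : (Orb Y c).ncard ∣ ♯Y := by
  rw [ncard_Orb]; exact relIndex_dvd_card _ _

/-- transitivity by counting fixed points of `p`-subgroups -/
theorem trans_of_pfix (hp : p.Prime) (hS : ∀ y ∈ Y, ∀ c ∈ S, y • c ∈ S)
    (h : ∀ c ∈ S, ∃ P ≤ Y, IsPi {p} P ∧ P ≤ stabilizer G c ∧
      ∀ d ∈ S, P ≤ stabilizer G d → d = c) {c d : Ω} (hc : c ∈ S) (hd : d ∈ S) :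
    ∃ y ∈ Y, y • c = d := by
  by_contra e
  have hO : ∀ x ∈ Orb Y c, x ∈ S := fun x ⟨y, hy, e⟩ => e ▸ hS y hy c hc
  obtain ⟨P, hPY, hP, hPc, h1⟩ := h c hc
  obtain ⟨Q, hQY, hQ, -, h2⟩ := h d hd
  refine not_dvd_of_modEq_one hp (ncard_modEq_one hp hP (S := Orb Y c)
    (fun x hx _ h => smul_mem_Orb (hPY hx) h) (mem_Orb_self Y c) hPc fun x hx => h1 x (hO x hx))
    (dvd_ncard_of_no_fix hp hQ (fun x hx _ h => smul_mem_Orb (hQY hx) h) fun x hx h3 => e ?_)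
  rwa [h2 x (hO x hx) h3] at hx

theorem Inv.mem_zp {u x : G} (hu : Inv u) (hx : x ∈ zpowers u) : x = 1 ∨ x = u := by
  classical
  obtain ⟨n, hn, rfl⟩ := (mem_zpowers_iff_mem_range_orderOf.trans Finset.mem_image).mp hx
  rw [hu.orderOf_eq, Finset.mem_range] at hn
  interval_cases n
  · exact Or.inl (pow_zero u)
  · exact Or.inr (pow_one u)

/-- an involution preserving a set of odd size fixes a point of it -/
theorem Inv.exists_fix {u : G} (hu : Inv u) (hS : ∀ c ∈ S, u • c ∈ S) (h : Odd S.ncard) :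
    ∃ c ∈ S, u • c = c := by
  obtain ⟨c, hc, e⟩ := exists_fix_of_not_dvd (P := zpowers u) (S := S) Nat.prime_two
    (isPi_of_card_prime Nat.prime_two hu.card_zpowers) (fun x hx c hc => by
      rcases hu.mem_zp hx with rfl | rfl
      · simpa using hc
      · exact hS c hc)
    (by rwa [← even_iff_two_dvd, Nat.not_even_iff_odd])
  exact ⟨c, hc, e (mem_zpowers u)⟩

end Count

/-! ### indices of centralisers -/

section Idx

variable [Finite G] {p : ℕ} {P R M L : Subgroup G} {z : G}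

theorem Syl.not_mul_dvd (hp : p.Prime) (hP : Syl p M P) (C : Subgroup G) :
    ¬ p * C.relIndex P ∣ C.relIndex M := fun h => by
  have h1 : ♯(C ⊓ P) ∣ ♯(C ⊓ M) := card_dvd (inf_le_inf_left C hP.le)
  have h2 := Nat.mul_dvd_mul h1 h
  rw [card_inf_mul_relIndex, mul_left_comm, card_inf_mul_relIndex, ← hP.card, mul_comm] at h2
  exact hP.not_dvd hp ((Nat.mul_dvd_mul_iff_left (card_pos P)).mp h2)

theorem relIndex_dvd_of_le_pi (hp : p.Prime) (hP : IsPi {p} P) (hR : R ≤ P) (C : Subgroup G) :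
    C.relIndex R ∣ C.relIndex P := by
  obtain ⟨k, hk⟩ := hP.card_eq_pow hp
  obtain ⟨i, -, hi⟩ := (Nat.dvd_prime_pow hp).mp (hk ▸ relIndex_dvd_card C P)
  obtain ⟨j, -, hj⟩ := (Nat.dvd_prime_pow hp).mp
    (hk ▸ (relIndex_dvd_card C R).trans (card_dvd hR))
  have := relIndex_le_of_le_right (H := C) hR (relIndex_ne_zero' _ _)
  rw [hi, hj] at this ⊢
  exact pow_dvd_pow p ((Nat.pow_le_pow_iff_right hp.one_lt).mp this)

theorem exists_syl_inv (hp : p.Prime) (hz : Inv z) (hM : Odd ♯M) (hzM : z ∈ N[M])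
    (hR : IsPi {p} R) (hRM : R ≤ M) (hzR : z ∈ N[R]) : ∃ P, Syl p M P ∧ z ∈ N[P] ∧ R ≤ P := by
  obtain ⟨P, h1, h2, h3⟩ := sol_coprime_Sylow_subset hp (zp_le_N hzM) (hz.coprime hM)
    (Or.inl (cyc_zpowers z).sol) hRM hR (zp_le_N hzR)
  exact ⟨P, h1, mem_N_of_zp h2, h3⟩

theorem syl_inf_cent (hp : p.Prime) (hz : Inv z) (hM : Odd ♯M) (hzM : z ∈ N[M])
    (hP : Syl p M P) (hzP : z ∈ N[P]) : Syl p (C{z} ⊓ M) (C{z} ⊓ P) := by
  obtain ⟨S, hS⟩ := Sylow_exists hp (C{z} ⊓ M)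
  obtain ⟨P1, h1, h2, h3⟩ := exists_syl_inv hp hz hM hzM hS.pi (hS.le.trans inf_le_right)
    (C_le_N S (mem_C_iff_le_C1.mpr (hS.le.trans inf_le_left)))
  obtain ⟨c, hc, e⟩ := sol_coprime_Sylow_trans hp (zp_le_N hzM) (hz.coprime hM)
    (Or.inl (cyc_zpowers z).sol) hP (zp_le_N hzP) h1 (zp_le_N h2)
  rw [C_zpowers] at hc
  refine hS.of_card_le (inf_le_inf_left _ hP.le) (hP.pi.of_le inf_le_right) ?_
  rw [← card_cj c (C{z} ⊓ P), cj_inf, ← e, cj_of_mem hc.2]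
  exact card_le (le_inf (hS.le.trans inf_le_left) h3)

theorem idx_dvd (hp : p.Prime) (hz : Inv z) (hM : Odd ♯M) (hzM : z ∈ N[M])
    (hR : IsPi {p} R) (hRM : R ≤ M) (hzR : z ∈ N[R]) : (C{z}).relIndex R ∣ (C{z}).relIndex M := by
  obtain ⟨P, h1, h2, h3⟩ := exists_syl_inv hp hz hM hzM hR hRM hzR
  refine (relIndex_dvd_of_le_pi hp h1.pi h3 _).trans ?_
  have h4 := syl_inf_cent hp hz hM hzM h1 h2
  have e1 := card_inf_mul_relIndex C{z} P
  have e2 := card_inf_mul_relIndex C{z} M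
  rw [← h4.card, ← h1.card, ← e1, mul_assoc, mul_assoc] at e2
  have e3 := Nat.eq_of_mul_eq_mul_left (card_pos _) e2
  have hc : ((C{z}).relIndex P).Coprime ((C{z} ⊓ P).relIndex (C{z} ⊓ M)) :=
    (h1.pi.relIndex _).coprime h4.idx
  exact hc.dvd_of_dvd_mul_left (e3 ▸ Dvd.intro _ rfl)

/-- the index of the centraliser is the number of inverted elements -/
theorem idx_eq_card (hz : Inv z) (hM : Odd ♯M) (hzM : z ∈ N[M]) :
    (C{z}).relIndex M = Nat.card (invertedBy M z) := by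
  have h1 := H21.card_eq_cent_mul_inverted hz.2 hM fun x hx => conj_mem hzM hx
  rw [← card_inf_mul_relIndex C{z} M, inf_comm] at h1
  exact Nat.eq_of_mul_eq_mul_left (card_pos _) h1

theorem le_of_cent_inv (hz : Inv z) (hM : Odd ♯M) (hzM : z ∈ N[M])
    (h1 : ∀ x ∈ M, z * x = x * z → x ∈ L) (h2 : ∀ x ∈ M, z * x * z⁻¹ = x⁻¹ → x ∈ L) : M ≤ L :=
  fun x hx => by
    obtain ⟨y, k, hy, hyz, hk, rfl⟩ :=
      H21.exists_cent_mul_inverted hz.2 hM (fun x hx => conj_mem hzM hx) hx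
    exact L.mul_mem (h1 y hy hyz) (h2 k hk.1 hk.2)

theorem le_C1_of_no_inv (hz : Inv z) (hM : Odd ♯M) (hzM : z ∈ N[M])
    (h : ∀ x ∈ M, z * x * z⁻¹ = x⁻¹ → x = 1) : M ≤ C{z} :=
  le_of_cent_inv hz hM hzM (fun _ _ e => mem_C1.mpr e.symm) fun x hx e => h x hx e ▸ one_mem _

theorem exists_inverted (hz : Inv z) (hM : Odd ♯M) (hzM : z ∈ N[M]) (h : ¬ M ≤ C{z}) :
    ∃ k ∈ M, k ≠ 1 ∧ z * k * z⁻¹ = k⁻¹ := by
  by_contra e
  push Not at e
  exact h (le_C1_of_no_inv hz hM hzM fun x hx e1 => by by_contra e2; exact e x hx e2 e1)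

/-- if a subgroup has as many inverted elements it contains them all -/
theorem inverted_mem_of_idx (hz : Inv z) (hP : Odd ♯P) (hzP : z ∈ N[P]) (hR : R ≤ P)
    (hzR : z ∈ N[R]) (h : (C{z}).relIndex P ≤ (C{z}).relIndex R) {k : G} (hk : k ∈ P)
    (hkz : z * k * z⁻¹ = k⁻¹) : k ∈ R := by
  rw [idx_eq_card hz hP hzP, idx_eq_card hz (odd_of_le hP hR) hzR] at h
  have := Set.eq_of_subset_of_ncard_le (s := invertedBy R z) (t := invertedBy P z)
    (fun x hx => ⟨hR hx.1, hx.2⟩) h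
  exact (show k ∈ invertedBy R z from this ▸ ⟨hk, hkz⟩).1

theorem zp_mem_N_of_inv {k : G} (h : z * k * z⁻¹ = k⁻¹) : z ∈ N[zpowers k] := by
  rw [mem_N_iff_cj, cj_zpowers, h, zpowers_inv]

theorem inv_of_mem_zp {k l : G} (h : z * k * z⁻¹ = k⁻¹) (hl : l ∈ zpowers k) :
    z * l * z⁻¹ = l⁻¹ := by
  obtain ⟨n, rfl⟩ := hl
  simp only [← conj_zpow, h, inv_zpow]

/-- an inverted element of odd order is a commutator -/
theorem inverted_mem_of_comm {k : G} {Y O : Subgroup G} (hk : Odd (orderOf k))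
    (h : z * k * z⁻¹ = k⁻¹) (hkY : k ∈ Y) (hO : ∀ y ∈ Y, z * y * z⁻¹ * y⁻¹ ∈ O) : k ∈ O := by
  obtain ⟨n, hn⟩ := H21.exists_pow_sq_eq_of_odd hk (pow_orderOf_eq_one k)
  have := hO _ (Y.inv_mem (Y.pow_mem hkY n))
  rwa [inv_of_mem_zp h (inv_mem (pow_mem (mem_zpowers k) n)), inv_inv, hn] at this

theorem exists_prime_mem_zp {k : G} (h : k ≠ 1) : ∃ l ∈ zpowers k, (orderOf l).Prime := by
  obtain ⟨p, hp, hd⟩ := exists_prime_dvd_card (zpowers_ne_bot.mpr h)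
  obtain ⟨l, hl, e⟩ := exists_orderOf_eq hp hd
  exact ⟨l, hl, e ▸ hp⟩

end Idx

/-! ### `Z*` -/

theorem zstar_sub [Finite G] {Y : Subgroup G}
    (h : ∀ u ∈ Y, ∀ v ∈ Y, Inv u → Inv v → u * v = v * u → u = v) {u : G} (hu : Inv u)
    (huY : u ∈ Y) {y : G} (hy : y ∈ Y) : u * y * u⁻¹ * y⁻¹ ∈ O[{2}ᶜ, Y] := by
  rw [pcore_compl_singleton Nat.prime_two]
  refine ⟨_, H17.zstar (G := Y) (z := ⟨u, huY⟩) ⟨?_, fun g hg => Subtype.ext ?_⟩ ⟨y, hy⟩, rfl⟩
  · rw [← hu.orderOf_eq]; exact (orderOf_injective Y.subtype Y.subtype_injective _).symm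
  · exact (h u huY _ (g * ⟨u, huY⟩ * g⁻¹).2 hu (hu.conj g) (congrArg Subtype.val hg.eq)).symm

theorem mul_mem_O [Finite G] {Y : Subgroup G}
    (h : ∀ u ∈ Y, ∀ v ∈ Y, Inv u → Inv v → u * v = v * u → u = v) {u v : G} (hu : Inv u)
    (huY : u ∈ Y) (hv : Inv v) (hvY : v ∈ Y) : u * v ∈ O[{2}ᶜ, Y] := by
  refine inverted_mem_of_comm ?_ (hu.conj_mul hv) (Y.mul_mem huY hvY)
    fun y hy => zstar_sub h hu huY hy
  by_contra e
  obtain ⟨c, h1, h2, h3, h4, h5⟩ :=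
    H21.exists_invol_comm_of_not_odd hu.2 hv.2 (isOfFinOrder_of_finite _) e
  have hc : c ∈ Y := zpowers_le.mpr (Y.mul_mem huY hvY) h5
  rw [← h c hc u huY ⟨h1, h2⟩ hu h3.eq, ← h c hc v hvY ⟨h1, h2⟩ hv h4.eq, h2, orderOf_one] at e
  exact e odd_one

namespace SE

variable (h : SE G Ω) {a b c : Ω} {u v z t g k : G} {A L W X Y : Subgroup G}
include h

theorem four_of_comm (hu : Inv u) (hv : Inv v) (huY : u ∈ Y) (hvY : v ∈ Y) (hne : u ≠ v)
    (hc : u * v = v * u) : ∃ c : Ω, Four Y c := by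
  obtain ⟨c, hc'⟩ := h.ex u hu
  exact ⟨c, u, huY, v, hvY, hu, hv, hne, hc, hc', h.fix_of_comm hu hc' hc⟩

theorem no_comm (hY : ∀ c : Ω, ¬ Four Y c) :
    ∀ u ∈ Y, ∀ v ∈ Y, Inv u → Inv v → u * v = v * u → u = v := fun u hu v hv h1 h2 h3 => by
  by_contra e
  obtain ⟨c, hc⟩ := h.four_of_comm h1 h2 hu hv e h3
  exact hY c hc

variable [Finite G]

/-- a four-group of `Y` can be moved to the point of any involution of `Y` -/
theorem four_move (hY : Four Y c) (hz : Inv z) (hzY : z ∈ Y) (ha : z • a = a) : Four Y a := by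
  by_cases e : c = a
  · exact e ▸ hY
  obtain ⟨u, hu, v, hv, h1, h2, h3, h4, h5, h6⟩ := hY
  obtain ⟨t, -, -, e2, ht⟩ := h.exists_swap h1 hz h5 ha e
  have ht := ht Y hu hzY
  refine ⟨_, Y.mul_mem (Y.mul_mem ht hu) (Y.inv_mem ht), _,
    Y.mul_mem (Y.mul_mem ht hv) (Y.inv_mem ht), h1.conj t, h2.conj t, by simpa using h3, ?_,
    e2 ▸ conj_fix h5, e2 ▸ conj_fix h6⟩
  calc _ = t * (u * v) * t⁻¹ := by group
    _ = _ := by rw [h4]; group

/-- a group of odd order normalised by a four-group at `a` fixes `a` -/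
theorem le_stab_of_four (hX : Odd ♯X) (hY : Four N[X] a) : X ≤ stabilizer G a := by
  obtain ⟨u, hu, v, hv, h1, h2, h3, h4, h5, h6⟩ := hY
  have hmem : ∀ x ∈ zpowers u ⊔ zpowers v, x * x = 1 ∧ x • a = a := by
    intro x hx
    obtain ⟨y, ⟨i, rfl⟩, w, ⟨j, rfl⟩, rfl⟩ :=
      (mem_sup_of_norm (norm_of_cent (zpowers_le.mpr (by rw [C_zpowers]; exact mem_C1.mpr h4.symm)))).mp hx
    have hc : Commute u v := h4
    refine ⟨?_, (stabilizer G a).mul_mem (zpow_mem h5 i) (zpow_mem h6 j)⟩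
    calc u ^ i * v ^ j * (u ^ i * v ^ j) = (u * u) ^ i * (v * v) ^ j := by
          rw [(Commute.refl u).mul_zpow, (Commute.refl v).mul_zpow, mul_assoc, mul_assoc,
            ← mul_assoc (v ^ j), ← (hc.zpow_zpow i j).eq, mul_assoc]
      _ = 1 := by rw [h1.2, h2.2]; simp
  have hab : Abl (zpowers u ⊔ zpowers v) := (abl_zpowers u).sup (abl_zpowers v)
    (zpowers_le.mpr (by rw [C_zpowers]; exact mem_C1.mpr h4))
  have hpi : IsPi {2} (zpowers u ⊔ zpowers v) := isPi_iff_piElt.mpr fun x hx =>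
    piElt_of_pow_eq_one (n := 2) (fun p hp hd => (Nat.prime_dvd_prime_iff_eq hp Nat.prime_two).mp hd)
      (by rw [pow_two, (hmem x hx).1])
  refine coprime_abelian_gen_cent1 hab (fun hc => ?_) (sup_le (zp_le_N hu) (zp_le_N hv))
    ((odd_iff_isPi.mp hX).coprime' hpi) fun x hx hx1 y hy =>
      h.fix_of_comm ⟨hx1, (hmem x hx).1⟩ (hmem x hx).2 (mem_C1.mp hy.2).symm
  obtain ⟨x, hx, e⟩ := hc.exists_gen
  have hx1 : x ≠ 1 := by
    rintro rfl
    exact h1.1 (by simpa using (e.ge (mem_sup_left (mem_zpowers u))))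
  have hx2 : Inv x := ⟨hx1, (hmem x hx).1⟩
  have aux : ∀ y, Inv y → y ∈ zpowers x → y = x := fun y hy hyx =>
    (hx2.mem_zp hyx).resolve_left hy.1
  exact h3 ((aux u h1 (e.ge (mem_sup_left (mem_zpowers u)))).trans
    (aux v h2 (e.ge (mem_sup_right (mem_zpowers v)))).symm)

end SE

/-! ### abelian blocks -/

section Block

variable {a : Ω} {A L W : Subgroup G} {x y z k : G}

theorem exists_block [Finite G] (hL : Odd ♯L) (h : ¬ L ≤ stabilizer G a) :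
    ∃ A ≤ L, N[L] ≤ N[A] ∧ ¬ A ≤ stabilizer G a ∧ ⁅A, A⁆ ≤ stabilizer G a := by
  classical
  obtain ⟨n, hn⟩ := sol_iff_der.mp (sol_of_odd hL)
  have hex : ∃ n, der n L ≤ stabilizer G a := ⟨n, hn ▸ bot_le⟩
  obtain ⟨m, hm⟩ := Nat.exists_eq_succ_of_ne_zero (n := Nat.find hex) fun e =>
    h (by simpa [e, der_zero] using Nat.find_spec hex)
  exact ⟨der m L, der_le m L, norm_der m le_rfl, Nat.find_min hex (by omega),
    by simpa [hm, der_succ] using Nat.find_spec hex⟩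

theorem blk_comm (hA : ⁅A, A⁆ ≤ stabilizer G a) (hx : x ∈ A) (hy : y ∈ A) :
    x • y • a = y • x • a := by
  have : ⁅x⁻¹, y⁻¹⁆ • a = a := hA (commutator_mem_commutator (A.inv_mem hx) (A.inv_mem hy))
  rw [commutatorElement_def, inv_inv, inv_inv, mul_smul, mul_smul, mul_smul, inv_smul_eq_iff,
    inv_smul_eq_iff] at this
  rw [this]

theorem blk_fix (hA : ⁅A, A⁆ ≤ stabilizer G a) (hx : x ∈ A) (hy : y ∈ A) (hxa : x • a = a) :
    x • y • a = y • a := by rw [blk_comm hA hx hy, hxa]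

variable [Finite G] (h : SE G Ω)
include h

theorem SE.blk_inv (hA : ⁅A, A⁆ ≤ stabilizer G a) (hodd : Odd ♯A) (hz : Inv z) (hza : z • a = a)
    (hzA : z ∈ N[A]) (hx : x ∈ A) : z • x • a = x⁻¹ • a := by
  obtain ⟨c, k, hc, hcz, hk, rfl⟩ :=
    H21.exists_cent_mul_inverted hz.2 hodd (fun x hx => conj_mem hzA hx) hx
  have hca : c • a = a := h.fix_of_comm hz hza hcz
  have hca' : c⁻¹ • a = a := (stabilizer G a).inv_mem hca
  rw [mul_smul, blk_fix hA hc hk.1 hca, mul_inv_rev, mul_smul, hca', ← conj_smul, hk.2, hza]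

theorem SE.blk_fix_mul {z' : G} (hA : ⁅A, A⁆ ≤ stabilizer G a) (hodd : Odd ♯A) (hz : Inv z)
    (hza : z • a = a) (hzA : z ∈ N[A]) (hz' : Inv z') (hza' : z' • a = a) (hzA' : z' ∈ N[A])
    (hx : x ∈ A) : (z * z') • x • a = x • a := by
  rw [mul_smul, h.blk_inv hA hodd hz' hza' hzA' hx, h.blk_inv hA hodd hz hza hzA (A.inv_mem hx),
    inv_inv]

theorem SE.blk_fix_inv (hA : ⁅A, A⁆ ≤ stabilizer G a) (hodd : Odd ♯A) (hz : Inv z)
    (hza : z • a = a) (hzA : z ∈ N[A]) (hk : Odd (orderOf k)) (hka : k • a = a)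
    (hkA : k ∈ N[A]) (hkz : z * k * z⁻¹ = k⁻¹) (hx : x ∈ A) : k • x • a = x • a := by
  have hkz' : Inv (k * z) := hz.mul_of_inverts hkz fun e => by
    rw [eq_inv_of_mul_eq_one_left e, hz.inv, hz.orderOf_eq] at hk
    exact absurd hk (by decide)
  have := h.blk_fix_mul hA hodd hkz' (by rw [mul_smul, hza, hka]) (mul_mem hkA hzA) hz hza hzA hx
  rwa [mul_assoc, hz.2, mul_one] at this

/-- T1 -/
theorem SE.le_stab_of_cent {S : Set G} (hL : Odd ♯L) (hz : Inv z) (hza : z • a = a)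
    (hzL : z ∈ N[L]) (hWL : closure S ≤ N[L]) (hcop : (♯L).Coprime ♯(closure S))
    (hS : ∀ k ∈ S, Odd (orderOf k) ∧ k • a = a ∧ z * k * z⁻¹ = k⁻¹)
    (hC : L ⊓ C[closure S] ≤ stabilizer G a) : L ≤ stabilizer G a := by
  by_contra e
  obtain ⟨A, hAL, hN, h1, h2⟩ := exists_block hL e
  have hA := odd_of_le hL hAL
  have hW : ∀ x ∈ A, closure S ≤ stabilizer G (x • a) := fun x hx => (closure_le _).mpr fun k hk =>
    h.blk_fix_inv h2 hA hz hza (hN hzL) (hS k hk).1 (hS k hk).2.1 (hN (hWL (subset_closure hk)))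
      (hS k hk).2.2 hx
  have hWa : closure S ≤ stabilizer G a := by simpa using hW 1 A.one_mem
  have hp := coprime_isProd_of_comm_le (V := A ⊓ stabilizer G a) (X := A) (A := closure S)
    (norm_inf (hWL.trans hN) (norm_of_le hWa))
    (hcop.coprime_dvd_left (card_dvd (inf_le_left.trans hAL)))
    (Or.inl (sol_of_odd (odd_of_le hA inf_le_left))) inf_le_left
    (le_inf (comm_le_left (hWL.trans hN)) (commutator_le.mpr fun x hx w hw => by
      have e1 : w⁻¹ • a = a := hWa (inv_mem hw)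
      have e2 : w • x⁻¹ • a = x⁻¹ • a := hW _ (A.inv_mem hx) hw
      rw [mem_stabilizer_iff, commutatorElement_def, mul_smul, mul_smul, mul_smul, e1, e2,
        smul_inv_smul]))
  refine h1 fun x hx => ?_
  obtain ⟨v, hv, c, hc, rfl⟩ := hp.mul x hx
  exact mul_mem hv.2 (hC ⟨hAL hc.1, hc.2⟩)

end Block

end B71
end H3
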