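import Mathlib
import Cfsg.Agent.H3.B71A

/-! Bender 1971: the criterion for double transitivity. -/

set_option autoImplicit false
set_option linter.unusedSectionVars false

namespace H3
namespace B71

open H24 H26 Subgroup MulAction Cfsg

variable {G Ω : Type*} [Group G] [MulAction G Ω]

theorem relIndex_C1 [Finite G] (Y : Subgroup G) (z : G) :
    (C{z}).relIndex Y = {x | ∃ y ∈ Y, y * z * y⁻¹ = x}.ncard := by
  have := @ncard_Orb G G _ (MulAction.compHom G (MulAut.conj : G →* MulAut G)) _ _ Y z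
  refine Eq.trans ?_ this.symm
  congr 1
  ext g
  exact mem_C1_iff_conj

/-- the involutions fixing `a` -/
def II (G : Type*) {Ω : Type*} [Group G] [MulAction G Ω] (a : Ω) : Set G :=
  {z | Inv z ∧ z • a = a}

/-- the number of involutions fixing `a` -/
noncomputable def mm (G : Type*) {Ω : Type*} [Group G] [MulAction G Ω] (a : Ω) : ℕ :=
  (II G a).ncard

/-- the hypothesis of the criterion -/
def NF (G Ω : Type*) [Group G] [MulAction G Ω] (p : ℕ) : Prop :=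
  ∀ (z : G) (a b : Ω) (R : Subgroup G), Inv z → z • a = a → b ≠ a → IsPi {p} R → R ≤ D2 G a b →
    z ∈ N[R] → p * (C{z}).relIndex R ∣ mm G a

/-- `R` fixes `a` and two more points -/
def Fix3 (R : Subgroup G) (a : Ω) : Prop :=
  R ≤ stabilizer G a ∧
    ∃ b c : Ω, b ≠ a ∧ c ≠ a ∧ b ≠ c ∧ R ≤ stabilizer G b ∧ R ≤ stabilizer G c

/-- double transitivity -/
def Two (G Ω : Type*) [Group G] [MulAction G Ω] : Prop :=
  ∀ a b c : Ω, b ≠ a → c ≠ a → ∃ g : G, g • a = a ∧ g • b = c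

theorem conj_mem_II {a : Ω} {g z : G} (hg : g • a = a) (hz : z ∈ II G a) : g * z * g⁻¹ ∈ II G a :=
  ⟨hz.1.conj g, by simpa [hg] using conj_fix (g := g) hz.2⟩

theorem mem_N_bot (g : G) : g ∈ N[(⊥ : Subgroup G)] := by rw [N_bot]; exact mem_top g

theorem smul_ne_of_fix {g : G} {a b : Ω} (hg : g • a = a) (hb : b ≠ a) : g • b ≠ a := fun e =>
  hb (smul_left_cancel g (e.trans hg.symm))

theorem odd_pow_smul {g : G} {a : Ω} (h : (g * g) • a = a) {n : ℕ} (hn : Odd n) :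
    g ^ n • a = g • a := by
  obtain ⟨k, rfl⟩ := hn
  rw [pow_succ', mul_smul, pow_mul, pow_two]
  exact congrArg _ ((stabilizer G a).pow_mem h k)

namespace SE

variable [Finite G] [Finite Ω] (h : SE G Ω) {a b c d : Ω} {u v z t g k : G}
  {P R Y : Subgroup G} {p : ℕ}
include h

theorem idx_I (hz : Inv z) (ha : z • a = a) (hb : b ≠ a) :
    (C{z}).relIndex (D2 G a b) = mm G a := by
  rw [relIndex_C1, mm]
  congr 1
  ext x
  refine ⟨fun ⟨y, hy, e⟩ => e ▸ conj_mem_II hy.1 ⟨hz, ha⟩, fun hx => ?_⟩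
  obtain ⟨t, ht, hta⟩ := h.exists_inv_smul hb.symm
  obtain ⟨k, h1, h2, -, h3, -⟩ := h.exists_K ht hta hb.symm hz hx.1 ha hx.2
  exact ⟨k, ⟨h1, h2⟩, h3⟩

theorem idx_T (ht : Inv t) (hta : t • a = b) (hb : b ≠ a) :
    (C{t}).relIndex (D2 G a b) = mm G a := by
  rw [idx_eq_card ht (h.odd_stab hb.symm) (mem_N_D2 hta (ht.smul_eq hta)), mm,
    ← Nat.card_coe_set_eq]
  obtain ⟨u, hu, hua⟩ := h.pt a
  refine Nat.card_eq_of_bijective (fun k => ⟨k.1 * u * k.1⁻¹, conj_mem_II k.2.1.1 ⟨hu, hua⟩⟩)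
    ⟨fun k l e => Subtype.ext (h.K_inj ht (hta ▸ hb) hu hua k.2.1.1 l.2.1.1 k.2.2 l.2.2
      (congrArg Subtype.val e)), fun x => ?_⟩
  obtain ⟨k, h1, h2, h3, h4, -⟩ := h.exists_K ht hta hb.symm hu x.2.1 hua x.2.2
  exact ⟨⟨k, ⟨h1, h2⟩, h3⟩, Subtype.ext h4⟩

theorem mm_eq (a b : Ω) : mm G a = mm G b := by
  by_cases e : a = b
  · rw [e]
  obtain ⟨t, ht, hta⟩ := h.exists_inv_smul e
  rw [← h.idx_T ht hta (Ne.symm e), ← h.idx_T ht (ht.smul_eq hta) e, D2_comm]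

theorem mm_odd (hb : b ≠ a) : Odd (mm G a) := by
  obtain ⟨z, hz, ha⟩ := h.pt a
  rw [← h.idx_I hz ha hb]
  exact (h.odd_stab hb.symm).of_dvd_nat (relIndex_dvd_card _ _)

theorem C_inf_D2 (hz : Inv z) (ha : z • a = a) (b : Ω) :
    C{z} ⊓ D2 G b (z • b) = C{z} ⊓ D2 G a b := by
  ext x
  exact ⟨fun hx => ⟨hx.1, h.fix_of_comm hz ha (mem_C1.mp hx.1).symm, hx.2.1⟩,
    fun hx => ⟨hx.1, hx.2.2, comm_fix (mem_C1.mp hx.1) hx.2.2⟩⟩

theorem idx_D (hz : Inv z) (ha : z • a = a) (hb : b ≠ a) :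
    (C{z}).relIndex (D2 G b (z • b)) = mm G a := by
  rw [h.idx_T hz rfl (h.smul_ne hz ha hb), h.mm_eq]

theorem card_D2 (hz : Inv z) (ha : z • a = a) (hb : b ≠ a) :
    ♯(D2 G b (z • b)) = ♯(D2 G a b) := by
  rw [← card_inf_mul_relIndex C{z}, ← card_inf_mul_relIndex C{z} (D2 G a b), h.C_inf_D2 hz ha,
    h.idx_D hz ha hb, h.idx_I hz ha hb]

theorem exists_swap_norm (hp : p.Prime) (hab : a ≠ b) (hP : Syl p (D2 G a b) P) :
    ∃ t, Inv t ∧ t • a = b ∧ t ∈ N[P] := by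
  obtain ⟨t, ht, hta⟩ := h.exists_inv_smul hab
  obtain ⟨P0, h1, h2, -⟩ := exists_syl_inv hp ht (h.odd_stab hab)
    (mem_N_D2 hta (ht.smul_eq hta)) (isPi_bot _) bot_le (mem_N_bot t)
  obtain ⟨d, hd, rfl⟩ := Sylow_trans hp h1 hP
  refine ⟨d * t * d⁻¹, ht.conj d, ?_, cj_N d P0 ▸ conj_mem_cj d h2⟩
  rw [← hd.1, conj_smul, hta, hd.2]

theorem exists_inv_of_swap (hg : g ∈ Y) (hab : a ≠ b) (h1 : g • a = b) (h2 : g • b = a) :
    ∃ u ∈ Y, Inv u ∧ u • a = b := by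
  have e1 : (g * g) • a = a := by rw [mul_smul, h1, h2]
  have e2 : (g * g) • b = b := by rw [mul_smul, h2, h1]
  have ho := h.odd_orderOf_of_fix hab e1 e2
  have e3 := odd_pow_smul e1 ho
  refine ⟨g ^ orderOf (g * g), Y.pow_mem hg _, ⟨fun e => hab ?_, ?_⟩, e3.trans h1⟩
  · rw [← h1, ← e3, e, one_smul]
  · rw [← (Commute.refl g).mul_pow, pow_orderOf_eq_one]

/-- Lemma R -/
theorem lemR (hp : p.Prime) (hR : IsPi {p} R) (h3 : Fix3 R a)
    (hmax : ∀ R', IsPi {p} R' ∧ Fix3 R' a → R ≤ R' → R' = R)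
    (hns : ∀ x y : Ω, x ≠ y → R ≤ stabilizer G x → R ≤ stabilizer G y → ¬ Syl p (D2 G x y) R) :
    ∃ z, Inv z ∧ z • a = a ∧ z ∈ N[R] := by
  obtain ⟨ha, b, c, hba, hca, hbc, hb, hc⟩ := h3
  have htr : ∀ d e : Ω, R ≤ stabilizer G d ∧ d ≠ a → R ≤ stabilizer G e ∧ e ≠ a →
      ∃ y ∈ N[R] ⊓ stabilizer G a, y • d = e := fun d e hd he =>
    trans_of_pfix (Y := N[R] ⊓ stabilizer G a) (S := {d | R ≤ stabilizer G d ∧ d ≠ a}) hp
      (fun y hy d hd => ⟨fix_smul hy.1 hd.1, smul_ne_of_fix hy.2 hd.2⟩) (fun d hd => by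
        obtain ⟨Q, h1, h2, h3, h4⟩ := exists_lt_norm_of_not_syl hp hR (le_inf ha hd.1)
          (hns a d hd.2.symm ha hd.1)
        refine ⟨Q, le_inf h4 (h3.trans inf_le_left), h1, h3.trans inf_le_right, fun e he h5 => ?_⟩
        by_contra h6
        exact h2.ne' (hmax Q ⟨h1, h3.trans inf_le_left, e, d, he.2, hd.2, h6, h5,
          h3.trans inf_le_right⟩ h2.le)) hd he
  obtain ⟨y, hy, hya⟩ : ∃ y ∈ N[R], y • a ≠ a := by
    obtain ⟨Q, h1, h2, h3, h4⟩ := exists_lt_norm_of_not_syl hp hR (le_inf hb hc)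
      (hns b c hbc hb hc)
    by_contra e
    push Not at e
    exact h2.ne' (hmax Q ⟨h1, fun x hx => e x (h4 hx), b, c, hba, hca, hbc,
      h3.trans inf_le_left, h3.trans inf_le_right⟩ h2.le)
  have hy' : R ≤ stabilizer G (y⁻¹ • a) ∧ y⁻¹ • a ≠ a :=
    ⟨fix_smul (inv_mem hy) ha, fun e => hya (inv_smul_eq_iff.mp e).symm⟩
  by_contra hno
  have hfpf : ∀ v ∈ N[R], Inv v → ∀ w : Ω, R ≤ stabilizer G w → v • w ≠ w := by
    intro v hv h1 w hw e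
    by_cases hwa : w = a
    · exact hno ⟨v, h1, hwa ▸ e, hv⟩
    obtain ⟨g, hg, e1⟩ := htr w _ ⟨hw, hwa⟩ hy'
    have e2 : (y * g) • w = a := by rw [mul_smul, e1, smul_inv_smul]
    exact hno ⟨_, h1.conj (y * g), e2 ▸ conj_fix e,
      mul_mem (mul_mem (mul_mem hy hg.1) hv) (inv_mem (mul_mem hy hg.1))⟩
  obtain ⟨g, hg, e1⟩ := htr (y • a) _ ⟨fix_smul hy ha, hya⟩ hy'
  obtain ⟨u, hu, hu2, hua⟩ := h.exists_inv_of_swap (mul_mem hy hg.1) hya.symm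
    (by rw [mul_smul, hg.2]) (by rw [mul_smul, e1, smul_inv_smul])
  have hc4 := h.no_comm (Y := N[R]) fun w hw => by
    have := h.le_stab_of_four (h.odd_of_fix hbc hb hc) hw
    obtain ⟨v, hv, -, -, h1, -, -, -, h2, -⟩ := hw
    exact hfpf v hv h1 w this h2
  have hO := pcore_nml {2}ᶜ N[R]
  by_cases hOa : O[{2}ᶜ, N[R]] ≤ stabilizer G a
  · have hOd : O[{2}ᶜ, N[R]] ≤ stabilizer G (y • a) := fix_smul (hO.norm hy) hOa
    have key : ∀ e, R ≤ stabilizer G e ∧ e ≠ a → e = y • a := fun e he => by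
      obtain ⟨x, hx, rfl⟩ := htr (y • a) e ⟨fix_smul hy ha, hya⟩ he
      have h1 : (u * x * u⁻¹ * x⁻¹)⁻¹ • y • a = y • a := hOd (inv_mem (zstar_sub hc4 hu2 hu hx.1))
      have h2 : x⁻¹ • a = a := (stabilizer G a).inv_mem hx.2
      rwa [show (u * x * u⁻¹ * x⁻¹)⁻¹ = x * u * x⁻¹ * u⁻¹ by group, mul_smul, mul_smul, mul_smul,
        hu2.inv, hu2.smul_eq hua, h2, hua] at h1
    exact hbc ((key b ⟨hb, hba⟩).trans (key c ⟨hc, hca⟩).symm)
  · obtain ⟨o, ho, hoa⟩ := SetLike.not_le_iff_exists.mp hOa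
    have hsub : ∀ e, R ≤ stabilizer G e → e ∈ Orb O[{2}ᶜ, N[R]] a := fun e he => by
      by_cases hea : e = a
      · exact hea ▸ mem_Orb_self _ _
      obtain ⟨x, hx, rfl⟩ := htr (o • a) e ⟨fix_smul (hO.le ho) ha, hoa⟩ ⟨he, hea⟩
      exact smul_mem_Orb' (hO.norm hx.1) hx.2 ⟨o, ho, rfl⟩
    have hsub' : ∀ e ∈ Orb O[{2}ᶜ, N[R]] a, R ≤ stabilizer G e := fun e ⟨x, hx, e1⟩ =>
      e1 ▸ fix_smul (hO.le hx) ha
    obtain ⟨w, hw, e⟩ := hu2.exists_fix (fun e he => hsub _ (fix_smul hu (hsub' e he)))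
      ((odd_O _).of_dvd_nat (ncard_Orb_dvd _ a))
    exact hfpf u hu hu2 w (hsub' w hw) e

theorem NF_odd (hp : p.Prime) (hN : NF G Ω p) (hab : b ≠ a) : p ≠ 2 := by
  rintro rfl
  obtain ⟨z, hz, ha⟩ := h.pt a
  have := hN z a b ⊥ hz ha hab (isPi_bot _) bot_le (mem_N_bot z)
  exact Nat.not_even_iff_odd.mpr (h.mm_odd hab) (even_iff_two_dvd.mpr ((Dvd.intro _ rfl).trans this))

/-- Theorem A: Sylow `p`-subgroups of two point stabilisers fix only two points -/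
theorem no_apair (hp : p.Prime) (hN : NF G Ω p) (hbc : b ≠ c) (hP : Syl p (D2 G b c) P)
    (hd : P ≤ stabilizer G d) : d = b ∨ d = c := by
  by_contra hne
  push Not at hne
  obtain ⟨P, -, ⟨b, c, d, hbc, hdb, hdc, hP, hd⟩, hmax⟩ := exists_max
    (P := fun P => ∃ b c d : Ω, b ≠ c ∧ d ≠ b ∧ d ≠ c ∧ Syl p (D2 G b c) P ∧ P ≤ stabilizer G d)
    ⟨b, c, d, hbc, hne.1, hne.2, hP, hd⟩
  have hb : P ≤ stabilizer G b := hP.le.trans inf_le_left
  have hc : P ≤ stabilizer G c := hP.le.trans inf_le_right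
  obtain ⟨u, hu, hub, huP⟩ := h.exists_swap_norm hp hbc hP
  have hfpf : ∀ v ∈ N[P], Inv v → ∀ w : Ω, P ≤ stabilizer G w → v • w ≠ w := by
    intro v hv h1 w hw e
    obtain ⟨w', hw'⟩ := h.ex u hu
    have h2 : P ≤ stabilizer G w' := by
      by_cases e1 : w = w'
      · exact e1 ▸ hw
      obtain ⟨t, -, -, e2, ht⟩ := h.exists_swap h1 hu e hw' e1
      exact e2 ▸ fix_smul (ht _ hv huP) hw
    have := hN u w' b P hu hw' (fun e => hbc (by rw [← hub, e, hw'])) hP.pi (le_inf h2 hb) huP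
    rw [h.mm_eq w' b, ← h.idx_T hu hub hbc.symm] at this
    exact Syl.not_mul_dvd hp hP _ this
  have hc4 := h.no_comm (Y := N[P]) fun w hw => by
    have := h.le_stab_of_four (h.odd_of_fix hbc hb hc) hw
    obtain ⟨v, hv, -, -, h1, -, -, -, h2, -⟩ := hw
    exact hfpf v hv h1 w this h2
  have hO := pcore_nml {2}ᶜ N[P]
  set O := O[{2}ᶜ, N[P]] with hOdef
  have hpart : ∀ e, e ≠ b → Syl p (D2 G b e) P → e ∈ Orb O c := fun e he hs => by
    obtain ⟨t, ht, htb, htP⟩ := h.exists_swap_norm hp he.symm hs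
    exact ⟨t * u, mul_mem_O hc4 ht htP hu huP, by rw [mul_smul, hu.smul_eq hub, htb]⟩
  have hB : ∀ x ∈ N[P], x • b = b → ∀ e ∈ Orb O c, x • e ∈ Orb O c := by
    rintro x hx hxb _ ⟨o, ho, rfl⟩
    refine ⟨x * o * x⁻¹ * (u * x * u⁻¹ * x⁻¹)⁻¹, mul_mem (hO.conj_mem hx ho)
      (inv_mem (zstar_sub hc4 hu huP hx)), ?_⟩
    have h2 : x⁻¹ • b = b := (stabilizer G b).inv_mem hxb
    rw [show x * o * x⁻¹ * (u * x * u⁻¹ * x⁻¹)⁻¹ = x * o * u * x⁻¹ * u⁻¹ by group, mul_smul,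
      mul_smul, mul_smul, mul_smul, hu.inv, hu.smul_eq hub, h2, hub]
  have hfixO : ∀ e : Ω, P ≤ stabilizer G e → ∀ x ∈ Orb O e, P ≤ stabilizer G x :=
    fun e he x ⟨o, ho, e1⟩ => e1 ▸ fix_smul (hO.le ho) he
  have hdisj : ∀ e ∈ Orb O b, e ∉ Orb O c := by
    rintro _ ⟨o, ho, rfl⟩ ⟨o', ho', e⟩
    obtain ⟨w, hw, e1⟩ := hu.exists_fix (S := Orb O b) (by
      rintro _ ⟨x, hx, rfl⟩
      refine ⟨u * x * u⁻¹ * (o'⁻¹ * o), mul_mem (hO.conj_mem huP hx) (mul_mem (inv_mem ho') ho), ?_⟩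
      rw [mul_smul, mul_smul o'⁻¹, ← e, inv_smul_smul, ← hub, conj_smul])
      ((odd_O _).of_dvd_nat (ncard_Orb_dvd _ b))
    exact hfpf u huP hu w (hfixO b hb w hw) e1
  obtain ⟨P1, hP1, hlt, h3⟩ : ∃ P1, IsPi {p} P1 ∧ P < P1 ∧ Fix3 P1 b := by
    by_contra hno
    have hQ : ∀ e, e ≠ b → P ≤ stabilizer G e → e ∉ Orb O c → ∃ Q, IsPi {p} Q ∧ Q ≤ N[P] ∧
        Q ≤ stabilizer G b ∧ Q ≤ stabilizer G e ∧ ∀ x, x ≠ b → Q ≤ stabilizer G x → x = e := by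
      intro e he h1 h2
      obtain ⟨Q, h3, h4, h5, h6⟩ := exists_lt_norm_of_not_syl hp hP.pi (le_inf hb h1)
        fun hs => h2 (hpart e he hs)
      refine ⟨Q, h3, h6, h5.trans inf_le_left, h5.trans inf_le_right, fun x hx h7 => ?_⟩
      by_contra h8
      exact hno ⟨Q, h3, h4, h5.trans inf_le_left, x, e, hx, he, h8, h7, h5.trans inf_le_right⟩
    by_cases hOb : O ≤ stabilizer G b
    · have hOc : O ≤ stabilizer G c := hub ▸ fix_smul (hO.norm huP) hOb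
      have h1 : ∀ e ∈ Orb O c, e = c := fun e ⟨o, ho, e1⟩ => e1 ▸ hOc ho
      obtain ⟨Q, -, h2, h3, -, h4⟩ := hQ d hdb hd fun e => hdc (h1 d e)
      exact hdc (h4 c hbc.symm fun x hx => h1 _ (hB x (h2 hx) (h3 hx) c (mem_Orb_self _ _))).symm
    · obtain ⟨o, ho, hob⟩ := SetLike.not_le_iff_exists.mp hOb
      have hm : o • b ∈ Orb O b := ⟨o, ho, rfl⟩
      obtain ⟨Q, h1, h2, h3, h4, h5⟩ := hQ (o • b) hob (hfixO b hb _ hm) (hdisj _ hm)
      have e1 := ncard_modEq_one (S := Orb O b \ {b}) hp h1 (fun x hx e he =>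
        ⟨smul_mem_Orb' (hO.norm (h2 hx)) (h3 hx) he.1, smul_ne_of_fix (h3 hx) he.2⟩) ⟨hm, hob⟩ h4
        fun x hx => h5 x hx.2
      have e2 := dvd_ncard_of_no_fix (S := Orb O c) hp h1 (fun x hx => hB x (h2 hx) (h3 hx))
        fun x hx h6 => hdisj _ hm (h5 x (fun e => hdisj b (mem_Orb_self _ _) (e ▸ hx)) h6 ▸ hx)
      have e3 : (Orb O c).ncard = (Orb O b).ncard := by
        rw [ncard_Orb, ncard_Orb, ← hub, ← cj_stab, ← relIndex_cj u (stabilizer G b) O,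
          cj_of_mem_N (hO.norm huP)]
      rw [e3, ← Set.ncard_sdiff_singleton_add_one (mem_Orb_self O b)] at e2
      have e4 : p ∣ 2 := (Nat.ModEq.dvd_iff (e1.add_right 1) (dvd_refl p)).mp e2
      exact h.NF_odd hp hN hbc ((Nat.prime_dvd_prime_iff_eq hp Nat.prime_two).mp e4)
  obtain ⟨R, hR1, ⟨hR, hR3⟩, hRmax⟩ := exists_max (P := fun R => IsPi {p} R ∧ Fix3 R b) ⟨hP1, h3⟩
  have hPR : P < R := hlt.trans_le hR1
  obtain ⟨z, hz, hzb, hzR⟩ := h.lemR hp hR hR3 hRmax fun x y hxy hx hy hs => by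
    obtain ⟨h0, e, f, he, hf, hef, h1, h2⟩ := hR3
    obtain ⟨w, hw, hwx, hwy⟩ : ∃ w, R ≤ stabilizer G w ∧ w ≠ x ∧ w ≠ y := by
      by_contra hno
      push Not at hno
      by_cases e1 : b = x
      · by_cases e2 : e = y
        · exact hef (e2.trans (hno f h2 (e1 ▸ hf)).symm)
        · exact e2 (hno e h1 (e1 ▸ he))
      · have e3 := hno b h0 e1
        by_cases e2 : e = x
        · exact hf ((hno f h2 (e2 ▸ hef.symm)).trans e3.symm)
        · exact he ((hno e h1 e2).trans e3.symm)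
    exact hPR.ne' (hmax R ⟨x, y, w, hxy, hwx, hwy, hs, hw⟩ hPR.le)
  obtain ⟨h0, e, -, he, -, -, h1, -⟩ := hR3
  have := hN z b e R hz hzb he hR (le_inf h0 h1) hzR
  rw [← h.idx_I hz hzb hbc.symm] at this
  exact Syl.not_mul_dvd hp hP _
    ((Nat.mul_dvd_mul_left p (relIndex_dvd_of_le_pi hp hR hPR.le _)).trans this)

theorem two_of_NF (hp : p.Prime) (hN : NF G Ω p) : Two G Ω := fun a b c hb hc => by
  obtain ⟨g, hg, e⟩ := trans_of_pfix (Y := stabilizer G a) (S := {d | d ≠ a}) hp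
    (fun y hy d hd => smul_ne_of_fix hy hd) (fun d hd => by
      obtain ⟨P, hP⟩ := Sylow_exists hp (D2 G a d)
      exact ⟨P, hP.le.trans inf_le_left, hP.pi, hP.le.trans inf_le_right, fun e he h1 =>
        (h.no_apair hp hN (Ne.symm hd) hP h1).resolve_left he⟩) hb hc
  exact ⟨g, hg, e⟩

end SE

end B71
end H3
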