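import Mathlib
import Cfsg.Agent.H3.B71B
import Cfsg.Agent.H3.Fusion
import Cfsg.Agent.H12.WS
import Cfsg.Agent.H13.Baer

/-! Bender 1971: a minimal counterexample is doubly transitive. -/

set_option autoImplicit false
set_option linter.unusedSectionVars false

namespace H3
namespace B71

open H24 H26 Subgroup MulAction Cfsg

variable {G Ω : Type*} [Group G] [MulAction G Ω] [Finite G]

section Sol

variable {p : ℕ} {M E L P : Subgroup G}

/-- Thompson–Bender, ambient form -/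
theorem le_pcore_TB (hp : p.Prime) (h2 : p ≠ 2) (hM : Sol M) (hE : IsPi {p} E) (hEM : E ≤ M)
    (hΩ : ∀ x ∈ M, x ∈ C[E] → x ^ p = 1 → x ∈ E) (hL : IsPi {p}ᶜ L) (hLM : L ≤ M)
    (hEL : E ≤ N[L]) : L ≤ O[{p}ᶜ, M] := by
  have := Fact.mk hp
  have : Group.IsSolvable M := hM
  rw [pcore_compl_singleton hp, ← map_subgroupOf' hLM]
  refine map_mono (H13.le_pPrimeCore_of_invariant (E := E.subgroupOf M) h2
    H13.isPConstrained_of_isSolvable ((isPi_subgroupOf hE M).isPGroup hp) (fun x hx hxp => ?_) ?_ ?_)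
  · refine hΩ x x.2 (mem_C.mpr fun y hy => ?_) (congrArg Subtype.val hxp)
    exact congrArg Subtype.val (mem_C.mp hx ⟨y, hEM hy⟩ hy)
  · exact ((Nat.Prime.coprime_iff_not_dvd hp).mpr
      ((isPi_compl_iff hp).mp (isPi_subgroupOf hL M))).symm
  · exact le_N_iff.mpr fun a ha x hx => conj_mem (H := L) (hEL ha) hx

theorem le_pcore_of_syl (hp : p.Prime) (h2 : p ≠ 2) (hM : Sol M) (hP : Syl p M P)
    (hL : IsPi {p}ᶜ L) (hLM : L ≤ M) (hPL : P ≤ N[L]) : L ≤ O[{p}ᶜ, M] :=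
  le_pcore_TB hp h2 hM hP.pi hP.le (fun x hx hc hxp => hP.le_of_norm
    (piElt_of_pow_eq_one (fun _ hq hd => (Nat.prime_dvd_prime_iff_eq hq hp).mp hd) hxp).isPi
    (zpowers_le.mpr hx) (zp_le_N (C_le_N _ hc)) (mem_zpowers x)) hL hLM hPL

/-- the `W(S)`-factorisation, ambient form -/
theorem isProd_W (hp : p.Prime) [Fact p.Prime] (h2 : p ≠ 2) (hM : Sol M)
    (hab : ∀ T ≤ M, IsPi {2} T → Abl T) (hP : Syl p M P) :
    IsProd O[{p}ᶜ, M] (M ⊓ N[H12.WOf p P]) M := by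
  have : Group.IsSolvable M := hM
  obtain ⟨S, rfl⟩ := hP.exists_sylow hp
  have h := H12.pPrimeCore_sup_normalizer_WOf (G := M) (H12.not_quadInvolved_of_abelian_two h2
    fun T => (abl_map_iff M.subtype_injective).mp (hab _ (map_subtype_le _)
      (syl_of_sylow Nat.prime_two T).pi))
    (H12.pSep_of_isPSolvable H13.isPSolvable_of_isSolvable) S
  refine ⟨pcore_le _ _, inf_le_left, fun m hm => ?_⟩
  obtain ⟨x, hx, y, hy, e⟩ := (mem_sup_of_norm (norm_of_normal _ (pPrimeCore p M))).mp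
    (h.ge (mem_top (⟨m, hm⟩ : M)))
  refine ⟨x, pcore_compl_singleton hp M ▸ mem_map_of_mem _ hx, y, ⟨y.2, ?_⟩, congrArg Subtype.val e⟩
  rw [← H12.map_WOf (by rw [ker_subtype, inf_bot_eq])]
  exact norm_map le_rfl M.subtype (mem_map_of_mem _ hy)

theorem abl_two_of_odd (hM : Odd ♯M) : ∀ T ≤ M, IsPi {2} T → Abl T := fun T hT h2 => by
  rw [h2.eq_bot (odd_iff_isPi.mp (odd_of_le hM hT))]; exact abl_bot

theorem syl_of_card_eq {M' : Subgroup G} (hP : Syl p M P) (h : P ≤ M') (e : ♯M = ♯M') :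
    Syl p M' P := by
  refine Hall.mk' h hP.pi ?_
  have := (card_mul_relIndex h).trans (e.symm.trans hP.card.symm)
  rw [Nat.eq_of_mul_eq_mul_left (card_pos P) this]
  exact hP.idx

end Sol

theorem LS.inv_mem_Ker {Y Q : Subgroup G} {a : Ω} (h : LS Y a Q) {u k : G} (hu : Inv u)
    (huY : u ∈ Y) (hua : u • a = a) (hk : Odd (orderOf k)) (hkY : k ∈ Y) (hka : k • a = a)
    (hi : u * k * u⁻¹ = k⁻¹) : k ∈ Ker Y a := by
  have hv : Inv (k * u) := hu.mul_of_inverts hi fun e => by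
    rw [eq_inv_of_mul_eq_one_left e, hu.inv, hu.orderOf_eq] at hk
    exact absurd hk (by decide)
  have h1 := h.comm u huY hu hua _
    (h.inv_mem _ (Y.mul_mem hkY huY) hv (by rw [mul_smul, hua, hka]))
  rw [show u * (k * u) * u⁻¹ * (k * u)⁻¹ = u * k * u⁻¹ * k⁻¹ by group, hi, ← mul_inv_rev] at h1
  obtain ⟨n, hn⟩ := hk
  rw [← H21.eq_pow_sq_of_odd (x := k) (m := n) (hn ▸ pow_orderOf_eq_one k)]
  exact pow_mem ((Ker Y a).inv_mem_iff.mp h1) _

theorem SE.odd_Ker (h : SE G Ω) {Y : Subgroup G} {a : Ω} (hY : ∃ y ∈ Y, y • a ≠ a) :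
    Odd ♯(Ker Y a) := by
  obtain ⟨y, hy, hya⟩ := hY
  exact h.odd_of_fix hya (fun x hx => hx.2 y hy) fun x hx => Ker_fix hx

theorem SE.NF_of_at [Finite Ω] (h : SE G Ω) {p : ℕ} (a : Ω)
    (hN : ∀ (z : G) (b : Ω) (R : Subgroup G), Inv z → z • a = a → b ≠ a → IsPi {p} R →
      R ≤ D2 G a b → z ∈ N[R] → p * (C{z}).relIndex R ∣ mm G a) : NF G Ω p := by
  intro z c b R hz hc hb hR hRD hzR
  obtain ⟨g, rfl⟩ := h.exists_smul c a
  have := hN (g * z * g⁻¹) (g • b) (cj g R) (hz.conj g) (conj_fix hc)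
    (fun e => hb (smul_left_cancel g e)) (hR.cj g) (cj_D2 g c b ▸ cj_mono g hRD)
    (cj_N g R ▸ conj_mem_cj g hzR)
  rwa [← cj_C1, relIndex_cj, h.mm_eq _ c] at this

namespace Min

variable [Finite Ω] (h : Min G Ω) {a b c y : Ω} {u v z t g k σ : G} {X Y P R : Subgroup G} {p : ℕ}
include h

theorem exists_ne (a : Ω) : ∃ b : Ω, b ≠ a := by
  have := h.nontriv
  exact _root_.exists_ne a

theorem stab_ne_top (a : Ω) : stabilizer G a ≠ ⊤ := fun e => by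
  obtain ⟨b, hb⟩ := h.exists_ne a
  obtain ⟨g, rfl⟩ := h.se.exists_smul a b
  exact hb (e.ge (mem_top g))

theorem N_ne_top (hX : X ≠ ⊥) (ha : X ≤ stabilizer G a) : N[X] ≠ ⊤ := fun e => by
  have := h.simple
  rcases (normalizer_eq_top_iff.mp e).eq_bot_or_eq_top with e1 | e1
  · exact hX e1
  · exact h.stab_ne_top a (eq_top_iff.mpr (e1 ▸ ha))

theorem faithful (hg : ∀ c : Ω, g • c = c) : g = 1 := by
  have := h.simple
  obtain ⟨a, -⟩ := h.nontriv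
  rcases (toPermHom G Ω).normal_ker.eq_bot_or_eq_top with e | e
  · exact (e.le (show g ∈ (toPermHom G Ω).ker from Equiv.ext hg))
  · exact absurd (eq_top_iff.mpr fun x _ =>
      congrArg (· a) (show toPermHom G Ω x = 1 from e.ge (mem_top x))) (h.stab_ne_top a)

/-- the basic contradiction `(*)` -/
theorem star (hX : X ≠ ⊤) (hI : ∀ u, Inv u → u • a = a → u ∈ X) (hXa : ∃ y ∈ X, y • a ≠ a)
    (hz : Inv z) (hza : z • a = a) (h1 : σ ≠ 1) (ho : Odd (orderOf σ)) (hσa : σ • a = a)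
    (hσ : z * σ * z⁻¹ = σ⁻¹) : False := by
  obtain ⟨u, -, v, -, hu, hv, huv, hc, hua, hva⟩ := h.four a
  obtain ⟨Q, hQ⟩ := h.ls X a hX ⟨u, hI u hu hua, v, hI v hv hva, hu, hv, huv, hc, hua, hva⟩ hXa
  have hN := h.se.odd_Ker hXa
  have hNX := Ker_nml X a
  have hker : ∀ z k, Inv z → z • a = a → Odd (orderOf k) → k • a = a → z * k * z⁻¹ = k⁻¹ →
      k ∈ Ker X a := fun z k hz hza hk hka hi => by
    refine hQ.inv_mem_Ker hz (hI z hz hza) hza hk ?_ hka hi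
    by_cases e : k * z = 1
    · rw [eq_inv_of_mul_eq_one_left e]; exact inv_mem (hI z hz hza)
    · rw [← X.mul_mem_cancel_right (hI z hz hza)]
      exact hI _ (hz.mul_of_inverts hi e) (by rw [mul_smul, hza, hka])
  obtain ⟨y, hy, hya⟩ := hXa
  obtain ⟨t, ht, -, hta, htX⟩ := h.se.exists_swap hu (hu.conj y) hua (conj_fix hua) hya.symm
  have htX := htX X (hI u hu hua) (mul_mem (mul_mem hy (hI u hu hua)) (inv_mem hy))
  have htr : ∀ z, Inv z → z • a = a → ∃ k ∈ X ⊓ stabilizer G a, k * u * k⁻¹ = z := fun z hz hza => by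
    obtain ⟨k, h1, -, -, h2, h3⟩ := h.se.exists_K ht hta hya.symm hu hz hua hza
    exact ⟨k, ⟨h3 X (hI u hu hua) (hI z hz hza) htX, h1⟩, h2⟩
  have hm : (C{u}).relIndex (X ⊓ stabilizer G a) = mm G a := by
    rw [relIndex_C1, mm]
    congr 1
    ext x
    exact ⟨fun ⟨y, hy, e⟩ => e ▸ conj_mem_II hy.2 ⟨hu, hua⟩, fun hx => htr x hx.1 hx.2⟩
  obtain ⟨c, hc'⟩ : (C{u}).relIndex (Ker X a) ∣ mm G a := hm ▸
    relIndex_dvd_relIndex_of_normalizer (le_inf hNX.le fun x hx => Ker_fix hx)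
      (inf_le_left.trans hNX.norm)
  have hc1 : c ≠ 1 := by
    rintro rfl
    rw [mul_one, relIndex_C1, mm] at hc'
    have := Set.eq_of_subset_of_ncard_le (s := {x | ∃ y ∈ Ker X a, y * u * y⁻¹ = x}) (t := II G a)
      (fun x ⟨y, hy, e⟩ => e ▸ conj_mem_II (Ker_fix hy) ⟨hu, hua⟩) hc'.le
    obtain ⟨w, hw, rfl⟩ : v ∈ {x | ∃ y ∈ Ker X a, y * u * y⁻¹ = x} := this ▸ ⟨hv, hva⟩
    refine (hu.mul hv huv hc).not_mem_odd hN ?_
    rw [show u * (w * u * w⁻¹) = u * w * u⁻¹ * w⁻¹ by rw [hu.inv]; group]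
    exact mul_mem (hNX.conj_mem (hI u hu hua) hw) (inv_mem hw)
  obtain ⟨p, hp, j, rfl⟩ := Nat.exists_prime_and_dvd hc1
  have h2 := h.se.two_of_NF hp (h.se.NF_of_at a fun z b R hz hza hb hR hRD hzR => by
    have hRo := odd_of_le (h.se.odd_stab hb.symm) hRD
    have hzN : z ∈ N[Ker X a] := hNX.norm (hI z hz hza)
    have hz0 : z ∈ N[R ⊓ Ker X a] := mem_N_of_zp (norm_inf (zp_le_N hzR) (zp_le_N hzN))
    have e1 : (C{z}).relIndex R = (C{z}).relIndex (R ⊓ Ker X a) := by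
      rw [idx_eq_card hz hRo hzR, idx_eq_card hz (odd_of_le hRo inf_le_left) hz0]
      congr 2
      ext k
      exact ⟨fun hk => ⟨⟨hk.1, hker z k hz hza (odd_orderOf_of_mem hRo hk.1) (hRD hk.1).1 hk.2⟩,
        hk.2⟩, fun hk => ⟨hk.1.1, hk.2⟩⟩
    have e2 := idx_dvd hp hz hN hzN (hR.of_le inf_le_left) inf_le_right hz0
    obtain ⟨k, hk, rfl⟩ := htr z hz hza
    rw [← cj_of_mem_N (hNX.norm hk.1), ← cj_C1 k u, relIndex_cj, cj_C1,
      cj_of_mem_N (hNX.norm hk.1)] at e2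
    rw [e1, hc', mul_left_comm]
    exact Nat.mul_dvd_mul_left p (e2.mul_right j))
  refine h1 (h.faithful fun c => ?_)
  by_cases hca : c = a
  · rw [hca, hσa]
  obtain ⟨g, hg, e⟩ := h2 a c (y • a) hca hya
  refine fix_of_conj (g := g) (e ▸ (hker (g * z * g⁻¹) _ (hz.conj g) (conj_mem_II hg ⟨hz, hza⟩).2
    (by rwa [H24.orderOf_conj]) (by simpa [hg] using conj_fix (g := g) hσa) ?_).2 y hy)
  calc _ = g * (z * σ * z⁻¹) * g⁻¹ := by group
    _ = _ := by rw [hσ]; group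

theorem star' (hX : X ≠ ⊤) (hb : b ≠ a) (hD : D2 G a b ≤ X) (hXa : ∃ y ∈ X, y • a ≠ a)
    (hu : Inv u) (hua : u • a = a) (huX : u ∈ X)
    (hz : Inv z) (hza : z • a = a) (h1 : σ ≠ 1) (ho : Odd (orderOf σ)) (hσa : σ • a = a)
    (hσ : z * σ * z⁻¹ = σ⁻¹) : False := by
  refine h.star hX (fun v hv hva => ?_) hXa hz hza h1 ho hσa hσ
  obtain ⟨t, ht, hta⟩ := h.se.exists_inv_smul hb.symm
  obtain ⟨k, h1, h2, -, rfl, -⟩ := h.se.exists_K ht hta hb.symm hu hv hua hva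
  exact mul_mem (mul_mem (hD ⟨h1, h2⟩) huX) (inv_mem (hD ⟨h1, h2⟩))

/-- a subgroup of `G_{ab}` normalised by `G_{ab}`, an element moving `a` and an involution at `a` -/
theorem star_N (hb : b ≠ a) (h0 : X ≠ ⊥) (hXa : X ≤ stabilizer G a) (hD : D2 G a b ≤ N[X])
    (ht : t ∈ N[X]) (hta : t • a = b) (hu : Inv u) (hua : u • a = a) (huX : u ∈ N[X])
    (hz : Inv z) (hza : z • a = a) (h1 : σ ≠ 1) (ho : Odd (orderOf σ)) (hσa : σ • a = a)
    (hσ : z * σ * z⁻¹ = σ⁻¹) : False :=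
  h.star' (h.N_ne_top h0 hXa) hb hD ⟨t, ht, hta ▸ hb⟩ hu hua huX hz hza h1 ho hσa hσ

theorem cyc (hp : p.Prime) (h2 : p ≠ 2) (hz : Inv z) (hza : z • a = a) (h1 : σ ≠ 1)
    (ho : Odd (orderOf σ)) (hσa : σ • a = a) (hσ : z * σ * z⁻¹ = σ⁻¹) {B : Set Ω} (ha : a ∈ B)
    (hne : ∃ y ∈ B, y ≠ a) (hzB : ∀ y ∈ B, z • y ∈ B)
    (htr : ∀ x ∈ B, ∃ g : G, g • x = a ∧ ∀ y ∈ B, g • y ∈ B)
    (hB : ∀ y ∈ B, y ≠ a → O[{p}ᶜ, D2 G y (z • y)] ≤ stabilizer G a ∧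
      ∃ P, Syl p (D2 G a y) P ∧ P ≤ D2 G y (z • y) ∧ z ∈ N[P] ∧ P ≠ ⊥) : False := by
  have := Fact.mk hp
  obtain ⟨y0, hy0, hy0a⟩ := hne
  obtain ⟨⟨x, y'⟩, ⟨hx, hy', hxy⟩, hmin⟩ := Set.exists_min_image
    {q : Ω × Ω | q.1 ∈ B ∧ q.2 ∈ B ∧ q.2 ≠ q.1} (fun q => ♯O[{p}ᶜ, D2 G q.1 q.2])
    (Set.toFinite _) ⟨(a, y0), ha, hy0, hy0a⟩
  obtain ⟨g, hg, hgB⟩ := htr x hx
  set y := g • y' with hy
  have hya : y ≠ a := fun e => hxy (smul_left_cancel g (e.trans hg.symm))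
  obtain ⟨hL, P, hP, hPD, hzP, hP0⟩ := hB y (hgB y' hy') hya
  have hD := h.se.odd_stab hya.symm
  have hle : O[{p}ᶜ, D2 G y (z • y)] ≤ O[{p}ᶜ, D2 G a y] :=
    le_pcore_of_syl hp h2 (sol_of_odd hD) hP (pcore_pi _ _)
      (le_inf hL ((pcore_le _ _).trans inf_le_left)) (hPD.trans (pcore_nml _ _).norm)
  have heq := eq_of_card_ge hle (by
    have := hmin (y, z • y) ⟨hgB y' hy', hzB _ (hgB y' hy'), h.se.smul_ne hz hza hya⟩
    rwa [← card_cj g, ← pcore_cj, cj_D2, hg] at this)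
  obtain ⟨t, ht, hta, htP⟩ := h.se.exists_swap_norm hp hya.symm hP
  by_cases h0 : O[{p}ᶜ, D2 G a y] = ⊥
  · have hW := isProd_W hp h2 (sol_of_odd hD) (abl_two_of_odd hD) hP
    refine h.star_N hya (H12.WOf_ne_bot (hP.pi.isPGroup hp) hP0)
      ((H12.WOf_le P).trans (hP.le.trans inf_le_left)) (fun d hd => ?_)
      (H12.normalizer_le_normalizer_WOf P htP) hta hz hza
      (H12.normalizer_le_normalizer_WOf P hzP) hz hza h1 ho hσa hσ
    obtain ⟨o, ho, n, hn, rfl⟩ := hW.mul d hd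
    rw [h0, mem_bot] at ho
    rw [ho, one_mul]; exact hn.2
  · exact h.star_N hya h0 ((pcore_le _ _).trans inf_le_left) (pcore_nml _ _).norm
      (N_le_N_pcore _ _ (mem_N_D2 hta (ht.smul_eq hta))) hta hz hza
      (heq ▸ N_le_N_pcore _ _ (mem_N_D2 rfl (hz.smul_smul y))) hz hza h1 ho hσa hσ

end Min

/-- a fully bad Sylow subgroup -/
structure Bad (p : ℕ) (z : G) (a b : Ω) (P : Subgroup G) : Prop where
  ne : b ≠ a
  syl : Syl p (D2 G b (z • b)) P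
  norm : z ∈ N[P]
  fix : P ≤ stabilizer G a

theorem eq_of_dvd_of_not {p a b m : ℕ} (hb : PiNat {p} b) (h1 : a ∣ b) (h2 : b ∣ m)
    (h3 : ¬ p * a ∣ m) : b = a := by
  obtain ⟨j, rfl⟩ := h1
  by_cases hj : j = 1
  · rw [hj, mul_one]
  obtain ⟨q, hq, hd⟩ := Nat.exists_prime_and_dvd hj
  obtain rfl : q = p := hb q hq (hd.mul_left a)
  exact absurd ((mul_comm a q ▸ Nat.mul_dvd_mul_left a hd).trans h2) h3

namespace SE

variable [Finite Ω] (h : SE G Ω) {a b : Ω} {z : G} {P R : Subgroup G} {p : ℕ}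
include h

theorem bad_of (hp : p.Prime) (hz : Inv z) (hza : z • a = a) (hb : b ≠ a) (hR : IsPi {p} R)
    (hRD : R ≤ D2 G a b) (hzR : z ∈ N[R]) (hn : ¬ p * (C{z}).relIndex R ∣ mm G a) :
    ∃ P, Bad p z a b P ∧ R ≤ P ∧ ∀ k ∈ P, z * k * z⁻¹ = k⁻¹ → k ∈ R := by
  have hD := h.odd_stab (h.smul_ne hz hza hb).symm
  have hzD : z ∈ N[D2 G b (z • b)] := mem_N_D2 rfl (hz.smul_smul b)
  obtain ⟨P, h1, h2, h3⟩ := exists_syl_inv hp hz hD hzD hR
    (le_inf (hRD.trans inf_le_right) (fix_smul hzR (hRD.trans inf_le_right))) hzR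
  have e := eq_of_dvd_of_not (h1.pi.relIndex _) (relIndex_dvd_of_le_pi hp h1.pi h3 C{z})
    (h.idx_D hz hza hb ▸ idx_dvd hp hz hD hzD h1.pi h1.le h2) hn
  have h4 : ∀ k ∈ P, z * k * z⁻¹ = k⁻¹ → k ∈ R := fun k hk hi =>
    inverted_mem_of_idx hz (odd_of_le hD h1.le) h2 h3 hzR e.le hk hi
  exact ⟨P, ⟨hb, h1, h2, le_of_cent_inv hz (odd_of_le hD h1.le) h2
    (fun x _ e => h.fix_of_comm hz hza e) fun x hx e => (hRD (h4 x hx e)).1⟩, h3, h4⟩

theorem Bad_syl (hz : Inv z) (hza : z • a = a) (hP : Bad p z a b P) : Syl p (D2 G a b) P :=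
  syl_of_card_eq hP.syl (le_inf hP.fix (hP.syl.le.trans inf_le_left)) (h.card_D2 hz hza hP.ne)

theorem Bad_not (hp : p.Prime) (hz : Inv z) (hza : z • a = a) (hP : Bad p z a b P) :
    ¬ p * (C{z}).relIndex P ∣ mm G a := h.idx_D hz hza hP.ne ▸ Syl.not_mul_dvd hp hP.syl _

end SE

theorem blk_sq {A : Subgroup G} {y : Ω} (hA : ⁅A, A⁆ ≤ stabilizer G y) (ho : Odd ♯A) {v w : G}
    (hv : v ∈ A) (hw : w ∈ A) (e : (w * w) • y = (v * v) • y) : w • y = v • y := by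
  have hm : v⁻¹ * w ∈ A := mul_mem (inv_mem hv) hw
  have e1 : ((v⁻¹ * w) * (v⁻¹ * w)) • y = y := by
    have h1 : ⁅A, A⁆ ≤ stabilizer G (w • y) := fix_smul (norm_der1 (norm_self A) hw) hA
    rw [mul_smul, mul_smul, mul_smul, blk_comm h1 hw (inv_mem hv), ← mul_smul w w, e, mul_smul,
      inv_smul_smul, inv_smul_smul]
  have := odd_pow_smul e1 (odd_orderOf_of_mem ho hm)
  rw [pow_orderOf_eq_one, one_smul, mul_smul, eq_inv_smul_iff] at this
  exact this.symm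

namespace Min

variable [Finite Ω] (h : Min G Ω) {a b : Ω} {p : ℕ}
include h

theorem NF_of_dvd (hp : p.Prime) (hm : p ∣ mm G a) : NF G Ω p := by
  refine h.se.NF_of_at a fun z b R hz hza hb hR hRD hzR => ?_
  by_contra hn
  have h2 : p ≠ 2 := by
    rintro rfl
    exact Nat.not_even_iff_odd.mpr (h.se.mm_odd hb) (even_iff_two_dvd.mpr hm)
  obtain ⟨P0, hP0, -, -⟩ := h.se.bad_of hp hz hza hb hR hRD hzR hn
  obtain ⟨P, -, ⟨b, hP⟩, hmax⟩ := exists_max (P := fun P => ∃ b : Ω, Bad p z a b P) ⟨b, hP0⟩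
  have hPo : Odd ♯P := odd_of_isPi h2 hP.syl.pi
  have hPn := h.se.Bad_not hp hz hza hP
  obtain ⟨σ, hσP, h1, hσ⟩ := exists_inverted hz hPo hP.norm fun e => hPn (by
    rwa [relIndex_eq_one.mpr e, mul_one])
  set W := closure (invertedBy P z) with hW
  have hWP : W ≤ P := (closure_le _).mpr fun k hk => hk.1
  have hWpi : IsPi {p} W := hP.syl.pi.of_le hWP
  have hzW : z ∈ N[W] := mem_N_of_zp (norm_closure fun x hx k hk => by
    rcases hz.mem_zp hx with rfl | rfl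
    · simpa using subset_closure hk
    · rw [hk.2]; exact inv_mem (subset_closure hk))
  have hWn : ¬ p * (C{z}).relIndex W ∣ mm G a := by
    rw [idx_eq_card hz (odd_of_le hPo hWP) hzW, show invertedBy W z = invertedBy P z from
      Set.ext fun k => ⟨fun hk => ⟨hWP hk.1, hk.2⟩, fun hk => ⟨subset_closure hk, hk.2⟩⟩,
      ← idx_eq_card hz hPo hP.norm]
    exact hPn
  have hT : ∀ y, y ≠ a → W ≤ stabilizer G y →
      D2 G y (z • y) ⊓ C[W] ≤ stabilizer G a → O[{p}ᶜ, D2 G y (z • y)] ≤ stabilizer G a :=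
    fun y hy hWy hC => h.se.le_stab_of_cent (odd_of_le (h.se.odd_stab (h.se.smul_ne hz hza hy).symm)
      (pcore_le _ _)) hz hza (N_le_N_pcore _ _ (mem_N_D2 rfl (hz.smul_smul y)))
      ((le_inf hWy (fix_smul hzW hWy)).trans (pcore_nml _ _).norm) ((pcore_pi _ _).coprime' hWpi)
      (fun k hk => ⟨odd_orderOf_of_mem hPo hk.1, hP.fix hk.1, hk.2⟩)
      ((inf_le_inf_right _ (pcore_le _ _)).trans hC)
  have hσW : σ ∈ W := subset_closure ⟨hσP, hσ⟩
  have hfin := fun {B} => h.cyc (B := B) hp h2 hz hza h1 (odd_orderOf_of_mem hPo hσP) (hP.fix hσP) hσ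
  by_cases hC : C[W] ≤ stabilizer G a
  · have hB : ∀ y, y ≠ a → P ≤ stabilizer G y → Bad p z a y P := fun y hy hPy => by
      obtain ⟨P', h3, h4, -⟩ := h.se.bad_of hp hz hza hy hP.syl.pi (le_inf hP.fix hPy) hP.norm hPn
      exact hmax P' ⟨y, h3⟩ h4 ▸ h3
    refine hfin (B := {y | P ≤ stabilizer G y}) hP.fix ⟨b, hP.syl.le.trans inf_le_left, hP.ne⟩
      (fun y hy => fix_smul hP.norm hy) (fun x hx => ?_) fun y hy hya =>
        ⟨hT y hya (hWP.trans hy) (inf_le_right.trans hC), P, h.se.Bad_syl hz hza (hB y hya hy),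
          (hB y hya hy).syl.le, hP.norm, fun e => h1 (by simpa [e] using hσP)⟩
    by_cases hxa : x = a
    · exact ⟨1, by rw [one_smul, hxa], fun y hy => by rwa [one_smul]⟩
    obtain ⟨t, ht, hta, htP⟩ := h.se.exists_swap_norm hp (Ne.symm hxa)
      (h.se.Bad_syl hz hza (hB x hxa hx))
    exact ⟨t, ht.smul_eq hta, fun y hy => fix_smul htP hy⟩
  · have hCo : Odd ♯C[W] := odd_of_no_inv fun v hv hi => by
      have aux : ∀ v ∈ C[W], Inv v → v • a = a := fun v hv hi => by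
        obtain ⟨w, hw⟩ := h.se.ex v hi
        by_cases e : a = w
        · rwa [e]
        · exact absurd (h.se.eq_one_of_inv_comm hz hi hza hw e (odd_orderOf_of_mem hPo hσP) hσ
            (mem_C.mp hv σ hσW).symm) h1
      exact hC fun c hc => h.se.smul_of_conj hi (aux v hv hi)
        (aux _ (mul_mem (mul_mem hc hv) (inv_mem hc)) (hi.conj c))
    obtain ⟨A, hAC, hN, hA1, hA2⟩ := exists_block hCo hC
    have hAo := odd_of_le hCo hAC
    have hzA : z ∈ N[A] := hN (N_le_NC W hzW)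
    obtain ⟨x0, hx0, hx0a⟩ := SetLike.not_le_iff_exists.mp hA1
    refine hfin (B := Orb A a) (mem_Orb_self _ _) ⟨_, ⟨x0, hx0, rfl⟩, hx0a⟩
      (fun y hy => smul_mem_Orb' hzA hza hy) ?_ ?_
    · rintro _ ⟨x, hx, rfl⟩
      exact ⟨x⁻¹, inv_smul_smul x a, fun y hy => smul_mem_Orb (inv_mem hx) hy⟩
    · rintro _ ⟨x, hx, rfl⟩ hya
      have hWy : W ≤ stabilizer G (x • a) := fix_smul (C_le_N W (hAC hx)) (hWP.trans hP.fix)
      obtain ⟨P', h3, h4, -⟩ := h.se.bad_of hp hz hza hya hWpi (le_inf (hWP.trans hP.fix) hWy)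
        hzW hWn
      refine ⟨hT _ hya hWy fun c hc => ?_, P', h.se.Bad_syl hz hza h3, h3.syl.le, h3.norm,
        fun e => h1 (by simpa [e] using h4 hσW)⟩
      have e1 : c • x • a = x • a := hc.1.1
      have e2 : c • x⁻¹ • a = x⁻¹ • a := h.se.blk_inv hA2 hAo hz hza hzA hx ▸ hc.1.2
      have := blk_sq (fix_smul (norm_der1 (norm_self A) hx) hA2) hAo (inv_mem hx)
        (conj_mem (hN (norm_self _ hc.2)) (inv_mem hx)) (by
          have e3 : c⁻¹ • x • a = x • a := inv_smul_eq_iff.mpr e1.symm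
          rw [show c * x⁻¹ * c⁻¹ * (c * x⁻¹ * c⁻¹) = c * x⁻¹ * x⁻¹ * c⁻¹ by group]
          simp only [mul_smul, e3, inv_smul_smul, e2])
      rwa [← e1, conj_smul, e1, inv_smul_smul] at this

theorem one_lt_mm (a : Ω) : 1 < mm G a := by
  obtain ⟨u, -, v, -, hu, hv, huv, -, hua, hva⟩ := h.four a
  exact (Set.one_lt_ncard (Set.toFinite _)).mpr ⟨u, ⟨hu, hua⟩, v, ⟨hv, hva⟩, huv⟩

theorem two : Two G Ω := by
  obtain ⟨a, -⟩ := h.nontriv
  obtain ⟨p, hp, hm⟩ := Nat.exists_prime_and_dvd (h.one_lt_mm a).ne'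
  exact h.se.two_of_NF hp (h.NF_of_dvd hp hm)

theorem card_D2_eq {c d : Ω} (hab : b ≠ a) (hcd : d ≠ c) : ♯(D2 G a b) = ♯(D2 G c d) := by
  obtain ⟨g, rfl⟩ := h.se.exists_smul a c
  obtain ⟨g', h1, rfl⟩ := h.two (g • a) (g • b) d (fun e => hab (smul_left_cancel g e)) hcd
  rw [← card_cj (g' * g), cj_D2, mul_smul, mul_smul, h1]

end Min

end B71
end H3
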