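import Mathlib
import Cfsg.Agent.H3.B71C

/-! Bender 1971: no bad elements; `p`-subgroups with three fixed points. -/

set_option autoImplicit false
set_option linter.unusedSectionVars false

namespace H3
namespace B71

open H24 H26 Subgroup MulAction Cfsg
open scoped commutatorElement

variable {G Ω : Type*} [Group G] [MulAction G Ω] [Finite G]

section Four

variable {u v : G} {X L : Subgroup G}

theorem four_sq (hu : Inv u) (hv : Inv v) (hc : u * v = v * u) :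
    ∀ x ∈ zpowers u ⊔ zpowers v, x * x = 1 := by
  intro x hx
  obtain ⟨y, hy, w, hw, rfl⟩ := (mem_sup_of_norm (norm_of_cent (zpowers_le.mpr
    (by rw [C_zpowers]; exact mem_C1.mpr hc.symm)))).mp hx
  rcases hu.mem_zp hy with rfl | rfl <;> rcases hv.mem_zp hw with rfl | rfl
  · simp
  · simpa using hv.2
  · simpa using hu.2
  · calc _ = y * (w * y) * w := by group
      _ = (y * y) * (w * w) := by rw [← hc]; group
      _ = 1 := by rw [hu.2, hv.2, one_mul]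

theorem four_pi (hu : Inv u) (hv : Inv v) (hc : u * v = v * u) :
    IsPi {2} (zpowers u ⊔ zpowers v) := isPi_iff_piElt.mpr fun x hx =>
  piElt_of_pow_eq_one (n := 2) (piNat_self Nat.prime_two) (by rw [pow_two, four_sq hu hv hc x hx])

theorem four_abl (hc : u * v = v * u) : Abl (zpowers u ⊔ zpowers v) :=
  (abl_zpowers u).sup (abl_zpowers v) (zpowers_le.mpr (by rw [C_zpowers]; exact mem_C1.mpr hc))

theorem gen_four (hu : Inv u) (hv : Inv v) (hne : u ≠ v) (hc : u * v = v * u) (hX : Odd ♯X)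
    (huX : u ∈ N[X]) (hvX : v ∈ N[X])
    (h : ∀ x ∈ zpowers u ⊔ zpowers v, Inv x → X ⊓ C{x} ≤ L) : X ≤ L := by
  refine coprime_abelian_gen_cent1 (four_abl hc) (fun hcy => ?_) (sup_le (zp_le_N huX) (zp_le_N hvX))
    ((odd_iff_isPi.mp hX).coprime' (four_pi hu hv hc)) fun x hx hx1 =>
      h x hx ⟨hx1, four_sq hu hv hc x hx⟩
  obtain ⟨x, hx, e⟩ := hcy.exists_gen
  have hx1 : x ≠ 1 := by
    rintro rfl
    exact hu.1 (by simpa using (e.ge (mem_sup_left (mem_zpowers u))))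
  have hx2 : Inv x := ⟨hx1, four_sq hu hv hc x hx⟩
  exact hne (((hx2.mem_zp (e.ge (mem_sup_left (mem_zpowers u)))).resolve_left hu.1).trans
    ((hx2.mem_zp (e.ge (mem_sup_right (mem_zpowers v)))).resolve_left hv.1).symm)

end Four

theorem exists_conj_norm {p : ℕ} {M P : Subgroup G} {t : G} (hp : p.Prime) (ht : Inv t)
    (hM : Odd ♯M) (htM : t ∈ N[M]) (hP : Syl p M P) : ∃ d ∈ M, d * t * d⁻¹ ∈ N[P] := by
  obtain ⟨P0, h1, h2, -⟩ := exists_syl_inv hp ht hM htM (isPi_bot _) bot_le (mem_N_bot t)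
  obtain ⟨d, hd, rfl⟩ := Sylow_trans hp h1 hP
  exact ⟨d, hd, cj_N d P0 ▸ conj_mem_cj d h2⟩

theorem mem_N_inf {g : G} {A B : Subgroup G} (hA : g ∈ N[A]) (hB : g ∈ N[B]) : g ∈ N[A ⊓ B] :=
  mem_N_of_zp (norm_inf (zp_le_N hA) (zp_le_N hB))

theorem mem_N_sup {g : G} {A B : Subgroup G} (hA : g ∈ N[A]) (hB : g ∈ N[B]) : g ∈ N[A ⊔ B] :=
  mem_N_of_zp (norm_sup (zp_le_N hA) (zp_le_N hB))

theorem mem_N_N {g : G} {A : Subgroup G} (hA : g ∈ N[A]) : g ∈ N[N[A]] := norm_self _ hA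

theorem conj_inv_conj {g z k : G} (h : z * k * z⁻¹ = k⁻¹) :
    (g * z * g⁻¹) * (g * k * g⁻¹) * (g * z * g⁻¹)⁻¹ = (g * k * g⁻¹)⁻¹ := by
  calc _ = g * (z * k * z⁻¹) * g⁻¹ := by group
    _ = _ := by rw [h]; group

theorem not_le_C1_of_inv {z k : G} {P : Subgroup G} (hk : k ∈ P) (h1 : k ≠ 1)
    (ho : Odd (orderOf k)) (h : z * k * z⁻¹ = k⁻¹) : ¬ P ≤ C{z} := fun e => by
  rw [← mem_C1.mp (e hk), mul_inv_cancel_right] at h
  exact h1 (H21.eq_one_of_sq_of_odd ho (pow_orderOf_eq_one k) (by nth_rewrite 2 [h]; simp))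

theorem prime_dvd_idx {z l : G} {M : Subgroup G} (hz : Inv z) (hM : Odd ♯M) (hzM : z ∈ N[M])
    (hl : l ∈ M) (hp : (orderOf l).Prime) (h : z * l * z⁻¹ = l⁻¹) :
    orderOf l ∣ (C{z}).relIndex M := by
  have hpi : IsPi {orderOf l} (zpowers l) := (piElt_of_orderOf_prime hp rfl).isPi
  refine Dvd.dvd.trans ?_ (idx_dvd hp hz hM hzM hpi (zpowers_le.mpr hl) (zp_mem_N_of_inv h))
  obtain ⟨q, hq, hd⟩ := Nat.exists_prime_and_dvd (n := (C{z}).relIndex (zpowers l)) fun e =>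
    not_le_C1_of_inv (mem_zpowers l) (ne_one_of_orderOf_prime hp) (odd_orderOf_of_mem hM hl) h
      (relIndex_eq_one.mp e)
  exact (hpi.relIndex _ q hq hd : q = orderOf l) ▸ hd

theorem Fix3.third {R : Subgroup G} {a : Ω} (h : Fix3 R a) (x y : Ω) :
    ∃ w, R ≤ stabilizer G w ∧ w ≠ x ∧ w ≠ y := by
  obtain ⟨h0, e, f, he, hf, hef, h1, h2⟩ := h
  by_contra hno
  push Not at hno
  by_cases e1 : a = x
  · by_cases e2 : e = y
    · exact hef (e2.trans (hno f h2 (e1 ▸ hf)).symm)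
    · exact e2 (hno e h1 (e1 ▸ he))
  · have e3 := hno a h0 e1
    by_cases e2 : e = x
    · exact hf ((hno f h2 (e2 ▸ hef.symm)).trans e3.symm)
    · exact he ((hno e h1 e2).trans e3.symm)

theorem Fix3.move {R : Subgroup G} {a b : Ω} (h : Fix3 R a) (hb : R ≤ stabilizer G b) :
    Fix3 R b := by
  obtain ⟨w, hw, h1, -⟩ := h.third b b
  obtain ⟨w', hw', h2, h3⟩ := h.third b w
  exact ⟨hb, w, w', h1, h2, h3.symm, hw, hw'⟩

theorem Fix3.mono {R X : Subgroup G} {a : Ω} (h : Fix3 R a) (hX : X ≤ R) : Fix3 X a := by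
  obtain ⟨h0, e, f, he, hf, hef, h1, h2⟩ := h
  exact ⟨hX.trans h0, e, f, he, hf, hef, hX.trans h1, hX.trans h2⟩

/-- the preimage of the centre of `Q / N` -/
def ZM (Q N : Subgroup G) (h : Q ≤ N[N]) : Subgroup G where
  carrier := {x | x ∈ Q ∧ ∀ y ∈ Q, x * y * x⁻¹ * y⁻¹ ∈ N}
  one_mem' := ⟨Q.one_mem, fun y _ => by simp⟩
  mul_mem' := fun {x x'} hx hx' => ⟨Q.mul_mem hx.1 hx'.1, fun y hy => by
    rw [show x * x' * y * (x * x')⁻¹ * y⁻¹ =
      x * (x' * y * x'⁻¹ * y⁻¹) * x⁻¹ * (x * y * x⁻¹ * y⁻¹) by group]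
    exact N.mul_mem (conj_mem (h hx.1) (hx'.2 y hy)) (hx.2 y hy)⟩
  inv_mem' := fun {x} hx => ⟨Q.inv_mem hx.1, fun y hy => by
    rw [show x⁻¹ * y * x⁻¹⁻¹ * y⁻¹ = x⁻¹ * (x * y * x⁻¹ * y⁻¹)⁻¹ * x by group]
    exact conj_mem' (h hx.1) (N.inv_mem (hx.2 y hy))⟩

theorem LS.piNat {Y Q : Subgroup G} {a : Ω} (h : LS Y a Q) :
    PiNat {2} ((Ker Y a).relIndex Q) := by
  have hn := h.le.trans (Ker_nml Y a).norm
  refine (isPi_quo_iff hn).mp (isPi_iff_piElt.mpr fun z hz => ?_)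
  obtain ⟨x, hx, hxN, rfl⟩ := mem_quo.mp hz
  obtain ⟨n, h1⟩ := h.two x hx
  exact piElt_of_pow_eq_one (piNat_self_pow Nat.prime_two n)
    ((ap_pow _ hxN _).symm.trans (cs_of_mem h1))

/-- the class of subgroups used in the last step of `NB` -/
structure YC (p : ℕ) (a b : Ω) (Y : Subgroup G) : Prop where
  ne : Y ≠ ⊤
  four : Four Y a
  swap : ∃ t ∈ Y, Inv t ∧ t • a = b
  inv : ∃ u ∈ Y, Inv u ∧ u • a = a ∧ ∃ k ∈ Y, k ≠ 1 ∧ PiElt {p} k ∧ k • a = a ∧ u * k * u⁻¹ = k⁻¹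

namespace Min

variable [Finite Ω] (h : Min G Ω) {a b c y : Ω} {u v z t g k σ : G} {X Y P R S : Subgroup G} {p : ℕ}
include h

theorem YC_step (hp : p.Prime) [Fact p.Prime] (h2 : p ≠ 2) (hb : b ≠ a) (hY : YC p a b Y)
    (hS : Syl p (Y ⊓ D2 G a b) S) : S ≠ ⊥ ∧ YC p a b N[H12.WOf p S] := by
  obtain ⟨t, htY, ht, hta⟩ := hY.swap
  obtain ⟨u, huY, hu, hua, k, hkY, hk1, hkp, hka, hki⟩ := hY.inv
  have hmv : ∃ y ∈ Y, y • a ≠ a := ⟨t, htY, hta ▸ hb⟩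
  obtain ⟨Q, hQ⟩ := h.ls Y a hY.ne hY.four hmv
  have hN := h.se.odd_Ker hmv
  have hNY := Ker_nml Y a
  set N := Ker Y a with hNdef
  have hko : Odd (orderOf k) := by
    rw [← Nat.card_zpowers]; exact odd_of_isPi h2 hkp.isPi
  have hkN : k ∈ N := hQ.inv_mem_Ker hu huY hua hko hkY hka hki
  have hND : N ≤ Y ⊓ D2 G a b :=
    le_inf hNY.le (le_inf (fun x hx => Ker_fix hx) fun x hx => hta ▸ hx.2 t htY)
  have hDo : Odd ♯(Y ⊓ D2 G a b) := odd_of_le (h.se.odd_stab hb.symm) inf_le_right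
  set Q0 := ZM Q N (hQ.le.trans hNY.norm) with hQ0
  have hQ0Q : Q0 ≤ Q := fun x hx => hx.1
  have hNQ0 : N ≤ Q0 := fun x hx => ⟨hQ.ker_le hx, fun y hy => by
    rw [show x * y * x⁻¹ * y⁻¹ = x * (y * x⁻¹ * y⁻¹) by group]
    exact mul_mem hx (hNY.conj_mem (hQ.le hy) (inv_mem hx))⟩
  have hIQ0 : ∀ w ∈ Y, Inv w → w • a = a → w ∈ Q0 := fun w h1 h2 h3 =>
    ⟨hQ.inv_mem w h1 h2 h3, hQ.comm w h1 h2 h3⟩
  have hDQ0 : Y ⊓ D2 G a b ≤ N[Q0] := le_N_iff.mpr fun d hd x hx =>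
    ⟨conj_mem (hQ.norm d hd.1 hd.2.1) hx.1, fun y hy => by
      rw [show d * x * d⁻¹ * y * (d * x * d⁻¹)⁻¹ * y⁻¹ =
        d * (x * (d⁻¹ * y * d) * x⁻¹ * (d⁻¹ * y * d)⁻¹) * d⁻¹ by group]
      exact hNY.conj_mem hd.1 (hx.2 _ (conj_mem' (hQ.norm d hd.1 hd.2.1) hy))⟩
  have hcomm : ⁅Q0, Q0⁆ ≤ N := commutator_le.mpr fun x hx y hy => hx.2 y hy.1
  set B := Q0 ⊔ (Y ⊓ D2 G a b) with hB
  have hBs : Sol B := (sol_of_der1 ((sol_of_odd hN).of_le hcomm)).sup (sol_of_odd hDo) hDQ0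
  have hQB : Q0 ⊴ B := nml_sup_left hDQ0
  have hBY : B ≤ Y := sup_le (hQ0Q.trans hQ.le) inf_le_left
  have hBa : B ≤ stabilizer G a :=
    sup_le (fun x hx => hQ.fix x hx.1) (inf_le_right.trans inf_le_left)
  have hab : ∀ T ≤ B, IsPi {2} T → Abl T := fun T hT hT2 => by
    have h1 : T ≤ Q0 := le_of_idx_compl hQB (by
      rw [relIndex_sup_of_norm hDQ0]; exact (odd_iff_isPi.mp hDo).relIndex _) hT2 hT
    rw [← der1_eq_bot, eq_bot_iff, ← hT2.inf_eq_bot (odd_iff_isPi.mp hN)]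
    exact le_inf (der1_le T) ((der1_mono h1).trans hcomm)
  have hSB : Syl p B S := hS.of_idx le_sup_right (by
    rw [hB, sup_comm, relIndex_sup_of_norm' hDQ0]
    refine ((hQ.piNat.dvd (relIndex_dvd_of_nml (hNY.of_le hQ.ker_le hQ.le) hQ0Q)).dvd
      (relIndex_dvd_of_le_left _ hND)).mono fun q hq e => h2 (e.symm.trans hq))
  have hconj : ∀ w ∈ Y, Inv w → w • a = a → ∃ d ∈ Y ⊓ D2 G a b, d * u * d⁻¹ = w :=
    fun w h1 h2 h3 => by
      obtain ⟨d, e1, e2, -, e3, e4⟩ := h.se.exists_K ht hta hb.symm hu h2 hua h3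
      exact ⟨d, ⟨e4 Y huY h1 htY, e1, e2⟩, e3⟩
  have hO := pcore_nml {p}ᶜ B
  have hOo : Odd ♯O[{p}ᶜ, B] := odd_of_no_inv fun w hw hi => by
    obtain ⟨d, hd, rfl⟩ := hconj w (hBY (hO.le hw)) hi (hBa (hO.le hw))
    have hu' : u ∈ O[{p}ᶜ, B] := (conj_mem_iff (hO.norm (mem_sup_right hd))).mp hw
    refine hk1 (hkp.eq_one ((pcore_pi _ B).piElt (inverted_mem_of_comm (Y := B) hko hki
      (mem_sup_right (hND hkN)) fun y hy => ?_)))
    rw [show u * y * u⁻¹ * y⁻¹ = u * (y * u⁻¹ * y⁻¹) by group]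
    exact mul_mem hu' (hO.conj_mem hy (inv_mem hu'))
  have hW := isProd_W hp h2 hBs hab hSB
  set W := H12.WOf p S with hWdef
  have hS0 : S ≠ ⊥ := fun e => hk1 (hkp.eq_one ((hS.isPi_compl_of_eq_bot e).piElt (hND hkN)))
  have hSW : N[S] ≤ N[W] := H12.normalizer_le_normalizer_WOf S
  obtain ⟨T, hT⟩ := Sylow_exists Nat.prime_two (B ⊓ N[W])
  have hTB : Syl 2 B T := hT.of_idx inf_le_left ((odd_iff_isPi.mp hOo).piNat.dvd hW.symm.relIndex_dvd)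
  obtain ⟨u1, hu1, v1, hv1, i1, i2, i3, i4, i5, i6⟩ := hY.four
  obtain ⟨g, hg, hgT⟩ := Sylow_Jsub Nat.prime_two hTB (four_pi i1 i2 i4) (sup_le
    (zpowers_le.mpr (mem_sup_left (hIQ0 u1 hu1 i1 i5)))
    (zpowers_le.mpr (mem_sup_left (hIQ0 v1 hv1 i2 i6))))
  have hu2 : g * u1 * g⁻¹ ∈ B ⊓ N[W] := hT.le (hgT (conj_mem_cj g (mem_sup_left (mem_zpowers _))))
  have hv2 : g * v1 * g⁻¹ ∈ B ⊓ N[W] := hT.le (hgT (conj_mem_cj g (mem_sup_right (mem_zpowers _))))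
  refine ⟨hS0, h.N_ne_top (H12.WOf_ne_bot (hS.pi.isPGroup hp) hS0)
    ((H12.WOf_le S).trans (hSB.le.trans hBa)), ⟨_, hu2.2, _, hv2.2, i1.conj g, i2.conj g,
      by simpa using i3, ?_, hBa hu2.1, hBa hv2.1⟩, ?_, _, hu2.2, i1.conj g, hBa hu2.1, ?_⟩
  · calc _ = g * (u1 * v1) * g⁻¹ := by group
      _ = _ := by rw [i4]; group
  · obtain ⟨d, hd, e⟩ := exists_conj_norm hp ht hDo
      (mem_N_inf (norm_self Y htY) (mem_N_D2 hta (ht.smul_eq hta))) hS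
    refine ⟨_, hSW e, ht.conj d, ?_⟩
    rw [← (mem_D2.mp hd.2).1, conj_smul, hta, (mem_D2.mp hd.2).2]
  · set u2 := g * u1 * g⁻¹
    have i7 : Inv u2 := i1.conj g
    obtain ⟨d, hd, e⟩ := hconj u2 (hBY hu2.1) i7 (hBa hu2.1)
    have huN : u2 ∈ N[N] := hNY.norm (hBY hu2.1)
    have hki2 : u2 * (d * k * d⁻¹) * u2⁻¹ = (d * k * d⁻¹)⁻¹ := e ▸ conj_inv_conj hki
    obtain ⟨P4, j1, j2, j3⟩ := exists_syl_inv hp i7 hN huN (hkp.conj d).isPi
      (zpowers_le.mpr (hNY.conj_mem hd.1 hkN)) (zp_mem_N_of_inv hki2)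
    obtain ⟨P5, l1, l2, -⟩ := exists_syl_inv (M := N ⊓ N[W]) hp i7 (odd_of_le hN inf_le_left)
      (mem_N_inf huN (mem_N_N hu2.2)) (isPi_bot _) bot_le (mem_N_bot _)
    have hSN : Syl p N (S ⊓ N) := hS.inf_nml (hNY.of_le hND inf_le_left)
    have l3 : Syl p N P5 := l1.of_idx inf_le_left
      (hSN.idx_of_ge (le_inf inf_le_right (inf_le_left.trans ((norm_self S).trans hSW))))
    obtain ⟨c, hc, rfl⟩ := sol_coprime_Sylow_trans hp (zp_le_N huN) (i7.coprime hN)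
      (Or.inl (cyc_zpowers _).sol) l3 (zp_le_N l2) j1 (zp_le_N j2)
    have hm : c⁻¹ * (d * k * d⁻¹) * c ∈ P5 := mem_cj.mp (j3 (mem_zpowers _))
    refine ⟨_, (l1.le hm).2, fun e1 => hk1 ?_, l1.pi.piElt hm, Ker_fix (l1.le hm).1, ?_⟩
    · have : c⁻¹ * (d * k * d⁻¹) * c⁻¹⁻¹ = 1 := by rwa [inv_inv]
      exact conj_eq_one_iff'.mp (conj_eq_one_iff'.mp this)
    · have := conj_inv_conj (g := c⁻¹) hki2
      rw [C_zpowers] at hc
      rwa [mem_C1_iff_conj.mp (inv_mem hc.2), inv_inv] at this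

theorem YC_false (hp : p.Prime) (h2 : p ≠ 2) (hb : b ≠ a) (hY : YC p a b Y)
    (h0 : O[{p}ᶜ, D2 G a b] = ⊥) : False := by
  have := Fact.mk hp
  obtain ⟨S0, hS0⟩ := Sylow_exists hp (Y ⊓ D2 G a b)
  obtain ⟨S, -, ⟨Y, hY, hS⟩, hmax⟩ := exists_max
    (P := fun S => ∃ Y, YC p a b Y ∧ Syl p (Y ⊓ D2 G a b) S) ⟨Y, hY, hS0⟩
  obtain ⟨hS1, hY2⟩ := h.YC_step hp h2 hb hY hS
  have hSD : Syl p (D2 G a b) S := by
    by_contra e
    obtain ⟨Q, h1, h3, h4, h5⟩ := exists_lt_norm_of_not_syl hp hS.pi (hS.le.trans inf_le_right) e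
    obtain ⟨S', h6, h7⟩ := Sylow_superset hp h1
      (le_inf (h5.trans (H12.normalizer_le_normalizer_WOf (p := p) S)) h4)
    exact (h3.trans_le h7).ne' (hmax S' ⟨_, hY2, h6⟩ (h3.le.trans h7))
  have hD := h.se.odd_stab hb.symm
  have hW := isProd_W hp h2 (sol_of_odd hD) (abl_two_of_odd hD) hSD
  obtain ⟨t, htY, -, hta⟩ := hY2.swap
  obtain ⟨u, huY, hu, hua, k, -, hk1, hkp, hka, hki⟩ := hY2.inv
  refine h.star' hY2.ne hb (fun d hd => ?_) ⟨t, htY, hta ▸ hb⟩ hu hua huY hu hua hk1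
    (by rw [← Nat.card_zpowers]; exact odd_of_isPi h2 hkp.isPi) hka hki
  obtain ⟨o, ho, n, hn, rfl⟩ := hW.mul d hd
  rw [h0, mem_bot] at ho
  rw [ho, one_mul]; exact hn.2

theorem exists_cj_D2 {d : Ω} (hab : b ≠ a) (hcd : d ≠ c) : ∃ g, cj g (D2 G a b) = D2 G c d := by
  obtain ⟨g, rfl⟩ := h.se.exists_smul a c
  obtain ⟨g', h1, rfl⟩ := h.two (g • a) (g • b) d (fun e => hab (smul_left_cancel g e)) hcd
  exact ⟨g' * g, by rw [cj_D2, mul_smul, mul_smul, h1]⟩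

/-- no bad elements -/
theorem NB (hz : Inv z) (hza : z • a = a) (hb : b ≠ a) (hka : k • a = a) (hkb : k • b = b)
    (hk : z * k * z⁻¹ = k⁻¹) : k = 1 := by
  by_contra hk1
  obtain ⟨l, hl, hp⟩ := exists_prime_mem_zp hk1
  have hli := inv_of_mem_zp hk hl
  have hlD : l ∈ D2 G a b := zpowers_le.mpr (show k ∈ D2 G a b from ⟨hka, hkb⟩) hl
  have hlo := h.se.odd_orderOf_of_fix hb.symm hlD.1 hlD.2
  set p := orderOf l with hpdef
  have h2 : p ≠ 2 := fun e => by rw [e] at hlo; exact absurd hlo (by decide)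
  have hl1 := ne_one_of_orderOf_prime hp
  have hNF : NF G Ω p := h.NF_of_dvd hp (h.se.idx_D hz hza hb ▸ prime_dvd_idx hz
    (h.se.odd_stab (h.se.smul_ne hz hza hb).symm) (mem_N_D2 rfl (hz.smul_smul b))
    ⟨hlD.2, fix_smul (zp_mem_N_of_inv hli) (zpowers_le.mpr hlD.2) (mem_zpowers l)⟩ hp hli)
  obtain ⟨P, hlP, ⟨hP, ⟨b, hb, hPD⟩, hzP⟩, hmax⟩ := exists_max
    (P := fun P => IsPi {p} P ∧ (∃ b : Ω, b ≠ a ∧ P ≤ D2 G a b) ∧ z ∈ N[P])
    ⟨(piElt_of_orderOf_prime hp rfl).isPi, ⟨b, hb, zpowers_le.mpr hlD⟩, zp_mem_N_of_inv hli⟩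
  have hlP : l ∈ P := hlP (mem_zpowers l)
  have hPo := odd_of_isPi h2 hP
  have hPa : P ≤ stabilizer G a := hPD.trans inf_le_left
  have hDo := h.se.odd_stab (h.se.smul_ne hz hza hb).symm
  have hzD : z ∈ N[D2 G b (z • b)] := mem_N_D2 rfl (hz.smul_smul b)
  have hPD' : P ≤ D2 G b (z • b) :=
    le_inf (hPD.trans inf_le_right) (fix_smul hzP (hPD.trans inf_le_right))
  have hns : ¬ Syl p (D2 G b (z • b)) P := fun e =>
    Syl.not_mul_dvd hp e _ (h.se.idx_D hz hza hb ▸ hNF z a b P hz hza hb hP hPD hzP)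
  obtain ⟨P1, hP1, hP1N, hzP1, hP1a⟩ : ∃ P1, IsPi {p} P1 ∧ P1 ≤ N[P] ∧ z ∈ N[P1] ∧
      ¬ P1 ≤ stabilizer G a := by
    obtain ⟨Ps, h1, h3, h4⟩ := exists_syl_inv hp hz hDo hzD hP hPD' hzP
    have h5 := (h1.pi.nil hp).proper_norm (lt_of_le_of_ne h4 fun e => hns (e ▸ h1))
    exact ⟨Ps ⊓ N[P], h1.pi.of_le inf_le_left, inf_le_right, mem_N_inf h3 (mem_N_N hzP),
      fun e => h5.ne' (hmax _ ⟨h1.pi.of_le inf_le_left, ⟨b, hb, le_inf e
        (inf_le_left.trans (h1.le.trans inf_le_left))⟩, mem_N_inf h3 (mem_N_N hzP)⟩ h5.le)⟩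
  by_cases h4 : ∃ c : Ω, Four N[P] c
  · obtain ⟨c, h4⟩ := h4
    replace h4 := h.se.four_move h4 hz hzP hza
    obtain ⟨y, hy, hya⟩ := SetLike.not_le_iff_exists.mp hP1a
    replace hy := hP1N hy
    obtain ⟨t, ht, -, hta, htY⟩ := h.se.exists_swap hz (hz.conj y) hza (conj_fix hza) (Ne.symm hya)
    replace htY := htY N[P] hzP (mul_mem (mul_mem hy hzP) (inv_mem hy))
    set b := y • a with hbdef
    have hb : b ≠ a := hya
    have hPb : P ≤ stabilizer G b := fix_smul hy hPa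
    have hconj : ∀ w ∈ N[P], Inv w → ∃ d ∈ N[P], d * z * d⁻¹ = w := fun w h1 h3 => by
      obtain ⟨c, hc⟩ := h.se.ex w h3
      by_cases e : a = c
      · obtain ⟨d, -, -, -, e3, e4⟩ := h.se.exists_K ht hta hb.symm hz h3 hza (e ▸ hc)
        exact ⟨d, e4 _ hzP h1 htY, e3⟩
      · obtain ⟨d, -, e3, -, e4⟩ := h.se.exists_swap hz h3 hza hc e
        exact ⟨d, e4 _ hzP h1, e3⟩
    have hnc : ∀ w ∈ N[P], Inv w → ¬ P ≤ C{w} := fun w h1 h3 e => by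
      obtain ⟨d, hd, rfl⟩ := hconj w h1 h3
      refine not_le_C1_of_inv hlP hl1 hlo hli ?_
      rwa [← cj_C1, ← cj_of_mem_N hd, cj_le_cj] at e
    have hCo : Odd ♯C[P] := odd_of_no_inv fun w hw hi =>
      hnc w (C_le_N P hw) hi (mem_C_iff_le_C1.mp hw)
    obtain ⟨u, huY, v, hvY, hu, hv, huv, hc, hua, hva⟩ := id h4
    have hCa : C[P] ≤ stabilizer G a :=
      h.se.le_stab_of_four hCo ⟨u, N_le_NC P huY, v, N_le_NC P hvY, hu, hv, huv, hc, hua, hva⟩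
    have hCb : C[P] ≤ stabilizer G b := fix_smul (N_le_NC P hy) hCa
    have hΩ : ∀ x ∈ D2 G a b, x ∈ C[P] → x ^ p = 1 → x ∈ P := fun x _ hx hxp => by
      have hM : C[P] ⊔ P ≤ D2 G a b := sup_le (le_inf hCa hCb) (le_inf hPa hPb)
      obtain ⟨P3, j1, j2, j3⟩ := exists_syl_inv hp hz (odd_of_le (h.se.odd_stab hb.symm) hM)
        (mem_N_sup (N_le_NC P hzP) hzP) hP le_sup_right hzP
      rw [hmax P3 ⟨j1.pi, ⟨b, hb, j1.le.trans hM⟩, j2⟩ j3] at j1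
      exact j1.le_of_norm (piElt_of_pow_eq_one (piNat_self hp) hxp).isPi
        (zpowers_le.mpr (mem_sup_left hx)) (zp_le_N (C_le_N P hx)) (mem_zpowers x)
    obtain ⟨x, hx, hxi, hxn⟩ : ∃ x ∈ zpowers u ⊔ zpowers v, Inv x ∧ ¬ P ⊓ C{x} ≤ C{u} := by
      by_contra e
      push Not at e
      exact hnc u huY hu (gen_four hu hv huv hc hPo huY hvY e)
    have hxa : x • a = a :=
      (sup_le (zpowers_le.mpr hua) (zpowers_le.mpr hva) : _ ≤ stabilizer G a) hx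
    obtain ⟨k, hk, hk1, hki⟩ := exists_inverted hu (odd_of_le hPo inf_le_left)
      (mem_N_inf huY (norm_self _ (mem_C1.mpr
        ((four_abl hc).comm (mem_sup_left (mem_zpowers u)) hx)))) hxn
    have hko := odd_orderOf_of_mem hPo hk.1
    have hCk : C{k} ≤ stabilizer G a := fun c hc => by
      obtain ⟨w, hw⟩ := h.se.ex _ (hxi.conj c)
      by_cases e : a = w
      · exact h.se.smul_of_conj hxi hxa (e ▸ hw)
      · exact absurd (h.se.eq_one_of_inv_comm hu (hxi.conj c) hua hw e hko hki (mem_C1.mp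
          (mul_mem (mul_mem hc (mem_C1_comm.mp hk.2)) (inv_mem hc)))) hk1
    have hPD2 : P ≤ D2 G b (u • b) := le_inf hPb (fix_smul huY hPb)
    have huL : u ∈ N[O[{p}ᶜ, D2 G b (u • b)]] := N_le_N_pcore _ _ (mem_N_D2 rfl (hu.smul_smul b))
    have hkm : k ∈ Subgroup.closure ({k} : Set G) := subset_closure (Set.mem_singleton k)
    have hL : O[{p}ᶜ, D2 G b (u • b)] ≤ stabilizer G a :=
      h.se.le_stab_of_cent (S := {k}) (odd_of_le (h.se.odd_stab (h.se.smul_ne hu hua hb).symm)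
        (pcore_le _ _)) hu hua huL
        (((closure_le _).mpr (Set.singleton_subset_iff.mpr (hPD2 hk.1))).trans (pcore_nml _ _).norm)
        ((pcore_pi _ _).coprime' (hP.of_le ((closure_le _).mpr (Set.singleton_subset_iff.mpr hk.1))))
        (by rintro _ rfl; exact ⟨hko, hPa hk.1, hki⟩)
        (inf_le_right.trans ((C_le_C1 hkm).trans hCk))
    have hle := le_pcore_TB hp h2 (sol_of_odd (h.se.odd_stab hb.symm)) hP (le_inf hPa hPb) hΩ
      (pcore_pi _ _) (le_inf hL ((pcore_le _ _).trans inf_le_left)) (hPD2.trans (pcore_nml _ _).norm)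
    have heq : O[{p}ᶜ, D2 G b (u • b)] = O[{p}ᶜ, D2 G a b] := by
      refine eq_of_card_eq hle ?_
      obtain ⟨g, hg⟩ := h.exists_cj_D2 hb (h.se.smul_ne hu hua hb)
      rw [← hg, pcore_cj, card_cj]
    by_cases h0 : O[{p}ᶜ, D2 G a b] = ⊥
    · exact h.YC_false hp h2 hb ⟨h.N_ne_top (fun e => hl1 (by simpa [e] using hlP)) hPa, h4,
        ⟨t, htY, ht, hta⟩, u, huY, hu, hua, k, norm_self P hk.1, hk1, hP.piElt hk.1, hPa hk.1, hki⟩ h0
    · exact h.star_N hb h0 ((pcore_le _ _).trans inf_le_left) (pcore_nml _ _).norm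
        (N_le_N_pcore _ _ (mem_N_D2 hta (ht.smul_eq hta))) hta hu hua (heq ▸ huL) hu hua hk1 hko
        (hPa hk.1) hki
  · push Not at h4
    have hc4 := h.se.no_comm h4
    have hO := pcore_nml {2}ᶜ N[P]
    have hOo := odd_O N[P]
    set O := O[{2}ᶜ, N[P]]
    have hzO : z ∈ N[O] := hO.norm hzP
    have hza' : z ∈ N[stabilizer G a] := norm_self _ hza
    obtain ⟨P2, i1, i2, i3, i4⟩ := exists_lt_norm_of_not_syl hp hP hPD fun e =>
      hns (syl_of_card_eq e hPD' (h.se.card_D2 hz hza hb).symm)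
    have hn : P2 ≤ N[O ⊓ stabilizer G a] :=
      norm_inf (i4.trans hO.norm) (norm_of_le (i3.trans inf_le_left))
    have hM : O ⊓ stabilizer G a ⊔ P2 ≤ N[P] ⊓ stabilizer G a :=
      sup_le (inf_le_inf_right _ hO.le) (le_inf i4 (i3.trans inf_le_left))
    obtain ⟨P3, j1, j2, j3⟩ := exists_syl_inv (M := O ⊓ stabilizer G a ⊔ P2) hp hz
      (odd_iff_isPi.mpr (((odd_iff_isPi.mp hOo).of_le inf_le_left).sup (i1.compl_of_ne h2) hn))
      (mem_N_of_finite fun x hx => by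
        rw [show z * x * z⁻¹ = z * x * z⁻¹ * x⁻¹ * x by group]
        exact mul_mem (mem_sup_left ⟨zstar_sub hc4 hz hzP (hM hx).1,
          (stabilizer G a).mul_mem (conj_mem hza' (hM hx).2)
            ((stabilizer G a).inv_mem (hM hx).2)⟩) hx)
      hP (i2.le.trans le_sup_right) hzP
    have hd : p ∣ (Orb O a).ncard := by
      by_contra e
      rw [ncard_Orb, ← inf_relIndex_left] at e
      obtain ⟨S0, l1, l2, -⟩ := exists_syl_inv (M := O ⊓ stabilizer G a) hp hz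
        (odd_of_le hOo inf_le_left) (mem_N_inf hzO hza') (isPi_bot _) bot_le (mem_N_bot z)
      have l3 : Syl p O S0 := l1.of_idx inf_le_left fun q hq hd e1 => e ((e1 : q = p) ▸ hd)
      obtain ⟨S1, l4, l5, l6⟩ := exists_syl_inv hp hz hOo hzO (hP1.of_le inf_le_left) inf_le_right
        (mem_N_inf hzP1 hzO)
      obtain ⟨c, hc, rfl⟩ := sol_coprime_Sylow_trans hp (zp_le_N hzO) (hz.coprime hOo)
        (Or.inl (cyc_zpowers _).sol) l3 (zp_le_N l2) l4 (zp_le_N l5)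
      rw [C_zpowers] at hc
      have l7 : cj c S0 ≤ stabilizer G a := cj_le_of_mem (l1.le.trans inf_le_right)
        (h.se.fix_of_comm hz hza (mem_C1.mp hc.2).symm)
      exact hP1a (le_of_cent_inv hz (odd_of_isPi h2 hP1) hzP1
        (fun x _ e => h.se.fix_of_comm hz hza e) fun x hx e => l7 (l6 ⟨hx, inverted_mem_of_comm
          (odd_orderOf_of_mem (odd_of_isPi h2 hP1) hx) e (hP1N hx)
          fun y hy => zstar_sub hc4 hz hzP hy⟩))
    obtain ⟨c, -, hca, hc⟩ := exists_fix_ne hp j1.pi (fun x hx e he => smul_mem_Orb'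
      (hO.norm (hM (j1.le hx)).1) (hM (j1.le hx)).2 he) (mem_Orb_self O a)
      (j1.le.trans (hM.trans inf_le_right)) hd
    rw [hmax P3 ⟨j1.pi, ⟨c, hca, le_inf (j1.le.trans (hM.trans inf_le_right)) hc⟩, j2⟩ j3] at j1
    exact i2.not_ge (j1.le_of_norm i1 le_sup_right i4)

theorem le_C1_of_norm (hz : Inv z) (hza : z • a = a) (hb : b ≠ a) (hX : X ≤ D2 G a b)
    (hzX : z ∈ N[X]) : X ≤ C{z} :=
  le_C1_of_no_inv hz (odd_of_le (h.se.odd_stab hb.symm) hX) hzX fun _ hx e =>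
    h.NB hz hza hb (hX hx).1 (hX hx).2 e

/-- non-trivial elements of `K` fix only two points -/
theorem K_fix (ht : Inv t) (hta : t • a = b) (hb : b ≠ a) (hka : k • a = a) (hkb : k • b = b)
    (hk : t * k * t⁻¹ = k⁻¹) (hk1 : k ≠ 1) (hc : k • c = c) : c = a ∨ c = b := by
  by_contra hne
  push Not at hne
  obtain ⟨l, hl, hp⟩ := exists_prime_mem_zp hk1
  have hli := inv_of_mem_zp hk hl
  have hle : ∀ x : Ω, k • x = x → zpowers l ≤ stabilizer G x := fun x hx =>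
    zpowers_le.mpr (zpowers_le.mpr hx hl)
  have hNF := h.NF_of_dvd hp (h.se.idx_T ht hta hb ▸ prime_dvd_idx ht (h.se.odd_stab hb.symm)
    (mem_N_D2 hta (ht.smul_eq hta)) ⟨hle a hka (mem_zpowers l), hle b hkb (mem_zpowers l)⟩ hp hli)
  obtain ⟨R, hlR, ⟨hR, hR3⟩, hmax⟩ := exists_max (P := fun R => IsPi {orderOf l} R ∧ Fix3 R a)
    ⟨(piElt_of_orderOf_prime hp rfl).isPi, hle a hka, b, c, hb, hne.1, hne.2.symm, hle b hkb,
      hle c hc⟩
  obtain ⟨z, hz, hza, hzR⟩ := h.se.lemR hp hR hR3 hmax fun x y hxy _ _ hs => by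
    obtain ⟨w, hw, h1, h2⟩ := hR3.third x y
    exact (h.se.no_apair hp hNF hxy hs hw).elim h1 h2
  obtain ⟨h0, e, -, he, -, -, h1, -⟩ := hR3
  obtain ⟨w, hw⟩ := h.se.ex t ht
  exact ne_one_of_orderOf_prime hp (h.se.eq_one_of_inv_comm ht hz hw hza
    (fun e => hb (by rw [← hta, ← e, hw])) (h.se.odd_orderOf_of_fix hb.symm
      (hle a hka (mem_zpowers l)) (hle b hkb (mem_zpowers l))) hli
    (mem_C1.mp (h.le_C1_of_norm hz hza he (le_inf h0 h1) hzR (hlR (mem_zpowers l)))).symm)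

theorem le_C1_of_swap (ht : Inv t) (hta : t • a = b) (hb : b ≠ a) (h3 : Fix3 X a)
    (hX : X ≤ stabilizer G b) (htX : t ∈ N[X]) : X ≤ C{t} := by
  obtain ⟨w, hw, h1, h2⟩ := h3.third a b
  refine le_C1_of_no_inv ht (h.se.odd_of_fix hb hX h3.1) htX fun x hx e => ?_
  by_contra e1
  exact (h.K_fix ht hta hb (h3.1 hx) (hX hx) e e1 (hw hx)).elim h1 h2

/-- Lemma C -/
theorem lemC (hp : p.Prime) (hX : IsPi {p} X) (h3 : Fix3 X a) :
    ∃ z, Inv z ∧ z • a = a ∧ z ∈ C[X] := by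
  obtain ⟨R, hXR, ⟨hR, hR3⟩, hmax⟩ := exists_max (P := fun R => IsPi {p} R ∧ Fix3 R a) ⟨hX, h3⟩
  suffices ∃ z, Inv z ∧ z • a = a ∧ z ∈ C[R] from
    this.imp fun z hz => ⟨hz.1, hz.2.1, C_anti hXR hz.2.2⟩
  by_cases hs : ∃ x y : Ω, x ≠ y ∧ Syl p (D2 G x y) R
  · obtain ⟨x, y, hxy, hs⟩ := hs
    have key : ∀ e, e ≠ a → R ≤ stabilizer G e → ∃ t, Inv t ∧ t • a = e ∧ t ∈ C[R] :=
      fun e he h1 => by
        obtain ⟨t, ht, hta, htR⟩ := h.se.exists_swap_norm hp he.symm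
          (syl_of_card_eq hs (le_inf hR3.1 h1) (h.card_D2_eq hxy.symm he))
        exact ⟨t, ht, hta, mem_C_iff_le_C1.mpr (h.le_C1_of_swap ht hta he hR3 h1 htR)⟩
    obtain ⟨e, h1, he, -⟩ := hR3.third a a
    obtain ⟨t, ht, hta, htR⟩ := key e he h1
    obtain ⟨w, hw⟩ := h.se.ex t ht
    obtain ⟨t', ht', hta', htR'⟩ := key w (fun e1 => he (by rw [← hta, ← e1, hw]))
      fun x hx => h.se.fix_of_comm ht hw (mem_C'.mp htR x hx)
    exact ⟨_, ht.conj t', ht'.smul_eq hta' ▸ conj_fix hw, mul_mem (mul_mem htR' htR) (inv_mem htR')⟩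
  · push Not at hs
    obtain ⟨z, hz, hza, hzR⟩ := h.se.lemR hp hR hR3 hmax fun x y hxy _ _ => hs x y hxy
    obtain ⟨h0, e, -, he, -, -, h1, -⟩ := hR3
    exact ⟨z, hz, hza, mem_C_iff_le_C1.mpr (h.le_C1_of_norm hz hza he (le_inf h0 h1) hzR)⟩

theorem swap_C (hp : p.Prime) (hX : IsPi {p} X) (h3 : Fix3 X a) (hb : b ≠ a)
    (hXb : X ≤ stabilizer G b) : ∃ t ∈ C[X], Inv t ∧ t • a = b := by
  obtain ⟨u, hu, hua, huX⟩ := h.lemC hp hX h3
  obtain ⟨v, hv, hvb, hvX⟩ := h.lemC hp hX (h3.move hXb)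
  obtain ⟨t, ht, -, e, h1⟩ := h.se.exists_swap hu hv hua hvb hb.symm
  exact ⟨t, h1 _ huX hvX, ht, e⟩

end Min

end B71
end H3
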