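import Mathlib
import Cfsg.Prelude.Def_Transfer
import Cfsg.Agent.H3.PGroup

/-!
# Thompson's critical subgroups and coprime automorphisms of `p`-groups
-/

namespace H3

open Subgroup Cfsg
open scoped Pointwise commutatorElement

variable {G : Type*} [Group G]

theorem char_mem {H : Subgroup G} (hH : H.Characteristic) (φ : G ≃* G) {x : G} (hx : x ∈ H) :
    φ x ∈ H :=
  characteristic_iff_le_comap.1 hH φ hx

theorem characteristic_of_forall_mem {H : Subgroup G} (h : ∀ φ : G ≃* G, ∀ x ∈ H, φ x ∈ H) :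
    H.Characteristic :=
  characteristic_iff_le_comap.2 fun φ _ hx => h φ _ hx

theorem characteristic_closure {S : Set G} (h : ∀ φ : G ≃* G, ∀ x ∈ S, φ x ∈ S) :
    (closure S).Characteristic :=
  characteristic_iff_le_comap.2 fun φ => (closure_le _).2 fun _ hx => subset_closure (h φ _ hx)

theorem characteristic_inf' {H K : Subgroup G} (hH : H.Characteristic) (hK : K.Characteristic) :
    (H ⊓ K).Characteristic :=
  characteristic_of_forall_mem fun φ _ hx => ⟨char_mem hH φ hx.1, char_mem hK φ hx.2⟩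

theorem eq_one_of_pow_coprime {p : ℕ} (hG : IsPGroup p G) {n : ℕ} (hn : n.Coprime p) {y : G}
    (hy : y ^ n = 1) : y = 1 := by
  obtain ⟨k, hk⟩ := hG y
  have h1 := Nat.dvd_gcd (orderOf_dvd_of_pow_eq_one hy) (orderOf_dvd_of_pow_eq_one hk)
  rw [(hn.pow_right k).gcd_eq_one, Nat.dvd_one] at h1
  exact orderOf_eq_one_iff.1 h1

theorem mem_of_pow_mem_coprime {p : ℕ} (hG : IsPGroup p G) {n : ℕ} (hn : n.Coprime p)
    {H : Subgroup G} {y : G} (hy : y ^ n ∈ H) : y ∈ H := by
  obtain ⟨k, hk⟩ := hG y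
  have h1 : n.Coprime (orderOf y) :=
    Nat.Coprime.coprime_dvd_right (orderOf_dvd_of_pow_eq_one hk) (hn.pow_right k)
  obtain ⟨m, hm⟩ := exists_pow_eq_self_of_coprime h1
  exact hm ▸ H.pow_mem hy m

/-- If a coprime automorphism fixes `x⁻¹ * a x`, it fixes `x`. -/
theorem eq_of_fixed_of_coprime {p : ℕ} (hG : IsPGroup p G) {a : MulAut G}
    (ha : (orderOf a).Coprime p) {x : G} (h : a (x⁻¹ * a x) = x⁻¹ * a x) : a x = x := by
  set y := x⁻¹ * a x with hy
  have h1 : ∀ k : ℕ, (a ^ k) x = x * y ^ k := by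
    intro k
    induction k with
    | zero => simp
    | succ k ih =>
      rw [pow_succ', MulAut.mul_apply, ih, map_mul, map_pow, h, pow_succ', ← mul_assoc, hy,
        mul_inv_cancel_left]
  have h2 := h1 (orderOf a)
  rw [pow_orderOf_eq_one, MulAut.one_apply, left_eq_mul] at h2
  have h3 := eq_one_of_pow_coprime hG ha h2
  rw [hy, inv_mul_eq_one] at h3
  exact h3.symm

/-- A coprime automorphism of a `p`-group centralizing a normal subgroup containing its own
centralizer is trivial. -/
theorem eq_one_of_fixes_selfCentralizing {p : ℕ} (hG : IsPGroup p G) (H : Subgroup G)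
    [hn : H.Normal] (h3 : centralizer (H : Set G) ≤ H) {a : MulAut G}
    (ha : (orderOf a).Coprime p) (h : ∀ x ∈ H, a x = x) : a = 1 := by
  ext x
  refine eq_of_fixed_of_coprime hG ha (h _ (h3 fun y hy => ?_))
  have h1 := h _ (hn.conj_mem y hy x)
  rw [map_mul, map_mul, map_inv, h y hy] at h1
  calc y * (x⁻¹ * a x) = x⁻¹ * (x * y * x⁻¹) * a x := by group
    _ = x⁻¹ * a x * y := by rw [← h1]; group

/-- **Thompson's critical subgroup**, with its centre `A`. -/
theorem exists_critical' [Finite G] {p : ℕ} [hp : Fact p.Prime] (hG : IsPGroup p G) :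
    ∃ A H : Subgroup G, A.Characteristic ∧ H.Characteristic ∧ A ≤ H ∧
      H ≤ centralizer (A : Set G) ∧ (∀ x ∈ H, x ^ p ∈ A) ∧ (∀ x ∈ H, ∀ g : G, ⁅x, g⁆ ∈ A) ∧
      centralizer (H : Set G) = A := by
  obtain ⟨A, -, hmax⟩ := Finite.exists_le_maximal
    (p := fun B : Subgroup G => B.Characteristic ∧ IsMulCommutative B)
    (a := ⊥) ⟨inferInstance, inferInstance⟩
  obtain ⟨hAc, hA⟩ := hmax.prop
  have hAn : A.Normal := inferInstance
  let H : Subgroup G :=
    { carrier := {x | x ∈ centralizer (A : Set G) ∧ (∀ g : G, ⁅x, g⁆ ∈ A) ∧ x ^ p ∈ A}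
      one_mem' := ⟨one_mem _, by simp, by simp⟩
      inv_mem' := by
        rintro x ⟨h1, h2, h3⟩
        refine ⟨inv_mem h1, fun g => ?_, by rw [inv_pow]; exact inv_mem h3⟩
        have := hAn.conj_mem _ (inv_mem (h2 g)) x⁻¹
        simpa [commutatorElement_def, mul_assoc] using this
      mul_mem' := by
        rintro x y ⟨h1, h2, h3⟩ ⟨k1, k2, k3⟩
        refine ⟨mul_mem h1 k1, fun g => ?_, ?_⟩
        · rw [commutator_mul_left]
          exact mul_mem (hAn.conj_mem _ (k2 g) x) (h2 g)
        · rw [mul_pow_eq_of_commute_commutator (h1 _ (h2 y)) (k1 _ (h2 y))]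
          exact mul_mem (mul_mem h3 k3) (pow_mem (inv_mem (h2 y)) _) }
  have hHc : H.Characteristic := by
    refine characteristic_of_forall_mem ?_
    rintro φ x ⟨h1, h2, h3⟩
    refine ⟨char_mem inferInstance φ h1, fun g => ?_, ?_⟩
    · have := char_mem hAc φ (h2 (φ.symm g))
      simpa [map_commutatorElement] using this
    · rw [← map_pow]; exact char_mem hAc φ h3
  have hAH : A ≤ H := fun a ha =>
    ⟨le_centralizer_of_isMulCommutative hA ha, commutator_mem_of_normal_left ha, pow_mem ha _⟩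
  have hHA : H ≤ centralizer (A : Set G) := fun x hx => hx.1
  have hAC : A ≤ centralizer (H : Set G) := le_centralizer_iff.1 hHA
  have hZ : H ⊓ centralizer (H : Set G) = A := by
    refine (hmax.eq_of_le ⟨characteristic_inf' hHc inferInstance, ?_⟩ (le_inf hAH hAC)).symm
    exact isMulCommutative_of_comm fun a ha b hb => hb.2 a ha.1
  refine ⟨A, H, hAc, hHc, hAH, hHA, fun x hx => hx.2.2, fun x hx => hx.2.1,
    le_antisymm ?_ hAC⟩
  by_contra hC
  obtain ⟨x, hx, hxA, hxp, hxg⟩ := exists_central_mod hG hC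
  exact hxA (hZ ▸ ⟨⟨centralizer_le hAH hx, hxg, hxp⟩, hx⟩)

/-- **Thompson's critical subgroup.** -/
theorem exists_critical [Finite G] {p : ℕ} [hp : Fact p.Prime] (hG : IsPGroup p G) :
    ∃ H : Subgroup G, H.Characteristic ∧
      (frattini H).map H.subtype ≤ centralizer (H : Set G) ∧
      ⁅H, (⊤ : Subgroup G)⁆ ≤ H ⊓ centralizer (H : Set G) ∧ centralizer (H : Set G) ≤ H := by
  obtain ⟨A, H, -, hHc, hAH, -, h1, h2, h3⟩ := exists_critical' hG
  refine ⟨H, hHc, ?_, ?_, h3 ▸ hAH⟩
  · rw [h3, map_le_iff_le_comap]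
    refine H2.frattini_le_of_elementary_quotient hp.out ?_ fun x => h1 x x.2
    exact commutator_le.2 fun x _ y _ => h2 x x.2 y
  · rw [h3]
    exact commutator_le.2 fun x hx g _ => ⟨hAH (h2 x hx g), h2 x hx g⟩

/-- If the `p`-th power map is multiplicative on an invariant subgroup `K`, a coprime automorphism
fixing the elements of order `p` in `K` centralizes `K`. -/
theorem fixes_of_fixes_omega {p : ℕ} (hG : IsPGroup p G) {K : Subgroup G}
    (hK : ∀ x ∈ K, ∀ y ∈ K, (x * y) ^ p = x ^ p * y ^ p) {a : MulAut G}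
    (ha : (orderOf a).Coprime p) (hinv : ∀ x ∈ K, a x ∈ K)
    (h : ∀ x ∈ K, x ^ p = 1 → a x = x) : ∀ x ∈ K, a x = x := by
  have key : ∀ k : ℕ, ∀ x ∈ K, x ^ p ^ k = 1 → a x = x := by
    intro k
    induction k with
    | zero =>
      intro x _ hx
      simp only [pow_zero, pow_one] at hx
      simp [hx]
    | succ k ih =>
      intro x hx hxk
      have h1 := ih _ (K.pow_mem hx p) (by rwa [← pow_mul, ← pow_succ'])
      refine eq_of_fixed_of_coprime hG ha (h _ (mul_mem (inv_mem hx) (hinv x hx)) ?_)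
      rw [hK _ (inv_mem hx) _ (hinv x hx), ← map_pow, h1, inv_pow, inv_mul_cancel]
  intro x hx
  obtain ⟨k, hk⟩ := hG x
  exact key k x hx hk

/-- For odd `p`, a finite `p`-group has a characteristic subgroup `H` of exponent `p` with
`[H, G] ≤ Z(H)` such that every coprime automorphism centralizing `H` is trivial. -/
theorem exists_critical_odd [Finite G] {p : ℕ} [hp : Fact p.Prime] (hp2 : p ≠ 2)
    (hG : IsPGroup p G) :
    ∃ H : Subgroup G, H.Characteristic ∧ (∀ x ∈ H, x ^ p = 1) ∧
      ⁅H, (⊤ : Subgroup G)⁆ ≤ H ⊓ centralizer (H : Set G) ∧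
      ∀ a : MulAut G, (orderOf a).Coprime p → (∀ x ∈ H, a x = x) → a = 1 := by
  obtain ⟨A, H, hAc, hHc, hAH, hHA, h1, h2, h3⟩ := exists_critical' hG
  have hodd := hp.out.odd_of_ne_two hp2
  have hcomm : ∀ x ∈ H, ∀ g, ∀ y ∈ H, Commute ⁅x, g⁆ y := fun x hx g y hy => hHA hy _ (h2 x hx g)
  have hmul : ∀ x ∈ H, ∀ y ∈ H, (x * y) ^ p = x ^ p * y ^ p := by
    intro x hx y hy
    refine mul_pow_eq_of_odd hodd (hcomm x hx y x hx) (hcomm x hx y y hy) ?_
    rw [← commutator_pow_left (hcomm x hx y x hx)]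
    exact commutatorElement_eq_one_iff_commute.2 (hHA hy _ (h1 x hx))
  have hΩ : ∀ g ∈ closure {x : G | x ∈ H ∧ x ^ p = 1}, g ∈ H ∧ g ^ p = 1 := fun g hg =>
    pow_eq_one_of_mem_closure (fun x hx y hy k1 k2 => by rw [hmul x hx y hy, k1, k2, one_mul]) hg
  have hc : (closure {x : G | x ∈ H ∧ x ^ p = 1}).Characteristic :=
    characteristic_closure fun φ x hx => ⟨char_mem hHc φ hx.1, by rw [← map_pow, hx.2, map_one]⟩
  refine ⟨closure {x : G | x ∈ H ∧ x ^ p = 1}, hc, fun x hx => (hΩ x hx).2, ?_, ?_⟩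
  · refine commutator_le.2 fun x hx g _ => ⟨commutator_mem_of_normal_left hx g, fun y hy => ?_⟩
    exact (hcomm x (hΩ x hx).1 g y (hΩ y hy).1).symm
  · intro a ha h
    refine eq_one_of_fixes_selfCentralizing hG H (h3 ▸ hAH) ha ?_
    exact fixes_of_fixes_omega hG hmul ha (fun x hx => char_mem hHc a hx)
      fun x hx hxp => h x (subset_closure ⟨hx, hxp⟩)

/-- For odd `p`, a coprime automorphism of a `p`-group fixing all elements of order `p` is
trivial. -/
theorem eq_one_of_fixes_omega [Finite G] {p : ℕ} [hp : Fact p.Prime] (hp2 : p ≠ 2)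
    (hG : IsPGroup p G) {a : MulAut G} (ha : (orderOf a).Coprime p)
    (h : ∀ x : G, x ^ p = 1 → a x = x) : a = 1 := by
  obtain ⟨H, -, h1, -, h2⟩ := exists_critical_odd hp2 hG
  exact h2 a ha fun x hx => h x (h1 x hx)

/-- An element central modulo the centre centralizes the derived subgroup. -/
theorem commutator_le_centralizer_of_mem_center {x : G} (h : ∀ g : G, ⁅x, g⁆ ∈ center G) :
    commutator G ≤ centralizer {x} := by
  let φ : G →* G := MonoidHom.mk' (fun g => ⁅x, g⁆) fun a b =>
    commutator_mul_right_of_commute (mem_center_iff.1 (h b) a).symm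
  have h1 : commutator G ≤ φ.ker := by
    refine commutator_le.2 fun a _ b _ => ?_
    rw [MonoidHom.mem_ker, map_commutatorElement]
    exact commutatorElement_eq_one_iff_mul_comm.2 (mem_center_iff.1 (h b) _)
  intro g hg
  have h2 : ⁅x, g⁆ = 1 := h1 hg
  exact mem_centralizer_singleton_iff.2 (commutatorElement_eq_one_iff_commute.1 h2).symm

/-- A nonabelian-type criterion: if all characteristic abelian subgroups are central then the
class is at most two and `G / Z(G)` is elementary abelian. -/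
theorem class_two_of_char_abelian_central [Finite G] {p : ℕ} [hp : Fact p.Prime]
    (hG : IsPGroup p G)
    (h : ∀ H : Subgroup G, H.Characteristic → IsMulCommutative H → H ≤ center G) :
    commutator G ≤ center G ∧ ∀ x : G, x ^ p ∈ center G := by
  have hZ2 : ∀ x : G, x ∈ Subgroup.upperCentralSeries G 2 ↔ ∀ g, ⁅x, g⁆ ∈ center G := by
    intro x
    rw [Subgroup.mem_upperCentralSeries_succ_iff, Subgroup.upperCentralSeries_one]
  have h1 : commutator G ≤ center G := by
    by_contra hne
    obtain ⟨x, hx, hxZ, -, hxg⟩ := exists_central_mod hG hne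
    refine hxZ (h (commutator G ⊓ Subgroup.upperCentralSeries G 2)
      (characteristic_inf' inferInstance inferInstance) ?_ ⟨hx, (hZ2 x).2 hxg⟩)
    refine isMulCommutative_of_comm fun a ha b hb => ?_
    exact mem_centralizer_singleton_iff.1
      (commutator_le_centralizer_of_mem_center ((hZ2 b).1 hb.2) ha.1)
  refine ⟨h1, ?_⟩
  have hc : ∀ x y z : G, Commute ⁅x, y⁆ z := fun x y z =>
    (mem_center_iff.1 (h1 (commutator_mem_commutator trivial trivial)) z).symm
  have key : ∀ k : ℕ, (∀ x : G, x ^ p ^ (k + 1) ∈ center G) → ∀ x : G, x ^ p ∈ center G := by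
    intro k
    induction k with
    | zero => simp
    | succ k ih =>
      intro hk
      refine ih fun x => h (closure (Set.range fun x : G => x ^ p ^ (k + 1))) ?_ ?_
        (subset_closure ⟨x, rfl⟩)
      · refine characteristic_closure ?_
        rintro φ _ ⟨y, rfl⟩
        exact ⟨φ y, by simp⟩
      · refine isMulCommutative_closure ?_
        rintro _ ⟨y, rfl⟩ _ ⟨z, rfl⟩
        refine commutatorElement_eq_one_iff_mul_comm.1 ?_
        rw [commutator_pow_right (hc _ _ _), ← commutator_pow_left (hc _ _ _), ← pow_mul,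
          ← pow_add, show k + 1 + (k + 1) = (k + 1 + 1) + k by ring, pow_add, pow_mul]
        exact commutatorElement_eq_one_iff_mul_comm.2
          (mem_center_iff.1 (pow_mem (hk y) _) z).symm
  obtain ⟨n, hn⟩ := (IsPGroup.iff_card).1 hG
  refine key n fun x => ?_
  rw [pow_succ, pow_mul, ← hn, pow_card_eq_one', one_pow]
  exact one_mem _

/-- If a coprime group of automorphisms `A` satisfies `[G, A] = G`, its fixed points lie in the
derived subgroup. -/
theorem mem_commutator_of_fixed {p : ℕ} (hG : IsPGroup p G) (A : Subgroup (MulAut G))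
    [Finite A] (hA : (Nat.card A).Coprime p)
    (hGA : closure {x : G | ∃ g : G, ∃ a ∈ A, x = g⁻¹ * a g} = ⊤) {c : G}
    (hc : ∀ a ∈ A, a c = c) : c ∈ commutator G := by
  have := Fintype.ofFinite A
  let N : G →* Abelianization G := MonoidHom.mk'
    (fun g => ∏ a : A, Abelianization.of ((a : MulAut G) g)) fun x y => by
      simp [Finset.prod_mul_distrib]
  have hN : ∀ g, N g = ∏ a : A, Abelianization.of ((a : MulAut G) g) := fun _ => rfl
  have h1 : N.ker = ⊤ := by
    rw [eq_top_iff, ← hGA, closure_le]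
    rintro _ ⟨g, a, ha, rfl⟩
    rw [SetLike.mem_coe, MonoidHom.mem_ker, map_mul, map_inv, inv_mul_eq_one, hN, hN]
    exact (Fintype.prod_equiv (Equiv.mulRight (⟨a, ha⟩ : A)) _ _ fun b => rfl).symm
  have h2 : N c = 1 := MonoidHom.mem_ker.1 (h1 ▸ mem_top c)
  rw [hN, Finset.prod_congr rfl fun a _ => by rw [hc a a.2], Finset.prod_const, ← map_pow,
    Finset.card_univ, ← Nat.card_eq_fintype_card] at h2
  refine mem_of_pow_mem_coprime hG hA ?_
  rwa [← Abelianization.ker_of, MonoidHom.mem_ker]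

theorem isSpecial_of_char_abelian_fixed [Finite G] {p : ℕ} [hp : Fact p.Prime]
    (hG : IsPGroup p G) (A : Subgroup (MulAut G)) (hA : (Nat.card A).Coprime p)
    (hGA : closure {x : G | ∃ g : G, ∃ a ∈ A, x = g⁻¹ * a g} = ⊤)
    (hchar : ∀ H : Subgroup G, H.Characteristic → IsMulCommutative H →
      ∀ a ∈ A, ∀ h ∈ H, a h = h) :
    IsSpecial p G ∧ (∀ g : G, (g ∈ center G ↔ ∀ a ∈ A, a g = g)) := by
  have h1 : ∀ H : Subgroup G, H.Characteristic → IsMulCommutative H → H ≤ center G := by
    intro H hH hc x hx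
    have : (⊤ : Subgroup G) ≤ centralizer {x} := by
      rw [← hGA, closure_le]
      rintro _ ⟨g, a, ha, rfl⟩
      have h1 := hchar H hH hc a ha _ ((inferInstance : H.Normal).conj_mem x hx g)
      rw [map_mul, map_mul, map_inv, hchar H hH hc a ha x hx] at h1
      refine mem_centralizer_singleton_iff.2 ?_
      calc g⁻¹ * a g * x = g⁻¹ * (a g * x * (a g)⁻¹) * a g := by group
        _ = x * (g⁻¹ * a g) := by rw [h1]; group
    exact mem_center_iff.2 fun g => mem_centralizer_singleton_iff.1 (this (mem_top g))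
  obtain ⟨h2, h3⟩ := class_two_of_char_abelian_central hG h1
  have h4 : ∀ g ∈ center G, ∀ a ∈ A, a g = g := fun g hg a ha =>
    hchar _ inferInstance inferInstance a ha g hg
  have h5 : commutator G = center G :=
    le_antisymm h2 fun g hg => mem_commutator_of_fixed hG A hA hGA (h4 g hg)
  refine ⟨⟨hG, le_antisymm (H2.frattini_le_of_elementary_quotient hp.out h2 h3) ?_, h5⟩,
    fun g => ⟨h4 g, fun hg => h2 (mem_commutator_of_fixed hG A hA hGA hg)⟩⟩
  exact h5 ▸ H2.IsPGroup.commutator_le_frattini hG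

end H3
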