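import Mathlib
import Cfsg.Agent.H3.B71Defs
import Cfsg.Agent.H25.BDich

set_option autoImplicit false
set_option linter.unusedSectionVars false

namespace H3
namespace B71

open H24 Subgroup MulAction

/-- README step DICH. -/
theorem dich {G : Type*} [Group G] [Finite G] {X E K : Subgroup G} {I : Set G} {s : G}
    (hEX : E ≤ X) (hKE : K ⊴ E) (hne : K ≠ E) (hK : Abl K) (hodd : Odd ♯E)
    (hXI : ∀ g ∈ X, ∀ z ∈ I, g * z * g⁻¹ ∈ I) (hs : s ∈ I)
    (htr : ∀ z ∈ I, ∃ k ∈ K, z = k * s * k⁻¹) (hfree : ∀ k ∈ K, k * s = s * k → k = 1)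
    (hTI : ∀ g ∈ X, ∀ k ∈ K, k ≠ 1 → g * k * g⁻¹ ∈ E → g ∈ E)
    (hZ : ∀ M : Subgroup G, M ⊴ X →
      (∀ k ∈ K, (∀ d ∈ E, d ∉ K → ∃ l ∈ K, k = l * d * l⁻¹ * d⁻¹) → k ∈ M) → K ≤ M) :
    (∀ u ∈ I, ∀ v ∈ I, ∀ u' ∈ I, ∀ v' ∈ I, u ≠ v → u' ≠ v' →
        ∃ g ∈ X, g * u * g⁻¹ = u' ∧ g * v * g⁻¹ = v') ∨
      (∀ g ∈ X, ∀ u ∈ I, ∀ v ∈ I, g * u * g⁻¹ = v → g * v * g⁻¹ = u → u = v) := by
  classical
  have := Fintype.ofFinite X
  let act : MulAction X I :=
    { smul := fun g z => ⟨g * z * (g : G)⁻¹, hXI g g.2 z z.2⟩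
      one_smul := fun z => Subtype.ext (by
        change ((1 : X) : G) * z * ((1 : X) : G)⁻¹ = z
        simp)
      mul_smul := fun g h z => Subtype.ext (by
        change ((g * h : X) : G) * z * ((g * h : X) : G)⁻¹ = g * (h * z * (h : G)⁻¹) * (g : G)⁻¹
        simp [mul_assoc]) }
  have hsm : ∀ (g : X) (z : I), ((g • z : I) : G) = g * z * (g : G)⁻¹ := fun _ _ => rfl
  have hKX : K ≤ X := hKE.le.trans hEX
  have sit : H25.BDich.Sit (Γ := X) I (E.subgroupOf X) (K.subgroupOf X) ⟨s, hs⟩ :=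
    { le := fun x hx => hKE.le hx
      nrm := fun x hx k hk => hKE.conj_mem (mem_subgroupOf.1 hx) (mem_subgroupOf.1 hk)
      ne := by
        obtain ⟨d, hd, hdK⟩ := SetLike.exists_of_lt (lt_of_le_of_ne hKE.le hne)
        exact ⟨⟨d, hEX hd⟩, hd, hdK⟩
      comm := fun a ha b hb => Subtype.ext (hK.comm ha hb)
      odd := by rwa [Nat.card_congr (subgroupOfEquivOfLe hEX).toEquiv]
      tr := fun z => by
        obtain ⟨k, hk, e⟩ := htr z z.2
        exact ⟨⟨k, hKX hk⟩, hk, Subtype.ext e⟩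
      free := fun k hk e => Subtype.ext (hfree k hk (by
        have := congrArg Subtype.val e
        rw [hsm] at this
        exact mul_inv_eq_iff_eq_mul.1 this))
      ti := fun g k hk h1 hm => hTI g g.2 k hk (fun e => h1 (Subtype.ext e)) hm
      ker := fun M hM hk k hkK => by
        have h1 : M.map X.subtype ⊴ X := ⟨map_subtype_le M, fun g hg => by
          rw [mem_normalizer_iff]
          intro y
          constructor
          · rintro ⟨y, hy, rfl⟩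
            exact ⟨_, hM.conj_mem y hy ⟨g, hg⟩, rfl⟩
          · rintro ⟨z, hz, e⟩
            refine ⟨_, hM.conj_mem z hz ⟨g, hg⟩⁻¹, ?_⟩
            simp only [coe_subtype] at e
            simp [e, mul_assoc]⟩
        obtain ⟨y, hy, e⟩ := hZ _ h1 (fun k hkK hz => ⟨⟨k, hKX hkK⟩, hk _ hkK fun d hd hdK => by
          obtain ⟨l, hl, e⟩ := hz d hd hdK
          exact ⟨⟨l, hKX hl⟩, hl, Subtype.ext e⟩, rfl⟩) hkK
        rwa [show k = y from Subtype.ext e.symm] }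
  rcases H25.BDich.dich sit with h | h
  · left
    intro u hu v hv u' hu' v' hv' huv huv'
    obtain ⟨g, e1, e2⟩ := h ⟨u, hu⟩ ⟨v, hv⟩ ⟨u', hu'⟩ ⟨v', hv'⟩
      (fun e => huv (congrArg Subtype.val e)) (fun e => huv' (congrArg Subtype.val e))
    exact ⟨g, g.2, congrArg Subtype.val e1, congrArg Subtype.val e2⟩
  · right
    intro g hg u hu v hv e1 e2
    exact congrArg Subtype.val
      (h ⟨g, hg⟩ ⟨u, hu⟩ ⟨v, hv⟩ (Subtype.ext e1) (Subtype.ext e2))

end B71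
end H3
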