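import Mathlib
import Cfsg.Agent.H3.B71D
import Cfsg.Agent.H26.S01a
import Cfsg.Agent.H26.S04

/-! Bender 1971: good subgroups, control of fusion, regular normal subgroups. -/

set_option autoImplicit false
set_option linter.unusedSectionVars false

namespace H3
namespace B71

open H24 H26 Subgroup MulAction Cfsg
open scoped commutatorElement

variable {G Ω : Type*} [Group G] [MulAction G Ω] [Finite G]

/-- `O₂(C(X)_a)` is transitive on the fixed points of `X` other than `a` -/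
def Good (X : Subgroup G) (a : Ω) : Prop :=
  ∀ c d : Ω, c ≠ a → d ≠ a → X ≤ stabilizer G c → X ≤ stabilizer G d →
    ∃ s ∈ O[{2}, C[X] ⊓ stabilizer G a], s • c = d

/-- `M` is transitive on the points other than `a` -/
def Tr (M : Subgroup G) (a : Ω) : Prop := ∀ c d : Ω, c ≠ a → d ≠ a → ∃ g ∈ M, g • c = d

/-- the pointwise stabilizer of the fixed points of `X` -/
def PS (Ω : Type*) [MulAction G Ω] (X : Subgroup G) : Subgroup G :=
  ⨅ (c : Ω) (_ : X ≤ stabilizer G c), stabilizer G c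

/-- the centralizer of the involutions at `a` -/
def CI (G : Type*) {Ω : Type*} [Group G] [MulAction G Ω] (a : Ω) : Subgroup G :=
  centralizer (II G a)

section Basic

variable {X X' M : Subgroup G} {a b c : Ω} {g : G}

theorem mem_PS : g ∈ PS Ω X ↔ ∀ c : Ω, X ≤ stabilizer G c → g • c = c := by
  simp [PS, mem_iInf]

theorem le_PS (X : Subgroup G) : X ≤ PS Ω X := fun _ hx => mem_PS.mpr fun _ hc => hc hx

theorem N_le_N_PS (X : Subgroup G) : N[X] ≤ N[PS Ω X] :=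
  le_N_iff.mpr fun g hg x hx => mem_PS.mpr fun c hc => by
    rw [← smul_inv_smul g c]
    exact conj_fix (mem_PS.mp hx _ (fix_smul (inv_mem hg) hc))

theorem mem_CI : g ∈ CI G a ↔ ∀ z, Inv z → z • a = a → z * g = g * z :=
  ⟨fun h z h1 h2 => h z ⟨h1, h2⟩, fun h z hz => h z hz.1 hz.2⟩

theorem stab_le_N_CI (a : Ω) : stabilizer G a ≤ N[CI G a] :=
  le_N_iff.mpr fun g hg x hx => mem_CI.mpr fun z h1 h2 => by
    have := mem_CI.mp hx _ (h1.conj g⁻¹) (conj_mem_II (inv_mem hg) ⟨h1, h2⟩).2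
    calc _ = g * (g⁻¹ * z * g⁻¹⁻¹ * x) * g⁻¹ := by group
      _ = _ := by rw [this]; group

theorem norm_O2 (X : Subgroup G) (a : Ω) :
    N[X] ⊓ stabilizer G a ≤ N[O[{2}, C[X] ⊓ stabilizer G a]] :=
  norm_pcore _ (norm_inf (inf_le_left.trans (N_le_NC X)) (norm_of_le inf_le_right))

theorem Good.cj (h : Good X a) (hg : g • a = a) : Good (cj g X) a := by
  intro c d hc hd h1 h2
  have hg' : g⁻¹ • a = a := (stabilizer G a).inv_mem hg
  obtain ⟨s, hs, e⟩ := h (g⁻¹ • c) (g⁻¹ • d) (smul_ne_of_fix hg' hc) (smul_ne_of_fix hg' hd)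
    (cj_stab g⁻¹ c ▸ cj_le_iff.mp h1) (cj_stab g⁻¹ d ▸ cj_le_iff.mp h2)
  refine ⟨g * s * g⁻¹, ?_, by rw [mul_smul, mul_smul, e, smul_inv_smul]⟩
  rw [← hg, ← cj_stab, ← cj_C, ← cj_inf, pcore_cj]
  exact conj_mem_cj g hs

theorem good_of_not_fix3 (ha : X ≤ stabilizer G a) (h : ¬ Fix3 X a) : Good X a :=
  fun c d hc hd h1 h2 => ⟨1, one_mem _, by
    by_contra e
    exact h ⟨ha, c, d, hc, hd, by simpa using e, h1, h2⟩⟩

theorem Tr.of_base (h : ∀ c, c ≠ a → c ∈ Orb M b) : Tr M a := fun c d hc hd => by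
  obtain ⟨x, hx, rfl⟩ := h c hc
  obtain ⟨y, hy, rfl⟩ := h d hd
  exact ⟨y * x⁻¹, mul_mem hy (inv_mem hx), by rw [mul_smul, inv_smul_smul]⟩

theorem Tr.isProd (h : Tr M a) (hM : M ≤ stabilizer G a) (hb : b ≠ a) :
    IsProd M (D2 G a b) (stabilizer G a) :=
  ⟨hM, inf_le_left, fun g hg => by
    obtain ⟨m, hm, e⟩ := h b (g • b) hb (smul_ne_of_fix hg hb)
    exact ⟨m, hm, m⁻¹ * g, ⟨(stabilizer G a).mul_mem ((stabilizer G a).inv_mem (hM hm)) hg,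
      show (m⁻¹ * g) • b = b by rw [mul_smul, ← e, inv_smul_smul]⟩, by group⟩⟩

theorem Tr.idx [Finite Ω] (h : Tr M a) (hM : M ≤ stabilizer G a) (hc : c ≠ a) :
    (stabilizer G c).relIndex M = {d : Ω | d ≠ a}.ncard := by
  rw [← ncard_Orb]
  congr 1
  ext d
  exact ⟨fun ⟨y, hy, e⟩ => e ▸ smul_ne_of_fix (hM hy) hc, fun hd => h c d hc hd⟩

end Basic

namespace SE

variable (h : SE G Ω) {a b c : Ω} {s z : G} {X X' M : Subgroup G} {p : ℕ}
include h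

theorem eq_one_of_two (hs : PiElt {2} s) (ha : s • a = a) (hc : c ≠ a) (hsc : s • c = c) :
    s = 1 :=
  hs.eq_one ((odd_iff_isPi.mp (h.odd_stab hc)).piElt ⟨hsc, ha⟩)

theorem CI_nml (a : Ω) : CI G a ⊴ stabilizer G a := by
  obtain ⟨z, hz, ha⟩ := h.pt a
  exact ⟨fun g hg => h.fix_of_comm hz ha (mem_CI.mp hg z hz ha), stab_le_N_CI a⟩

theorem good_up (hX : Good X a) (h1 : X ≤ X') (h2 : X' ≤ N[X]) (h3 : X' ≤ stabilizer G a) :
    Good X' a := by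
  intro c d hc hd hXc hXd
  obtain ⟨s, hs, e⟩ := hX c d hc hd (h1.trans hXc) (h1.trans hXd)
  have hle := pcore_le {2} (C[X] ⊓ stabilizer G a)
  have hsC : s ∈ C[X'] := mem_C.mpr fun x hx => by
    have h4 := mul_mem (inv_mem hs) (conj_mem (norm_O2 X a ⟨h2 hx, h3 hx⟩) hs)
    have h5 := h.eq_one_of_two ((pcore_pi _ _).piElt h4) (hle h4).2 hc (by
      rw [mul_smul, ← (show x • c = c from hXc hx), conj_smul, e, hXd hx, hXc hx, ← e,
        inv_smul_smul])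
    rw [inv_mul_eq_one] at h5
    exact mul_inv_eq_iff_eq_mul.mp h5.symm
  refine ⟨s, pcore_max' (K := O[{2}, C[X] ⊓ stabilizer G a] ⊓ C[X']) ((pcore_pi _ _).of_le inf_le_left)
    (le_inf inf_le_right (inf_le_left.trans (hle.trans inf_le_right)))
    (norm_inf ((inf_le_inf_right _ ((C_anti h1).trans (C_le_N X))).trans (norm_O2 X a))
      (norm_of_le inf_le_left)) ⟨hs, hsC⟩, e⟩

theorem good_up_nil (hX : Good X a) (h1 : X ≤ X') (h2 : Nil X') (h3 : X' ≤ stabilizer G a) :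
    Good X' a := by
  obtain ⟨Y, -, ⟨hY, hYX⟩, hmax⟩ := exists_max (P := fun Y => Good Y a ∧ Y ≤ X') ⟨hX, h1⟩
  rwa [← h2.eq_of_norm_le hYX (hmax _ ⟨h.good_up hY (le_inf hYX (norm_self Y)) inf_le_right
    (inf_le_left.trans h3), inf_le_left⟩ (le_inf hYX (norm_self Y))).le]

variable [Finite Ω]

omit h in
theorem _root_.H3.B71.Good.not_dvd (hX : Good X a) (hb : b ≠ a) (hXb : X ≤ stabilizer G b)
    (hp : p.Prime) (h2 : p ≠ 2) : ¬ p ∣ {c : Ω | c ≠ a ∧ X ≤ stabilizer G c}.ncard := by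
  have e : {c : Ω | c ≠ a ∧ X ≤ stabilizer G c} = Orb O[{2}, C[X] ⊓ stabilizer G a] b := by
    ext c
    refine ⟨fun hc => hX b c hb hc.1 hXb hc.2, ?_⟩
    rintro ⟨s, hs, rfl⟩
    have := pcore_le _ _ hs
    exact ⟨smul_ne_of_fix this.2 hb, fix_smul (C_le_N X this.1) hXb⟩
  rw [e]
  exact ((pcore_pi _ _).piNat.dvd (ncard_Orb_dvd _ _)).not_dvd hp h2

theorem two_le (hM : M ⊴ stabilizer G a) (hT : Tr M a) (hb : b ≠ a) (hX : IsPi {2} X)
    (hXa : X ≤ stabilizer G a) : X ≤ M :=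
  le_of_idx_compl hM ((odd_iff_isPi.mp (h.odd_stab hb.symm)).piNat.dvd
    (hT.isProd hM.le hb).relIndex_dvd) hX hXa

/-- control of fusion -/
theorem cent_trans {R : Subgroup G} (hM : M ⊴ stabilizer G a) (hT : Tr M a) (hb : b ≠ a)
    (hp : p.Prime) (h2 : p ≠ 2) (hR : Syl p (M ⊓ stabilizer G b) R) (hRg : Good R a)
    (hc : ∀ X ≤ M, IsPi {p} X → Good X a ∨ Cyc X) :
    ¬ p ∣ {d : Ω | d ≠ a}.ncard ∧ ∀ X, X ≤ M → IsPi {p} X → ∀ c d, c ≠ a → d ≠ a →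
      X ≤ stabilizer G c → X ≤ stabilizer G d → ∃ g ∈ C[X] ⊓ M, g • c = d := by
  have hnd : ¬ p ∣ {d : Ω | d ≠ a}.ncard := fun e => hRg.not_dvd hb (hR.le.trans inf_le_right) hp h2
    ((Nat.ModEq.dvd_iff (ncard_modEq (S := {d : Ω | d ≠ a}) hp hR.pi fun x hx c hc =>
      smul_ne_of_fix (hM.le (hR.le hx).1) hc) (dvd_refl p)).mp e)
  have hsyl : ∀ c, c ≠ a → ∀ X, Syl p (M ⊓ stabilizer G c) X → Syl p M X := fun c hc X hX =>
    hX.of_idx inf_le_left (by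
      rw [inf_relIndex_left, hT.idx hM.le hc]; exact (piNat_compl_singleton hp).mpr hnd)
  refine ⟨hnd, fun X => ?_⟩
  induction X using subgroup_ind_up with
  | h X ih =>
  intro hXM hX
  have hg : Good X a → ∀ c d, c ≠ a → d ≠ a → X ≤ stabilizer G c → X ≤ stabilizer G d →
      ∃ g ∈ C[X] ⊓ M, g • c = d := fun hg c d hc hd h3 h4 => by
    obtain ⟨s, hs, e⟩ := hg c d hc hd h3 h4
    exact ⟨s, ⟨(pcore_le _ _ hs).1, h.two_le hM hT hb (pcore_pi _ _)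
      ((pcore_le _ _).trans inf_le_right) hs⟩, e⟩
  by_cases hs : Syl p M X
  · obtain ⟨g, hg1, rfl⟩ := Sylow_trans hp (hsyl b hb R hR) hs
    exact hg (hRg.cj (hM.le hg1))
  refine (hc X hXM hX).elim hg fun hcy => ?_
  obtain ⟨P, hP, hXP⟩ := Sylow_superset hp hX (le_inf hXM (norm_self X))
  have hXP' : X < P := lt_of_le_of_ne hXP fun e => hs (Sylow_subnorm hp hXM (e ▸ hP))
  have hPM : P ≤ M := hP.le.trans inf_le_left
  obtain ⟨e, he, hPe⟩ := exists_fix_of_not_dvd (S := {d : Ω | d ≠ a}) hp hP.pi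
    (fun x hx c hc => smul_ne_of_fix (hM.le (hPM hx)) hc) hnd
  have hCN : C[X] ⊓ M ⊴ M ⊓ N[X] := ⟨le_inf inf_le_right (inf_le_left.trans (C_le_N X)),
    norm_inf (inf_le_right.trans (N_le_NC X)) (norm_of_le inf_le_left)⟩
  have hL : C[X] ⊓ M ⊔ P ⊴ M ⊓ N[X] := nml_of_der1_le
    ((le_inf (comm_le_C_of_cyc hcy inf_le_right inf_le_right)
      ((der1_le _).trans inf_le_left)).trans le_sup_left) (sup_le hCN.le hP.le)
  have key : ∀ c, c ≠ a → X ≤ stabilizer G c → c ∈ Orb (C[X] ⊓ M) e := fun c hc hXc => by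
    obtain ⟨Q, i1, i2, i3, i4⟩ := exists_lt_norm_of_not_syl hp hX (le_inf hXM hXc)
      fun e => hs (hsyl c hc X e)
    obtain ⟨n, hn, hQ⟩ := Sylow_subJ hp hP i1 (le_inf (i3.trans inf_le_left) i4)
    obtain ⟨l, hl, n', hn', rfl⟩ := (Frattini_arg hp hL (hP.of_le le_sup_right hL.le)).mul n hn
    obtain ⟨c', hc', y, hy, rfl⟩ := (mem_sup_of_norm (hP.le.trans hCN.norm)).mp hl
    have hyn : (y * n') • a = a := hM.le (mul_mem (hPM hy) hn'.1.1)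
    obtain ⟨g, hg, e1⟩ := ih Q i2 (i3.trans inf_le_left) i1 ((c' * y * n') • e) c
      (smul_ne_of_fix (hM.le hn.1) he) hc (hQ.trans ((cj_mono _ hPe).trans (cj_stab _ e).le))
      (i3.trans inf_le_right)
    obtain ⟨g', hg', e2⟩ := ih P hXP' hPM hP.pi e ((y * n') • e) he (smul_ne_of_fix hyn he) hPe
      (fix_smul (mul_mem (norm_self P hy) hn'.2) hPe)
    refine ⟨g * c' * g', mul_mem (mul_mem ⟨C_anti i2.le hg.1, hg.2⟩ hc') ⟨C_anti hXP hg'.1, hg'.2⟩, ?_⟩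
    rw [mul_smul, mul_smul, e2, ← e1, mul_assoc, mul_smul c']
  intro c d hc hd h3 h4
  obtain ⟨x, hx, rfl⟩ := key c hc h3
  obtain ⟨y, hy, rfl⟩ := key d hd h4
  exact ⟨y * x⁻¹, mul_mem hy (inv_mem hx), by rw [mul_smul, inv_smul_smul]⟩

theorem FC {R : Subgroup G} (hM : M ⊴ stabilizer G a) (hT : Tr M a) (hb : b ≠ a) (hp : p.Prime)
    (hd : p ∣ (⁅M ⊓ stabilizer G b, M ⊓ stabilizer G b⁆).relIndex (M ⊓ stabilizer G b))
    (hR : Syl p (M ⊓ stabilizer G b) R) (hRg : Good R a)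
    (hc : ∀ X ≤ M, IsPi {p} X → Good X a ∨ Cyc X) :
    ∃ L, L < M ∧ N[M] ≤ N[L] ∧ ⁅M, M⁆ ≤ L ∧ IsProd L (M ⊓ stabilizer G b) M := by
  have h2 : p ≠ 2 := by
    rintro rfl
    exact (odd_iff_isPi.mp (odd_of_le (h.odd_stab hb.symm) (inf_le_inf_right _ hM.le))).not_dvd
      hp (by simp) (hd.trans (relIndex_dvd_card _ _))
  obtain ⟨hnd, hct⟩ := h.cent_trans hM hT hb hp h2 hR hRg hc
  have hi : PiNat {p}ᶜ ((M ⊓ stabilizer G b).relIndex M) := by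
    rw [inf_relIndex_left, hT.idx hM.le hb]; exact (piNat_compl_singleton hp).mpr hnd
  have hRM : Syl p M R := hR.of_idx inf_le_left hi
  have hfoc : R ⊓ ⁅M, M⁆ ≤ ⁅M ⊓ stabilizer G b, M ⊓ stabilizer G b⁆ :=
    focal_subgroup_le hp hRM fun x hx u hu hux => by
      obtain ⟨c, hc, e⟩ := hct (zpowers x) (zpowers_le.mpr (hRM.le hx)) (hR.pi.piElt hx).isPi b
        (u⁻¹ • b) hb (smul_ne_of_fix (hM.le (inv_mem hu)) hb) (zpowers_le.mpr (hR.le hx).2)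
        (zpowers_le.mpr (fix_of_conj (g := u) (by rw [smul_inv_smul]; exact (hR.le hux).2)))
      have h3 : u * c ∈ M ⊓ stabilizer G b := ⟨mul_mem hu hc.2,
        show (u * c) • b = b by rw [mul_smul, e, smul_inv_smul]⟩
      have h4 := commutator_mem_commutator (inv_mem (hR.le hx)) h3
      have h5 := conj_eq_of_mem_C hc.1 (mem_zpowers x)
      rwa [commutatorElement_def, inv_inv, show x⁻¹ * (u * c) * x * (u * c)⁻¹ =
        x⁻¹ * (u * (c * x * c⁻¹) * u⁻¹) by group, h5] at h4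
  have hn := der1_nml M
  have hL : PiNat {p} ((coreMod {p}ᶜ M ⁅M, M⁆).relIndex M) := by
    have := ((abl_quo_der1 M).nil.pcore_hall {p}ᶜ).idx
    rwa [compl_compl, ← relIndex_coq _ hn.norm] at this
  refine ⟨coreMod {p}ᶜ M ⁅M, M⁆, lt_of_le_of_ne (coreMod_le _ hn) fun e => ?_,
    norm_coreMod _ hn le_rfl (norm_der1 le_rfl), le_coreMod _ _ _,
    isProd_of_coprime_relIndex (coreMod_le _ hn) inf_le_left (hL.coprime hi)⟩
  have h3 := coreMod_idx {p}ᶜ M ⁅M, M⁆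
  rw [e] at h3
  exact (hR.idx_of_ge ((le_inf le_rfl (le_of_idx_compl hn h3 hR.pi hRM.le)).trans hfoc)).not_dvd hp
    (by simp) hd

theorem exists_prime_der (hD : Odd ♯X) (h1 : X ≠ ⊥) : ∃ p, p.Prime ∧ p ∣ (⁅X, X⁆).relIndex X :=
  Nat.exists_prime_and_dvd fun e => ((sol_of_odd hD).der1_lt h1).not_ge (relIndex_eq_one.mp e)

theorem reg_of_good (hM : M ⊴ stabilizer G a) (hT : Tr M a)
    (hg : ∀ p X, p.Prime → IsPi {p} X → X ≤ M → X ≠ ⊥ → Fix3 X a → Good X a) :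
    ∃ Q : Subgroup G, Reg a Q := by
  obtain ⟨Q, hQM, ⟨hQ, hQT⟩, hmin⟩ := exists_min (P := fun L => L ⊴ stabilizer G a ∧ Tr L a) ⟨hM, hT⟩
  refine ⟨Q, hQ.le, hQ.norm, hQT, fun x hx b hb hxb => ?_⟩
  by_contra h1
  have hg' : ∀ p X, p.Prime → IsPi {p} X → X ≤ Q → X ≠ ⊥ → Good X a := fun p X hp i1 i2 i3 => by
    by_cases e : Fix3 X a
    · exact hg p X hp i1 (i2.trans hQM) i3 e
    · exact good_of_not_fix3 (i2.trans hQ.le) e
  obtain ⟨p, hp, hd⟩ := h.exists_prime_der (X := Q ⊓ stabilizer G b)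
    (odd_of_le (h.odd_stab hb.symm) (inf_le_inf_right _ hQ.le)) (ne_bot_of_mem ⟨hx, hxb⟩ h1)
  obtain ⟨R, hR⟩ := Sylow_exists hp (Q ⊓ stabilizer G b)
  obtain ⟨L, i1, i2, -, i3⟩ := h.FC hQ hQT hb hp hd hR (hg' p R hp hR.pi (hR.le.trans inf_le_left)
    (hR.ne_bot hp rfl (hd.trans (relIndex_dvd_card _ _)))) fun X hX hpX => by
      by_cases e : X = ⊥
      · exact Or.inr (e ▸ cyc_bot)
      · exact Or.inl (hg' p X hp hpX hX e)
  refine i1.ne (hmin L ⟨⟨i1.le.trans hQ.le, hQ.norm.trans i2⟩, Tr.of_base (b := b) fun c hc => ?_⟩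
    i1.le)
  obtain ⟨g, hg, rfl⟩ := hQT b c hb hc
  obtain ⟨l, hl, d, hd, rfl⟩ := i3.mul g hg
  exact ⟨l, hl, by rw [mul_smul, hd.2]⟩

end SE

namespace Min

variable [Finite Ω] (h : Min G Ω) {a b c : Ω} {u v z t g k : G} {X M : Subgroup G} {p : ℕ}
include h

theorem four_of_two (hp : p.Prime) (hX : IsPi {p} X) (h3 : Fix3 X a) (hu : Inv u) (hz : Inv z)
    (hua : u • a = a) (hza : z • a = a) (huX : u ∈ C[X]) (hzX : z ∈ C[X]) (hne : u ≠ z) :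
    Four C[X] a := by
  by_contra h4
  have hc4 := h.se.no_comm (Y := C[X]) fun c hc => h4 (h.se.four_move hc hz hzX hza)
  obtain ⟨e, hXe, he, -⟩ := h3.third a a
  obtain ⟨t, htX, ht, hta⟩ := h.swap_C hp hX h3 he hXe
  obtain ⟨A, i1, i2, i3, i4⟩ := exists_block (a := a) (odd_O C[X]) fun e1 => he (by
    have : (z * t) • a = a := e1 (mul_mem_O hc4 hz hzX ht htX)
    rw [mul_smul, hta] at this
    rw [← hz.smul_eq this, hza])
  obtain ⟨x, hx, hxa⟩ := SetLike.not_le_iff_exists.mp i3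
  have hn := (pcore_nml {2}ᶜ C[X]).norm
  have := h.NB hu hua hxa (by rw [mul_smul, hza, hua]) (h.se.blk_fix_mul i4
    (odd_of_le (odd_O _) i1) hu hua (i2 (hn huX)) hz hza (i2 (hn hzX)) hx) (hu.conj_mul hz)
  exact hne (by rw [← hz.inv]; exact eq_inv_of_mul_eq_one_left this)

theorem good_comm (hp : p.Prime) (hX : IsPi {p} X) (h1 : X ≠ ⊥) (h3 : Fix3 X a) (hu : Inv u)
    (hz : Inv z) (hua : u • a = a) (hza : z • a = a) (huX : u ∈ C[X]) (hzX : z ∈ C[X]) :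
    u * z = z * u := by
  by_cases hne : u = z
  · rw [hne]
  obtain ⟨e, hXe, he, -⟩ := h3.third a a
  obtain ⟨t, htX, ht, hta⟩ := h.swap_C hp hX h3 he hXe
  obtain ⟨Q, hQ⟩ := h.ls C[X] a (fun e => h.N_ne_top h1 h3.1 (eq_top_iff.mpr (e ▸ C_le_N X)))
    (h.four_of_two hp hX h3 hu hz hua hza huX hzX hne) ⟨t, htX, hta ▸ he⟩
  have h4 := hQ.comm u huX hu hua z (hQ.inv_mem z hzX hz hza)
  have h5 := h.NB hu hua he (Ker_fix h4) (hta ▸ h4.2 t htX) (by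
    rw [hu.inv, hz.inv]
    calc _ = (u * u) * (z * u * z * u) := by group
      _ = _ := by rw [hu.2, one_mul, mul_inv_rev, mul_inv_rev, mul_inv_rev, hu.inv, hz.inv]; group)
  rwa [mul_inv_eq_one, mul_inv_eq_iff_eq_mul] at h5

theorem good_of_four (hp : p.Prime) (hX : IsPi {p} X) (h1 : X ≠ ⊥) (h3 : Fix3 X a)
    (h4 : Four C[X] a) : Good X a := by
  have hinv : ∀ u ∈ C[X], Inv u → u ∈ C[PS Ω X] := fun u hu hi => by
    obtain ⟨c, hc⟩ := h.se.ex u hi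
    obtain ⟨e, hXe, he, -⟩ := h3.third c c
    exact mem_C_iff_le_C1.mpr (h.le_C1_of_norm hi hc he (fun x hx => ⟨mem_PS.mp hx c fun y hy =>
      h.se.fix_of_comm hi hc (mem_C'.mp hu y hy), mem_PS.mp hx e hXe⟩) (N_le_N_PS X (C_le_N X hu)))
  have hmv : ∀ c, c ≠ a → X ≤ stabilizer G c → ∃ t ∈ C[PS Ω X], t • a = c := fun c hc hXc => by
    obtain ⟨t, htX, ht, hta⟩ := h.swap_C hp hX h3 hc hXc
    exact ⟨t, hinv t htX ht, hta⟩
  intro c d hc hd hXc hXd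
  obtain ⟨t, ht, rfl⟩ := hmv c hc hXc
  obtain ⟨t', ht', rfl⟩ := hmv d hd hXd
  obtain ⟨u, hu, v, hv, i1, i2, i3⟩ := h4
  have hmv' : ∃ y ∈ C[PS Ω X], y • a ≠ a := ⟨t, ht, hc⟩
  obtain ⟨Q, hQ⟩ := h.ls C[PS Ω X] a (fun e => h.N_ne_top (ne_bot_of_le h1 (le_PS X))
    (fun x hx => mem_PS.mp hx a h3.1) (eq_top_iff.mpr (e ▸ C_le_N _)))
    ⟨u, hinv u hu i1, v, hinv v hv i2, i1, i2, i3⟩ hmv'
  have hK : Ker C[PS Ω X] a ≤ PS Ω X := fun g hg => mem_PS.mpr fun e he => by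
    by_cases e1 : e = a
    · rw [e1]; exact Ker_fix hg
    · obtain ⟨s, hs, rfl⟩ := hmv e e1 he
      exact hg.2 s hs
  have hn := hQ.le.trans (Ker_nml _ a).norm
  have hnil : Nil Q := nil_of_quo_center
    (le_inf hQ.ker_le (cents_symm (hQ.le.trans (C_anti hK))))
    (((isPi_quo_iff hn).mpr hQ.piNat).nil Nat.prime_two)
  obtain ⟨x, hx, e⟩ := hQ.trans t ht t' ht' hc hd
  obtain ⟨s, hs, n, hn, rfl⟩ := ((hnil.pcore_hall {2}).isProd_of_idx hQ.ker_le hQ.piNat).mul x hx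
  have hQn : Q ⊴ C[PS Ω X] ⊓ stabilizer G a :=
    ⟨le_inf hQ.le hQ.fix, fun y hy => hQ.norm y hy.1 hy.2⟩
  have hYn : C[PS Ω X] ⊓ stabilizer G a ⊴ C[X] ⊓ stabilizer G a :=
    ⟨inf_le_inf_right _ (C_anti (le_PS X)), norm_inf (inf_le_left.trans
      ((C_le_N X).trans ((N_le_N_PS X).trans (N_le_NC _)))) (norm_of_le inf_le_right)⟩
  exact ⟨s, hYn.pcore_le _ (hQn.pcore_le _ hs), by rwa [mul_smul, hn.2 t ht] at e⟩

theorem good_of_two (hp : p.Prime) (hX : IsPi {p} X) (h1 : X ≠ ⊥) (h3 : Fix3 X a) (hu : Inv u)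
    (hz : Inv z) (hua : u • a = a) (hza : z • a = a) (huX : u ∈ C[X]) (hzX : z ∈ C[X])
    (hne : u ≠ z) : Good X a :=
  h.good_of_four hp hX h1 h3 (h.four_of_two hp hX h3 hu hz hua hza huX hzX hne)

theorem good_of_K (hp : p.Prime) (hX : IsPi {p} X) (h1 : X ≠ ⊥) (h3 : Fix3 X a) (ht : Inv t)
    (hta : t • a ≠ a) (hka : k • a = a) (hk : t * k * t⁻¹ = k⁻¹) (hk1 : k ≠ 1) (hkX : k ∈ C[X]) :
    Good X a := by
  obtain ⟨z, hz, hza, hzX⟩ := h.lemC hp hX h3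
  exact h.good_of_two hp hX h1 h3 (hz.conj k) hz (conj_mem_II hka ⟨hz, hza⟩).2 hza
    (mul_mem (mul_mem hkX hzX) (inv_mem hkX)) hzX fun e =>
      hk1 (h.se.K_free ht hta hz hza hka hk (mul_inv_eq_iff_eq_mul.mp e))

theorem trans_of_good (hM : M ⊴ stabilizer G a) (hp : p.Prime) (h2 : p ≠ 2) (hX : IsPi {p} X)
    (hXM : X ≤ M) (hb : b ≠ a) (hXb : X ≤ stabilizer G b) (hg : Good X a)
    (hO : ∀ c, c ≠ a → X ≤ stabilizer G c → c ∈ Orb M b) : Tr M a := by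
  refine Tr.of_base (b := b) fun c hc => ?_
  have hne : ∀ c, c ≠ a → ∀ d ∈ Orb M c, d ≠ a := by
    rintro c hc _ ⟨y, hy, rfl⟩
    exact smul_ne_of_fix (hM.le hy) hc
  obtain ⟨g, hga, rfl⟩ := h.two a b c hb hc
  obtain ⟨d, ⟨y, hy, rfl⟩, hd⟩ := exists_fix_of_not_dvd (S := Orb M (g • b)) hp hX
    (fun x hx c hc => smul_mem_Orb (hXM hx) hc) fun e => by
      rw [ncard_Orb, ← cj_stab, ← cj_of_mem_N (hM.norm hga), relIndex_cj, ← ncard_Orb] at e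
      have := (Nat.ModEq.dvd_iff (ncard_modEq (S := Orb M b) hp hX
        fun x hx c hc => smul_mem_Orb (hXM hx) hc) (dvd_refl p)).mp e
      rw [show {c ∈ Orb M b | X ≤ stabilizer G c} = {c | c ≠ a ∧ X ≤ stabilizer G c} from
        Set.ext fun c => ⟨fun hc => ⟨hne b hb c hc.1, hc.2⟩, fun hc => ⟨hO c hc.1 hc.2, hc.2⟩⟩] at this
      exact hg.not_dvd hb hXb hp h2 this
  have := smul_mem_Orb (inv_mem hy) (hO _ (smul_ne_of_fix (hM.le hy) hc) hd)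
  rwa [inv_smul_smul] at this

theorem fix3_of_cent (ht : Inv t) (hta : t • a = b) (hb : b ≠ a) (hX : X ≤ D2 G a b)
    (hXt : X ≤ C{t}) : Fix3 X a := by
  obtain ⟨w, hw⟩ := h.se.ex t ht
  exact ⟨hX.trans inf_le_left, b, w, hb, fun e => hb (by rw [← hta, ← e, hw]),
    fun e => hb (by rw [← ht.smul_eq hta, e, hw]), hX.trans inf_le_right,
    fun x hx => h.se.fix_of_comm ht hw (mem_C1.mp (hXt hx)).symm⟩

theorem fix3_of_cent' (hz : Inv z) (hza : z • a = a) (hb : b ≠ a) (hX : X ≤ D2 G a b)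
    (hXz : X ≤ C{z}) : Fix3 X a :=
  ⟨hX.trans inf_le_left, b, z • b, hb, smul_ne_of_fix hza hb, (h.se.smul_ne hz hza hb).symm,
    hX.trans inf_le_right, fun _ hx => comm_fix (mem_C1.mp (hXz hx)) (hX hx).2⟩

/-- `C_D(t) = C_D(s)` for an involution `s` at `a` -/
theorem exists_V (ht : Inv t) (hta : t • a = b) (hb : b ≠ a) :
    ∃ s, Inv s ∧ s • a = a ∧ C{t} ⊓ D2 G a b = C{s} ⊓ D2 G a b := by
  suffices ∃ s, Inv s ∧ s • a = a ∧ C{t} ⊓ D2 G a b ≤ C{s} by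
    obtain ⟨s, hs, hsa, e⟩ := this
    refine ⟨s, hs, hsa, eq_of_card_eq (le_inf e inf_le_right) (Nat.eq_of_mul_eq_mul_right
      (relIndex_pos C{t} (D2 G a b)) ?_)⟩
    rw [card_inf_mul_relIndex, h.se.idx_T ht hta hb, ← h.se.idx_I hs hsa hb, card_inf_mul_relIndex]
  set V := C{t} ⊓ D2 G a b with hV
  by_cases h1 : V = ⊥
  · obtain ⟨s, hs, hsa⟩ := h.se.pt a
    exact ⟨s, hs, hsa, h1 ▸ bot_le⟩
  have hVa : V ≤ stabilizer G a := inf_le_right.trans inf_le_left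
  obtain ⟨p, hp, h0⟩ := exists_pcore_ne_bot
    (sol_of_odd (odd_of_le (h.se.odd_stab hb.symm) inf_le_right)) h1
  have hn := pcore_nml {p} V
  have hV3 : Fix3 V a := h.fix3_of_cent ht hta hb inf_le_right inf_le_left
  have h3 := hV3.mono hn.le
  obtain ⟨z, hz, hza, hzX⟩ := h.lemC hp (pcore_pi _ _) h3
  by_cases hu : ∃ u, Inv u ∧ u • a = a ∧ u ∈ C[O[{p}, V]] ∧ u ≠ z
  · obtain ⟨u, hu, hua, huX, hne⟩ := hu
    obtain ⟨-, c, d, hc, hd, hcd, i1, i2⟩ := id hV3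
    obtain ⟨r, hr, e⟩ := h.se.good_up (h.good_of_two hp (pcore_pi _ _) h0 h3 hu hz hua hza huX hzX
      hne) hn.le hn.norm hVa c d hc hd i1 i2
    obtain ⟨s, hs, i3⟩ := H21.exists_invol_of_even_card (even_iff_two_dvd.mpr
      ((pcore_pi _ _).dvd_card (ne_bot_of_mem hr (by rintro rfl; exact hcd (by simpa using e)))))
    exact ⟨s, i3, (pcore_le _ _ hs).2, mem_C_iff_le_C1.mp (pcore_le _ _ hs).1⟩
  · push Not at hu
    exact ⟨z, hz, hza, fun v hv => mem_C1_iff_conj.mpr (hu _ (hz.conj v)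
      (conj_mem_II (hVa hv) ⟨hz, hza⟩).2 (conj_mem (N_le_NC _ (hn.norm hv)) hzX))⟩

/-- case A -/
theorem reg_of_CI (hb : b ≠ a) (hW : CI G a ⊓ D2 G a b ≠ ⊥) : ∃ Q : Subgroup G, Reg a Q := by
  obtain ⟨u, -, v, -, hu, hv, huv, -, hua, hva⟩ := h.four a
  have hC := h.se.CI_nml a
  have hg : ∀ p X, p.Prime → IsPi {p} X → X ≤ CI G a → X ≠ ⊥ → Fix3 X a → Good X a :=
    fun p X hp i1 i2 i3 i4 => h.good_of_two hp i1 i3 i4 hu hv hua hva
      (mem_C'.mpr fun x hx => mem_CI.mp (i2 hx) u hu hua)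
      (mem_C'.mpr fun x hx => mem_CI.mp (i2 hx) v hv hva) huv
  refine h.se.reg_of_good hC ?_ hg
  obtain ⟨p, hp, hd⟩ := exists_prime_dvd_card hW
  obtain ⟨P, hP⟩ := Sylow_exists hp (CI G a ⊓ D2 G a b)
  have hPD := hP.le.trans inf_le_right
  have hPC := hP.le.trans inf_le_left
  have h3 : Fix3 P a := h.fix3_of_cent' hu hua hb hPD fun x hx =>
    mem_C1.mpr (mem_CI.mp (hPC hx) u hu hua).symm
  have hPg := hg p P hp hP.pi hPC (hP.ne_bot hp rfl hd) h3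
  set S := O[{2}, C[P] ⊓ stabilizer G a] with hS
  have hSa : S ≤ stabilizer G a := (pcore_le _ _).trans inf_le_right
  have hS2 : IsPi {2} S := pcore_pi _ _
  have hSC : S ≤ CI G a := by
    obtain ⟨-, c, d, hc, hd, hcd, i1, i2⟩ := id h3
    obtain ⟨r, hr, e⟩ := hPg c d hc hd i1 i2
    obtain ⟨z, hz, i3⟩ := H21.exists_invol_of_even_card (even_iff_two_dvd.mpr
      ((hS2.of_le inf_le_left).dvd_card ((hS2.nil Nat.prime_two).center_ne_bot
        (ne_bot_of_mem hr (by rintro rfl; exact hcd (by simpa using e))))))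
    intro x hx
    refine mem_CI.mpr fun z' i4 i5 => ?_
    obtain ⟨t, ht, hta⟩ := h.se.exists_inv_smul hb.symm
    obtain ⟨k, j1, j2, -, rfl, -⟩ := h.se.exists_K ht hta hb.symm i3 i4 (hSa hz.1) i5
    obtain ⟨w, hw, n, hn, rfl⟩ := (Frattini_arg hp (hC.inf_right inf_le_left) hP).mul k ⟨j1, j2⟩
    have j3 := mem_CI.mp hw.1 _ (Inv.conj i3 n) (conj_mem_II hn.1.1 ⟨i3, hSa hz.1⟩).2
    rw [show w * n * z * (w * n)⁻¹ = w * (n * z * n⁻¹) * w⁻¹ by group, ← j3, mul_inv_cancel_right]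
    exact mem_C'.mp (conj_mem (N_le_NC S (norm_O2 P a ⟨hn.2, hn.1.1⟩)) hz.2) x hx
  refine h.trans_of_good hC hp ?_ hP.pi hPC hb (hPD.trans inf_le_right) hPg fun c hc hPc => ?_
  · rintro rfl
    exact (odd_iff_isPi.mp (odd_of_le (h.se.odd_stab hb.symm) inf_le_right)).not_dvd hp (by simp) hd
  · obtain ⟨s, hs, e⟩ := hPg b c hb hc (hPD.trans inf_le_right) hPc
    exact ⟨s, hSC hs, e⟩

/-- case B -/
theorem reg_of_K (hK : ∀ (b : Ω) (t x : G), b ≠ a → Inv t → t • a = b → x ∈ D2 G a b →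
    x * t = t * x → (orderOf x).Prime → ∃ k, k • a = a ∧ k • b = b ∧ t * k * t⁻¹ = k⁻¹ ∧
      k * x = x * k ∧ k ≠ 1) : ∃ Q : Subgroup G, Reg a Q := by
  refine h.se.reg_of_good (Nml.refl _) (h.two a) fun p X hp hX hXa h1 h3 => ?_
  obtain ⟨b, hXb, hb, -⟩ := h3.third a a
  obtain ⟨t, htX, ht, hta⟩ := h.swap_C hp hX h3 hb hXb
  obtain ⟨x, hx, e⟩ := exists_orderOf_eq hp (hX.dvd_card h1)
  obtain ⟨k, i1, -, i2, i3, i4⟩ := hK b t x hb ht hta ⟨hXa hx, hXb hx⟩ (mem_C.mp htX x hx) (e ▸ hp)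
  have hxX := zpowers_le.mpr hx
  exact h.se.good_up_nil (h.good_of_K hp (hX.of_le hxX)
    (ne_bot_of_mem (mem_zpowers x) (ne_one_of_orderOf_prime (e ▸ hp))) (h3.mono hxX) ht (hta ▸ hb)
    i1 i2 i4 (by rw [C_zpowers]; exact mem_C1.mpr i3)) hxX (hX.nil hp) hXa

end Min

end B71
end H3
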