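import Mathlib
import Cfsg.Agent.H3.B71Defs
import Cfsg.Agent.H17.Six3

set_option autoImplicit false
set_option linter.unusedSectionVars false

namespace H3
namespace B71

open H24 Subgroup MulAction

/-- README step SIX. -/
theorem six {G Ω : Type*} [Group G] [Finite G] [MulAction G Ω] [Finite Ω] (h : SE G Ω)
    {a b : Ω} (hab : a ≠ b) {t x : G} {K : Subgroup G}
    (h2 : ∀ c d : Ω, c ≠ a → d ≠ a → ∃ g : G, g • a = a ∧ g • c = d)
    (ht : Inv t) (hta : t • a = b)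
    (hK : ∀ k, k ∈ K ↔ k • a = a ∧ k • b = b ∧ t * k * t⁻¹ = k⁻¹)
    (hKfix : ∀ k ∈ K, k ≠ 1 → ∀ c : Ω, k • c = c → c = a ∨ c = b)
    (hxa : x • a = a) (hxb : x • b = b) (hxt : x * t = t * x) (hp : (orderOf x).Prime)
    (hxK : K ⊓ C{x} = ⊥) (hcard : ♯K + 1 = 2 ^ orderOf x)
    (hD : ∀ d : G, d • a = a → d • b = b → ∃ k ∈ K, ∃ i : ℕ, d = k * x ^ i)
    (hcomm : ∀ u v : G, Inv u → Inv v → u • a = a → v • a = a → u * v = v * u)
    (hI : ∀ u v u' v' : G, Inv u → Inv v → Inv u' → Inv v' → u • a = a → v • a = a →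
      u' • a = a → v' • a = a → u ≠ v → u' ≠ v' →
      ∃ g : G, g • a = a ∧ g * u * g⁻¹ = u' ∧ g * v * g⁻¹ = v') : False := by
  classical
  have := Fintype.ofFinite G
  have := Fintype.ofFinite Ω
  have : Finite (H17.Six.J G) := Finite.of_injective H17.Six.J.val fun _ _ => H17.Six.ext
  have := Fintype.ofFinite (H17.Six.J G)
  exact H17.Six.Hy.final ⟨h, hab, h2, ht, hta, hK, hKfix, hxa, hxb, hxt, hp, hxK, hcard, hD, hcomm, hI⟩

end B71
end H3
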