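import Mathlib
import Cfsg.Agent.H3.B71Defs
import Cfsg.Agent.H20.BTen2

set_option autoImplicit false
set_option linter.unusedSectionVars false

namespace H3
namespace B71

open H24 Subgroup MulAction

/-- README step TEN: the elements of `D` inverted by `t` commute. -/
theorem ten {G : Type*} [Group G] [Finite G] {D : Subgroup G} {I : Set G} {t s x : G}
    (hD : Odd ♯D) (ht : t * t = 1) (htD : t ∈ N[D])
    (hI : ∀ z ∈ I, Inv z)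
    (hDI : ∀ d ∈ D, ∀ z ∈ I, d * z * d⁻¹ ∈ I)
    (hII : ∀ u ∈ I, ∀ z ∈ I, u * z * u⁻¹ ∈ I)
    (hmul : ∀ u ∈ I, ∀ z ∈ I, u ≠ z → u * z = z * u → u * z ∈ I)
    (hs : s ∈ I)
    (htr : ∀ z ∈ I, ∃ k ∈ D, t * k * t⁻¹ = k⁻¹ ∧ z = k * s * k⁻¹)
    (hfree : ∀ k ∈ D, t * k * t⁻¹ = k⁻¹ → ∀ z ∈ I, k * z = z * k → k = 1)
    (hV : ∀ d ∈ D, d * s = s * d ↔ d * t = t * d)
    (hW : ∀ d ∈ D, (∀ z ∈ I, d * z = z * d) → d = 1)
    (hgood : ∀ y ∈ D, (orderOf y).Prime → ∀ u ∈ I, ∀ z ∈ I, y * u = u * y → y * z = z * y →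
      u * z = z * u)
    (hx : x ∈ D) (hxt : x * t = t * x) (hxp : (orderOf x).Prime)
    (hxK : ∀ k ∈ D, t * k * t⁻¹ = k⁻¹ → k * x = x * k → k = 1) :
    ∀ k ∈ D, ∀ l ∈ D, t * k * t⁻¹ = k⁻¹ → t * l * t⁻¹ = l⁻¹ → k * l = l * k := by
  intro k hk l hl h1 h2
  exact (H20.BT10.TH.abl_D0 ⟨hD, ht, htD, hI, hDI, hII, hmul, hs, htr, hfree, hV, hW, hgood⟩
    hx hxt hxp hxK).comm (subset_closure ⟨hk, h1⟩) (subset_closure ⟨hl, h2⟩)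

end B71
end H3
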