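import Mathlib
import Cfsg.Agent.H3.B71Defs
import Cfsg.Agent.H16.B71V0a

set_option autoImplicit false
set_option linter.unusedSectionVars false
set_option linter.unusedVariables false

namespace H3
namespace B71

open H24 Subgroup MulAction

variable {G : Type*} [Group G] [Finite G]

/-- README step FL (field lemma). -/
theorem field_lemma {K B : Subgroup G} {J : Set G} {s : G} (hK : Abl K) (hs : s ∈ J)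
    (hJ : ∀ z ∈ J, Inv z) (hcomm : ∀ u ∈ J, ∀ z ∈ J, u * z = z * u)
    (hmul : ∀ u ∈ J, ∀ z ∈ J, u ≠ z → u * z ∈ J)
    (hKJ : ∀ k ∈ K, k * s * k⁻¹ ∈ J) (htr : ∀ z ∈ J, ∃ k ∈ K, z = k * s * k⁻¹)
    (hfree : ∀ k ∈ K, k * s = s * k → k = 1) (hB : B ≤ N[K]) (hBs : B ≤ C{s}) :
    Cyc K ∧ ∀ x ∈ B, (orderOf x).Prime → K ≠ ⊥ → K ⊓ C{x} = ⊥ →
      ♯K + 1 = 2 ^ orderOf x ∧ ∀ g ∈ B, ∃ i : ℕ, g * (x ^ i)⁻¹ ∈ C[K] :=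
  H16.field_lemma hK hs hJ hcomm hmul hKJ htr hfree hB hBs

/-- README step V0. -/
theorem exists_k0 {K V : Subgroup G} {I : Set G} {s : G} (hK : Abl K) (hKodd : Odd ♯K)
    (hVodd : Odd ♯V) (hVK : V ≤ N[K]) (hVs : V ≤ C{s}) (hfaith : V ⊓ C[K] = ⊥) (hV1 : V ≠ ⊥)
    (hs : s ∈ I) (hI : ∀ z ∈ I, Inv z)
    (hmul : ∀ u ∈ I, ∀ z ∈ I, u ≠ z → u * z = z * u → u * z ∈ I)
    (hKI : ∀ k ∈ K, k * s * k⁻¹ ∈ I) (htr : ∀ z ∈ I, ∃ k ∈ K, z = k * s * k⁻¹)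
    (hfree : ∀ k ∈ K, k * s = s * k → k = 1)
    (hgood : ∀ y ∈ V, (orderOf y).Prime → ∀ u ∈ I, ∀ z ∈ I, y * u = u * y → y * z = z * y →
      u * z = z * u)
    (hab : ∀ y ∈ V, (orderOf y).Prime → orderOf y ∣ (⁅V, V⁆).relIndex V → K ⊓ C{y} = ⊥) :
    ∃ k₀ ∈ K, k₀ ≠ 1 ∧ ∀ v ∈ V, v ≠ 1 → ∃ l ∈ K, k₀ = l * v * l⁻¹ * v⁻¹ :=
  H16.BV0.exists_k0 ⟨hK, hVodd, hVK, hVs, hfaith, hs, hI, hmul, hKI, htr, hfree, hgood, hab⟩ hV1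

end B71
end H3
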