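import Mathlib
import Cfsg.Agent.H3.B71E
import Cfsg.Agent.H3.B71Ten
import Cfsg.Agent.H3.B71Dich
import Cfsg.Agent.H3.B71V0
import Cfsg.Agent.H3.B71Six
import Cfsg.Agent.H1.BG33

/-! Bender 1971: the case where `K` is a normal subgroup of `D`. -/

set_option autoImplicit false
set_option linter.unusedSectionVars false

namespace H3
namespace B71

open H24 H26 Subgroup MulAction Cfsg
open scoped commutatorElement

variable {G Ω : Type*} [Group G] [MulAction G Ω] [Finite G]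

theorem Fix3.cj {X : Subgroup G} {a : Ω} {g : G} (h : Fix3 X a) (hg : g • a = a) :
    Fix3 (cj g X) a := by
  obtain ⟨h0, e, f, he, hf, hef, h1, h2⟩ := h
  exact ⟨cj_le_of_mem h0 hg, g • e, g • f, smul_ne_of_fix hg he, smul_ne_of_fix hg hf,
    fun e1 => hef (smul_left_cancel g e1), (cj_mono g h1).trans (cj_stab g e).le,
    (cj_mono g h2).trans (cj_stab g f).le⟩

theorem mul_mem_II {a : Ω} : ∀ u ∈ II G a, ∀ z ∈ II G a, u ≠ z → u * z = z * u → u * z ∈ II G a :=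
  fun _ hu _ hz h1 h2 => ⟨hu.1.mul hz.1 h1 h2, by rw [mul_smul, hz.2, hu.2]⟩

theorem Min.hgood [Finite Ω] (h : Min G Ω) {a b : Ω} (hb : b ≠ a) :
    ∀ y ∈ D2 G a b, (orderOf y).Prime → ∀ u ∈ II G a, ∀ z ∈ II G a, y * u = u * y →
      y * z = z * y → u * z = z * u := fun y hy hp u hu z hz h1 h2 =>
  h.good_comm hp (piElt_of_orderOf_prime hp rfl).isPi
    (ne_bot_of_mem (mem_zpowers y) (ne_one_of_orderOf_prime hp))
    (h.fix3_of_cent' hu.1 hu.2 hb (zpowers_le.mpr hy) (zpowers_le.mpr (mem_C1.mpr h1)))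
    hu.1 hz.1 hu.2 hz.2 (by rw [C_zpowers]; exact mem_C1.mpr h1.symm)
    (by rw [C_zpowers]; exact mem_C1.mpr h2.symm)

/-- case C -/
structure CC (a b : Ω) (t s : G) (K : Subgroup G) : Prop where
  min : Min G Ω
  hb : b ≠ a
  ht : Inv t
  hta : t • a = b
  hs : Inv s
  hsa : s • a = a
  hV : C{t} ⊓ D2 G a b = C{s} ⊓ D2 G a b
  hW : CI G a ⊓ D2 G a b = ⊥
  mem : ∀ k, k ∈ K ↔ k • a = a ∧ k • b = b ∧ t * k * t⁻¹ = k⁻¹
  abl : Abl K

namespace CC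

variable [Finite Ω] {a b c : Ω} {t s g k x z z' : G} {K M X : Subgroup G} {p : ℕ}
  (h : CC a b t s K)
include h

theorem odd : Odd ♯(D2 G a b) := h.min.se.odd_stab h.hb.symm

theorem le : K ≤ D2 G a b := fun k hk => ⟨((h.mem k).mp hk).1, ((h.mem k).mp hk).2.1⟩

theorem prod : IsProd (C{t} ⊓ D2 G a b) K (D2 G a b) :=
  ⟨inf_le_right, h.le, fun d hd => by
    obtain ⟨y, z, h1, h2, h3, e⟩ := H21.exists_cent_mul_inverted h.ht.2 h.odd
      (fun x hx => conj_mem (mem_N_D2 h.hta (h.ht.smul_eq h.hta)) hx) hd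
    exact ⟨y, ⟨mem_C1.mpr h2.symm, h1⟩, z, (h.mem z).mpr ⟨h3.1.1, h3.1.2, h3.2⟩, e⟩⟩

theorem nml : K ⊴ D2 G a b := by
  refine ⟨h.le, h.prod.sup_eq.ge.trans (sup_le (le_N_iff.mpr fun v hv k hk => ?_) (norm_self K))⟩
  have h1 := conj_mem (norm_self (D2 G a b) hv.2) (h.le hk)
  have h2 := conj_inv_conj (g := v) ((h.mem k).mp hk).2.2
  rw [mem_C1_iff_conj.mp hv.1] at h2
  exact (h.mem _).mpr ⟨h1.1, h1.2, h2⟩

theorem tr (hz : z ∈ II G a) (hz' : z' ∈ II G a) : ∃ k ∈ K, z = k * z' * k⁻¹ := by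
  obtain ⟨k, h1, h2, h3, e, -⟩ := h.min.se.exists_K h.ht h.hta h.hb.symm hz'.1 hz.1 hz'.2 hz.2
  exact ⟨k, (h.mem k).mpr ⟨h1, h2, h3⟩, e.symm⟩

theorem free (hk : k ∈ K) (hz : z ∈ II G a) (e : k * z = z * k) : k = 1 :=
  h.min.se.K_free h.ht (h.hta ▸ h.hb) hz.1 hz.2 ((h.mem k).mp hk).1 ((h.mem k).mp hk).2.2 e

theorem ne_bot : K ≠ ⊥ := by
  obtain ⟨u, -, v, -, hu, hv, huv, -, hua, hva⟩ := h.min.four a
  obtain ⟨k, hk, e⟩ := h.tr ⟨hu, hua⟩ ⟨hv, hva⟩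
  exact ne_bot_of_mem hk (by rintro rfl; exact huv (by simpa using e))

theorem faith : (C{t} ⊓ D2 G a b) ⊓ C[K] = ⊥ := by
  rw [eq_bot_iff, ← h.hW, h.hV]
  refine fun g hg => ⟨mem_CI.mpr fun z h1 h2 => ?_, hg.1.2⟩
  obtain ⟨k, hk, rfl⟩ := h.tr ⟨h1, h2⟩ ⟨h.hs, h.hsa⟩
  have h3 : k ∈ C{g} := mem_C1.mpr (mem_C.mp hg.2 k hk)
  exact mem_C1.mp (mul_mem (mul_mem h3 (mem_C1_comm.mp hg.1.1)) (inv_mem h3))

theorem inf_eq : K ⊓ (C{t} ⊓ D2 G a b) = ⊥ :=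
  eq_bot_iff.mpr (h.faith ▸ le_inf inf_le_right (inf_le_left.trans h.abl.le_C))

theorem cent_le : D2 G a b ⊓ C[K] ≤ K := fun d hd => by
  obtain ⟨v, hv, k, hk, rfl⟩ := h.prod.mul d hd.1
  have : v ∈ (C{t} ⊓ D2 G a b) ⊓ C[K] := ⟨hv, (mul_mem_cancel_right (h.abl.le_C hk)).mp hd.2⟩
  rw [h.faith, mem_bot] at this
  rwa [this, one_mul]

theorem fix (hk : k ∈ K) (h1 : k ≠ 1) (hc : k • c = c) : c = a ∨ c = b :=
  h.min.K_fix h.ht h.hta h.hb (h.le hk).1 (h.le hk).2 ((h.mem k).mp hk).2.2 h1 hc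

theorem mem_D (hk : k ∈ K) (h1 : k ≠ 1) (hg : g • a = a) (e : (g * k * g⁻¹) • b = b) :
    g • b = b := by
  have hg' : g⁻¹ • a = a := (stabilizer G a).inv_mem hg
  have := (h.fix hk h1 (fix_of_conj (g := g) (a := g⁻¹ • b) (by rwa [smul_inv_smul]))).resolve_left
    (smul_ne_of_fix hg' h.hb)
  exact (inv_smul_eq_iff.mp this).symm

theorem inf_C1 (hk : k ∈ K) (h1 : k ≠ 1) (hM : M ≤ stabilizer G a) (e : M ⊓ D2 G a b = ⊥) :
    M ⊓ C{k} = ⊥ :=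
  eq_bot_iff.mpr (e ▸ fun g hg => ⟨hg.1, hM hg.1, h.mem_D hk h1 (hM hg.1)
    (by rw [mem_C1_iff_conj.mp hg.2]; exact (h.le hk).2)⟩)

theorem nml_inf (hM : M ⊴ stabilizer G a) (hn : ¬ M ≤ CI G a) : M ⊓ K ≠ ⊥ := fun e => hn (by
  have hKM : K ≤ N[M] := (h.le.trans inf_le_left).trans hM.norm
  have h1 : M ⊓ D2 G a b ≤ C[K] := cents_of_inf_eq_bot (inf_le_right.trans h.nml.norm)
    (norm_inf hKM (norm_of_le h.le)) (eq_bot_of_le e (inf_le_inf_right _ inf_le_left))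
  have h2 : M ⊓ D2 G a b = ⊥ :=
    eq_bot_of_le e (le_inf inf_le_left ((le_inf inf_le_right h1).trans h.cent_le))
  refine fun m hm => mem_CI.mpr fun z h3 h4 => ?_
  obtain ⟨k, hk, e1⟩ := h.tr (conj_mem_II (hM.le (inv_mem hm)) ⟨h3, h4⟩) ⟨h3, h4⟩
  have e2 : m * k * z = z * (m * k) := by
    calc _ = m * (k * z * k⁻¹) * k := by group
      _ = _ := by rw [← e1]; group
  by_cases hk1 : k = 1
  · simpa [hk1] using e2.symm
  obtain ⟨c, hc, e3⟩ := exists_conj_of_fpf (hKM hk) (h.inf_C1 hk hk1 hM.le h2) hm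
  refine absurd (h.free hk (conj_mem_II (hM.le (inv_mem hc)) ⟨h3, h4⟩) ?_) hk1
  calc _ = c⁻¹ * (c * k * c⁻¹ * z) * c := by group
    _ = c⁻¹ * (z * (c * k * c⁻¹)) * c := by rw [e3, e2]
    _ = _ := by group)

theorem nml_tr (hM : M ⊴ stabilizer G a) (hn : ¬ M ≤ CI G a) : Tr M a := by
  obtain ⟨k, hk, h1⟩ := exists_ne_one (h.nml_inf hM hn)
  obtain ⟨l, hl, hp⟩ := exists_prime_mem_zp h1
  replace hl := zpowers_le.mpr hk hl
  have hf : ∀ c, c ≠ a → zpowers l ≤ stabilizer G c → c = b := fun c hc e =>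
    (h.fix hl.2 (ne_one_of_orderOf_prime hp) (e (mem_zpowers l))).resolve_left hc
  refine h.min.trans_of_good hM hp (fun e => ?_) (piElt_of_orderOf_prime hp rfl).isPi
    (zpowers_le.mpr hl.1) h.hb (zpowers_le.mpr (h.le hl.2).2)
    (fun c d hc hd h2 h3 => ⟨1, one_mem _, by rw [one_smul, hf c hc h2, hf d hd h3]⟩)
    fun c hc e => hf c hc e ▸ mem_Orb_self M b
  exact absurd (odd_orderOf_of_mem h.odd (h.le hl.2)) (by rw [e]; decide)

theorem good_or_semireg (hp : p.Prime) (hX : IsPi {p} X) (h3 : Fix3 X a) :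
    Good X a ∨ Semireg K X := by
  refine or_iff_not_imp_right.mpr fun e => ?_
  rw [semireg_iff] at e
  push Not at e
  obtain ⟨y, hy, h1, k, hk, e, hk1⟩ := e
  have hyX := zpowers_le.mpr hy
  exact h.min.se.good_up_nil (h.min.good_of_K hp (hX.of_le hyX) (ne_bot_of_mem (mem_zpowers y) h1)
    (h3.mono hyX) h.ht (h.hta ▸ h.hb) (h.le hk).1 ((h.mem k).mp hk).2.2 hk1
    (by rw [C_zpowers]; exact mem_C1.mpr e)) hyX (hX.nil hp) h3.1

theorem good_or_cyc (hp : p.Prime) (hX : IsPi {p} X) (hXa : X ≤ stabilizer G a) :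
    Good X a ∨ Cyc X := by
  by_cases h3 : Fix3 X a
  · obtain ⟨e, hXe, he, -⟩ := h3.third a a
    obtain ⟨g, hg, rfl⟩ := h.min.two a e b he h.hb
    have hD : cj g X ≤ D2 G a (g • e) :=
      le_inf (cj_le_of_mem hXa hg) ((cj_mono g hXe).trans (cj_stab g e).le)
    refine (h.good_or_semireg hp (hX.cj g) (h3.cj hg)).imp (fun h1 => ?_) fun h1 =>
      cyc_cj.mp (H1.odd_regular_pgroup_cyclic hp (hX.cj g) (odd_of_le h.odd hD) h.ne_bot
        (hD.trans h.nml.norm) h1)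
    simpa using h1.cj (g := g⁻¹) ((stabilizer G a).inv_mem hg)
  · exact Or.inl (good_of_not_fix3 hXa h3)

theorem reg_of_der (hM : M ⊴ stabilizer G a) (hn : ¬ M ≤ CI G a) (hd : ⁅M, M⁆ ≤ CI G a) :
    Reg a (CI G a) := by
  have hC := h.min.se.CI_nml a
  refine ⟨hC.le, hC.norm, Tr.of_base (b := b) fun c hc => ?_, fun x hx c hc e => ?_⟩
  · obtain ⟨g, hg, rfl⟩ := h.nml_tr hM hn b c h.hb hc
    obtain ⟨k, hk, h1⟩ := exists_ne_one (h.nml_inf hM hn)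
    obtain ⟨e, he, e1⟩ := exists_conj_of_fpf (hC.norm (h.le hk.2).1) (h.inf_C1 hk.2 h1 hC.le h.hW)
      (hd (commutator_mem_commutator hg hk.1))
    have := h.mem_D (g := e⁻¹ * g) hk.2 h1
      ((stabilizer G a).mul_mem (hC.le (inv_mem he)) (hM.le hg)) (by
        rw [show e⁻¹ * g * k * (e⁻¹ * g)⁻¹ = e⁻¹ * (⁅g, k⁆ * k) * e by
          rw [commutatorElement_def]; group, ← e1, show e⁻¹ * (e * k * e⁻¹) * e = k by group]
        exact (h.le hk.2).2)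
    rw [mul_smul, inv_smul_eq_iff] at this
    exact ⟨e, he, this.symm⟩
  · obtain ⟨g, hg, rfl⟩ := h.min.two a c b hc h.hb
    have : g * x * g⁻¹ ∈ CI G a ⊓ D2 G a (g • c) :=
      ⟨hC.conj_mem hg hx, hC.le (hC.conj_mem hg hx), conj_fix e⟩
    rw [h.hW, mem_bot] at this
    exact conj_eq_one_iff'.mp this

theorem semireg {R : Subgroup G} (hM : M ⊴ stabilizer G a) (hn : ¬ M ≤ CI G a) (hd : ⁅M, M⁆ = M)
    (hp : p.Prime)
    (hi : p ∣ (⁅M ⊓ stabilizer G b, M ⊓ stabilizer G b⁆).relIndex (M ⊓ stabilizer G b))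
    (hR : Syl p (M ⊓ stabilizer G b) R) : Semireg K R := by
  have hRD : R ≤ D2 G a b := hR.le.trans (inf_le_inf_right _ hM.le)
  have hg : ¬ Good R a := fun hg => by
    obtain ⟨L, h1, -, h2, -⟩ := h.min.se.FC hM (h.nml_tr hM hn) h.hb hp hi hR hg
      fun X hX hpX => h.good_or_cyc hp hpX (hX.trans hM.le)
    exact h1.not_ge (hd ▸ h2)
  exact (h.good_or_semireg hp hR.pi (by
    by_contra e; exact hg (good_of_not_fix3 (hRD.trans inf_le_left) e))).resolve_left hg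

omit h in
theorem exists_swap (hM : M ⊴ stabilizer G a) (hn : ¬ M ≤ CI G a) (hd : ⁅M, M⁆ = M)
    (h : ∀ g ∈ M, ∀ u ∈ II G a, ∀ v ∈ II G a, g * u * g⁻¹ = v → g * v * g⁻¹ = u → u = v) :
    False := by
  have hN : M ≤ N[CI G a] := hM.le.trans (stab_le_N_CI a)
  have ho : Odd ♯(quo M (CI G a)) := odd_of_no_inv fun z hz hi => by
    obtain ⟨g, hg, hgN, rfl⟩ := mem_quo.mp hz
    have h2 : g * g ∈ CI G a := (cs_eq_one (mul_mem hgN hgN)).mp ((ap_mul _ hgN hgN).trans hi.2)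
    refine hi.1 (cs_of_mem (mem_CI.mpr fun u h3 h4 => ?_))
    refine eq_mul_inv_iff_mul_eq.mp (h g hg u ⟨h3, h4⟩ _ (conj_mem_II (hM.le hg) ⟨h3, h4⟩) rfl ?_)
    calc _ = (g * g * u) * (g * g)⁻¹ := by group
      _ = _ := by rw [← mem_CI.mp h2 u h3 h4]; group
  refine ((sol_of_odd ho).der1_lt fun e => hn ((quo_eq_bot hN).mp e)).ne ?_
  rw [← quo_comm hN hN, hd]

theorem two_false (hx : x ∈ C{t} ⊓ D2 G a b) (hp : (orderOf x).Prime) (hxK : K ⊓ C{x} = ⊥)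
    (h2 : ∀ u ∈ II G a, ∀ v ∈ II G a, ∀ u' ∈ II G a, ∀ v' ∈ II G a, u ≠ v → u' ≠ v' →
      ∃ g : G, g • a = a ∧ g * u * g⁻¹ = u' ∧ g * v * g⁻¹ = v') : False := by
  have hcomm : ∀ u ∈ II G a, ∀ v ∈ II G a, u * v = v * u := fun u hu v hv => by
    by_cases e : u = v
    · rw [e]
    obtain ⟨u0, -, v0, -, i1, i2, i3, i4, i5, i6⟩ := h.min.four a
    obtain ⟨g, -, rfl, rfl⟩ := h2 u0 ⟨i1, i5⟩ v0 ⟨i2, i6⟩ u hu v hv i3 e
    calc _ = g * (u0 * v0) * g⁻¹ := by group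
      _ = _ := by rw [i4]; group
  have hs : s ∈ II G a := ⟨h.hs, h.hsa⟩
  obtain ⟨h3, h4⟩ := (field_lemma (B := C{t} ⊓ D2 G a b) h.abl hs (fun _ hz => hz.1) hcomm
    (fun u hu z hz e => mul_mem_II u hu z hz e (hcomm u hu z hz))
    (fun k hk => conj_mem_II (h.le hk).1 hs) (fun _ hz => h.tr hz hs) (fun _ hk => h.free hk hs)
    (inf_le_right.trans h.nml.norm) (h.hV ▸ inf_le_left)).2 x hx hp h.ne_bot hxK
  refine six h.min.se h.hb.symm (h.min.two a) h.ht h.hta h.mem (fun k hk h1 c => h.fix hk h1)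
    hx.2.1 hx.2.2 (mem_C1.mp hx.1) hp hxK h3 (fun d h5 h6 => ?_)
    (fun u v i1 i2 i3 i4 => hcomm u ⟨i1, i3⟩ v ⟨i2, i4⟩)
    fun u v u' v' i1 i2 i3 i4 i5 i6 i7 i8 => h2 u ⟨i1, i5⟩ v ⟨i2, i6⟩ u' ⟨i3, i7⟩ v' ⟨i4, i8⟩
  obtain ⟨k, hk, v, hv, rfl⟩ := h.prod.symm.mul d ⟨h5, h6⟩
  obtain ⟨i, hi⟩ := h4 v hv
  have : v * (x ^ i)⁻¹ ∈ (C{t} ⊓ D2 G a b) ⊓ C[K] := 
    ⟨Subgroup.mul_mem _ hv (Subgroup.inv_mem _ (Subgroup.pow_mem _ hx i)), hi⟩
  rw [h.faith, mem_bot, mul_inv_eq_one] at this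
  exact ⟨k, hk, i, by rw [this]⟩

theorem perfect_false (hx : x ∈ C{t} ⊓ D2 G a b) (hxp : (orderOf x).Prime) (hxK : K ⊓ C{x} = ⊥)
    (hM : M ⊴ stabilizer G a) (hn : ¬ M ≤ CI G a) (hd : ⁅M, M⁆ = M)
    (hmin : ∀ L, L ⊴ stabilizer G a ∧ ¬ L ≤ CI G a → L ≤ M → L = M) : False := by
  set E := M ⊓ stabilizer G b with hE
  have hED : E ≤ D2 G a b := inf_le_inf_right _ hM.le
  have hEn : E ⊴ D2 G a b := ⟨hED, norm_inf (inf_le_left.trans hM.norm) (norm_of_le inf_le_right)⟩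
  have hEo := odd_of_le h.odd hED
  obtain ⟨p, hp, hi⟩ := h.min.se.exists_prime_der hEo
    (ne_bot_of_le (h.nml_inf hM hn) (inf_le_inf_left _ (h.le.trans inf_le_right)))
  obtain ⟨R, hR⟩ := Sylow_exists hp E
  obtain ⟨y, hy, hy1⟩ := exists_ne_one (hR.ne_bot hp rfl (hi.trans (relIndex_dvd_card _ _)))
  have hyK := h.semireg hM hn hd hp hi hR y hy hy1
  have hKE : K ≤ E := fun k hk => ⟨by
    obtain ⟨l, hl, e⟩ := exists_conj_of_fpf (h.nml.norm (hED (hR.le hy))) hyK hk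
    exact (M.mul_mem_cancel_right (hR.le hy).1).mp (e ▸ hM.conj_mem (h.le hl).1 (hR.le hy).1),
    (h.le hk).2⟩
  have hne : K ≠ E := fun e => h.ne_bot (eq_bot_of_le hyK
    (le_inf le_rfl (h.abl.le_C.trans (C_le_C1 (e ▸ hR.le hy)))))
  have hpr := h.prod.inf_right hKE hED
  set V := C{t} ⊓ D2 G a b ⊓ E with hV
  have hVK : V ≤ N[K] := (inf_le_right.trans hED).trans h.nml.norm
  have hs : s ∈ II G a := ⟨h.hs, h.hsa⟩
  obtain ⟨k0, hk0, hk1, hk2⟩ := exists_k0 (V := V) h.abl (odd_of_le h.odd h.le)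
    (odd_of_le hEo inf_le_right) hVK (inf_le_left.trans (h.hV ▸ inf_le_left))
    (eq_bot_of_le h.faith (inf_le_inf_right _ inf_le_left))
    (fun e => hne (by rw [← hpr.sup_eq, e, bot_sup_eq])) hs (fun _ hz => hz.1) mul_mem_II
    (fun k hk => conj_mem_II (h.le hk).1 hs) (fun _ hz => h.tr hz hs) (fun _ hk => h.free hk hs)
    (fun y hy => h.min.hgood h.hb y hy.1.2) fun y hy hq hqi => by
      obtain ⟨R, hR, hyR⟩ := Sylow_superset hq (piElt_of_orderOf_prime hq rfl).isPi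
        (zpowers_le.mpr hy.2)
      refine h.semireg hM hn hd hq (hqi.trans ?_) hR y (hyR (mem_zpowers y))
        (ne_one_of_orderOf_prime hq)
      have e1 : (⁅V, V⁆ ⊔ K).relIndex E = (⁅V, V⁆).relIndex V := by
        rw [(hpr.symm.mono_left le_sup_right
          (sup_le ((der1_le V).trans inf_le_right) hKE)).relIndex_eq, ← inf_relIndex_right,
          ← group_modl' ((der1_le V).trans hVK) (der1_le V),
          eq_bot_of_le h.inf_eq (inf_le_inf_left K inf_le_left), sup_bot_eq]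
      rw [← e1]
      refine relIndex_dvd_of_le_left _ ?_
      rw [← hE, ← hpr.symm.sup_eq, der1_sup hVK]
      exact sup_le (sup_le ((der1_le K).trans le_sup_right) ((comm_le_left hVK).trans le_sup_right))
        le_sup_left
  refine (dich (X := M) inf_le_left (h.nml.of_le hKE hED) hne h.abl hEo
    (fun g hg z hz => conj_mem_II (hM.le hg) hz) hs (fun _ hz => h.tr hz hs)
    (fun _ hk => h.free hk hs) (fun g hg k hk h1 e => ⟨hg, h.mem_D hk h1 (hM.le hg) e.2⟩)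
    fun L hL hZ => ?_).elim (fun h2 => h.two_false hx hxp hxK fun u i1 v i2 u' i3 v' i4 i5 i6 => ?_)
    (exists_swap hM hn hd)
  · have h3 : closure {g | ∃ c ∈ stabilizer G a, g = c * k0 * c⁻¹} ≤ L := (closure_le _).mpr (by
      rintro _ ⟨c, hc, rfl⟩
      obtain ⟨m, hm, d, hd, rfl⟩ := ((h.nml_tr hM hn).isProd hM.le h.hb).mul c hc
      rw [show m * d * k0 * (m * d)⁻¹ = m * (d * k0 * d⁻¹) * m⁻¹ by group]
      refine hL.conj_mem hm (hZ _ (h.nml.conj_mem hd hk0) fun e he heK => ?_)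
      obtain ⟨v, hv, l0, hl0, e1⟩ := hpr.mul _ (conj_mem' (hEn.norm hd) he)
      obtain ⟨l, hl, e2⟩ := hk2 v hv (by
        rintro rfl
        exact heK ((conj_mem_iff' (h.nml.norm hd)).mp (by rwa [e1, one_mul])))
      refine ⟨d * l * d⁻¹, h.nml.conj_mem hd hl, ?_⟩
      calc _ = d * (l * v * (l⁻¹ * l0) * l0⁻¹ * v⁻¹) * d⁻¹ := by rw [e2]; group
        _ = d * (l * (v * l0) * l⁻¹ * (v * l0)⁻¹) * d⁻¹ := by
          rw [h.abl.comm (inv_mem hl) hl0]; group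
        _ = _ := by rw [← e1]; group)
    have h4 := h3.trans hL.le
    rw [hmin _ ⟨⟨h4.trans hM.le, norm_closure fun g hg _ ⟨c, hc, e⟩ => subset_closure
      ⟨g * c, mul_mem hg hc, by rw [e]; group⟩⟩, fun e => hk1 ?_⟩ h4] at h3
    · exact (hKE.trans inf_le_left).trans h3
    · have : k0 ∈ CI G a ⊓ D2 G a b := ⟨e (subset_closure ⟨1, one_mem _, by simp⟩), h.le hk0⟩
      rwa [h.hW] at this
  · obtain ⟨g, hg, e⟩ := h2 u i1 v i2 u' i3 v' i4 i5 i6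
    exact ⟨g, hM.le hg, e⟩

theorem exists_reg (hx : x ∈ C{t} ⊓ D2 G a b) (hxp : (orderOf x).Prime) (hxK : K ⊓ C{x} = ⊥) :
    ∃ Q : Subgroup G, Reg a Q := by
  obtain ⟨M, -, ⟨hM, hn⟩, hmin⟩ := exists_min (P := fun L => L ⊴ stabilizer G a ∧ ¬ L ≤ CI G a)
    ⟨Nml.refl _, fun e => ne_one_of_orderOf_prime hxp (by
      have : x ∈ CI G a ⊓ D2 G a b := ⟨e hx.2.1, hx.2⟩
      rwa [h.hW] at this)⟩
  by_cases hd : ⁅M, M⁆ ≤ CI G a
  · exact ⟨_, h.reg_of_der hM hn hd⟩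
  · exact (h.perfect_false hx hxp hxK hM hn (hmin _ ⟨hM.der1, hd⟩ (der1_le M)) hmin).elim

end CC

theorem Min.reg_of_x [Finite Ω] (h : Min G Ω) {a b : Ω} {t x : G} (hb : b ≠ a) (ht : Inv t)
    (hta : t • a = b) (hW : CI G a ⊓ D2 G a b = ⊥) (hx : x ∈ D2 G a b) (hxt : x * t = t * x)
    (hp : (orderOf x).Prime)
    (hxK : ∀ k, k • a = a → k • b = b → t * k * t⁻¹ = k⁻¹ → k * x = x * k → k = 1) :
    ∃ Q : Subgroup G, Reg a Q := by
  obtain ⟨s, hs, hsa, hV⟩ := h.exists_V ht hta hb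
  have hc := ten (I := II G a) (h.se.odd_stab hb.symm) ht.2 (mem_N_D2 hta (ht.smul_eq hta))
    (fun _ hz => hz.1) (fun d hd z hz => conj_mem_II hd.1 hz) (fun u hu z hz => conj_mem_II hu.2 hz)
    mul_mem_II ⟨hs, hsa⟩ (fun z hz => by
      obtain ⟨k, h1, h2, h3, e, -⟩ := h.se.exists_K ht hta hb.symm hs hz.1 hsa hz.2
      exact ⟨k, ⟨h1, h2⟩, h3, e.symm⟩)
    (fun k hk e z hz => h.se.K_free ht (hta ▸ hb) hz.1 hz.2 hk.1 e)
    (fun d hd => ⟨fun e => mem_C1.mp (hV.ge ⟨mem_C1.mpr e, hd⟩).1,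
      fun e => mem_C1.mp (hV.le ⟨mem_C1.mpr e, hd⟩).1⟩)
    (fun d hd e => by
      have : d ∈ CI G a ⊓ D2 G a b := ⟨mem_CI.mpr fun z h1 h2 => (e z ⟨h1, h2⟩).symm, hd⟩
      rwa [hW] at this)
    (h.hgood hb) hx hxt hp fun k hk => hxK k hk.1 hk.2
  let K : Subgroup G :=
    { carrier := {k | k • a = a ∧ k • b = b ∧ t * k * t⁻¹ = k⁻¹}
      one_mem' := ⟨one_smul _ _, one_smul _ _, by simp⟩
      mul_mem' := fun {k l} hk hl => ⟨by rw [mul_smul, hl.1, hk.1], by rw [mul_smul, hl.2.1, hk.2.1],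
        by rw [hc k ⟨hk.1, hk.2.1⟩ l ⟨hl.1, hl.2.1⟩ hk.2.2 hl.2.2, mul_inv_rev, ← hk.2.2, ← hl.2.2,
          ← hc k ⟨hk.1, hk.2.1⟩ l ⟨hl.1, hl.2.1⟩ hk.2.2 hl.2.2]; group⟩
      inv_mem' := fun {k} hk => ⟨(stabilizer G a).inv_mem hk.1, (stabilizer G b).inv_mem hk.2.1,
        by rw [← conj_inv, hk.2.2]⟩ }
  exact CC.exists_reg (K := K) ⟨h, hb, ht, hta, hs, hsa, hV, hW, fun _ => Iff.rfl,
    abl_iff.mpr (le_C_iff.mpr fun k hk l hl => hc k ⟨hk.1, hk.2.1⟩ l ⟨hl.1, hl.2.1⟩ hk.2.2 hl.2.2)⟩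
    ⟨mem_C1.mpr hxt, hx⟩ hp (eq_bot_iff.mpr fun k hk => hxK k hk.1.1 hk.1.2.1 hk.1.2.2 (mem_C1.mp hk.2))

end B71
end H3
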