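import Mathlib
import Cfsg.Agent.H3.B71Defs
import Cfsg.Agent.H3.B71F

set_option autoImplicit false
set_option linter.unusedSectionVars false

namespace H3
namespace B71

open H24 Subgroup MulAction

/-- the main step of Bender's theorem -/
theorem Min.exists_reg {G Ω : Type*} [Group G] [Finite G] [MulAction G Ω] [Finite Ω]
    (h : Min G Ω) (a : Ω) : ∃ Q : Subgroup G, Reg a Q := by
  by_contra hno
  refine hno (h.reg_of_K fun b t x hb ht hta hx hxt hp => ?_)
  by_contra hk
  push Not at hk
  exact hno (h.reg_of_x hb ht hta (by_contra fun e => hno (h.reg_of_CI hb e)) hx hxt hp hk)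

end B71
end H3
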