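import Mathlib
import Cfsg.Agent.H3.B71Main
import Cfsg.Agent.H8.SuzWrap
import Cfsg.Agent.H26.B71R

set_option autoImplicit false
set_option linter.unusedSectionVars false

namespace H3
namespace B71

open H24 Subgroup MulAction Cfsg

universe u

theorem bs_all (n : ℕ) : H26.BR.BS.{u} n :=
  H26.BR.bs_step (fun _ _ _ _ _ _ h a => h.exists_reg a) n

/-- README step RED: Bender's theorem, permutation form. -/
theorem bender {G Ω : Type u} [Group G] [Finite G] [MulAction G Ω] [Finite Ω] [Nontrivial Ω]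
    (h : SE G Ω) (hf : ∀ g : G, (∀ c : Ω, g • c = c) → g = 1) (hr : H8.Suz.Rank2 G) (a : Ω) :
    ∃ t Q s r, H8.Suz.Hyp G Ω a t Q s r :=
  bs_all _ G Ω le_rfl h hf hr a

/-- the local structure of an arbitrary subgroup containing a four-group -/
theorem ls_of_se {G Ω : Type u} [Group G] [Finite G] [MulAction G Ω] [Finite Ω] (h : SE G Ω)
    {Y : Subgroup G} {a : Ω} (h4 : Four Y a) (hy : ∃ y ∈ Y, y • a ≠ a) : ∃ Q, LS Y a Q :=
  (bs_all _).ls h le_rfl h4 hy

/-- the group induced on an orbit -/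
theorem hyp_im {G Ω : Type u} [Group G] [Finite G] [MulAction G Ω] [Finite Ω] (h : SE G Ω)
    {Y : Subgroup G} {a : Ω} (h4 : Four Y a) (hy : ∃ y ∈ Y, y • a ≠ a) :
    ∃ t Q s r, H8.Suz.Hyp (H26.BR.Im Y a) (orbit Y a) (H26.BR.base Y a) t Q s r :=
  haveI := H26.BR.nontrivial_orbit hy
  bender (H26.BR.se_im h h4 hy) H26.BR.im_faithful (H26.BR.rank2_im h h4 hy) _

/-- the cosets of a strongly embedded subgroup -/
theorem se_of_stronglyEmbedded {G : Type u} [Group G] [Finite G] {H : Subgroup G}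
    (hH : IsStronglyEmbedded H) : SE G (G ⧸ H) := H26.BR.se_cosets hH

/-- Bender's theorem for simple groups -/
theorem bender_simple {G : Type u} [Group G] [Finite G] [IsSimpleGroup G] {H : Subgroup G}
    (hH : IsStronglyEmbedded H) :
    ∃ t Q s r, H8.Suz.Hyp G (G ⧸ H) ((1 : G) : G ⧸ H) t Q s r := by
  have := H26.BR.nontrivial_cosets hH.1
  refine bender (se_of_stronglyEmbedded hH) (fun g hg => ?_) (H8.Suz.rank2_of_simple hH.1 hH.2.1) _
  rcases (toPermHom G (G ⧸ H)).normal_ker.eq_bot_or_eq_top with h | h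
  · exact (MonoidHom.ker_eq_bot_iff _).mp h (by rw [map_one]; exact Equiv.ext hg)
  · refine absurd (eq_top_iff.mpr fun x _ => ?_) hH.1
    have h1 : toPermHom G (G ⧸ H) x = 1 := h.ge (mem_top x)
    have h2 : x • ((1 : G) : G ⧸ H) = ((1 : G) : G ⧸ H) := congrArg (· ((1 : G) : G ⧸ H)) h1
    rwa [← mem_stabilizer_iff, stabilizer_quotient] at h2

end B71
end H3
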