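import Mathlib
import Cfsg.Prelude.Def_Transfer
import Cfsg.Prelude.Def_CaseTheorems
import Cfsg.Agent.H3.PGroup

/-!
# `p`-groups of maximal class; Taussky's theorem
-/

namespace H3

open Subgroup Cfsg
open scoped Pointwise commutatorElement

variable {G : Type*} [Group G]

/-- Centralizers do not grow in quotients. -/
theorem card_centralizer_mk_le [Finite G] (N : Subgroup G) [N.Normal] (x : G) :
    Nat.card (centralizer {(x : G ⧸ N)}) ≤ Nat.card (centralizer {x}) := by
  set D := (centralizer {(x : G ⧸ N)}).comap (QuotientGroup.mk' N) with hD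
  have h1 : Nat.card D = Nat.card N * Nat.card (centralizer {(x : G ⧸ N)}) := H2.card_comap_mk' N _
  have h2 : (centralizer {x}).relIndex D ≤ Nat.card N := by
    refine relIndex_centralizer_le_card D N x fun g hg => ?_
    rw [← QuotientGroup.eq_one_iff]
    have := mem_centralizer_singleton_iff.1 hg
    exact commutatorElement_eq_one_iff_mul_comm.2 this
  have h3 := H2.card_inf_mul_relIndex (centralizer {x}) D
  have h4 : Nat.card ↥(centralizer {x} ⊓ D) ≤ Nat.card (centralizer {x}) :=
    card_le_of_le inf_le_left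
  have h5 : Nat.card N * Nat.card (centralizer {(x : G ⧸ N)}) ≤
      Nat.card N * Nat.card (centralizer {x}) := by
    rw [← h1, ← h3, mul_comm]
    exact Nat.mul_le_mul h2 h4
  exact Nat.le_of_mul_le_mul_left h5 Nat.card_pos

universe u in
theorem nilpotencyClass_eq_aux {p : ℕ} [hp : Fact p.Prime] (n : ℕ) :
    ∀ (X : Type u) [Group X] [Finite X], Nat.card X = p ^ (n + 2) →
      (∃ x : X, Nat.card (centralizer {x}) ≤ p ^ 2) → Group.nilpotencyClass X = n + 1 := by
  induction n with
  | zero =>
    intro X _ _ hX _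
    have hc : IsMulCommutative X := IsPGroup.isMulCommutative_of_card_eq_prime_sq hX
    have hG : IsPGroup p X := IsPGroup.of_card hX
    have := hG.isNilpotent
    have h1 := Group.IsNilpotent.nilpotencyClass_le_one_iff.2 hc
    have h2 : Group.nilpotencyClass X ≠ 0 := by
      intro h
      have := Group.nilpotencyClass_zero_iff_subsingleton.1 h
      rw [Nat.card_of_subsingleton (1 : X)] at hX
      exact absurd hX.symm (Nat.one_lt_pow (by omega) hp.out.one_lt).ne'
    omega
  | succ n ih =>
    rintro X _ _ hX ⟨x, hx⟩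
    have hG : IsPGroup p X := IsPGroup.of_card hX
    have := hG.isNilpotent
    have hnt : Nontrivial X := by
      rw [← Finite.one_lt_card_iff_nontrivial, hX]
      exact Nat.one_lt_pow (by omega) hp.out.one_lt
    have hlt : center X < centralizer {x} := by
      refine lt_of_le_of_ne (center_le_centralizer _) fun h => ?_
      have h1 : x ∈ center X := h ▸ mem_centralizer_singleton_iff.2 rfl
      have h2 : centralizer {x} = ⊤ :=
        eq_top_iff.2 fun g _ => mem_centralizer_singleton_iff.2 (mem_center_iff.1 h1 g)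
      rw [h2, card_top, hX] at hx
      exact absurd hx (not_le.2 (Nat.pow_lt_pow_right hp.out.one_lt (by omega)))
    have h1 : Nat.card (center X) = p := by
      apply le_antisymm
      · have := (mul_card_le_of_lt (hG.to_subgroup _) hlt).trans hx
        rw [sq] at this
        exact Nat.le_of_mul_le_mul_left this hp.out.pos
      · have := mul_card_le_of_lt (hG.to_subgroup _)
          (bot_lt_iff_ne_bot.2 (Group.IsNilpotent.center_ne_bot (G := X)))
        simpa using this
    have h2 : Nat.card (X ⧸ center X) = p ^ (n + 2) := by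
      have := (center X).card_eq_card_quotient_mul_card_subgroup
      rw [h1, hX, show n + 1 + 2 = n + 2 + 1 by ring, pow_succ] at this
      exact (Nat.eq_of_mul_eq_mul_right hp.out.pos this).symm
    rw [Group.nilpotencyClass_eq_quotient_center_plus_one,
      ih _ h2 ⟨x, (card_centralizer_mk_le _ x).trans hx⟩]

/-- A `p`-group with an element whose centralizer has order at most `p ^ 2` has maximal class. -/
theorem nilpotencyClass_eq_of_card_centralizer_le [Finite G] {p : ℕ} [Fact p.Prime] {n : ℕ}
    (hn : 2 ≤ n) (hG : Nat.card G = p ^ n) {x : G} (hx : Nat.card (centralizer {x}) ≤ p ^ 2) :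
    Group.nilpotencyClass G = n - 1 := by
  obtain ⟨k, rfl⟩ := Nat.exists_eq_add_of_le' hn
  exact nilpotencyClass_eq_aux k G hG ⟨x, hx⟩

/-- A `p`-group with a self-centralizing subgroup of order `p ^ 2` has an element with centralizer
of order `p ^ 2`. -/
theorem exists_centralizer_eq_of_selfCentralizing [Finite G] {p : ℕ} [hp : Fact p.Prime]
    (hG : IsPGroup p G) (A : Subgroup G) (hA : Nat.card A = p ^ 2)
    (hC : centralizer (A : Set G) = A) : ∃ x : G, centralizer {x} = A := by
  have := hG.isNilpotent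
  have hZ : center G ≤ A := hC ▸ center_le_centralizer _
  by_cases h : A ≤ center G
  · refine ⟨1, ?_⟩
    rw [← hC, centralizer_eq_top_iff_subset.2 h, centralizer_eq_top_iff_subset.2 (by simp)]
  obtain ⟨x, hx, hxZ⟩ := SetLike.not_le_iff_exists.1 h
  refine ⟨x, ?_⟩
  have hnt : Nontrivial G := ⟨⟨x, 1, fun h => hxZ (h ▸ one_mem _)⟩⟩
  have h1 := mul_card_le_of_lt (hG.to_subgroup _)
    (bot_lt_iff_ne_bot.2 (Group.IsNilpotent.center_ne_bot (G := G)))
  have h2 := mul_card_le_of_lt (hG.to_subgroup (zpowers x ⊔ center G))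
    (right_lt_sup.2 fun h => hxZ (h (mem_zpowers x)))
  have h3 : zpowers x ⊔ center G = A := by
    refine eq_of_le_of_card_ge (sup_le (zpowers_le.2 hx) hZ) (le_trans ?_ h2)
    rw [hA, sq]
    exact Nat.mul_le_mul_left _ (by simpa using h1)
  rw [← hC, ← h3, centralizer_zpowers_sup, centralizer_eq_top_iff_subset.2 le_rfl, inf_top_eq]

theorem nilpotencyClass_eq_of_selfCentralizing [Finite G] {p : ℕ} [hp : Fact p.Prime] {n : ℕ}
    (hG : Nat.card G = p ^ n) (A : Subgroup G) (hA : Nat.card A = p ^ 2)
    (hC : centralizer (A : Set G) = A) : Group.nilpotencyClass G = n - 1 := by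
  obtain ⟨x, hx⟩ := exists_centralizer_eq_of_selfCentralizing (IsPGroup.of_card hG) A hA hC
  have h1 : p ^ 2 ≤ p ^ n := by
    rw [← hA, ← hG]; exact A.card_le_card_group
  exact nilpotencyClass_eq_of_card_centralizer_le
    ((Nat.pow_le_pow_iff_right hp.out.one_lt).1 h1) hG (x := x) (by rw [hx, hA])

/-- a `p`-group of class `c` has derived subgroup of order at least `p ^ (c - 1)` -/
theorem pow_le_card_lowerCentralSeries [Finite G] {p : ℕ} [hp : Fact p.Prime] (hG : IsPGroup p G)
    (k : ℕ) : ∀ i : ℕ, i + k ≤ Group.nilpotencyClass G →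
      p ^ k ≤ Nat.card ((⊤ : Subgroup G).lowerCentralSeries i) := by
  have hn := hG.isNilpotent
  induction k with
  | zero => intro i _; rw [pow_zero]; exact Nat.card_pos
  | succ k ih =>
    intro i hi
    have h1 := ih (i + 1) (by omega)
    have hne : (⊤ : Subgroup G).lowerCentralSeries i ≠ ⊥ := fun h => by
      have := Subgroup.lowerCentralSeries_eq_bot_iff_nilpotencyClass_le.1 h
      omega
    have hlt : (⊤ : Subgroup G).lowerCentralSeries (i + 1) <
        (⊤ : Subgroup G).lowerCentralSeries i :=
      H2.commutator_lt_of_isNilpotent (K := ⊤) inferInstance le_top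
        (by rw [normalizer_eq_top]) hne
    have h2 := mul_card_le_of_lt (hG.to_subgroup _) hlt
    rw [pow_succ']
    exact (Nat.mul_le_mul_left _ h1).trans h2

/-- In a `p`-group of maximal class and order at least `p ^ 3`, the derived subgroup has index
`p ^ 2` and is the Frattini subgroup. -/
theorem index_commutator_of_maxClass [Finite G] {p : ℕ} [hp : Fact p.Prime] {n : ℕ} (hn : 3 ≤ n)
    (hG : Nat.card G = p ^ n) (hc : Group.nilpotencyClass G = n - 1) :
    (commutator G).index = p ^ 2 ∧ frattini G = commutator G := by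
  have hP : IsPGroup p G := IsPGroup.of_card hG
  have := hP.isNilpotent
  have h1 : p ^ (n - 2) ≤ Nat.card (commutator G) :=
    pow_le_card_lowerCentralSeries hP (n - 2) 1 (by omega)
  have hnc : ¬ IsCyclic G := by
    intro h
    have := Group.IsNilpotent.nilpotencyClass_le_one_iff.2 h.isMulCommutative
    omega
  have h2 := Nat.le_of_dvd (Nat.pos_of_ne_zero index_ne_zero_of_finite)
    (H2.IsPGroup.sq_dvd_index_frattini hP hnc)
  have h3 := H2.IsPGroup.commutator_le_frattini hP
  have h4 : (commutator G).index ≤ p ^ 2 := by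
    have h5 := (commutator G).card_mul_index
    have : p ^ (n - 2) * (commutator G).index ≤ p ^ (n - 2) * p ^ 2 := by
      rw [← pow_add, show n - 2 + 2 = n by omega, ← hG, ← h5]
      exact Nat.mul_le_mul_right _ h1
    exact Nat.le_of_mul_le_mul_left this (pow_pos hp.out.pos _)
  have h5 : (frattini G).index ≤ (commutator G).index := index_antitone h3
  refine ⟨by omega, (eq_of_le_of_card_ge h3 ?_).symm⟩
  have h6 := (commutator G).card_mul_index
  have h7 := (frattini G).card_mul_index
  have h8 : (frattini G).index = (commutator G).index := by omega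
  rw [h8, ← h6] at h7
  exact (Nat.eq_of_mul_eq_mul_right (Nat.pos_of_ne_zero index_ne_zero_of_finite) h7).le

theorem isKleinFour_quotient_iff {N : Subgroup G} [N.Normal] :
    IsKleinFour (G ⧸ N) ↔ N.index = 4 ∧ ∀ g : G, g ^ 2 ∈ N := by
  constructor
  · intro h
    refine ⟨h.card_four, fun g => ?_⟩
    rw [← QuotientGroup.eq_one_iff, QuotientGroup.mk_pow, ← h.exponent_two]
    exact Monoid.pow_exponent_eq_one _
  · rintro ⟨h1, h2⟩
    refine ⟨h1, ?_⟩
    have hnt : Nontrivial (G ⧸ N) := by
      have : Finite (G ⧸ N) := Nat.finite_of_card_ne_zero (by change N.index ≠ 0; omega)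
      rw [← Finite.one_lt_card_iff_nontrivial]
      change 1 < N.index
      omega
    rw [Monoid.exponent_eq_prime_iff Nat.prime_two]
    intro g hg
    obtain ⟨g, rfl⟩ := QuotientGroup.mk_surjective g
    refine orderOf_eq_prime ?_ hg
    rw [← QuotientGroup.mk_pow, QuotientGroup.eq_one_iff]
    exact h2 g

/-! ### groups with an abelian subgroup of index two -/

/-- the map `c ↦ [c, b]` on an abelian normal subgroup -/
def commHom (C : Subgroup G) [C.Normal] (hC : IsMulCommutative C) (b : G) : C →* G :=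
  MonoidHom.mk' (fun c => ⁅(c : G), b⁆) fun c d => by
    have h1 : ⁅(d : G), b⁆ ∈ C := commutator_mem_of_normal_left d.2 b
    have h2 : ⁅(c : G), b⁆ ∈ C := commutator_mem_of_normal_left c.2 b
    simp only [coe_mul]
    rw [commutator_mul_left_of_commute (comm_of_isMulCommutative hC h1 c.2)]
    exact comm_of_isMulCommutative hC h1 h2

theorem commHom_apply (C : Subgroup G) [C.Normal] (hC : IsMulCommutative C) (b : G) (c : C) :
    commHom C hC b c = ⁅(c : G), b⁆ := rfl

theorem card_range_commHom_mul [Finite G] (C : Subgroup G) [C.Normal] (hC : IsMulCommutative C)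
    (b : G) : Nat.card (commHom C hC b).range * Nat.card ↥(centralizer {b} ⊓ C) = Nat.card C := by
  have h1 : (commHom C hC b).ker = (centralizer {b}).subgroupOf C := by
    ext c
    rw [MonoidHom.mem_ker, commHom_apply, mem_subgroupOf, mem_centralizer_singleton_iff,
      commutatorElement_eq_one_iff_mul_comm]
  rw [← index_ker, ← H2.card_subgroupOf, ← h1, index_mul_card]

theorem commutator_eq_range_commHom (C : Subgroup G) [hn : C.Normal] (hC : IsMulCommutative C)
    (hi : C.index = 2) {b : G} (hb : b ∉ C) : commutator G = (commHom C hC b).range := by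
  apply le_antisymm
  · have hcase : ∀ g : G, g ∈ C ∨ ∃ c ∈ C, g = c * b := by
      intro g
      by_cases hg : g ∈ C
      · exact Or.inl hg
      · exact Or.inr ⟨g * b⁻¹, by rw [mul_mem_iff_of_index_two hi, inv_mem_iff]; tauto, by simp⟩
    have h0 : ∀ c ∈ C, ⁅c, b⁆ ∈ (commHom C hC b).range := fun c hc => ⟨⟨c, hc⟩, rfl⟩
    have h1 : ∀ c ∈ C, ∀ g : G, ⁅c, g⁆ ∈ (commHom C hC b).range := by
      intro c hc g
      rcases hcase g with hg | ⟨d, hd, rfl⟩
      · rw [commutatorElement_eq_one_iff_commute.2 (comm_of_isMulCommutative hC hc hg)]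
        exact one_mem _
      · rw [commutator_mul_right_of_commute
          (comm_of_isMulCommutative hC (commutator_mem_of_normal_left hc b) hd),
          commutatorElement_eq_one_iff_commute.2 (comm_of_isMulCommutative hC hc hd), one_mul]
        exact h0 c hc
    have hle : (commHom C hC b).range ≤ C := by
      rintro _ ⟨c, rfl⟩
      exact commutator_mem_of_normal_left c.2 b
    refine commutator_le.2 fun g _ h _ => ?_
    rcases hcase g with hg | ⟨c, hc, rfl⟩
    · exact h1 g hg h
    · have h2 : ⁅b, h⁆ ∈ (commHom C hC b).range := by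
        rcases hcase h with hh | ⟨d, hd, rfl⟩
        · rw [← commutatorElement_inv]; exact inv_mem (h0 h hh)
        · rw [commutator_mul_right, commutatorElement_self, mul_one, mul_inv_cancel, mul_one,
            ← commutatorElement_inv]
          exact inv_mem (h0 d hd)
      rw [commutator_mul_left_of_commute (comm_of_isMulCommutative hC (hle h2) hc)]
      exact mul_mem h2 (h1 c hc h)
  · rintro _ ⟨c, rfl⟩
    exact commutator_mem_commutator trivial trivial

theorem exists_not_mem_of_index_two {C : Subgroup G} (hi : C.index = 2) : ∃ b, b ∉ C := by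
  by_contra h
  push Not at h
  rw [(eq_top_iff' C).2 h, index_top] at hi
  omega

/-! ### Taussky's theorem -/

universe u in
theorem taussky_aux (n : ℕ) :
    ∀ (X : Type u) [Group X] [Finite X], Nat.card X = 2 ^ (n + 3) →
      (commutator X).index = 4 → (∀ g : X, g ^ 2 ∈ commutator X) →
      ∃ a : X, (zpowers a).index = 2 := by
  induction n with
  | zero =>
    intro X _ _ hX hi _
    have hna : ¬ IsMulCommutative X := by
      intro h
      rw [(commutator_eq_bot_iff X).2 h, index_bot, hX] at hi
      omega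
    obtain ⟨a, ha⟩ : ∃ a : X, a ^ 2 ≠ 1 := by
      by_contra h
      push Not at h
      exact hna ⟨⟨fun a b =>
        Commute.of_orderOf_dvd_two (fun g => orderOf_dvd_of_pow_eq_one (h g)) a b⟩⟩
    refine ⟨a, ?_⟩
    have h1 := (zpowers a).card_mul_index
    rw [hX, Nat.card_zpowers] at h1
    have h2 : (zpowers a).index ≠ 1 := by
      intro h
      rw [index_eq_one] at h
      exact hna (isCyclic_iff_exists_zpowers_eq_top.2 ⟨a, h⟩).isMulCommutative
    have h3 : ¬ orderOf a ∣ 2 := fun h => ha (orderOf_dvd_iff_pow_eq_one.1 h)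
    have h4 : (zpowers a).index ≤ 8 := Nat.le_of_dvd (by norm_num) (Dvd.intro_left _ h1)
    generalize (zpowers a).index = i at *
    generalize orderOf a = o at *
    have h5 : o ≠ 1 := by rintro rfl; simp at h3
    have h6 : o ≠ 2 := by rintro rfl; simp at h3
    interval_cases i <;> omega
  | succ n ih =>
    intro X _ _ hX hi hsq
    have hG : IsPGroup 2 X := IsPGroup.of_card hX
    have hne : ¬ commutator X ≤ ⊥ := by
      intro h
      rw [le_bot_iff.1 h, index_bot, hX, pow_add] at hi
      have := Nat.two_pow_pos (n + 1)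
      omega
    obtain ⟨z, hz, hz1, hz2, hzc⟩ := exists_central_mod hG hne
    rw [mem_bot] at hz1 hz2
    have hzc' : ∀ g, Commute z g := fun g =>
      commutatorElement_eq_one_iff_commute.1 (mem_bot.1 (hzc g))
    have hzZ : zpowers z ≤ center X := zpowers_le.2 (mem_center_iff.2 fun g => (hzc' g).symm)
    have hN : (zpowers z).Normal := H2.normal_of_le_center hzZ
    have hcard : Nat.card (zpowers z) = 2 := by
      rw [Nat.card_zpowers]; exact orderOf_eq_prime hz2 hz1
    have hQ : Nat.card (X ⧸ zpowers z) = 2 ^ (n + 3) := by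
      have := (zpowers z).card_eq_card_quotient_mul_card_subgroup
      rw [hcard, hX, show n + 1 + 3 = n + 3 + 1 by ring, pow_succ] at this
      omega
    have hmap : commutator (X ⧸ zpowers z) = (commutator X).map (QuotientGroup.mk' _) := by
      rw [_root_.commutator_def, _root_.commutator_def, map_commutator,
        map_top_of_surjective _ (QuotientGroup.mk'_surjective _)]
    obtain ⟨a, ha⟩ := ih (X ⧸ zpowers z) hQ
      (by rw [hmap, index_map_eq _ (QuotientGroup.mk'_surjective _)
        (by rw [QuotientGroup.ker_mk']; exact zpowers_le.2 hz), hi])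
      (fun g => by
        obtain ⟨g, rfl⟩ := QuotientGroup.mk_surjective g
        rw [hmap]
        exact ⟨g ^ 2, hsq g, rfl⟩)
    obtain ⟨a, rfl⟩ := QuotientGroup.mk_surjective a
    have hC : (zpowers a ⊔ zpowers z).index = 2 := by
      rw [← H2.comap_map_mk', index_comap_of_surjective _ (QuotientGroup.mk'_surjective _),
        MonoidHom.map_zpowers]
      exact ha
    have hCn : (zpowers a ⊔ zpowers z).Normal := normal_of_index_eq_two hC
    have hCc : IsMulCommutative ↥(zpowers a ⊔ zpowers z) :=
      isMulCommutative_zpowers_sup inferInstance (le_centralizer_iff.1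
        (hzZ.trans (center_le_centralizer _)) (mem_zpowers a))
    obtain ⟨b, hb⟩ := exists_not_mem_of_index_two hC
    have hcyc : commutator X = zpowers ⁅a, b⁆ := by
      refine le_antisymm ?_ (zpowers_le.2 (commutator_mem_commutator trivial trivial))
      rw [commutator_eq_range_commHom _ hCc hC hb]
      rintro _ ⟨⟨c, hc⟩, rfl⟩
      obtain ⟨k, _, ⟨l, rfl⟩, rfl⟩ := (mem_zpowers_sup_iff
        (by rw [normalizer_eq_top]; trivial)).1 hc
      have e1 : ⁅z ^ l, b⁆ = 1 :=
        commutatorElement_eq_one_iff_commute.2 ((hzc' b).zpow_left l)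
      have e2 : Commute ⁅a, b⁆ a := comm_of_isMulCommutative hCc
        (commutator_mem_of_normal_left (mem_sup_left (mem_zpowers a)) b)
        (mem_sup_left (mem_zpowers a))
      rw [commHom_apply]
      simp only
      rw [commutator_mul_left, e1, mul_one, mul_inv_cancel, one_mul, commutator_zpow_left e2]
      exact zpow_mem_zpowers _ _
    have ha2 : a ^ 2 ≠ 1 := by
      intro h
      have h1 := (zpowers (a : X ⧸ zpowers z)).card_mul_index
      rw [ha, hQ, Nat.card_zpowers] at h1
      have h2 : orderOf (a : X ⧸ zpowers z) ∣ 2 :=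
        orderOf_dvd_of_pow_eq_one (by rw [← QuotientGroup.mk_pow, h, QuotientGroup.mk_one])
      have h3 := Nat.le_of_dvd two_pos h2
      have := Nat.two_pow_pos n
      rw [pow_add] at h1
      omega
    have hza : z ∈ zpowers (a ^ 2) :=
      mem_of_pow_eq_one_of_isCyclic (hG.to_subgroup (commutator X))
        (by rw [hcyc]; infer_instance) (zpowers_le.2 (hsq a)) (by simpa using ha2) hz hz2
    refine ⟨a, ?_⟩
    rwa [sup_eq_left.2 (zpowers_le.2 (zpowers_le.2 (npow_mem_zpowers a 2) hza))] at hC

/-- **Taussky.** A `2`-group of order at least `8` whose abelianization is a four-group has a cyclic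
subgroup of index two; the structure data of the group. -/
theorem taussky [Finite G] {n : ℕ} (hn : 3 ≤ n) (hG : Nat.card G = 2 ^ n)
    (hi : (commutator G).index = 4) (hsq : ∀ g : G, g ^ 2 ∈ commutator G) :
    ∃ a b : G, (zpowers a).index = 2 ∧ orderOf a = 2 ^ (n - 1) ∧ b ∉ zpowers a ∧
      center G = zpowers (a ^ 2 ^ (n - 2)) ∧ Nat.card (center G) = 2 ∧
      centralizer {b} ⊓ zpowers a = center G ∧ b * b ∈ center G ∧
      b * a * b⁻¹ * a ∈ center G := by
  obtain ⟨k, rfl⟩ := Nat.exists_eq_add_of_le' hn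
  obtain ⟨a, ha⟩ := taussky_aux k G hG hi hsq
  obtain ⟨b, hb⟩ := exists_not_mem_of_index_two ha
  have hP : IsPGroup 2 G := IsPGroup.of_card hG
  have hAn : (zpowers a).Normal := normal_of_index_eq_two ha
  have ho : orderOf a = 2 ^ (k + 2) := by
    have h1 := (zpowers a).card_mul_index
    rw [ha, hG, Nat.card_zpowers, show k + 3 = k + 2 + 1 by ring, pow_succ] at h1
    omega
  have hc' : Nat.card (commutator G) = 2 ^ (k + 1) := by
    have h1 := (commutator G).card_mul_index
    rw [hi, hG, show k + 3 = k + 1 + 2 by ring, pow_add] at h1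
    omega
  have h2 : Nat.card ↥(centralizer {b} ⊓ zpowers a) = 2 := by
    have h1 := card_range_commHom_mul (zpowers a) inferInstance b
    rw [← commutator_eq_range_commHom _ _ ha hb, hc', Nat.card_zpowers, ho,
      show k + 2 = k + 1 + 1 by ring, pow_succ 2 (k + 1)] at h1
    exact Nat.eq_of_mul_eq_mul_left (Nat.two_pow_pos _) h1
  have hcase : ∀ g : G, g ∈ zpowers a ∨ ∃ c ∈ zpowers a, g = c * b := by
    intro g
    by_cases hg : g ∈ zpowers a
    · exact Or.inl hg
    · exact Or.inr ⟨g * b⁻¹, by rw [mul_mem_iff_of_index_two ha, inv_mem_iff]; tauto, by simp⟩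
  have hcomm : ∀ x ∈ zpowers a, ∀ y ∈ zpowers a, Commute x y := fun x hx y hy =>
    comm_of_isMulCommutative inferInstance hx hy
  have h3 : centralizer {b} ⊓ zpowers a = center G := by
    apply le_antisymm
    · intro x hx
      have hxb : Commute x b := mem_centralizer_singleton_iff.1 hx.1
      refine mem_center_iff.2 fun g => ?_
      rcases hcase g with hg | ⟨c, hc, rfl⟩
      · exact hcomm g hg x hx.2
      · exact ((hcomm x hx.2 c hc).mul_right hxb).symm
    · refine le_inf (center_le_centralizer _) fun x hx => ?_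
      rcases hcase x with h | ⟨c, hc, rfl⟩
      · exact h
      · exfalso
        have h4 : zpowers a ≤ centralizer {b} := by
          intro y hy
          have h5 := mem_center_iff.1 hx y
          rw [← mul_assoc, (hcomm y hy c hc).eq, mul_assoc, mul_assoc, mul_right_inj] at h5
          exact mem_centralizer_singleton_iff.2 h5
        rw [inf_eq_right.2 h4, Nat.card_zpowers, ho, pow_add] at h2
        have := Nat.two_pow_pos k
        omega
  have hz1 : a ^ 2 ^ (k + 1) ≠ 1 := by
    intro h
    have := Nat.le_of_dvd (Nat.two_pow_pos _) (orderOf_dvd_of_pow_eq_one h)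
    rw [ho] at this
    exact absurd this (not_le.2 (Nat.pow_lt_pow_right one_lt_two (by omega)))
  have hz2 : (a ^ 2 ^ (k + 1)) ^ 2 = 1 := by
    rw [← pow_mul, ← pow_succ, ← ho, pow_orderOf_eq_one]
  have h4 : center G = zpowers (a ^ 2 ^ (k + 1)) := by
    symm
    refine eq_of_le_of_card_ge (zpowers_le.2 ?_) ?_
    · refine mem_of_pow_eq_one_of_isCyclic (hP.to_subgroup (zpowers a)) inferInstance
        (h3 ▸ inf_le_right) ?_ (npow_mem_zpowers a _) hz2
      intro h
      rw [h3, h, card_bot] at h2
      omega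
    · rw [← h3, h2, Nat.card_zpowers, orderOf_eq_prime hz2 hz1]
  refine ⟨a, b, ha, ho, hb, h4, h3 ▸ h2, h3, h3 ▸ ⟨?_, mul_self_mem_of_index_two ha b⟩,
    h3 ▸ ⟨?_, mul_mem (hAn.conj_mem a (mem_zpowers a) b) (mem_zpowers a)⟩⟩
  · exact mem_centralizer_singleton_iff.2 (mul_assoc b b b)
  · refine mem_centralizer_singleton_iff.2 ?_
    have e1 : Commute (b * b) a := hcomm _ (mul_self_mem_of_index_two ha b) _ (mem_zpowers a)
    have e2 : Commute (b * a * b⁻¹) a :=
      hcomm _ (hAn.conj_mem a (mem_zpowers a) b) _ (mem_zpowers a)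
    calc b * a * b⁻¹ * a * b = a * (b * a * b⁻¹) * b := by rw [e2.eq]
      _ = (b * b) * a * (b * b)⁻¹ * (b * a) := by rw [e1.eq]; group
      _ = b * (b * a * b⁻¹ * (b⁻¹ * b) * a) := by group
      _ = b * (b * a * b⁻¹ * a) := by group

theorem maxClass_two_iff [Finite G] {n : ℕ} (hn : 3 ≤ n) (hG : Nat.card G = 2 ^ n) :
    Group.nilpotencyClass G = n - 1 ↔
      (commutator G).index = 4 ∧ ∀ g : G, g ^ 2 ∈ commutator G := by
  constructor
  · intro hc
    obtain ⟨h1, h2⟩ := index_commutator_of_maxClass hn hG hc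
    exact ⟨h1, fun g => h2 ▸ H2.IsPGroup.pow_mem_frattini (IsPGroup.of_card hG) g⟩
  · rintro ⟨h1, h2⟩
    obtain ⟨a, b, ha, -, -, -, h3, h4, -⟩ := taussky hn hG h1 h2
    refine nilpotencyClass_eq_of_card_centralizer_le (p := 2) (by omega) hG (x := b) ?_
    have h5 := H2.card_inf_mul_relIndex (zpowers a) (centralizer {b})
    have h6 : (zpowers a).relIndex (centralizer {b}) ≤ 2 :=
      (relIndex_le_of_le_right le_top (by simpa using index_ne_zero_of_finite)).trans
        (by simpa using ha.le)
    rw [inf_comm, h4, h3] at h5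
    omega

theorem maxClass_two_iff_isKleinFour [Finite G] {n : ℕ} (hn : 3 ≤ n) (hG : Nat.card G = 2 ^ n) :
    Group.nilpotencyClass G = n - 1 ↔ IsKleinFour (G ⧸ commutator G) := by
  rw [maxClass_two_iff hn hG, isKleinFour_quotient_iff]

theorem exists_cyclic_index_two_of_maxClass [Finite G] {n : ℕ} (hn : 3 ≤ n)
    (hG : Nat.card G = 2 ^ n) (hc : Group.nilpotencyClass G = n - 1) :
    ∃ C : Subgroup G, IsCyclic C ∧ C.index = 2 := by
  obtain ⟨h1, h2⟩ := (maxClass_two_iff hn hG).1 hc
  obtain ⟨a, b, ha, -⟩ := taussky hn hG h1 h2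
  exact ⟨zpowers a, inferInstance, ha⟩

theorem quotient_center_dihedral_of_maxClass [Finite G] {n : ℕ} (hn : 3 ≤ n)
    (hG : Nat.card G = 2 ^ n) (hc : Group.nilpotencyClass G = n - 1) :
    Nonempty (G ⧸ center G ≃* DihedralGroup (2 ^ (n - 2))) := by
  obtain ⟨h1, h2⟩ := (maxClass_two_iff hn hG).1 hc
  obtain ⟨a, b, ha, ho, hb, -, h3, h4, h5, h6⟩ := taussky hn hG h1 h2
  have hZ : center G ≤ zpowers a := h4 ▸ inf_le_right
  have hmem : ∀ g : G, (g : G ⧸ center G) ∈ zpowers (a : G ⧸ center G) ↔ g ∈ zpowers a := by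
    intro g
    have := H2.comap_map_mk' (center G) (zpowers a)
    rw [sup_eq_left.2 hZ, MonoidHom.map_zpowers] at this
    rw [← this, mem_comap]
    rfl
  refine H2.nonempty_equiv_dihedral (a := (a : G ⧸ center G)) (b := (b : G ⧸ center G))
    ?_ ?_ ?_ ?_ ?_
  · have h7 := H2.card_map_mk'_mul (center G) (zpowers a)
    rw [inf_eq_left.2 hZ, h3, MonoidHom.map_zpowers, Nat.card_zpowers, Nat.card_zpowers, ho,
      show n - 1 = n - 2 + 1 by omega, pow_succ'] at h7
    exact Nat.eq_of_mul_eq_mul_left two_pos h7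
  · rw [eq_inv_iff_mul_eq_one]
    exact (QuotientGroup.eq_one_iff _).2 h6
  · exact (QuotientGroup.eq_one_iff _).2 h5
  · rwa [hmem]
  · intro g
    obtain ⟨g, rfl⟩ := QuotientGroup.mk_surjective g
    rw [← QuotientGroup.mk_inv, ← QuotientGroup.mk_mul, hmem, hmem, mul_mem_iff_of_index_two ha,
      inv_mem_iff]
    tauto

theorem mem_zpowers_of_sq_eq_one {z x : G} (hz : z ^ 2 = 1) (hx : x ∈ zpowers z) :
    x = 1 ∨ x = z := by
  obtain ⟨k, rfl⟩ := hx
  have h2 : z ^ (2 : ℤ) = 1 := by exact_mod_cast hz
  rcases Int.even_or_odd' k with ⟨m, rfl | rfl⟩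
  · left; simp [zpow_mul, h2]
  · right; simp [zpow_add, zpow_mul, h2]

/-- A `2`-group of maximal class is dihedral, generalized quaternion or quasi-dihedral. -/
theorem dihedral_or_quaternion_or_quasiDihedral [Finite G] {n : ℕ} (hn : 3 ≤ n)
    (hG : Nat.card G = 2 ^ n) (hc : Group.nilpotencyClass G = n - 1) :
    Nonempty (G ≃* DihedralGroup (2 ^ (n - 1))) ∨ Nonempty (G ≃* QuaternionGroup (2 ^ (n - 2))) ∨
      IsQuasiDihedral G := by
  obtain ⟨h1, h2⟩ := (maxClass_two_iff hn hG).1 hc
  obtain ⟨a, b, ha, ho, hb, hZ, h3, h4, h5, h6⟩ := taussky hn hG h1 h2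
  obtain ⟨k, rfl⟩ := Nat.exists_eq_add_of_le' hn
  simp only [show k + 3 - 1 = k + 2 by omega, show k + 3 - 2 = k + 1 by omega] at *
  have hz2 : (a ^ 2 ^ (k + 1)) ^ 2 = 1 := by
    rw [← pow_mul, ← pow_succ, ← ho, pow_orderOf_eq_one]
  have hgen : ∀ g : G, g ∈ zpowers a ∨ b⁻¹ * g ∈ zpowers a := by
    intro g
    rw [mul_mem_iff_of_index_two ha, inv_mem_iff]
    tauto
  rcases mem_zpowers_of_sq_eq_one hz2 (hZ ▸ h6) with h7 | h7
  · rw [← eq_inv_iff_mul_eq_one] at h7
    rcases mem_zpowers_of_sq_eq_one hz2 (hZ ▸ h5) with h8 | h8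
    · exact Or.inl (H2.nonempty_equiv_dihedral ho h7 h8 hb hgen)
    · exact Or.inr (Or.inl (H2.nonempty_equiv_quaternion (m := 2 ^ (k + 1))
        (by rw [ho, pow_succ']) h7 h8 hb hgen))
  · right; right
    have h8 : b * a * b⁻¹ = a ^ (2 ^ (k + 1) - 1) := by
      rw [pow_sub _ (Nat.one_le_two_pow), pow_one, ← h7, mul_inv_cancel_right]
    have hk : k ≠ 0 := by
      rintro rfl
      have h9 : a ∈ centralizer {b} ⊓ zpowers a := by
        refine ⟨mem_centralizer_singleton_iff.2 ?_, mem_zpowers a⟩
        simp only [zero_add, pow_one, Nat.add_one_sub_one] at h8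
        rw [mul_inv_eq_iff_eq_mul] at h8
        exact h8.symm
      have h10 := card_le_of_le (zpowers_le.2 h9)
      rw [h4, h3, Nat.card_zpowers, ho] at h10
      omega
    refine ⟨k + 2, by omega, hG, ?_⟩
    rcases mem_zpowers_of_sq_eq_one hz2 (hZ ▸ h5) with h9 | h9
    · refine ⟨a, b, ho, orderOf_eq_prime (by rw [sq, h9]) fun h => hb (h ▸ one_mem _), h8⟩
    · refine ⟨a, b * a, ho, orderOf_eq_prime ?_ fun h => hb ?_, ?_⟩
      · have e1 : Commute (b * b) a := (mem_center_iff.1 h5 a).symm
        calc (b * a) ^ 2 = b * a * b⁻¹ * (b * b * a) := by rw [sq]; group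
          _ = (b * a * b⁻¹ * a) * (b * b) := by rw [e1.eq]; group
          _ = 1 := by rw [h7, h9, ← sq, hz2]
      · rw [mul_eq_one_iff_eq_inv] at h
        exact h ▸ inv_mem (mem_zpowers a)
      · rw [show k + 2 - 1 = k + 1 from rfl, ← h8]; group

/-- A `2`-group of order at least `8` with a self-centralizing subgroup of order four is dihedral,
generalized quaternion or quasi-dihedral. -/
theorem dihedral_or_quaternion_or_quasiDihedral_of_selfCentralizing [Finite G] {n : ℕ}
    (hn : 3 ≤ n) (hG : Nat.card G = 2 ^ n) (A : Subgroup G) (hA : Nat.card A = 4)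
    (hC : centralizer (A : Set G) = A) :
    Nonempty (G ≃* DihedralGroup (2 ^ (n - 1))) ∨ Nonempty (G ≃* QuaternionGroup (2 ^ (n - 2))) ∨
      IsQuasiDihedral G :=
  dihedral_or_quaternion_or_quasiDihedral hn hG
    (nilpotencyClass_eq_of_selfCentralizing (p := 2) hG A hA hC)

end H3
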