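import Mathlib
import Cfsg.Agent.H3.B71D
import Cfsg.Agent.H6.TI2

/-! Abelian TI subgroups of a maximal 2-local subgroup: general tools. -/

set_option autoImplicit false
set_option linter.unusedSectionVars false
set_option linter.unusedVariables false

namespace H3
namespace TA

open H24 H26 Subgroup MulAction Cfsg

universe u

variable {G : Type u} [Group G] {A B D E F K X Y : Subgroup G} {a b c d e g s t u v w x y z : G}

theorem inv_of_sq (h : x * x = 1) : x⁻¹ = x := inv_eq_of_mul_eq_one_right h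

theorem mm (h : x * x = 1) (y : G) : x * (x * y) = y := by rw [← mul_assoc, h, one_mul]

theorem mm' (h : x * x = 1) (y : G) : y * x * x = y := by rw [mul_assoc, h, mul_one]

theorem cj_sq (g : G) (h : x * x = 1) : g * x * g⁻¹ * (g * x * g⁻¹) = 1 := by
  calc g * x * g⁻¹ * (g * x * g⁻¹) = g * (x * x) * g⁻¹ := by group
    _ = 1 := by rw [h]; group

theorem cj_ne (g : G) (h : x ≠ 1) : g * x * g⁻¹ ≠ 1 := fun e => h (conj_eq_one_iff'.1 e)

theorem cj_of_comm (h : g * x = x * g) : g * x * g⁻¹ = x := by rw [h]; group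

theorem comm_of_cj (h : g * x * g⁻¹ = x) : g * x = x * g := by
  calc g * x = g * x * g⁻¹ * g := by group
    _ = x * g := by rw [h]

theorem cj_mul' (g x y : G) : g * (x * y) * g⁻¹ = g * x * g⁻¹ * (g * y * g⁻¹) := by group

/-- the elements of square one -/
def Om (A : Subgroup G) : Subgroup G := closure {x | x ∈ A ∧ x * x = 1}

theorem Om_le (A : Subgroup G) : Om A ≤ A := (closure_le _).2 fun _ h => h.1

theorem mem_Om' (hx : x ∈ A) (h : x * x = 1) : x ∈ Om A := subset_closure ⟨hx, h⟩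

theorem sq_of_Om (hA : Abl A) (hx : x ∈ Om A) : x * x = 1 := by
  have : x ∈ A ∧ x * x = 1 := by
    induction hx using closure_induction with
    | mem x h => exact h
    | one => exact ⟨one_mem _, mul_one _⟩
    | mul x y _ _ h1 h2 =>
      refine ⟨mul_mem h1.1 h2.1, ?_⟩
      calc x * y * (x * y) = x * (y * x) * y := by group
        _ = x * x * (y * y) := by rw [← hA.comm h1.1 h2.1]; group
        _ = 1 := by rw [h1.2, h2.2, mul_one]
    | inv x _ h => exact ⟨inv_mem h.1, by rw [← mul_inv_rev, h.2, inv_one]⟩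
  exact this.2

theorem cj_Om (g : G) (A : Subgroup G) : cj g (Om A) = Om (cj g A) := by
  rw [cj_def, Om, MonoidHom.map_closure, Om]
  congr 1
  ext x
  constructor
  · rintro ⟨y, hy, rfl⟩
    exact ⟨conj_mem_cj g hy.1, cj_sq g hy.2⟩
  · rintro ⟨h1, h2⟩
    obtain ⟨y, hy, rfl⟩ := mem_cj'.1 h1
    refine ⟨y, ⟨hy, ?_⟩, rfl⟩
    rw [← cj_mul'] at h2
    exact conj_eq_one_iff'.1 h2

theorem cj_mem_Om (g : G) (hx : x ∈ Om A) : g * x * g⁻¹ ∈ Om (cj g A) :=
  cj_Om g A ▸ conj_mem_cj g hx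

theorem mem_Om_cj : x ∈ Om (cj g A) ↔ ∃ y ∈ Om A, x = g * y * g⁻¹ := by
  rw [← cj_Om, mem_cj']

theorem N_le_N_Om (A : Subgroup G) : N[A] ≤ N[Om A] := fun g hg => by
  rw [mem_N_iff_cj, cj_Om, cj_of_mem_N hg]

theorem conj_Om (hg : g ∈ N[A]) (hx : x ∈ Om A) : g * x * g⁻¹ ∈ Om A :=
  conj_mem (N_le_N_Om A hg) hx

/-- the abstract dihedral dichotomy -/
theorem dih_abs {H : Type*} [Group H] [Finite H] {s t : H} (hs : s * s = 1) (ht : t * t = 1) :
    (∃ k : ℕ, (s * t) ^ k * t * ((s * t) ^ k)⁻¹ = s) ∨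
      ∃ m : ℕ, (s * t) ^ m ≠ 1 ∧ (s * t) ^ m * (s * t) ^ m = 1 := by
  by_cases h : Odd (orderOf (s * t))
  · exact Or.inl (H21.conj_of_odd_mul hs ht h (pow_orderOf_eq_one _))
  · exact Or.inr (H21.exists_invol_pow_of_not_odd (isOfFinOrder_of_finite _) h)

theorem dih_refl {H : Type*} [Group H] {s t : H} (hs : s * s = 1) (ht : t * t = 1) (m : ℕ) :
    s * (s * t) ^ m * s⁻¹ = ((s * t) ^ m)⁻¹ := by
  rw [← conj_pow, ← inv_pow]
  congr 1
  rw [mul_inv_rev, inv_of_sq hs, inv_of_sq ht, ← mul_assoc, hs, one_mul]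

theorem dih_conj {H : Type*} [Group H] {s t : H} (hs : s * s = 1) (ht : t * t = 1) (m : ℕ) :
    ∃ k : ℕ, (s * t) ^ m * s = (s * t) ^ k * s * ((s * t) ^ k)⁻¹ ∨
      (s * t) ^ m * s = (s * t) ^ k * t * ((s * t) ^ k)⁻¹ := by
  have key : ∀ k : ℕ, s * ((s * t) ^ k)⁻¹ = (s * t) ^ k * s := fun k => by
    rw [← dih_refl hs ht k, inv_of_sq hs, ← mul_assoc, ← mul_assoc, hs, one_mul]
  obtain ⟨k, rfl | rfl⟩ := Nat.even_or_odd' m
  · exact ⟨k, Or.inl (by rw [mul_assoc, key, two_mul, pow_add, mul_assoc])⟩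
  · refine ⟨k + 1, Or.inr ?_⟩
    have : t * ((s * t) ^ (k + 1))⁻¹ = (s * t) ^ k * s := by
      rw [← key, pow_succ, mul_inv_rev, mul_inv_rev, inv_of_sq hs, inv_of_sq ht, ← mul_assoc,
        ← mul_assoc, ht, one_mul]
    rw [mul_assoc, this, ← mul_assoc, ← pow_add]
    congr 2
    ring

/-- an element whose square centralises an elementary abelian group has a fixed point -/
theorem exists_fix (hE : Abl E) (h2 : ∀ x ∈ E, x * x = 1) (hg : g ∈ N[E]) (hgg : g * g ∈ C[E])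
    (hx : x ∈ E) (h1 : x ≠ 1) : ∃ y ∈ E, y ≠ 1 ∧ g * y = y * g := by
  have hx' := conj_mem hg hx
  by_cases h : x * (g * x * g⁻¹) = 1
  · refine ⟨x, hx, h1, comm_of_cj ?_⟩
    rw [← inv_eq_of_mul_eq_one_right h, inv_of_sq (h2 x hx)]
  · refine ⟨_, mul_mem hx hx', h, comm_of_cj ?_⟩
    have := conj_eq_of_mem_C hgg hx
    calc g * (x * (g * x * g⁻¹)) * g⁻¹ = g * x * g⁻¹ * (g * g * x * (g * g)⁻¹) := by group
      _ = _ := by rw [this, hE.comm hx hx']

variable [Finite G]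

theorem two_of_odd (h : ∀ x ∈ X, Odd (orderOf x) → x = 1) : IsPi {2} X := by
  rw [isPi_def]
  intro p hp hd
  obtain ⟨x, hx, e⟩ := exists_orderOf_eq hp hd
  by_contra h2
  have := h x hx (e ▸ hp.odd_of_ne_two h2)
  rw [this, orderOf_one] at e
  exact hp.one_lt.ne e

theorem exists_pow_two (hX : IsPi {2} X) (hx : x ∈ X) : ∃ k : ℕ, x ^ 2 ^ k = 1 := by
  obtain ⟨k, hk⟩ := (hX.piElt hx).exists_pow Nat.prime_two
  exact ⟨k, hk ▸ pow_orderOf_eq_one x⟩

theorem eq_one_of_odd (hX : IsPi {2} X) (hx : x ∈ X) (h : Odd (orderOf x)) : x = 1 := by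
  by_contra h1
  exact (Nat.not_even_iff_odd.2 h) (even_iff_two_dvd.2 ((hX.piElt hx).dvd_orderOf h1))

theorem mem_of_sq_mem (h : Odd (orderOf x)) (hx : x * x ∈ X) : x ∈ X := by
  obtain ⟨m, hm⟩ := h
  rw [← H21.eq_pow_sq_of_odd (x := x) (m := m) (hm ▸ pow_orderOf_eq_one x)]
  exact pow_mem hx _

theorem exists_inv_pow (hX : IsPi {2} X) (hx : x ∈ X) (h1 : x ≠ 1) :
    ∃ m : ℕ, x ^ m ≠ 1 ∧ x ^ m * x ^ m = 1 :=
  H21.exists_invol_pow_of_not_odd (isOfFinOrder_of_finite _) fun h => h1 (eq_one_of_odd hX hx h)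

theorem two_of_sq (h : ∀ x ∈ X, x * x = 1) : IsPi {2} X :=
  two_of_odd fun x hx ho => H21.eq_one_of_sq_of_odd ho (pow_orderOf_eq_one x) (h x hx)

theorem zp_two (h : x * x = 1) : IsPi {2} (zpowers x) :=
  (piElt_of_pow_eq_one (piNat_self Nat.prime_two) (by rw [pow_two, h])).isPi

/-- coprime step: an element of odd order moving `q` by a commuting `2`-element fixes `q` -/
theorem fix_of_odd {r q ω : G} (hr : Odd (orderOf r)) (hX : IsPi {2} X) (hω : ω ∈ X)
    (hc : r * ω = ω * r) (h : r * q * r⁻¹ = ω * q) : r * q = q * r := by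
  have key : ∀ n : ℕ, r ^ n * q * (r ^ n)⁻¹ = ω ^ n * q := fun n => by
    induction n with
    | zero => simp
    | succ n ih =>
      have hc' : r * ω ^ n * r⁻¹ = ω ^ n := by rw [← conj_pow, cj_of_comm hc]
      calc r ^ (n + 1) * q * (r ^ (n + 1))⁻¹ = r * (r ^ n * q * (r ^ n)⁻¹) * r⁻¹ := by group
        _ = r * ω ^ n * r⁻¹ * (r * q * r⁻¹) := by rw [ih]; group
        _ = _ := by rw [hc', h, pow_succ, mul_assoc]
  have h1 := key (orderOf r)
  rw [pow_orderOf_eq_one] at h1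
  have h2 : ω ^ orderOf r = 1 := by simpa using h1.symm
  have h3 : ω = 1 := eq_one_of_odd hX hω (Odd.of_dvd_nat hr (orderOf_dvd_of_pow_eq_one h2))
  rw [h3, one_mul] at h
  exact comm_of_cj h

/-- the subgroups of `G`, as a `G`-set -/
def Pt (G : Type u) [Group G] : Type u := Subgroup G

instance : MulAction G (Pt G) where
  smul g A := cj g A
  one_smul A := cj_one A
  mul_smul g h A := cj_mul g h A

instance : Finite (Pt G) := inferInstanceAs (Finite (Subgroup G))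

theorem le_stab_Pt {P : Subgroup G} {A : Pt G} :
    P ≤ stabilizer G A ↔ P ≤ N[(show Subgroup G from A)] :=
  forall_congr' fun g => imp_congr_right fun _ => by
    rw [mem_stabilizer_iff, mem_N_iff_cj]; rfl

/-- parity: if one `2`-group has exactly one fixed point, every `2`-group has one -/
theorem exists_fix_of_unique {S : Set (Subgroup G)} {P R : Subgroup G} (hP : IsPi {2} P)
    (hR : IsPi {2} R) (h1 : ∀ x ∈ P, ∀ D ∈ S, cj x D ∈ S) (h2 : ∀ x ∈ R, ∀ D ∈ S, cj x D ∈ S)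
    (hA : A ∈ S) (hPA : P ≤ N[A]) (hu : ∀ D ∈ S, P ≤ N[D] → D = A) : ∃ D ∈ S, R ≤ N[D] := by
  have h3 := B71.ncard_modEq_one (Ω := Pt G) (S := S) Nat.prime_two hP h1 (d := A) hA
    (le_stab_Pt.2 hPA) fun c hc h => hu c hc (le_stab_Pt.1 h)
  obtain ⟨D, hD, h⟩ := B71.exists_fix_of_not_dvd (Ω := Pt G) (S := S) Nat.prime_two hR h2
    (B71.not_dvd_of_modEq_one Nat.prime_two h3)
  exact ⟨D, hD, le_stab_Pt.1 h⟩

/-- an injective self-map of a finite subgroup is onto -/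
theorem surj_of_inj {f : G → G} (hc : ♯B ≤ ♯A) (h1 : ∀ x ∈ A, f x ∈ B)
    (h2 : ∀ x ∈ A, ∀ y ∈ A, f x = f y → x = y) (hy : y ∈ B) : ∃ x ∈ A, f x = y := by
  have hi : Function.Injective (fun x : A => (⟨f x, h1 x x.2⟩ : B)) := fun x y e =>
    Subtype.ext (h2 x x.2 y y.2 (congrArg Subtype.val e))
  obtain ⟨x, hx⟩ := (hi.bijective_of_nat_card_le hc).2 ⟨y, hy⟩
  exact ⟨x, x.2, congrArg Subtype.val hx⟩

end TA
end H3
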