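import Mathlib
import Cfsg.Agent.H6.XB

/-! Large extraspecial subgroups, commuting pairs: elementary helpers. -/

set_option autoImplicit false
set_option linter.unusedSectionVars false
set_option linter.unusedVariables false

namespace H3.XP

open Subgroup H24 H6.XS

scoped notation "κ[" x ", " y "]" => x * y * x⁻¹ * y⁻¹

variable {G : Type*} [Group G] {D : Set G} {Q : G → Subgroup G} {w : ℕ} {X Y N A : Subgroup G}
  {a b d g i r t u x y z : G}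

theorem inv_sq (h : x * x = 1) : x⁻¹ = x := inv_eq_of_mul_eq_one_right h
theorem mml (h : x * x = 1) (y : G) : x * (x * y) = y := by rw [← mul_assoc, h, one_mul]
theorem mmr (h : x * x = 1) (y : G) : y * x * x = y := by rw [mul_assoc, h, mul_one]
theorem cjne (g : G) (h : x ≠ 1) : g * x * g⁻¹ ≠ 1 := fun e => h (conj_eq_one_iff'.1 e)
theorem cjc (h : g * x = x * g) : g * x * g⁻¹ = x := by rw [h]; group
theorem cjm (g x y : G) : g * (x * y) * g⁻¹ = g * x * g⁻¹ * (g * y * g⁻¹) := by group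
theorem cj1 (h : g ∈ C{x}) : g * x * g⁻¹ = x := mem_C1_iff_conj.1 h
theorem cj2 (h : x ∈ C{g}) : g * x * g⁻¹ = x := cj1 (mem_C1_comm.1 h)
theorem k_one : κ[x, y] = 1 ↔ x ∈ C{y} := by rw [mul_inv_eq_one, mem_C1_iff_conj]
theorem k_mul (x y b : G) : κ[x * y, b] = x * κ[y, b] * x⁻¹ * κ[x, b] := by group
theorem k_eq (h : κ[x, b] = u) : x * b * x⁻¹ = u * b := by rw [← h]; group
theorem k_symm (h : κ[x, y] ∈ X) : κ[y, x] ∈ X := by
  have := inv_mem h; rwa [show κ[x, y]⁻¹ = κ[y, x] by group] at this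

/-- the elements centralizing `a` and `b` modulo `a` -/
def Fx (a b : G) : Subgroup G where
  carrier := {x | x ∈ C{a} ∧ κ[x, b] ∈ zpowers a}
  one_mem' := ⟨one_mem _, by simp⟩
  mul_mem' := fun {x y} hx hy => ⟨mul_mem hx.1 hy.1, by
    rw [k_mul]
    exact mul_mem (conj_mem (norm_zpowers_of_cent le_rfl hx.1) hy.2) hx.2⟩
  inv_mem' := fun {x} hx => ⟨inv_mem hx.1, by
    have := conj_mem' (norm_zpowers_of_cent le_rfl hx.1) (inv_mem hx.2)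
    rwa [show x⁻¹ * κ[x, b]⁻¹ * x = κ[x⁻¹, b] by group] at this⟩

theorem mem_Fx : x ∈ Fx a b ↔ x ∈ C{a} ∧ κ[x, b] ∈ zpowers a := Iff.rfl

variable [Finite G]

theorem idx_le (h : ∀ x ∈ X, ∀ y ∈ X, x ∉ N → y ∉ N → x * y ∈ N) : ♯X ≤ 2 * ♯(X ⊓ N) := by
  have : N.relIndex X ≤ 2 := by
    refine Nat.le_of_dvd two_pos (relIndex_dvd_two_iff.mpr ?_)
    by_cases e : X ≤ N
    · exact ⟨1, one_mem _, fun b hb => Or.inr (e hb)⟩
    obtain ⟨x, hx, hxN⟩ := SetLike.not_le_iff_exists.mp e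
    exact ⟨x, hx, fun b hb => (em (b ∈ N)).symm.imp_left fun e => h b hb x hx e hxN⟩
  rw [← card_inf_mul_relIndex N X, inf_comm, mul_comm]
  exact Nat.mul_le_mul_right _ this

theorem two_le (h : X ≤ Y) (hy : y ∈ Y) (hn : y ∉ X) : 2 * ♯X ≤ ♯Y := by
  obtain ⟨k, hk⟩ := card_dvd h
  have := card_lt (lt_of_le_of_ne h fun e => hn (e.ge hy))
  have h2 : 1 < k := by
    by_contra c
    interval_cases k <;> omega
  rw [hk, mul_comm]
  exact Nat.mul_le_mul_left _ h2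

theorem idx_eq (h : ∀ x ∈ X, ∀ y ∈ X, x ∉ N → y ∉ N → x * y ∈ N) (hy : y ∈ X) (hn : y ∉ N) :
    ♯X = 2 * ♯(X ⊓ N) := le_antisymm (idx_le h) (two_le inf_le_left hy fun e => hn e.2)

theorem orbit_le (hY : ∀ x ∈ X, κ[x, t] ∈ Y) : ♯X ≤ ♯(X ⊓ C{t}) * ♯Y := by
  let _ : MulAction X G := MulAction.compHom G ((MulAut.conj (G := G)).comp X.subtype)
  have h1 := MulAction.index_stabilizer X t
  have h3 : MulAction.stabilizer X t = C{t}.subgroupOf X := by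
    ext x
    rw [mem_subgroupOf, mem_C1_iff_conj]
    rfl
  rw [← card_inf_mul_relIndex C{t} X, inf_comm, relIndex, ← h3, h1]
  refine Nat.mul_le_mul_left _ ?_
  rw [← Nat.card_coe_set_eq]
  refine Nat.card_le_card_of_injective (fun y : MulAction.orbit X t => (⟨y * t⁻¹, ?_⟩ : Y)) fun y y' e => ?_
  · obtain ⟨_, x, rfl⟩ := y
    exact hY x x.2
  · exact Subtype.ext (mul_right_cancel (congrArg Subtype.val e))

theorem card_zp (h : x * x = 1) (h1 : x ≠ 1) : ♯(zpowers x) = 2 := by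
  rw [card_zpowers']
  exact orderOf_eq_prime (by rw [sq, h]) h1

/-- a nondegenerate alternating space has even dimension -/
theorem even_idx (K : G → Subgroup G) (X : Subgroup G) : A ≤ X →
    (∀ x ∈ X, ∀ y ∈ X, ∀ z ∈ X, x ∉ K z → y ∉ K z → x * y ∈ K z) → (∀ x ∈ X, ∀ y ∈ X, x ∈ K y → y ∈ K x) →
    (∀ x ∈ X, x ∈ K x) → (∀ x ∈ X, x ∈ A ↔ X ≤ K x) → ∃ m, ♯X = 4 ^ m * ♯A := by
  induction X using subgroup_ind with | h X ih => ?_
  intro hA h1 h2 h3 h4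
  by_cases e : X ≤ A
  · exact ⟨0, by rw [le_antisymm hA e]; simp⟩
  obtain ⟨x, hx, hx'⟩ := SetLike.not_le_iff_exists.1 e
  obtain ⟨y, hy, n⟩ := SetLike.not_le_iff_exists.1 fun e => hx' ((h4 x hx).2 e)
  have n' : x ∉ K y := fun e => n (h2 x hx y hy e)
  have c1 := idx_eq (fun u hu v hv => h1 u hu v hv x hx) hy n
  have c2 := idx_eq (X := X ⊓ K x) (fun u hu v hv => h1 u hu.1 v hv.1 y hy) ⟨hx, h3 x hx⟩ n'
  have k0 : ∀ z ∈ X ⊓ K x ⊓ K y, X ⊓ K x ⊓ K y ≤ K z → X ≤ K z := fun z hz e u hu => by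
    have xz := h2 z hz.1.1 x hx hz.1.2
    have k : ∀ u ∈ X, u ∈ K x → u ∈ K z := fun u hu ux => by
      by_cases uy : u ∈ K y
      · exact e ⟨⟨hu, ux⟩, uy⟩
      · exact (mul_mem_cancel_right xz).1 (e ⟨⟨mul_mem hu hx, mul_mem ux (h3 x hx)⟩, h1 u hu x hx y hy uy n'⟩)
    by_cases ux : u ∈ K x
    · exact k u hu ux
    · exact (mul_mem_cancel_right (h2 z hz.1.1 y hy hz.2)).1 (k _ (mul_mem hu hy) (h1 u hu y hy x hx ux n))
  obtain ⟨m, hm⟩ := ih (X ⊓ K x ⊓ K y) (lt_of_le_of_ne (inf_le_left.trans inf_le_left) fun e => n' (e.ge hx).2)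
    (fun u hu => ⟨⟨hA hu, h2 x hx u (hA hu) ((h4 u (hA hu)).1 hu hx)⟩, h2 y hy u (hA hu) ((h4 u (hA hu)).1 hu hy)⟩)
    (fun u hu v hv z hz => h1 u hu.1.1 v hv.1.1 z hz.1.1) (fun u hu v hv => h2 u hu.1.1 v hv.1.1)
    (fun u hu => h3 u hu.1.1) fun z hz => ⟨fun e => (inf_le_left.trans inf_le_left).trans ((h4 z hz.1.1).1 e),
      fun e => (h4 z hz.1.1).2 (k0 z hz e)⟩
  exact ⟨m + 1, by rw [c1, c2, hm]; ring⟩

section
variable (h : Sit D Q w) (hd : d ∈ D)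
include h hd

theorem cQ (hx : x ∈ Q d) : d * x = x * d := (mem_C1.1 (h.le hd hx)).symm

theorem zp_le : zpowers d ≤ Q d := zpowers_le.2 (h.mem hd)

theorem k_zp (hx : x ∈ Q d) (hy : y ∈ Q d) : κ[x, y] ∈ zpowers d := by
  rcases h.cj_or hd hx hy with e | e <;> simp [e]

theorem sq_zp (hx : x ∈ Q d) : x * x ∈ zpowers d := by
  rcases h.sq_or hd hx with e | e <;> simp [e]

theorem cj_ne (hx : x ∈ Q d) (hy : y ∈ Q d) (n : x ∉ C{y}) : x * y * x⁻¹ = d * y :=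
  (h.cj_or hd hx hy).resolve_left fun e => n (mem_C1_iff_conj.2 e)

theorem mul_cent (hx : x ∈ Q d) (hy : y ∈ Q d) (hz : z ∈ Q d) (nx : x ∉ C{z}) (ny : y ∉ C{z}) :
    x * y ∈ C{z} := mem_C1_iff_conj.2 (by
  rw [show x * y * z * (x * y)⁻¹ = x * (y * z * y⁻¹) * x⁻¹ by group, cj_ne h hd hy hz ny, cjm,
    cj1 (h.le hd hx), cj_ne h hd hx hz nx, mml (h.sq hd)])

theorem mul_iff (hx : x ∈ Q d) (hy : y ∈ Q d) (hz : z ∈ Q d) : x * y ∈ C{z} ↔ (x ∈ C{z} ↔ y ∈ C{z}) := by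
  by_cases nx : x ∈ C{z}
  · simp [mul_mem_cancel_left nx, nx]
  by_cases ny : y ∈ C{z}
  · simp [mul_mem_cancel_right ny, nx, ny]
  simp [mul_cent h hd hx hy hz nx ny, nx, ny]

theorem idx_C (hX : X ≤ Q d) (hz : z ∈ Q d) : ♯X ≤ 2 * ♯(X ⊓ C{z}) :=
  idx_le fun x hx y hy => mul_cent h hd (hX hx) (hX hy) hz

theorem k_mem (hg : g ∈ C{d}) (hx : x ∈ Q d) : κ[g, x] ∈ Q d := mul_mem (conj_mem (h.norm hd hg) hx) (inv_mem hx)

theorem k_mem' (hg : g ∈ C{d}) (hx : x ∈ Q d) : κ[x, g] ∈ Q d := k_symm (k_mem h hd hg hx)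

/-- the form is invariant -/
theorem k_cent (hg : g ∈ C{d}) (hx : x ∈ Q d) (hy : y ∈ Q d) : κ[g, x] ∈ C{y} ↔ κ[g⁻¹, y] ∈ C{x} := by
  have e : ∀ g x y : G, g * x * g⁻¹ ∈ C{y} ↔ g⁻¹ * y * g⁻¹⁻¹ ∈ C{x} := fun g x y => by
    rw [mem_C1_comm (x := x), ← cj_C1, mem_cj, inv_inv]
  rw [mul_iff h hd (conj_mem (h.norm hd hg) hx) (inv_mem hx) hy,
    mul_iff h hd (conj_mem (h.norm hd (inv_mem hg)) hy) (inv_mem hy) hx, e, inv_mem_iff, inv_mem_iff,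
    mem_C1_comm (g := y)]

theorem k_sq (hg : g ∈ C{d}) (hx : x ∈ Q d) : κ[g, x] * κ[g, x] = 1 ↔ κ[g, x] ∈ C{x} := by
  have hy := conj_mem (h.norm hd hg) hx
  have e : g * x * g⁻¹ * (g * x * g⁻¹) = x * x := by
    rw [← cjm]; exact cj1 (C1_le_C1_of_mem_zpowers (sq_zp h hd hx) hg)
  generalize g * x * g⁻¹ = y at hy e
  rw [mul_mem_cancel_right (inv_mem (self_mem_C1 x)),
    show y * x⁻¹ * (y * x⁻¹) = y * (x⁻¹ * y * x⁻¹⁻¹) * (x * x)⁻¹ by group, ← e]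
  by_cases c : y ∈ C{x}
  · rw [cj1 (inv_mem (mem_C1_comm.1 c))]; simp [c]
  · rw [cj_ne h hd (inv_mem hx) hy fun e => c (mem_C1_comm.1 (inv_mem_iff.1 e)), ← mul_assoc, ← cQ h hd hy]
    simp [c, mul_assoc, h.ne_one hd]

end

end H3.XP
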