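import Mathlib
import Cfsg.Agent.H0.SchA
import Cfsg.Agent.H3.XP0
import Cfsg.Agent.S0205

/-! Perfect groups of automorphisms of abelian groups. -/

set_option autoImplicit false
set_option linter.unusedSectionVars false
set_option linter.unusedVariables false

namespace H3.SB

open Subgroup H24 H0.Sch H3.XP

section
variable {G : Type*} [Group G] [Finite G] {E : Subgroup G}

theorem ex_prime (hE : Perf E) (n : E ≠ ⊥) (p : ℕ) [Fact p.Prime] : ∃ e ∈ E, (orderOf e).Prime ∧ orderOf e ≠ p := by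
  by_contra c
  push Not at c
  have : IsPGroup p E := (IsPGroup.iff_card.2 ⟨_, Nat.eq_prime_pow_of_unique_prime_dvd Nat.card_pos.ne'
    fun {q} hq hd => by
      obtain ⟨e, e1, e2⟩ := H2.exists_mem_orderOf_eq_prime hq hd
      exact e2 ▸ c e e1 (e2 ▸ hq)⟩)
  have := this.isNilpotent
  exact n (hE.eq_bot_of_solvable (inferInstanceAs (Group.IsSolvable E)))

theorem ex_inv (hE : Perf E) (n : E ≠ ⊥) : ∃ e ∈ E, orderOf e = 2 :=
  H2.exists_mem_orderOf_eq_prime Nat.prime_two (even_iff_two_dvd.1 (Nat.not_odd_iff_even.1 fun c =>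
    n (hE.eq_bot_of_solvable (Cfsg.Agent.S0205.result c))))

theorem card_mod {p : ℕ} [Fact p.Prime] {P : Subgroup (MulAut G)} (hP : IsPGroup p P) (s : Set G)
    (hs : ∀ g ∈ P, ∀ v ∈ s, g v ∈ s) : s.ncard ≡ {v | v ∈ s ∧ ∀ g ∈ P, g v = v}.ncard [MOD p] := by
  let : MulAction P s :=
    { smul := fun g v => ⟨g.1 v, hs g g.2 v v.2⟩
      one_smul := fun v => rfl
      mul_smul := fun g k v => rfl }
  have h1 := hP.card_modEq_card_fixedPoints s
  rwa [Nat.card_congr (α := MulAction.fixedPoints P s) (β := {v | v ∈ s ∧ ∀ g ∈ P, g v = v})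
    { toFun := fun u => ⟨u.1.1, u.1.2, fun g hg => congrArg Subtype.val (u.2 ⟨g, hg⟩)⟩
      invFun := fun u => ⟨⟨u.1, u.2.1⟩, fun g => Subtype.ext (u.2.2 g g.2)⟩
      left_inv := fun _ => rfl
      right_inv := fun _ => rfl }] at h1

theorem fixpt {p : ℕ} [hp : Fact p.Prime] {P : Subgroup (MulAut G)} (hP : IsPGroup p P) {Y : Subgroup G}
    (hY : ∀ g ∈ P, ∀ v ∈ Y, g v ∈ Y) (hd : p ∣ Nat.card Y) : ∃ y ∈ Y, y ≠ 1 ∧ ∀ g ∈ P, g y = y := by
  by_contra c
  push Not at c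
  have := card_mod hP (Y : Set G) hY
  rw [show {v | v ∈ (Y : Set G) ∧ ∀ g ∈ P, g v = v} = {1} from Set.eq_singleton_iff_unique_mem.2
    ⟨⟨one_mem _, fun g _ => map_one g⟩, fun v hv => by_contra fun n => by
      obtain ⟨g, g1, g2⟩ := c v hv.1 n
      exact g2 (hv.2 g g1)⟩, Set.ncard_singleton] at this
  exact hp.out.one_lt.ne' (Nat.dvd_one.1 ((this.dvd_iff dvd_rfl).1 hd))

theorem zp_p {H : Type*} [Group H] {x : H} {r : ℕ} (h : x ^ r = 1) : IsPGroup r (zpowers x) := fun ⟨_, k, rfl⟩ =>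
  ⟨1, Subtype.ext (by simp only [pow_one, SubmonoidClass.coe_pow, OneMemClass.coe_one]
                      rw [← zpow_natCast, ← zpow_mul, mul_comm, zpow_mul, zpow_natCast, h, one_zpow])⟩

theorem zp_inv {x : MulAut G} {s : Set G} (h : ∀ v ∈ s, x v ∈ s) : ∀ g ∈ zpowers x, ∀ v ∈ s, g v ∈ s := by
  intro g hg
  obtain ⟨n, rfl⟩ := mem_powers_iff_mem_zpowers.2 hg
  induction n with
  | zero => exact fun v hv => hv
  | succ n ih =>
    intro v hv
    simpa only [pow_succ', MulAut.mul_apply] using h _ (ih (pow_mem (mem_zpowers x) n) v hv)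

theorem zp_fix {x : MulAut G} {v : G} (h : x v = v) : ∀ g ∈ zpowers x, g v = v :=
  fun g hg => zp_inv (s := {v}) (fun w hw => by rw [hw]; exact h) g hg v rfl

theorem card_mod1 {r : ℕ} (hr : r.Prime) {x : MulAut G} (hx : x ^ r = 1) (s : Set G) (hs : ∀ v ∈ s, x v ∈ s) :
    s.ncard ≡ {v | v ∈ s ∧ x v = v}.ncard [MOD r] := by
  have := Fact.mk hr
  convert card_mod (zp_p hx) s (zp_inv hs) using 4 with v
  exact and_congr_right fun _ => ⟨zp_fix, fun c => c x (mem_zpowers x)⟩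

theorem fixpt1 {r : ℕ} (hr : r.Prime) {x : MulAut G} (hx : x ^ r = 1) {Y : Subgroup G} (hY : ∀ v ∈ Y, x v ∈ Y)
    (hd : r ∣ Nat.card Y) : ∃ y ∈ Y, y ≠ 1 ∧ x y = y := by
  have := Fact.mk hr
  obtain ⟨y, y1, y2, y3⟩ := fixpt (zp_p hx) (fun g hg => zp_inv (s := Y) hY g hg) hd
  exact ⟨y, y1, y2, y3 x (mem_zpowers x)⟩

end

section
variable {V : Type*} [CommGroup V] [Finite V] {E : Subgroup (MulAut V)} {e x : MulAut V} {v : V}

/-- `v ↦ v⁻¹ e(v)` -/
def dl (e : MulAut V) : V →* V where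
  toFun v := v⁻¹ * e v
  map_one' := by simp
  map_mul' u v := by rw [map_mul, mul_inv, mul_mul_mul_comm]

theorem dl_apply : dl e v = v⁻¹ * e v := rfl

theorem mem_ker_dl : v ∈ (dl e).ker ↔ e v = v := by
  rw [MonoidHom.mem_ker, dl_apply, inv_mul_eq_one, eq_comm]

theorem dl_comm (h : x * e = e * x) (v : V) : x (dl e v) = dl e (x v) := by
  rw [dl_apply, dl_apply, map_mul, map_inv, ← MulAut.mul_apply, h, MulAut.mul_apply]

theorem rg_inv (h : x * e = e * x) : ∀ v ∈ (dl e).range, x v ∈ (dl e).range := by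
  rintro _ ⟨v, rfl⟩
  exact ⟨_, (dl_comm h v).symm⟩

theorem kr_inv (h : x * e = e * x) : ∀ v ∈ (dl e).ker, x v ∈ (dl e).ker := fun v hv => by
  rw [MonoidHom.mem_ker, ← dl_comm h, MonoidHom.mem_ker.1 hv, map_one]

theorem eq_one_of (h : ∀ v, v ∈ (dl e).ker) : e = 1 := MulEquiv.ext fun v => mem_ker_dl.1 (h v)

theorem cop {n : ℕ} (h : e ^ n = 1) (hn : n.Coprime (Nat.card V)) (h1 : v ∈ (dl e).range) (h2 : e v = v) : v = 1 := by
  obtain ⟨w, rfl⟩ := h1
  have k : ∀ i, (e ^ i) w = w * dl e w ^ i := fun i => by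
    induction i with
    | zero => simp
    | succ i ih => rw [pow_succ', MulAut.mul_apply, ih, map_mul, map_pow, h2, pow_succ', ← mul_assoc, dl_apply,
        mul_inv_cancel_left]
  have := k n
  rw [h, MulAut.one_apply, left_eq_mul] at this
  rw [← orderOf_eq_one_iff]
  exact Nat.eq_one_of_dvd_coprimes hn (orderOf_dvd_of_pow_eq_one this) (orderOf_dvd_natCard _)

theorem card_rk : Nat.card (dl e).range * Nat.card (dl e).ker = Nat.card V := by
  rw [← index_ker, index_mul_card]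

theorem dec {n : ℕ} (h : e ^ n = 1) (hn : n.Coprime (Nat.card V)) (v : V) :
    ∃ u ∈ (dl e).range, ∃ c ∈ (dl e).ker, u * c = v := by
  have : (dl e).range ⊔ (dl e).ker = ⊤ := eq_top_of_card_eq _ (by
    rw [card_sup_of_inf le_normalizer_of_normal
      (eq_bot_iff.2 fun v hv => cop h hn hv.1 (mem_ker_dl.1 hv.2)), card_rk])
  exact mem_sup.1 (this.ge (mem_top v))

theorem ab_fix (hE : Perf E) {p : ℕ} [hp : Fact p.Prime] (hV : IsPGroup p V) {P : Subgroup (MulAut V)}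
    (hP : IsPGroup p P) (hc : ∀ g ∈ P, ∀ e ∈ E, g * e = e * g) (hf : ∀ e ∈ E, ∀ v, (∀ g ∈ P, g v = v) → e v = v) :
    E = ⊥ := by
  by_contra n
  obtain ⟨e, e1, e2, e3⟩ := ex_prime hE n p
  obtain ⟨m, hm⟩ := IsPGroup.iff_card.1 hV
  have b : (dl e).range ≠ ⊥ := fun c => e2.one_lt.ne' (orderOf_eq_one_iff.2 (eq_one_of fun v =>
    MonoidHom.mem_ker.2 (mem_bot.1 (c ▸ ⟨v, rfl⟩))))
  obtain ⟨y, y1, y2, y3⟩ := fixpt hP (fun g hg => rg_inv (hc g hg e e1))
    (((hV.to_subgroup _).card_eq_or_dvd).resolve_left fun c => b (eq_bot_of_card_eq _ c))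
  exact y2 (cop (pow_orderOf_eq_one e) (hm ▸ ((Nat.coprime_primes e2 hp.out).2 e3).pow_right m) y1 (hf e e1 y y3))

theorem ab_inv (hE : Perf E) (h : ∀ e ∈ E, e ^ 2 = 1 → e = 1) : E = ⊥ := by
  by_contra n
  obtain ⟨e, e1, e2⟩ := ex_inv hE n
  rw [h e e1 (e2 ▸ pow_orderOf_eq_one e), orderOf_one] at e2
  omega

variable {n r : ℕ} (hn : Nat.card V = 2 ^ n) (hr : r.Prime) (hx : x ^ r = 1) (hk : 3 ≤ orderOf (2 : ZMod r))
include hn hr hx hk

theorem copr : r.Coprime (Nat.card V) := by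
  rw [hn]
  refine ((Nat.coprime_primes hr Nat.prime_two).2 ?_).pow_right n
  rintro rfl
  rw [show (2 : ZMod 2) = 0 from rfl, orderOf_zero] at hk
  omega

theorem sub_dvd {Y : Subgroup V} (h1 : Y ≤ (dl x).range) (h2 : ∀ v ∈ Y, x v ∈ Y) :
    ∃ m, Nat.card Y = 2 ^ m ∧ orderOf (2 : ZMod r) ∣ m := by
  obtain ⟨m, -, hm⟩ := (Nat.dvd_prime_pow Nat.prime_two).1 (hn ▸ card_subgroup_dvd_card Y)
  refine ⟨m, hm, orderOf_dvd_of_pow_eq_one ?_⟩
  have := card_mod1 hr hx (Y : Set V) h2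
  rw [show {v | v ∈ (Y : Set V) ∧ x v = v} = {1} from Set.eq_singleton_iff_unique_mem.2
    ⟨⟨one_mem _, map_one x⟩, fun v hv => cop hx (copr hn hr hx hk) (h1 hv.1) hv.2⟩, Set.ncard_singleton,
    show (Y : Set V).ncard = 2 ^ m from hm] at this
  simpa using (ZMod.natCast_eq_natCast_iff _ _ _).2 this

theorem ab_core (hE : Perf E) (hc : ∀ e ∈ E, e * x = x * e) (h4 : Nat.card (dl x).ker ≤ 4)
    (hU : ∀ e ∈ E, e ^ 2 = 1 → (dl x).range ≤ (dl e).ker) : E = ⊥ :=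
  ab_inv hE fun e e1 e2 => eq_one_of fun v => by
    obtain ⟨u, u1, c, c1, rfl⟩ := dec hx (copr hn hr hx hk) v
    exact mul_mem (hU e e1 e2 u1) (mem_ker_dl.2 (fix_elt hE ((dl x).ker : Set V) (Set.toFinite _) h4
      (fun d hd => kr_inv (hc d hd)) e e1 c c1))

theorem rg_card (x1 : x ≠ 1) : ∃ m, 1 ≤ m ∧ Nat.card (dl x).range = 2 ^ (orderOf (2 : ZMod r) * m) ∧
    orderOf (2 : ZMod r) * m ≤ n ∧ Nat.card (dl x).ker = 2 ^ (n - orderOf (2 : ZMod r) * m) := by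
  obtain ⟨_, hm, m, rfl⟩ := sub_dvd hn hr hx hk le_rfl (rg_inv rfl)
  have h1 := card_rk (e := x)
  rw [hm, hn] at h1
  have h2 := (Nat.pow_dvd_pow_iff_le_right one_lt_two).1 (Dvd.intro _ h1)
  refine ⟨m, Nat.one_le_iff_ne_zero.2 fun c => x1 (eq_one_of fun v => ?_), hm, h2, ?_⟩
  · rw [c, mul_zero, pow_zero] at hm
    exact MonoidHom.mem_ker.2 (mem_bot.1 (eq_bot_of_card_eq _ hm ▸ ⟨v, rfl⟩))
  · rw [← Nat.add_sub_cancel' h2, pow_add] at h1
    exact Nat.eq_of_mul_eq_mul_left (by positivity) h1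

theorem cent_card (hc : e * x = x * e) (e2 : e ^ 2 = 1) {m : ℕ} (m1 : 1 ≤ m)
    (hm : Nat.card (dl x).range = 2 ^ (orderOf (2 : ZMod r) * m)) (n : ¬ (dl x).range ≤ (dl e).ker) :
    ∃ j, 1 ≤ j ∧ j < m ∧ Nat.card ↥((dl x).range ⊓ (dl e).ker) = 2 ^ (orderOf (2 : ZMod r) * j) := by
  obtain ⟨_, hj, j, rfl⟩ := sub_dvd hn hr hx hk (Y := (dl x).range ⊓ (dl e).ker) inf_le_left
    fun v hv => ⟨rg_inv rfl v hv.1, kr_inv hc.symm v hv.2⟩
  refine ⟨j, Nat.one_le_iff_ne_zero.2 fun c => ?_, ?_, hj⟩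
  · obtain ⟨y, y1, y2, y3⟩ := fixpt1 Nat.prime_two e2 (rg_inv hc) (hm ▸ dvd_pow_self 2 (by positivity))
    rw [c, mul_zero, pow_zero] at hj
    exact y2 (mem_bot.1 (eq_bot_of_card_eq _ hj ▸ ⟨y1, mem_ker_dl.2 y3⟩))
  · have := card_lt (lt_of_le_of_ne (inf_le_left (b := (dl e).ker)) fun c => n (inf_eq_left.1 c))
    rw [hj, hm, Nat.pow_lt_pow_iff_right one_lt_two] at this
    exact lt_of_mul_lt_mul_left' this

theorem ab_prime (hE : Perf E) (hc : ∀ e ∈ E, e * x = x * e) (x1 : x ≠ 1) (hnk : n ≤ orderOf (2 : ZMod r) + 2) :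
    E = ⊥ := by
  obtain ⟨m, m1, m2, m3, m4⟩ := rg_card hn hr hx hk x1
  obtain rfl : m = 1 := by nlinarith
  refine ab_core hn hr hx hk hE hc (m4 ▸ (Nat.pow_le_pow_right two_pos (by omega) : _ ≤ 2 ^ 2)) fun e e1 e2 => ?_
  by_contra c
  obtain ⟨j, j1, j2, -⟩ := cent_card hn hr hx hk (hc e e1) e2 m1 m2 c
  omega

theorem ab_xs (hE : Perf E) (hc : ∀ e ∈ E, e * x = x * e) (x1 : x ≠ 1) (ho : Odd (orderOf (2 : ZMod r)))
    (hnk : n ≤ 2 * orderOf (2 : ZMod r) + 2) (b : V → V →* Multiplicative (ZMod 2))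
    (sy : ∀ u v, b u v = b v u) (al : ∀ v, b v v = 1) (nd : ∀ u, (∀ v, b u v = 1) → u = 1)
    (bx : ∀ u v, b (x u) (x v) = b u v) (be : ∀ e ∈ E, ∀ u v, b (e u) (e v) = b u v) : E = ⊥ := by
  have z1 : ∀ s t : Multiplicative (ZMod 2), s ≠ 1 → t ≠ 1 → s * t = 1 := by decide
  have z2 : ∀ s : Multiplicative (ZMod 2), s⁻¹ * s = 1 := fun s => inv_mul_cancel s
  have ndU : ∀ u ∈ (dl x).range, (∀ v ∈ (dl x).range, b u v = 1) → u = 1 := fun u hu h => nd u fun v => by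
    obtain ⟨v, v1, c, c1, rfl⟩ := dec hx (copr hn hr hx hk) v
    obtain ⟨w, rfl⟩ := hu
    rw [map_mul, h v v1, one_mul, sy, dl_apply, map_mul, map_inv, ← bx c w, mem_ker_dl.1 c1, z2]
  obtain ⟨m, m1, m2, m3, m4⟩ := rg_card hn hr hx hk x1
  obtain ⟨i, hi⟩ := even_idx (A := ⊥) (fun u => (b u).ker) (dl x).range bot_le
    (fun u _ v _ w _ h1 h2 => by rw [MonoidHom.mem_ker, map_mul]; exact z1 _ _ h1 h2)
    (fun u _ v _ h => by rw [MonoidHom.mem_ker, sy]; exact h) (fun u _ => al u)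
    fun u hu => ⟨fun h v _ => by rw [MonoidHom.mem_ker, mem_bot.1 h, sy, map_one], fun h => ndU u hu h⟩
  rw [m2, card_bot, mul_one, show 4 = 2 ^ 2 from rfl, ← pow_mul] at hi
  have hi := Nat.pow_right_injective le_rfl hi
  obtain ⟨k, hk'⟩ := ho
  obtain rfl : m = 2 := by
    have : m < 3 := by nlinarith
    interval_cases m <;> omega
  refine ab_core hn hr hx hk hE hc (m4 ▸ (Nat.pow_le_pow_right two_pos (by omega) : _ ≤ 2 ^ 2)) fun e e1 e2 => ?_
  by_contra c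
  obtain ⟨j, j1, j2, j3⟩ := cent_card hn hr hx hk (hc e e1) e2 m1 m2 c
  obtain rfl : j = 1 := by omega
  have ee : ∀ v, e (e v) = v := fun v => by rw [← MulAut.mul_apply, ← pow_two, e2, MulAut.one_apply]
  have bs : ∀ u v, b (dl e u) v = b (dl e v) u := fun u v => by
    rw [sy, sy _ u, dl_apply, dl_apply, map_mul, map_mul, map_inv, map_inv, sy v u, ← be e e1 v, ee, sy (e v)]
  let la : V →* Multiplicative (ZMod 2) :=
    { toFun := fun u => b (dl e u) u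
      map_one' := map_one _
      map_mul' := fun u v => by
        rw [map_mul (b _), sy _ u, sy _ v, map_mul, map_mul, map_mul, sy u, sy u, sy v, sy v, bs v u]
        generalize b (dl e u) u = s, b (dl e u) v = t, b (dl e v) v = w
        revert s t w; decide }
  have l0 : (dl x).range ≤ la.ker := by
    by_contra d
    obtain ⟨y, y1, y2⟩ := SetLike.not_le_iff_exists.1 d
    have h1 := idx_eq (N := la.ker) (fun u _ v _ h1 h2 => by
      rw [MonoidHom.mem_ker, map_mul]; exact z1 _ _ h1 h2) y1 y2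
    obtain ⟨_, h2, j, rfl⟩ := sub_dvd hn hr hx hk (Y := (dl x).range ⊓ la.ker) inf_le_left fun v hv =>
      ⟨rg_inv rfl v hv.1, by
        change b (dl e (x v)) (x v) = 1
        rw [← dl_comm (hc e e1).symm, bx]; exact hv.2⟩
    rw [m2, h2, ← pow_succ'] at h1
    have h1 := Nat.pow_right_injective le_rfl h1
    have : j < 2 := by nlinarith
    interval_cases j <;> omega
  obtain ⟨i, hi⟩ := even_idx (A := (dl x).range ⊓ (dl e).ker) (fun u => (b (dl e u)).ker) (dl x).range inf_le_left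
    (fun u _ v _ w _ h1 h2 => by rw [MonoidHom.mem_ker, map_mul]; exact z1 _ _ h1 h2)
    (fun u _ v _ h => by rw [MonoidHom.mem_ker, bs]; exact h) (fun u hu => l0 hu)
    fun u hu => ⟨fun h v _ => by rw [MonoidHom.mem_ker, MonoidHom.mem_ker.1 h.2, sy, map_one],
      fun h => ⟨hu, ndU _ (mul_mem (inv_mem hu) (rg_inv (hc e e1) u hu)) h⟩⟩
  rw [m2, j3, show 4 = 2 ^ 2 from rfl, ← pow_mul, ← pow_add] at hi
  have hi := Nat.pow_right_injective le_rfl hi
  omega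

end

theorem ab_field {F : Type*} [Field F] [Finite F] {E : Subgroup (MulAut (Multiplicative F))} (hE : Perf E)
    (h : ∀ e ∈ E, ∀ c : F, ∃ s : F, ∀ v : F, (e (.ofAdd (c * v))).toAdd = s * (e (.ofAdd v)).toAdd) : E = ⊥ := by
  obtain ⟨g, hg⟩ := IsCyclic.exists_monoid_generator (α := Fˣ)
  have k : ∀ e ∈ E, ∃ k : ℕ, ∀ v : F, (e (.ofAdd (g * v))).toAdd = g ^ k * (e (.ofAdd v)).toAdd := fun e he => by
    obtain ⟨s, hs⟩ := h e he g
    obtain ⟨k, hk⟩ := hg (Units.mk0 s fun c => by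
      have := hs 1
      rw [c, zero_mul, toAdd_eq_zero, map_eq_one_iff _ e.injective, ofAdd_eq_one, mul_one] at this
      exact g.ne_zero this)
    exact ⟨k, fun v => by rw [hs, ← Units.val_pow_eq_pow_val, show g ^ k = _ from hk]; rfl⟩
  have k1 : ∀ (e : MulAut (Multiplicative F)) (s : F), (∀ v : F, (e (.ofAdd (g * v))).toAdd = s * (e (.ofAdd v)).toAdd) →
      ∀ (j : ℕ) (v : F), (e (.ofAdd (g ^ j * v))).toAdd = s ^ j * (e (.ofAdd v)).toAdd := fun e s hs j v => by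
    induction j with
    | zero => simp
    | succ j ih => rw [pow_succ', mul_assoc, hs, ih, pow_succ', mul_assoc]
  let L : Subgroup (MulAut (Multiplicative F)) :=
    { carrier := {e | ∀ v : F, (e (.ofAdd (g * v))).toAdd = g * (e (.ofAdd v)).toAdd}
      one_mem' := fun v => rfl
      mul_mem' := fun {a b} ha hb v => by
        rw [MulAut.mul_apply, MulAut.mul_apply, ← ofAdd_toAdd (b _), hb, ha, ofAdd_toAdd]
      inv_mem' := fun {a} ha v => by
        have := ha (a⁻¹ (.ofAdd v)).toAdd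
        rw [ofAdd_toAdd, MulAut.apply_inv_self, toAdd_ofAdd] at this
        rw [← this, ofAdd_toAdd, MulAut.inv_apply_self, toAdd_ofAdd] }
  have hL0 : ∀ a ∈ E, ∀ b ∈ E, (b * a)⁻¹ * (a * b) ∈ L := fun a ha b hb v => by
    obtain ⟨i, hi⟩ := k a ha
    obtain ⟨j, hj⟩ := k b hb
    have e : ∀ w : F, ((b * a) (.ofAdd (g * w))).toAdd = g ^ (i * j) * ((b * a) (.ofAdd w)).toAdd := fun w => by
      rw [MulAut.mul_apply, MulAut.mul_apply, ← ofAdd_toAdd (a _), hi, k1 b _ hj, ofAdd_toAdd, ← pow_mul, mul_comm j]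
    have e' : ∀ w : F, ((a * b) (.ofAdd (g * w))).toAdd = g ^ (i * j) * ((a * b) (.ofAdd w)).toAdd := fun w => by
      rw [MulAut.mul_apply, MulAut.mul_apply, ← ofAdd_toAdd (b _), hj, k1 a _ hi, ofAdd_toAdd, ← pow_mul]
    have := e ((b * a)⁻¹ ((a * b) (.ofAdd v))).toAdd
    rw [ofAdd_toAdd, MulAut.apply_inv_self, ← e'] at this
    rw [MulAut.mul_apply _ (b * a)⁻¹, MulAut.mul_apply _ (b * a)⁻¹, ← Multiplicative.toAdd.injective this,
      MulAut.inv_apply_self, toAdd_ofAdd]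
  have hL : E ≤ L := hE.ge.trans (commutator_le.2 fun a ha b hb => by
    convert hL0 _ (inv_mem ha) _ (inv_mem hb) using 1
    rw [commutatorElement_def]; group)
  have lin : ∀ e ∈ L, ∀ c : F, (e (.ofAdd c)).toAdd = c * (e (.ofAdd 1)).toAdd := fun e he c => by
    by_cases c0 : c = 0
    · simp [c0]
    · obtain ⟨j, hj⟩ := hg (Units.mk0 c c0)
      have : c = g ^ j := by rw [← Units.val_pow_eq_pow_val, show g ^ j = _ from hj]; rfl
      have e := k1 e _ he j 1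
      rwa [mul_one, ← this] at e
  refine hE.symm.trans (commutator_eq_bot_iff_le_centralizer.2 fun a ha b hb => MulEquiv.ext fun v => ?_)
  apply Multiplicative.toAdd.injective
  rw [MulAut.mul_apply, MulAut.mul_apply, ← ofAdd_toAdd (a v), ← ofAdd_toAdd (b v), lin a (hL ha), lin b (hL hb),
    ← ofAdd_toAdd v, lin a (hL ha), lin b (hL hb) v.toAdd]
  ring

end H3.SB
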