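import Mathlib
import Cfsg.Agent.H0.SchC
import Cfsg.Agent.H9.M24b
import Cfsg.Agent.S0384

/-! Perfect automorphism groups of the Mathieu groups. -/

set_option autoImplicit false
set_option linter.unusedSectionVars false
set_option linter.unusedVariables false

namespace H3.SM

open Subgroup H24 H0.Sch H9 Cfsg

section
variable {K : Type*} [Group K] [Finite K] {D : Subgroup (MulAut K)} {y u : K}

/-- the elements fixed by `D` -/
def Fx (D : Subgroup (MulAut K)) : Subgroup K where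
  carrier := {g | ∀ d ∈ D, d g = g}
  one_mem' := fun d _ => map_one d
  mul_mem' := fun x y d hd => by rw [map_mul, x d hd, y d hd]
  inv_mem' := fun x d hd => by rw [map_inv, x d hd]

theorem tr_iff {X : Subgroup K} : Tr D X ⊥ ↔ X ≤ Fx D :=
  tr_bot_iff.trans ⟨fun h x hx d hd => h d hd x hx, fun h d hd x hx => h hx d hd⟩

/-- propagation from a fixed subgroup `Y ≤ C(y)` of small index -/
theorem cent_fx (hD : Perf D) (hy : y ∈ Fx D) {Y : Subgroup K} (h1 : Y ≤ Fx D) (h2 : Y ≤ C{y}) (h3 : C{y} ≤ N[Y])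
    (hc : Nat.card C{y} < 6 * Nat.card Y) : C{y} ≤ Fx D := by
  have i : Inv D Y := fun d hd x hx => (h1 hx d hd).symm ▸ hx
  have := card_mul_relIndex h2
  exact tr_iff.1 ((tr_of_relIndex_le_five hD (inv_centralizer_of_fix hy) i (relIndex_ne_zero' _ _)
    (by nlinarith)).trans hD (tr_iff.2 h1) h2 bot_le inv_bot h3 le_normalizer_of_normal)

theorem norm_fx (hD : Perf D) (hy : y ∈ Fx D) (hc : Nat.card C{y} < 6 * orderOf y) : N[zpowers y] ≤ Fx D :=
  tr_iff.1 (tr_normalizer hD (tr_iff.2 (zpowers_le.2 hy)) (tr_iff.2 (C_zpowers (x := y) ▸ cent_fx hD hy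
    (zpowers_le.2 hy) (zpowers_le.2 (self_mem_C1 y)) (C_zpowers (x := y) ▸ C_le_N _) (by rwa [Nat.card_zpowers]))))

theorem mem_norm_zp {k : ℕ} (h : u * y = y ^ k * u) : u ∈ N[zpowers y] := mem_N_of_finite (by
  rintro _ ⟨j, rfl⟩
  rw [← conj_zpow, h, mul_inv_cancel_right]
  exact zpow_mem (pow_mem (mem_zpowers y) k) j)

theorem bot_of_fx (h : ⊤ ≤ Fx D) : D ≤ Inn K := (eq_bot_of_tr_top (tr_iff.2 h)).le.trans bot_le

theorem card_cent_le {Ω : Type*} [Finite Ω] [MulAction K Ω] (b : Ω) (s : Set Ω)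
    (h1 : ∀ g ∈ C{y}, g • b ∈ s) (h2 : ∀ g : K, (∀ k : ℕ, g • y ^ k • b = y ^ k • b) → g = 1) :
    Nat.card C{y} ≤ s.ncard :=
  Nat.card_le_card_of_injective (fun g : C{y} => (⟨g.1 • b, h1 g g.2⟩ : s)) fun g g' e => by
    have e : g.1 • b = g'.1 • b := congrArg Subtype.val e
    refine Subtype.ext (inv_mul_eq_one.1 (h2 _ fun k => ?_))
    have : Commute (g.1⁻¹ * g'.1) y := mem_C1.1 (mul_mem (inv_mem g.2) g'.2)
    rw [← mul_smul, (this.pow_right k).eq, mul_smul, mul_smul, ← e, inv_smul_smul]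

end

def cx : ℕ := 956302485175575353788796878166559809
def cp : ℕ := 1795248432537898728475572672376535
def cy : ℕ := 983435072843990828779021698901151808
def cw : ℕ := 974380510768821363662145534143076928
def u22 : ℕ := 970204549293238788066583342718883904
def u11 : ℕ := 649619160316427615188374661576626752
def u12 : ℕ := 974376600527264783270359736839586051

theorem cl22 : cl [cy, cw, u22] = Stab [0, 23] [] := by
  have h : GensIn [cy, cw, u22] (Stab [0, 23] []) := gensIn_Stab (by decide +kernel)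
  exact le_antisymm h.cl_le (cl_g22.ge.trans (h.self.of_words [[2, 1, 0, 0, 2, 2, 0, 2, 0, 2, 2, 0, 0, 0],
    [2, 0, 2, 2, 1, 1, 0, 0, 2, 0, 0, 2, 2, 0, 0]] (by decide +kernel)).cl_le)

theorem cl11 : cl [cy, cw, u11] = Stab [0] [dod0] := by
  have h : GensIn [cy, cw, u11] (Stab [0] [dod0]) := gensIn_Stab (by decide +kernel)
  exact le_antisymm h.cl_le (cl_g11.ge.trans (h.self.of_words [[1, 0, 1, 1, 0, 2, 0],
    [1, 0, 0, 1, 2, 2, 0, 2, 0, 0]] (by decide +kernel)).cl_le)

theorem cl12 : cl [cy, cw, u11, u12] = Stab [] [dod0] := by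
  have h : GensIn [cy, cw, u11, u12] (Stab [] [dod0]) := gensIn_Stab (by decide +kernel)
  exact le_antisymm h.cl_le (cl_g12.ge.trans (h.self.of_words [[3, 0, 0, 3, 1, 0, 1, 1, 0],
    [3, 1, 0, 0, 3, 2, 1, 0, 3]] (by decide +kernel)).cl_le)

theorem cl23 : cl [cx, cy, cw] = Stab [23] [] := by
  have h : GensIn [cx, cy, cw] (Stab [23] []) := gensIn_Stab (by decide +kernel)
  refine cl_step h (b := 0) (by decide) (fun g hg => ?_) ?_
  · rw [show orbPt [cx, cy, cw] 0 = orbPt g23 0 by decide +kernel]; exact up23 g hg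
  · rw [Stab_cons_pt, ← cl22]
    exact (h.self.of_words [[1], [2], [1, 1, 0, 2, 0, 0, 2, 1, 0, 2, 2, 2, 2, 0, 1, 1, 2]] (by decide +kernel)).cl_le

theorem cl24 : cl [cx, cp, cw] = M24 := cl_g24

theorem le_of_cl {G : Subgroup (Equiv.Perm GolayPt)} {F : Subgroup G} {gens : List ℕ} (h : cl gens = G)
    (hF : ∀ c ∈ gens, ∀ m : pm c ∈ G, (⟨_, m⟩ : G) ∈ F) : ⊤ ≤ F := fun g _ => by
  have : cl gens ≤ F.map G.subtype := (closure_le _).2 (by
    rintro _ ⟨c, hc, rfl⟩
    exact ⟨_, hF c hc (h.le (subset_closure ⟨c, hc, rfl⟩)), rfl⟩)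
  obtain ⟨x, hx, e⟩ := this (h.ge g.2)
  rwa [← show x = g from Subtype.ext e]

theorem ord_pm {c r : ℕ} (hr : r.Prime) (h : (validP c && Nat.beq (powP c r) idP && !Nat.beq (dig c 1) 1) = true) :
    orderOf (pm c) = r := by
  simp only [Bool.and_eq_true, Bool.not_eq_true', beq_iff] at h
  have := Fact.mk hr
  refine orderOf_eq_prime (pm_pow_eq_one h.1.1 h.1.2) fun e => ?_
  have := pm_inj h.1.1 validP_idP (e.trans pm_idP.symm) (i := 1) (by decide)
  rw [this] at h
  exact absurd h.2 (by decide +kernel)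

theorem ox : orderOf (pm cx) = 23 := ord_pm (by decide) (by decide +kernel)
theorem oy : orderOf (pm cy) = 11 := ord_pm (by decide) (by decide +kernel)
theorem ow : orderOf (pm cw) = 5 := ord_pm (by decide) (by decide +kernel)

theorem rel_pm {u c k : ℕ} (h : (validP u && validP c && Nat.beq (mulP u c) (mulP (powP c k) u)) = true) :
    pm u * pm c = pm c ^ k * pm u := by
  simp only [Bool.and_eq_true, beq_iff] at h
  rw [← pm_mulP h.1.1 h.1.2, h.2, pm_mulP (powP_spec h.1.2 k).1 h.1.1, (powP_spec h.1.2 k).2]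

theorem r_yx : pm cy * pm cx = pm cx ^ 2 * pm cy := rel_pm (by decide +kernel)
theorem r_wy : pm cw * pm cy = pm cy ^ 3 * pm cw := rel_pm (by decide +kernel)
theorem r_py : pm cp * pm cy = pm cy ^ 10 * pm cp := rel_pm (by decide +kernel)
theorem r_22 : pm u22 * pm cw = pm cw ^ 2 * pm u22 := rel_pm (by decide +kernel)
theorem r_11 : pm u11 * pm cw = pm cw ^ 2 * pm u11 := rel_pm (by decide +kernel)
theorem r_12 : pm u12 * pm cw = pm cw ^ 2 * pm u12 := rel_pm (by decide +kernel)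

theorem base_of {pts sets : List ℕ} {c : ℕ} (n : ℕ) (hc : validP c = true) (steps : List (ℕ × ℕ × ℕ))
    (h : fixRun steps (maskL ((List.range n).map (fun k => dig (powP c k) 1) ++ pts)) = 16777215) :
    ∀ g ∈ Stab pts sets, (∀ k : ℕ, g ((pm c ^ k) (pt 1)) = (pm c ^ k) (pt 1)) → g = 1 := fun g hg hk =>
  mem_bot.1 ((Stab_eq_bot (sets := sets) steps h).le ⟨hg.1, fun i hi => by
    rcases List.mem_append.1 hi with hi | hi
    · obtain ⟨k, -, rfl⟩ := List.mem_map.1 hi
      have := hk k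
      rwa [← (powP_spec hc k).2, pm_pt (powP_spec hc k).1 (by decide)] at this
    · exact hg.2.1 i hi, hg.2.2⟩)

theorem prop_pm {G : Subgroup (Equiv.Perm GolayPt)} {D : Subgroup (MulAut G)} (hD : Perf D) {c u r k : ℕ}
    (hc : validP c = true) {m1 : pm c ∈ G} (hy : (⟨_, m1⟩ : G) ∈ Fx D) (ho : orderOf (pm c) = r)
    (hb : ∀ g ∈ G, (∀ k : ℕ, g ((pm c ^ k) (pt 1)) = (pm c ^ k) (pt 1)) → g = 1)
    (hs : pt (dig c 1) ≠ pt 1 ∧ (Finset.univ.filter fun p => pt (dig c (ix p)) ≠ p).card < 6 * r)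
    (hr : pm u * pm c = pm c ^ k * pm u) (m2 : pm u ∈ G) : (⟨_, m2⟩ : G) ∈ Fx D := by
  refine norm_fx hD hy ?_ (mem_norm_zp (k := k) (Subtype.ext hr))
  rw [← Subgroup.orderOf_coe, ho]
  refine (card_cent_le (pt 1) (Finset.univ.filter fun p => pt (dig c (ix p)) ≠ p : Finset GolayPt)
    (fun g hg => ?_) fun g hg => Subtype.ext (hb g g.2 hg)).trans_lt (by rw [Set.ncard_coe_finset]; exact hs.2)
  have e : g.1 * pm c = pm c * g.1 := congrArg Subtype.val (mem_C1.1 hg)
  simp only [Finset.coe_filter, Finset.mem_univ, true_and, Set.mem_ofPred_eq, ← pm_apply hc]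
  intro e'
  change pm c (g.1 (pt 1)) = g.1 (pt 1) at e'
  rw [← Equiv.Perm.mul_apply, ← e, Equiv.Perm.mul_apply, g.1.injective.eq_iff, pm_pt hc (by decide)] at e'
  exact hs.1 e'

theorem by0 (pts sets : List ℕ) : ∀ g ∈ Stab pts sets, (∀ k : ℕ, g ((pm cy ^ k) (pt 1)) = (pm cy ^ k) (pt 1)) → g = 1 :=
  fun g hg => base_of (pts := []) (sets := []) 11 (by decide +kernel) [(0, 3416079, 12656663), (20, 3416079, 1413139),
    (15, 13938692, 1302533), (19, 4845570, 9347075), (22, 4845570, 13938692), (14, 13062145, 4845570),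
    (23, 13062145, 13938692), (17, 13062145, 13062145), (21, 7221256, 7221256), (5, 11952160, 11952160),
    (7, 2019456, 2019456), (10, 11654144, 11654144), (11, 14919680, 14919680)] (by decide +kernel) g
    ⟨hg.1, by simp, by simp⟩

theorem bx0 (pts sets : List ℕ) : ∀ g ∈ Stab pts sets, (∀ k : ℕ, g ((pm cx ^ k) (pt 1)) = (pm cx ^ k) (pt 1)) → g = 1 :=
  fun g hg => base_of (pts := []) (sets := []) 23 (by decide +kernel) [(23, 8536111, 8536111)] (by decide +kernel) g
    ⟨hg.1, by simp, by simp⟩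

theorem bw22 : ∀ g ∈ Stab [0, 23] [], (∀ k : ℕ, g ((pm cw ^ k) (pt 1)) = (pm cw ^ k) (pt 1)) → g = 1 :=
  base_of 5 (by decide +kernel) [(22, 12656663, 6557781), (13, 12656663, 4989254), (15, 9347075, 13938692),
    (19, 9347075, 6053905), (12, 4845570, 13938692), (17, 13062145, 9347075), (16, 13062145, 10170384),
    (14, 13062145, 13062145), (20, 13938692, 13938692), (21, 7221256, 11952160), (3, 7221256, 7221256),
    (5, 11952160, 11952160), (7, 2019456, 2019456), (8, 4038912, 4038912), (9, 8077824, 8077824),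
    (10, 11654144, 11654144), (11, 14919680, 14919680)] (by decide +kernel)

theorem bw12 (pts : List ℕ) : ∀ g ∈ Stab pts [dod0], (∀ k : ℕ, g ((pm cw ^ k) (pt 1)) = (pm cw ^ k) (pt 1)) → g = 1 :=
  fun g hg hk => by
  have v : validP cw = true := by decide +kernel
  let x : Fin 5 ↪ GolayPt := ⟨fun i => pt (dig (powP cw i) 1), by decide +kernel⟩
  have := (Cfsg.Agent.S0384.result _ dod0_mem x x (by decide +kernel) (by decide +kernel)).unique
    (y₁ := ⟨⟨g, hg.1⟩, smul_dod0 pts g hg⟩) (y₂ := 1) (fun i => by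
      have := hk i
      rwa [← (powP_spec v i).2, pm_pt (powP_spec v i).1 (by decide)] at this) fun i => rfl
  exact congrArg (fun k => k.1.1) this

variable {pts sets : List ℕ} {D : Subgroup (MulAut (Stab pts sets))}

theorem mm (c : ℕ) (h : inStab pts sets c = true := by decide +kernel) : pm c ∈ Stab pts sets := mem_Stab_of_inStab h

theorem from_x (hD : Perf D) {m} (h : (⟨pm cx, m⟩ : Stab pts sets) ∈ Fx D) (m' : pm cy ∈ Stab pts sets) :
    (⟨_, m'⟩ : Stab pts sets) ∈ Fx D :=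
  prop_pm hD (by decide +kernel) h ox (bx0 _ _) (by decide +kernel) r_yx m'

theorem from_y (hD : Perf D) {m} (h : (⟨pm cy, m⟩ : Stab pts sets) ∈ Fx D) {u k : ℕ}
    (hr : pm u * pm cy = pm cy ^ k * pm u) (m' : pm u ∈ Stab pts sets) : (⟨_, m'⟩ : Stab pts sets) ∈ Fx D :=
  prop_pm hD (by decide +kernel) h oy (by0 _ _) (by decide +kernel) hr m'

theorem from_w (hD : Perf D) {m} (h : (⟨pm cw, m⟩ : Stab pts sets) ∈ Fx D)
    (hb : ∀ g ∈ Stab pts sets, (∀ k : ℕ, g ((pm cw ^ k) (pt 1)) = (pm cw ^ k) (pt 1)) → g = 1) {u k : ℕ}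
    (hr : pm u * pm cw = pm cw ^ k * pm u) (m' : pm u ∈ Stab pts sets) : (⟨_, m'⟩ : Stab pts sets) ∈ Fx D :=
  prop_pm hD (by decide +kernel) h ow hb (by decide +kernel) hr m'

theorem s11 : OutS (Stab [0] [dod0]) :=
  outS_of_prime (r := 11) (by decide) (by rw [card_d1]; decide) (x := ⟨_, mm cy⟩) ((Subgroup.orderOf_mk _ _).trans oy)
    fun D hD h => by
      have w := from_y hD h r_wy (mm cw)
      exact bot_of_fx (le_of_cl cl11 (by simpa using ⟨fun _ => h, fun _ => w, from_w hD w (bw12 _) r_11⟩))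

theorem s12 : OutS (Stab [] [dod0]) :=
  outS_of_prime (r := 11) (by decide) (by rw [card_d0]; decide) (x := ⟨_, mm cy⟩) ((Subgroup.orderOf_mk _ _).trans oy)
    fun D hD h => by
      have w := from_y hD h r_wy (mm cw)
      exact bot_of_fx (le_of_cl cl12 (by
        simpa using ⟨fun _ => h, fun _ => w, from_w hD w (bw12 _) r_11, from_w hD w (bw12 _) r_12⟩))

theorem s22 : OutS (Stab [0, 23] []) :=
  outS_of_prime (r := 11) (by decide) (by rw [card_s2]; decide) (x := ⟨_, mm cy⟩) ((Subgroup.orderOf_mk _ _).trans oy)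
    fun D hD h => by
      have w := from_y hD h r_wy (mm cw)
      exact bot_of_fx (le_of_cl cl22 (by simpa using ⟨fun _ => h, fun _ => w, from_w hD w bw22 r_22⟩))

theorem s23 : OutS (Stab [23] []) :=
  outS_of_prime (r := 23) (by decide) (by rw [card_s1]; decide) (x := ⟨_, mm cx⟩) ((Subgroup.orderOf_mk _ _).trans ox)
    fun D hD h => by
      have y := from_x hD h (mm cy)
      exact bot_of_fx (le_of_cl cl23 (by simpa using ⟨fun _ => h, fun _ => y, from_y hD y r_wy⟩))

theorem s24 : OutS (Stab [] []) :=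
  outS_of_prime (r := 23) (by decide) (by rw [card_s0]; decide) (x := ⟨_, mm cx⟩) ((Subgroup.orderOf_mk _ _).trans ox)
    fun D hD h => by
      have y := from_x hD h (mm cy)
      exact bot_of_fx (le_of_cl (cl24.trans Stab_nil.symm) (by
        simpa using ⟨fun _ => h, from_y hD y r_py, from_y hD y r_wy⟩))

end H3.SM
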