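import Mathlib
import Cfsg.Agent.H3.SM1
import Cfsg.Agent.H10.Conway
import Cfsg.Agent.H1.QTMat

/-! Perfect automorphism groups of `McL`. -/

set_option autoImplicit false
set_option linter.unusedSectionVars false
set_option linter.unusedVariables false

namespace H3.SM

open Subgroup H24 H0.Sch H9 H10 Cfsg
open scoped Pointwise

theorem cent_bound {G M X : Type*} [Group G] [Finite G] [Group M] [Finite M] [MulAction G X] (φ : M →* G)
    (hφ : Function.Injective φ) (x : X) (hx : ∀ g : G, g • x = x → g ∈ φ.range) (w : M) {s : Set X} (hs : s.Finite)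
    (h : ∀ g ∈ C{φ w}, g • x ∈ s) : Nat.card C{φ w} ≤ s.ncard * Nat.card C{w} := by
  rw [card_eq_orbit_mul C{φ w} x]
  refine Nat.mul_le_mul (Set.ncard_le_ncard (by rintro _ ⟨g, hg, rfl⟩; exact h g hg) hs) ?_
  rw [← card_map_of_injective hφ]
  refine card_le_of_le fun g hg => ?_
  obtain ⟨m, rfl⟩ := hx g hg.2
  exact ⟨m, mem_C1.2 (hφ (by rw [map_mul, map_mul]; exact mem_C1.1 hg.1)), rfl⟩

theorem cent_y (pts sets : List ℕ) (m : pm cy ∈ Stab pts sets) : Nat.card C{(⟨_, m⟩ : Stab pts sets)} ≤ 22 := by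
  have hc : validP cy = true := by decide +kernel
  refine (card_cent_le (pt 1) (Finset.univ.filter fun p => pt (dig cy (ix p)) ≠ p : Finset GolayPt)
    (fun g hg => ?_) fun g hg => Subtype.ext (by0 _ _ g g.2 hg)).trans (by rw [Set.ncard_coe_finset]; decide +kernel)
  have e : g.1 * pm cy = pm cy * g.1 := congrArg Subtype.val (mem_C1.1 hg)
  simp only [Finset.coe_filter, Finset.mem_univ, true_and, Set.mem_ofPred_eq, ← pm_apply hc]
  intro e'
  change pm cy (g.1 (pt 1)) = g.1 (pt 1) at e'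
  rw [← Equiv.Perm.mul_apply, ← e, Equiv.Perm.mul_apply, g.1.injective.eq_iff, pm_pt hc (by decide)] at e'
  exact absurd e' (by decide +kernel)

theorem cent_w (m : pm cw ∈ Stab [0, 23] []) : Nat.card C{(⟨_, m⟩ : Stab [0, 23] [])} ≤ 5 := by
  have hc : validP cw = true := by decide +kernel
  refine (card_cent_le (pt 1) (ofMask 262230 : Finset GolayPt)
    (fun g hg => ?_) fun g hg => Subtype.ext (bw22 g g.2 hg)).trans (by rw [ncard_ofMask]; decide +kernel)
  have e : Commute g.1 (pm cw) := congrArg Subtype.val (mem_C1.1 hg)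
  have k : ∀ p, p ∈ ofMask 262230 ∨ pt (dig cw (ix p)) = p ∨ ∃ o ∈ [8499969, 11535529, 4900873], isOct o = true ∧
      pt 0 ∈ ofMask o ∧ 5 ≤ (((Finset.range 5).image fun k => pt (dig (powP cw k) (ix p))) ∩ ofMask o).card := by
    decide +kernel
  rcases k (g.1 (pt 1)) with c | c | ⟨o, -, o1, o2, o3⟩
  · exact c
  · rw [← pm_apply hc, ← Equiv.Perm.mul_apply, ← e.eq, Equiv.Perm.mul_apply, g.1.injective.eq_iff,
      pm_pt hc (by decide)] at c
    exact absurd c (by decide +kernel)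
  · have a : g.1 • ofMask 8683614 = ofMask o := octad_eq_of_five ((smul_mem_octads_iff g.2.1).2
      (mem_octads_of_isOct (by decide +kernel))) (mem_octads_of_isOct o1) (o3.trans (Finset.card_le_card
        (Finset.inter_subset_inter_right fun q hq => by
          obtain ⟨k, hk, rfl⟩ := Finset.mem_image.1 hq
          rw [← pm_apply (powP_spec hc k).1, (powP_spec hc k).2, ← Equiv.Perm.mul_apply, ← (e.pow_right k).eq,
            Equiv.Perm.mul_apply, ← (powP_spec hc k).2, pm_pt (powP_spec hc k).1 (by decide)]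
          exact Finset.smul_mem_smul_finset (a := g.1) ((by decide +kernel :
            ∀ k ∈ Finset.range 5, pt (dig (powP cw k) 1) ∈ ofMask 8683614) k hk))))
    rw [← a, ← g.2.2.1 0 (by simp)] at o2
    exact absurd (Finset.smul_mem_smul_finset_iff g.1 |>.1 o2) (by decide +kernel)

theorem sum_cls {n : ℕ} (cls : GolayPt → Fin n) (c : GolayPt → ℤ) (k : Fin n → ℤ)
    (hk : ∀ j, ∑ p with cls p = j, c p = k j) (f : Fin n → ℤ) : ∑ p, c p * f (cls p) = ∑ j, k j * f j := by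
  rw [← Finset.sum_fiberwise Finset.univ cls]
  refine Finset.sum_congr rfl fun j _ => ?_
  rw [← hk, Finset.sum_mul]
  exact Finset.sum_congr rfl fun p hp => by rw [(Finset.mem_filter.1 hp).2]

theorem fix_cls {n r c : ℕ} (hc : validP c = true) (m : pm c ∈ M24) (cls : GolayPt → Fin n) (rep : Fin n → GolayPt)
    (h : ∀ p, ∃ k < r, pt (dig (powP c k) (ix p)) = rep (cls p)) {v : L} (hv : permHom ⟨_, m⟩ • v = v) :
    ∀ p, (v : V) p = (v : V) (rep (cls p)) := fun p => by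
  obtain ⟨k, -, e⟩ := h p
  have : permHom (⟨_, m⟩ ^ k) • v = v := by
    rw [map_pow]; exact MulAction.mem_stabilizer_iff.1 (pow_mem (MulAction.mem_stabilizer_iff.2 hv) k)
  have := congrFun ((permHom_coe _ v).symm.trans (congrArg Subtype.val this)) (rep (cls p))
  rw [← this, ← e, ← pm_apply (powP_spec hc k).1, (powP_spec hc k).2]
  exact congrArg _ (Equiv.symm_apply_apply _ p).symm

/-- the embedding of `M22` in `McL` -/
noncomputable def φ : Stab [0, 23] [] →* Mc := (permHom.comp (inclusion (Stab_le _ _))).codRestrict Mc fun σ =>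
  H22_le_Mc (mem_H22.2 ((mem_stab_UU'V _).2 ⟨_, σ.2, rfl⟩))

theorem φ_inj : Function.Injective φ := fun a b e =>
  inclusion_injective _ (permHom_inj (congrArg Subtype.val e))

theorem φ_stab (g : Mc) (h : g • vU' = vU') : g ∈ φ.range := by
  obtain ⟨σ, h1, h2⟩ := (mem_stab_UU'V g.1).1 ⟨g.2.1, h, g.2.2⟩
  exact ⟨⟨σ, h1⟩, Subtype.ext h2.symm⟩

instance : Finite Mc := Nat.finite_of_card_ne_zero (by rw [card_Mc]; norm_num)

theorem orb (w : Stab [0, 23] []) (g : Mc) (hg : g ∈ C{φ w}) : sqNorm ((g • vU' : L) : V) = 32 ∧ dU (g • vU') = 0 ∧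
    dV (g • vU') = -16 ∧ permHom (inclusion (Stab_le _ _) w) • g • vU' = g • vU' :=
  ⟨(co_norm g.1 _).trans norm_vU', (dot_of_fix g.2.1 _).trans dU_vU', (dot_of_fix g.2.2 _).trans dV_vU', by
    change φ w • g • vU' = _
    rw [← mul_smul, ← mem_C1.1 hg, mul_smul]
    exact congrArg _ ((mem_stab_UU'V _).2 ⟨_, w.2, rfl⟩).2.1⟩

def cl4 (p : GolayPt) : Fin 4 := [0, 2, 2, 2, 2, 3, 2, 3, 2, 2, 3, 3, 2, 2, 3, 3, 2, 3, 2, 3, 3, 3, 3, 1].getD (ix p) 0
def cl8 (p : GolayPt) : Fin 8 := [0, 4, 4, 1, 4, 6, 4, 6, 5, 5, 6, 7, 5, 5, 7, 2, 5, 7, 4, 7, 6, 6, 7, 3].getD (ix p) 0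

theorem cls_bound {n : ℕ} (cls : GolayPt → Fin n) (l : List (Fin n → ℤ)) (w : Stab [0, 23] [])
    (h : ∀ v : L, sqNorm (v : V) = 32 → dU v = 0 → dV v = -16 → permHom (inclusion (Stab_le _ _) w) • v = v →
      ∃ a ∈ l, (v : V) = fun p => a (cls p)) : Nat.card C{φ w} ≤ l.length * Nat.card C{w} := by
  classical
  let s : Finset V := (l.map fun a p => a (cls p)).toFinset
  refine (cent_bound φ φ_inj vU' φ_stab _ (s := Subtype.val ⁻¹' (s : Set V))
    (s.finite_toSet.preimage Subtype.val_injective.injOn) fun g hg => ?_).trans (Nat.mul_le_mul_right _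
      ((Set.ncard_le_ncard_of_injOn (t := (s : Set V)) Subtype.val (fun _ h => h) Subtype.val_injective.injOn).trans ?_))
  · obtain ⟨h1, h2, h3, h4⟩ := orb _ g hg
    obtain ⟨a, ha, e⟩ := h _ h1 h2 h3 h4
    exact List.mem_toFinset.2 (List.mem_map.2 ⟨a, ha, e.symm⟩)
  · rw [Set.ncard_coe_finset]
    exact (List.toFinset_card_le _).trans (List.length_map _).le

theorem sq_cls {n : ℕ} (cls : GolayPt → Fin n) (k : Fin n → ℤ) (hk : ∀ j, ∑ p with cls p = j, (1 : ℤ) = k j)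
    (f : Fin n → ℤ) : sqNorm (fun p => f (cls p)) = ∑ j, k j * f j ^ 2 := by
  rw [← sum_cls cls 1 k hk fun j => f j ^ 2]; simp [sqNorm]

theorem mc_y (m : pm cy ∈ Stab [0, 23] []) : Nat.card C{φ ⟨_, m⟩} ≤ 44 := by
  refine (cls_bound cl4 [![4, -4, 0, 0], ![-4, 4, 0, 0]] _ fun v h1 h2 _ h4 => ?_).trans
    (Nat.mul_le_mul_left 2 (cent_y _ _ m))
  have e := funext (fix_cls (r := 11) (by decide +kernel) _ cl4 ![pt 0, pt 23, pt 1, pt 5] (by decide +kernel) h4)
  rw [dU_eq] at h2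
  rw [e, sq_cls cl4 ![1, 1, 11, 11] (by decide +kernel) fun j => (v : V) (![pt 0, pt 23, pt 1, pt 5] j)] at h1
  have : ∀ a b c d : ℤ, a ^ 2 + b ^ 2 + 11 * c ^ 2 + 11 * d ^ 2 = 32 → 4 * b + 4 * a = 0 →
      ![a, b, c, d] ∈ [![4, -4, 0, 0], ![-4, 4, 0, 0]] := fun a b c d h1 h2 => by
    obtain rfl : b = -a := by omega
    have ha : -4 ≤ a ∧ a ≤ 4 := by constructor <;> nlinarith [sq_nonneg c, sq_nonneg d]
    have hc : -1 ≤ c ∧ c ≤ 1 := by constructor <;> nlinarith [sq_nonneg a, sq_nonneg d]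
    have hd : -1 ≤ d ∧ d ≤ 1 := by constructor <;> nlinarith [sq_nonneg a, sq_nonneg c]
    obtain ⟨_, _⟩ := ha; obtain ⟨_, _⟩ := hc; obtain ⟨_, _⟩ := hd
    interval_cases a <;> interval_cases c <;> interval_cases d <;> first | exact absurd h1 (by decide) | decide
  refine ⟨_, this (v.1 (pt 0)) (v.1 (pt 23)) _ _ (by simpa [Fin.sum_univ_four] using h1) h2,
    e.trans (funext fun p => ?_)⟩
  generalize cl4 p = j
  fin_cases j <;> rfl

theorem sol8 : ∀ a ∈ Finset.Icc (-4 : ℤ) 4, ∀ b ∈ Finset.Icc (-5 : ℤ) 5, ∀ c ∈ Finset.Icc (-2 : ℤ) 2,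
    ∀ d ∈ Finset.Icc (-2 : ℤ) 2, ∀ e ∈ Finset.Icc (-2 : ℤ) 2, ∀ f ∈ Finset.Icc (-2 : ℤ) 2,
    2 * a ^ 2 + b ^ 2 + (4 * a - b - 5 * (c + d + e + f) + 16) ^ 2 + 5 * (c ^ 2 + d ^ 2 + e ^ 2 + f ^ 2) = 32 →
    (-a + c + d + e + 4 * f) % 4 = 0 → (a + (4 * a - b - 5 * (c + d + e + f) + 16) + c + 2 * d + e + 2 * f) % 4 = 0 →
    (c + 2 * d + 3 * f) % 4 = 0 → [a, b, c, d, e, f] ∈ [[-4, 0, 0, 0, 0, 0], [-2, -2, 0, 0, 2, 0],
      [-2, 0, 0, 2, 0, 0], [-1, -1, 1, 1, 1, -1], [-1, 3, 1, 1, 1, -1]] := by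
  decide +kernel

theorem mc_w (m : pm cw ∈ Stab [0, 23] []) : Nat.card C{φ ⟨_, m⟩} ≤ 25 := by
  refine (cls_bound cl8 [![-4, 0, 0, 4, 0, 0, 0, 0], ![-2, -2, 0, 2, 0, 0, 2, 0], ![-2, 0, -2, 2, 0, 2, 0, 0],
    ![-1, -1, 3, 1, 1, 1, 1, -1], ![-1, 3, -1, 1, 1, 1, 1, -1]] _ fun v h1 h2 h3 h4 => ?_).trans
    (Nat.mul_le_mul_left 5 (cent_w m))
  let f : Fin 8 → ℤ := fun j => (v : V) (![pt 0, pt 3, pt 15, pt 23, pt 1, pt 8, pt 5, pt 11] j)
  have e : (v : V) = fun p => f (cl8 p) := funext (fix_cls (r := 5) (by decide +kernel) _ cl8 _ (by decide +kernel) h4)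
  have oc : ∀ (o : ℕ) (k : Fin 8 → ℤ), isOct o = true → (∀ j, ∑ p with cl8 p = j, two (ofMask o) p = k j) →
      8 ∣ ∑ j, k j * f j := fun o k ho hk => by
    have := eight_dvd_dot (two_LD (mem_octads_of_isOct ho).1).mem v.2
    rwa [e, dotInt, sum_cls cl8 _ k hk] at this
  have o1 := oc 13262980 ![0, 0, 0, 2, 2, 2, 2, 8] (by decide +kernel) (by decide +kernel)
  have o2 := oc 1302533 ![2, 0, 2, 0, 2, 4, 2, 4] (by decide +kernel) (by decide +kernel)
  have o3 := oc 13062145 ![2, 0, 0, 2, 2, 4, 0, 6] (by decide +kernel) (by decide +kernel)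
  have s1 := sum_cls cl8 1 ![1, 1, 1, 1, 5, 5, 5, 5] (by decide +kernel) f
  rw [dU_eq] at h2
  rw [dV_eq] at h3
  change 4 * f 3 + 4 * f 0 = 0 at h2
  change -4 * f 3 - _ = -16 at h3
  rw [e] at h3
  rw [e, sq_cls cl8 ![1, 1, 1, 1, 5, 5, 5, 5] (by decide +kernel)] at h1
  simp only [Pi.one_apply, one_mul] at s1
  rw [s1] at h3
  have k : ∃ a ∈ [![-4, 0, 0, 4, 0, 0, 0, 0], ![-2, -2, 0, 2, 0, 0, 2, 0], ![-2, 0, -2, 2, 0, 2, 0, 0],
    ![-1, -1, 3, 1, 1, 1, 1, -1], ![-1, 3, -1, 1, 1, 1, 1, -1]], f = a := by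
    have ef : f = ![f 0, f 1, f 2, f 3, f 4, f 5, f 6, f 7] := by funext j; fin_cases j <;> rfl
    rw [ef]
    simp [Fin.sum_univ_eight] at o1 o2 o3 h1 h3
    generalize f 0 = a, f 1 = b, f 2 = b', f 3 = a', f 4 = c, f 5 = d, f 6 = e, f 7 = g at *
    obtain rfl : a' = -a := by omega
    obtain rfl : b' = 4 * a - b - 5 * (c + d + e + g) + 16 := by omega
    have := sq_nonneg a; have := sq_nonneg b; have := sq_nonneg c; have := sq_nonneg d; have := sq_nonneg e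
    have := sq_nonneg g; have := sq_nonneg (4 * a - b - 5 * (c + d + e + g) + 16)
    have := sol8 a (Finset.mem_Icc.2 (by constructor <;> nlinarith)) b (Finset.mem_Icc.2 (by constructor <;> nlinarith))
      c (Finset.mem_Icc.2 (by constructor <;> nlinarith)) d (Finset.mem_Icc.2 (by constructor <;> nlinarith))
      e (Finset.mem_Icc.2 (by constructor <;> nlinarith)) g (Finset.mem_Icc.2 (by constructor <;> nlinarith))
      (by nlinarith) (by omega) (by omega) (by omega)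
    simp only [List.mem_cons, List.cons.injEq, List.not_mem_nil, or_false, and_true] at this
    rcases this with h | h | h | h | h <;> obtain ⟨rfl, rfl, rfl, rfl, rfl, rfl⟩ := h <;> simp
  obtain ⟨a, ha, rfl⟩ := k
  exact ⟨_, ha, e⟩

theorem outS_Mc (hna : ¬ IsMulCommutative Mc) : OutS Mc := by
  have := simple_Mc
  refine outS_of_prime (r := 11) (by decide) (by rw [card_Mc]; decide) (x := φ ⟨_, mm cy⟩)
    ((orderOf_injective φ φ_inj _).trans ((Subgroup.orderOf_mk _ _).trans oy)) fun D hD h => ?_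
  have r : ∀ {u c k : ℕ} (m1 : pm u ∈ Stab [0, 23] []) (m2 : pm c ∈ Stab [0, 23] []),
      pm u * pm c = pm c ^ k * pm u → φ ⟨_, m1⟩ ∈ N[zpowers (φ ⟨_, m2⟩)] := fun {u c k} m1 m2 e =>
    mem_norm_zp (k := k) (by rw [← map_mul, ← map_pow, ← map_mul]; exact congrArg φ (Subtype.ext e))
  have w : φ ⟨_, mm cw⟩ ∈ Fx D := norm_fx hD h (by
    rw [orderOf_injective φ φ_inj, Subgroup.orderOf_mk, oy]; exact (mc_y _).trans_lt (by decide)) (r _ _ r_wy)
  have u : φ ⟨_, mm u22⟩ ∈ Fx D := norm_fx hD w (by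
    rw [orderOf_injective φ φ_inj, Subgroup.orderOf_mk, ow]; exact (mc_w _).trans_lt (by decide)) (r _ _ r_22)
  have t : ⊤ ≤ (Fx D).comap φ := le_of_cl cl22 (by simpa using ⟨fun _ => h, fun _ => w, fun _ => u⟩)
  refine (eq_bot_of_tr_odd_index hna hD (H := φ.range) ?_ (tr_iff.2 ?_)).le.trans bot_le
  · have := φ.range.card_mul_index
    rw [card_Mc, ← Nat.card_congr (MonoidHom.ofInjective φ_inj).toEquiv, card_s2] at this
    rw [show φ.range.index = 2025 by omega]; decide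
  · rintro _ ⟨g, rfl⟩; exact t (mem_top g)

end H3.SM
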