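import Mathlib
import Cfsg.Agent.H12.NGC0
import Cfsg.Agent.H26.Coprime

/-! N-groups, case (A): elementary helpers (four-groups, normal closures). -/

set_option autoImplicit false
set_option linter.unusedSectionVars false
set_option linter.unusedVariables false

namespace H3.NG

open Subgroup Cfsg H24 H26 H11.ZN H12.NG

universe u v w

variable {G : Type u} [Group G] {S V K H X Y E : Subgroup G} {a b c z x y v w e g m : G}

theorem inv_sq (h : x * x = 1) : x⁻¹ = x := inv_eq_of_mul_eq_one_right h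

theorem mml (h : x * x = 1) (y : G) : x * (x * y) = y := by rw [← mul_assoc, h, one_mul]

theorem mmr (h : x * x = 1) (y : G) : y * x * x = y := by rw [mul_assoc, h, mul_one]

theorem cjne (g : G) (h : x ≠ 1) : g * x * g⁻¹ ≠ 1 := fun e => h (conj_eq_one_iff'.1 e)

theorem cjc (h : g * x = x * g) : g * x * g⁻¹ = x := by rw [h]; group

theorem ccj (h : g * x * g⁻¹ = x) : g * x = x * g := by
  calc g * x = g * x * g⁻¹ * g := by group
    _ = x * g := by rw [h]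

theorem cjm (g x y : G) : g * (x * y) * g⁻¹ = g * x * g⁻¹ * (g * y * g⁻¹) := by group

theorem mem_zp2 (h : z * z = 1) : x ∈ zpowers z ↔ x = 1 ∨ x = z := by
  refine ⟨?_, by rintro (rfl | rfl); exacts [one_mem _, mem_zpowers _]⟩
  rintro ⟨k, rfl⟩
  have h2 : ∀ k : ℤ, z ^ (2 * k) = 1 := fun k => by rw [zpow_mul, zpow_two, h, one_zpow]
  obtain ⟨j, rfl | rfl⟩ := Int.even_or_odd' k
  · exact Or.inl (h2 j)
  · exact Or.inr (by simp [zpow_add, h2 j])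

theorem ea_sq (h : EA V) (hx : x ∈ V) : x * x = 1 := by rw [← pow_two]; exact h.2 x hx

theorem ea_abl (h : EA V) : Abl V := h.1

theorem ea_comm (h : EA V) (hx : x ∈ V) (hy : y ∈ V) : x * y = y * x := (ea_abl h).comm hx hy

theorem ea_inv (h : EA V) (hx : x ∈ V) : x⁻¹ = x := inv_sq (ea_sq h hx)

theorem ea_of_sq (h : ∀ x ∈ V, x * x = 1) : EA V := by
  refine ⟨abl_iff.2 (le_C_iff.2 fun a ha b hb => ?_), fun a ha => by rw [pow_two, h a ha]⟩
  rw [← inv_sq (h _ (mul_mem ha hb)), mul_inv_rev, inv_sq (h a ha), inv_sq (h b hb)]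

theorem ea_le (h : EA V) (hle : X ≤ V) : EA X := ea_of_sq fun _ hx => ea_sq h (hle hx)

theorem ea_cj (h : EA V) (g : G) : EA (cj g V) := ea_of_sq fun x hx => by
  obtain ⟨y, hy, rfl⟩ := mem_cj'.1 hx
  rw [← cjm, ea_sq h hy]; group

theorem ea_mul_ne (h : EA V) (hx : x ∈ V) (hne : x ≠ y) : x * y ≠ 1 := fun e =>
  hne (by rw [← inv_eq_of_mul_eq_one_right e, ea_inv h hx])

theorem le_ncl (hg : g ∈ H) : cj g V ≤ ncl V H := le_iSup₂_of_le g hg le_rfl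

theorem ncl_le (h : ∀ g ∈ H, cj g V ≤ X) : ncl V H ≤ X := iSup₂_le h

theorem self_le_ncl : V ≤ ncl V H := by simpa using le_ncl (V := V) (one_mem H)

theorem ncl_le_of_norm (h1 : V ≤ X) (h2 : H ≤ N[X]) : ncl V H ≤ X :=
  ncl_le fun g hg => cj_le_of_mem_N h1 (h2 hg)

theorem cj_ncl (g : G) (V H : Subgroup G) : cj g (ncl V H) = ncl (cj g V) (cj g H) := by
  have key : ∀ (g : G) (V H : Subgroup G), cj g (ncl V H) ≤ ncl (cj g V) (cj g H) := fun g V H =>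
    cj_le_iff.2 (ncl_le fun k hk => cj_le_iff.1 (by
      have := le_ncl (V := cj g V) (conj_mem_cj g hk)
      rwa [← cj_mul, inv_mul_cancel_right, cj_mul] at this))
  refine le_antisymm (key g V H) (le_cj_iff.2 ?_)
  simpa using key g⁻¹ (cj g V) (cj g H)

theorem le_sup3 {X : G → Subgroup G} (hy : y ∈ V) (h1 : y ≠ 1) : X y ≤ ⨆ y ∈ V, ⨆ _ : y ≠ 1, X y :=
  le_iSup₂_of_le y hy (le_iSup_of_le h1 le_rfl)

theorem sup3_le {X : G → Subgroup G} (h : ∀ y ∈ V, y ≠ 1 → X y ≤ Y) :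
    (⨆ y ∈ V, ⨆ _ : y ≠ 1, X y) ≤ Y := iSup₂_le fun y hy => iSup_le (h y hy)

theorem inf3_le {X : G → Subgroup G} (hy : y ∈ V) (h1 : y ≠ 1) : (⨅ y ∈ V, ⨅ _ : y ≠ 1, X y) ≤ X y :=
  iInf₂_le_of_le y hy (iInf_le _ h1)

theorem le_inf3 {X : G → Subgroup G} (h : ∀ y ∈ V, y ≠ 1 → Y ≤ X y) :
    Y ≤ ⨅ y ∈ V, ⨅ _ : y ≠ 1, X y := le_iInf₂ fun y hy => le_iInf (h y hy)

theorem cm_mem (hx : x ∈ X) (hy : y ∈ Y) : x * y * x⁻¹ * y⁻¹ ∈ ⁅X, Y⁆ :=
  commutator_mem_commutator hx hy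

theorem cm_le (h : ∀ x ∈ X, ∀ y ∈ Y, x * y * x⁻¹ * y⁻¹ ∈ K) : ⁅X, Y⁆ ≤ K := commutator_le.2 h

theorem cm_symm (h : x * y * x⁻¹ * y⁻¹ ∈ K) : y * x * y⁻¹ * x⁻¹ ∈ K := by
  simpa only [mul_inv_rev, inv_inv, mul_assoc] using inv_mem h

theorem nil_img {G' : Type v} {G'' : Type w} [Group G'] [Group G''] {D D' : Subgroup G}
    {f : D →* G'} {f' : D' →* G''} (h1 : X ≤ D) (h2 : X ≤ D')
    (h : ∀ x ∈ X, ap f x = 1 → ap f' x = 1) (hn : Nil (img f X)) : Nil (img f' X) := by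
  let φ : X →* img f X := (f.subgroupMap (X.subgroupOf D)).comp
    (subgroupOfEquivOfLe h1).symm.toMonoidHom
  let φ' : X →* img f' X := (f'.subgroupMap (X.subgroupOf D')).comp
    (subgroupOfEquivOfLe h2).symm.toMonoidHom
  have hφ : Function.Surjective φ :=
    (f.subgroupMap_surjective _).comp (subgroupOfEquivOfLe h1).symm.surjective
  have hφ' : Function.Surjective φ' :=
    (f'.subgroupMap_surjective _).comp (subgroupOfEquivOfLe h2).symm.surjective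
  have hk : φ.ker ≤ φ'.ker := fun x hx => Subtype.ext (by
    have := h x x.2 (by rw [ap_of_mem _ (h1 x.2)]; exact congrArg Subtype.val hx)
    rwa [ap_of_mem _ (h2 x.2)] at this)
  refine Group.nilpotent_of_surjective (φ.liftOfSurjective hφ ⟨φ', hk⟩) fun y => ?_
  obtain ⟨x, rfl⟩ := hφ' y
  exact ⟨φ x, φ.liftOfRightInverse_comp_apply _ _ _ x⟩

variable [Finite G]

theorem mem_N_sup3 {X : G → Subgroup G} (hg : g ∈ N[V])
    (h : ∀ y ∈ V, y ≠ 1 → X (g * y * g⁻¹) = cj g (X y)) : g ∈ N[⨆ y ∈ V, ⨆ _ : y ≠ 1, X y] :=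
  mem_N_of_cj_le (cj_le_iff.2 (sup3_le fun y hy h1 => cj_le_iff.1 (by
    rw [← h y hy h1]; exact le_sup3 (conj_mem hg hy) (cjne g h1))))

theorem mem_N_inf3 {X : G → Subgroup G} (hg : g ∈ N[V])
    (h : ∀ y ∈ V, y ≠ 1 → X (g * y * g⁻¹) = cj g (X y)) : g ∈ N[⨅ y ∈ V, ⨅ _ : y ≠ 1, X y] :=
  mem_N_of_le_cj (le_cj_iff.2 (le_inf3 fun y hy h1 => le_cj_iff.1 (by
    rw [← h y hy h1]; exact inf3_le (conj_mem hg hy) (cjne g h1))))

theorem norm_ncl (V H : Subgroup G) : H ≤ N[ncl V H] := fun g hg =>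
  mem_N_of_cj_le (cj_le_iff.2 (ncl_le fun k hk => cj_le_iff.1 (by
    rw [← cj_mul]; exact le_ncl (mul_mem hg hk))))

theorem two_of_odd (h : ∀ x ∈ X, Odd (orderOf x) → x = 1) : IsPi {2} X := by
  rw [isPi_def]
  intro p hp hd
  obtain ⟨x, hx, e⟩ := exists_orderOf_eq hp hd
  by_contra h2
  have := h x hx (e ▸ hp.odd_of_ne_two h2)
  rw [this, orderOf_one] at e
  exact hp.one_lt.ne e

theorem one_of_odd (hX : IsPi {2} X) (hx : x ∈ X) (h : Odd (orderOf x)) : x = 1 := by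
  by_contra h1
  exact (Nat.not_even_iff_odd.2 h) (even_iff_two_dvd.2 ((hX.piElt hx).dvd_orderOf h1))

theorem mem_of_sq (h : Odd (orderOf x)) (hx : x * x ∈ X) : x ∈ X := by
  obtain ⟨n, hn⟩ := h
  have : x = (x * x) ^ (n + 1) := by
    rw [← pow_two, ← pow_mul, show 2 * (n + 1) = (2 * n + 1) + 1 by ring, pow_succ, ← hn,
      pow_orderOf_eq_one, one_mul]
  rw [this]; exact pow_mem hx _

theorem odd_of_piElt (h : PiElt {2}ᶜ x) : Odd (orderOf x) := by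
  rw [PiElt, piNat_compl_singleton two_prime, Nat.two_dvd_ne_zero] at h
  exact Nat.odd_iff.2 h

theorem piElt_of_odd (h : Odd (orderOf x)) : PiElt {2}ᶜ x := by
  rw [PiElt, piNat_compl_singleton two_prime, Nat.two_dvd_ne_zero]
  exact Nat.odd_iff.1 h

theorem zp_two (h : x * x = 1) : IsPi {2} (zpowers x) :=
  (piElt_of_pow_eq_one (piNat_self two_prime) (by rw [pow_two, h])).isPi

theorem card_zp2 (h : x * x = 1) (h1 : x ≠ 1) : ♯(zpowers x) = 2 := by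
  rw [card_zpowers', orderOf_eq_prime (by rw [pow_two, h]) h1]

theorem exists_invol (hX : IsPi {2} X) (h : X ≠ ⊥) : ∃ x ∈ X, x ≠ 1 ∧ x * x = 1 := by
  obtain ⟨x, hx, ho⟩ := exists_orderOf_eq two_prime (hX.dvd_card h)
  exact ⟨x, hx, fun e => by simp [e] at ho, by rw [← pow_two, ← ho, pow_orderOf_eq_one]⟩

theorem four_cases (hV : EA V) (h4 : ♯V = 4) (ha : a ∈ V) (hb : b ∈ V) (a1 : a ≠ 1) (b1 : b ≠ 1)
    (hab : a ≠ b) (hx : x ∈ V) : x = 1 ∨ x = a ∨ x = b ∨ x = a * b := by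
  have h1 : zpowers a ⊔ zpowers b = V := eq_of_card_eq (sup_le (zpowers_le.2 ha) (zpowers_le.2 hb)) (by
    rw [card_sup_of_inf ((ea_abl hV).norm (zpowers_le.2 hb) (zpowers_le.2 ha)) (eq_bot_iff.2 fun x hx => by
      rcases (mem_zp2 (ea_sq hV ha)).1 hx.1 with e | e
      · exact e
      rcases (mem_zp2 (ea_sq hV hb)).1 hx.2 with e' | e'
      · exact e'
      · exact absurd (e.symm.trans e') hab), card_zp2 (ea_sq hV ha) a1, card_zp2 (ea_sq hV hb) b1, h4])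
  obtain ⟨s, hs, t, ht, rfl⟩ := (mem_sup_of_norm ((ea_abl hV).norm (zpowers_le.2 hb)
    (zpowers_le.2 ha))).1 (h1.ge hx)
  rcases (mem_zp2 (ea_sq hV ha)).1 hs with rfl | rfl <;> rcases (mem_zp2 (ea_sq hV hb)).1 ht with rfl | rfl <;>
    simp

theorem four_ex (h4 : ♯V = 4) (h : z * z = 1) : ∃ w ∈ V, w ≠ 1 ∧ w ≠ z := by
  by_contra hn
  have h1 : V ≤ zpowers z := fun x hx => (mem_zp2 h).2 (by
    by_contra e
    exact hn ⟨x, hx, fun e' => e (Or.inl e'), fun e' => e (Or.inr e')⟩)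
  have h2 := card_le h1
  have h3 : ♯(zpowers z) ≤ 2 := by
    rw [card_zpowers']; exact orderOf_le_of_pow_eq_one two_pos (by rw [pow_two, h])
  omega

section four

variable (hV : EA V) (h4 : ♯V = 4)
include hV h4

theorem four_cent (hv : v ∈ V) (hw : w ∈ V) (h1 : v ≠ 1) (h2 : w ≠ 1) (hne : v ≠ w)
    (c1 : g * v = v * g) (c2 : g * w = w * g) : g ∈ C[V] := mem_C'.2 fun x hx => by
  rcases four_cases hV h4 hv hw h1 h2 hne hx with e | e | e | e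
  · simp [e]
  · rwa [e]
  · rwa [e]
  · rw [e, ← mul_assoc, c1, mul_assoc, c2, mul_assoc]

theorem four_mv (hv : v ∈ V) (hw : w ∈ V) (h1 : v ≠ 1) (h2 : w ≠ 1) (hne : v ≠ w) (hN : g ∈ N[V])
    (hg : g ∈ C{v}) (hn : g ∉ C[V]) : g * w * g⁻¹ = v * w := by
  rcases four_cases hV h4 hv hw h1 h2 hne (conj_mem hN hw) with e | e | e | e
  · exact absurd e (cjne g h2)
  · rw [← mem_C1_iff_conj.1 hg, mul_left_inj, mul_right_inj] at e
    exact absurd e.symm hne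
  · exact absurd (four_cent hV h4 hv hw h1 h2 hne (mem_C1.1 hg) (ccj e)) hn
  · exact e

theorem four_cm (hv : v ∈ V) (h1 : v ≠ 1) (hN : g ∈ N[V]) (hg : g ∈ C{v}) (hw : w ∈ V) :
    g * w * g⁻¹ * w⁻¹ ∈ zpowers v := by
  by_cases hn : g ∈ C[V]
  · simp [conj_eq_of_mem_C hn hw]
  by_cases h2 : w = 1
  · simp [h2]
  by_cases h3 : v = w
  · rw [← h3, mem_C1_iff_conj.1 hg]; simp
  · rw [four_mv hV h4 hv hw h1 h2 h3 hN hg hn]; simp

theorem four_ix (hv : v ∈ V) (h1 : v ≠ 1) (ha : a ∈ N[V]) (ha' : a ∈ C{v}) (hb : b ∈ N[V])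
    (hb' : b ∈ C{v}) (n1 : a ∉ C[V]) (n2 : b ∉ C[V]) : a * b ∈ C[V] := by
  obtain ⟨w, hw, h2, hne⟩ := four_ex h4 (ea_sq hV hv)
  refine four_cent hV h4 hv hw h1 h2 hne.symm (mem_C1.1 (mul_mem ha' hb')) (ccj ?_)
  calc _ = a * (b * w * b⁻¹) * a⁻¹ := by group
    _ = _ := by
      rw [four_mv hV h4 hv hw h1 h2 hne.symm hb hb' n2, cjm,
        four_mv hV h4 hv hw h1 h2 hne.symm ha ha' n1, mem_C1_iff_conj.1 ha', mml (ea_sq hV hv)]

theorem four_odd (hv : v ∈ V) (h1 : v ≠ 1) (hN : g ∈ N[V]) (hg : g ∈ C{v}) (ho : Odd (orderOf g)) :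
    g ∈ C[V] := by
  by_contra hn
  exact hn (mem_of_sq ho (four_ix hV h4 hv h1 hN hg hN hg hn hn))

theorem four_idx (hv : v ∈ V) (h1 : v ≠ 1) (hX : X ≤ N[V]) (hX' : X ≤ C{v}) (hn : ¬ X ≤ C[V]) :
    (X ⊓ C[V]).relIndex X = 2 := by
  obtain ⟨x, hx, hx'⟩ := SetLike.not_le_iff_exists.1 hn
  rw [inf_comm, inf_relIndex_right, relIndex_eq_two_iff_exists_notMem_and]
  refine ⟨x, hx, hx', fun b hb => ?_⟩
  by_cases e : b ∈ C[V]
  · exact Or.inr e
  · exact Or.inl (four_ix hV h4 hv h1 (hX hb) (hX' hb) (hX hx) (hX' hx) e hx')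

end four

end H3.NG
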