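import Mathlib
import Cfsg.Agent.H1.WS1
import Cfsg.Agent.H4.Induce
import Cfsg.Agent.H13.WBasic

/-! Sums over unions of conjugates of trivial intersection sets; 2-sections. -/

set_option autoImplicit false
set_option linter.unusedSectionVars false

namespace H3.QC

open H24 Cfsg Subgroup Finset H1.WS

universe u

variable {X : Type u} [Group X]

/-- `g` lies in the 2-section of `w` in `K` -/
def Sec (K : Subgroup X) (w g : X) : Prop :=
  ∃ h ∈ K, ∃ y ∈ K ⊓ C{w}, Odd (orderOf y) ∧ h * g * h⁻¹ = w * y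

theorem Sec.mem {K : Subgroup X} {w g : X} (h : Sec K w g) (hw : w ∈ K) : g ∈ K := by
  obtain ⟨k, hk, y, hy, -, e⟩ := h
  exact (conj_mem_iff (norm_self K hk)).1 (e ▸ mul_mem hw hy.1)

theorem Sec.conj [Finite X] {K : Subgroup X} {w w' g : X} (h : Sec K w g) (h' : Sec K w' g)
    (hw : PiElt {2} w) (hw' : PiElt {2} w') : ∃ k ∈ K, k * w * k⁻¹ = w' := by
  obtain ⟨k, hk, y, hy, ho, e⟩ := h
  obtain ⟨k', hk', y', hy', ho', e'⟩ := h'
  refine ⟨k' * k⁻¹, mul_mem hk' (inv_mem hk), (piElt_decomp_unique (hw.conj _)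
    (odd_iff_pi.1 (odd_conj ho (k' * k⁻¹))) hw' (odd_iff_pi.1 ho') ?_ (mem_C1.1 hy'.2).symm ?_).1⟩
  · rw [conj_mul, conj_mul, mem_C1.1 hy.2]
  · rw [conj_mul, ← e, ← e']; group

theorem Sec.of_conj {K : Subgroup X} {w g k : X} (h : Sec K w g) (hk : k ∈ K) :
    Sec K (k * w * k⁻¹) g := by
  obtain ⟨l, hl, y, hy, ho, e⟩ := h
  refine ⟨k * l, mul_mem hk hl, k * y * k⁻¹, ⟨conj_mem (norm_self K hk) hy.1, ?_⟩, odd_conj ho k, ?_⟩
  · rw [← cj_C1]; exact conj_mem_cj k hy.2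
  · rw [conj_mul, ← e]; group

variable [Fintype X]

open Classical in
/-- the elements with a given property -/
noncomputable def FF (p : X → Prop) : Finset X := univ.filter p

@[simp] theorem mem_FF {p : X → Prop} {x : X} : x ∈ FF p ↔ p x := by simp [FF]

theorem sum_FF (p : X → Prop) [DecidablePred p] (F : X → ℂ) :
    ∑ g ∈ FF p, F g = ∑ g, if p g then F g else 0 := by
  rw [← sum_filter]; congr 1; ext; simp

theorem sum_ti {K N : Subgroup X} (hN : N ≤ K) {A : X → Prop}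
    (ti : ∀ a, A a → ∀ k ∈ K, A (k * a * k⁻¹) ↔ k ∈ N) {F : X → ℂ}
    (hF : ∀ a, A a → ∀ k ∈ K, F (k * a * k⁻¹) = F a) :
    ♯N * ∑ g ∈ FF fun g => ∃ k ∈ K, A (k * g * k⁻¹), F g = ♯K * ∑ a ∈ FF A, F a := by
  classical
  have h1 : ∀ k ∈ FS K, ∑ a ∈ FF A, F a = ∑ g, if A (k * g * k⁻¹) then F g else 0 := fun k hk => by
    rw [sum_FF, ← FS_top, ← sum_conj (h := k) (by simp)]
    refine sum_congr rfl fun g _ => ?_
    split_ifs with h
    · simpa [mul_assoc] using (hF _ h _ (inv_mem (mem_FS.1 hk))).symm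
    · rfl
  rw [← card_FS K, ← nsmul_eq_mul #(FS K), ← sum_const, sum_congr rfl h1, sum_comm, sum_FF, mul_sum]
  refine sum_congr rfl fun g _ => ?_
  rw [← sum_filter, sum_const, nsmul_eq_mul]
  split_ifs with h
  · obtain ⟨l, hl, h⟩ := h
    congr 2
    rw [← card_FS]
    refine card_bij' (fun n _ => n * l) (fun k _ => k * l⁻¹) (fun n hn => ?_) (fun k hk => ?_) (by simp) (by simp)
    · have := mem_FS.1 hn
      refine mem_filter.2 ⟨mem_FS.2 (mul_mem (hN this) hl), ?_⟩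
      simpa [mul_assoc] using (ti _ h n (hN this)).2 this
    · rw [mem_filter, mem_FS] at hk
      exact mem_FS.2 ((ti _ h _ (mul_mem hk.1 (inv_mem hl))).1 (by simpa [mul_assoc] using hk.2))
  · rw [filter_eq_empty_iff.2 fun k hk e => h ⟨k, mem_FS.1 hk, e⟩]; simp

theorem card_sec {K O P : Subgroup X} {w : X} (hw : PiElt {2} w) (h : SD O P (K ⊓ C{w}))
    (hO : Odd ♯O) (hP : IsPi {2} P) : (♯P : ℂ) * #(FF (Sec K w)) = ♯K := by
  have h1 := sum_ti (K := K) (N := K ⊓ C{w}) inf_le_left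
    (A := fun a => ∃ y ∈ K ⊓ C{w}, Odd (orderOf y) ∧ a = w * y) (F := fun _ => 1) (by
      rintro _ ⟨y, hy, ho, rfl⟩ k hk
      refine ⟨fun ⟨y', hy', ho', e⟩ => ⟨hk, mem_C1_iff_conj.2 (piElt_decomp_unique (hw.conj _)
        (odd_iff_pi.1 (odd_conj ho k)) hw (odd_iff_pi.1 ho') ?_ (mem_C1.1 hy'.2).symm ?_).1⟩,
        fun e => ⟨_, conj_mem (norm_self _ e) hy, odd_conj ho k, ?_⟩⟩
      · rw [conj_mul, conj_mul, mem_C1.1 hy.2]
      · rw [conj_mul, e]
      · rw [← conj_mul, mem_C1_iff_conj.1 e.2]) (fun _ _ _ _ => rfl)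
  have h2 : #(FF fun a => ∃ y ∈ K ⊓ C{w}, Odd (orderOf y) ∧ a = w * y) = ♯O := by
    rw [← card_FS]
    refine (card_bij' (fun n _ => w * n) (fun k _ => w⁻¹ * k) (fun n hn => ?_) (fun k hk => ?_) (by simp)
      (by simp)).symm
    · exact mem_FF.2 ⟨n, h.left_le (mem_FS.1 hn), H13.Dih.odd_orderOf hO (mem_FS.1 hn), rfl⟩
    · obtain ⟨y, hy, ho, rfl⟩ := mem_FF.1 hk
      simpa using H13.W.mem_of_odd_sup hO hP h.norm (h.sup.ge hy) ho
  rw [sum_const, sum_const, h2, h.card] at h1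
  have : (♯O : ℂ) ≠ 0 := by exact_mod_cast (card_pos O).ne'
  refine mul_left_cancel₀ this ?_
  simp only [nsmul_eq_mul, mul_one, Nat.cast_mul] at h1
  unfold Sec
  linear_combination h1

omit [Fintype X] in
theorem fix_prod {Ω : Type} [MulAction X Ω] (g : X) :
    Nat.card (MulAction.fixedBy (Ω × Ω) g) = Nat.card (MulAction.fixedBy Ω g) ^ 2 := by
  rw [sq, ← Nat.card_prod]
  exact Nat.card_congr ⟨fun x => (⟨x.1.1, congrArg Prod.fst x.2⟩, ⟨x.1.2, congrArg Prod.snd x.2⟩),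
    fun x => ⟨(x.1, x.2), Prod.ext x.1.2 x.2.2⟩, fun _ => rfl, fun _ => rfl⟩

/-- the permutation character of a doubly transitive action -/
theorem sum_fix {Ω : Type} [Finite Ω] [Nontrivial Ω] [MulAction X Ω]
    (h : ∀ x y x' y' : Ω, x ≠ y → x' ≠ y' → ∃ g : X, g • x = x' ∧ g • y = y') :
    ∑ g : X, ((Nat.card (MulAction.fixedBy Ω g) : ℂ) - 1) = 0 ∧
      ∑ g : X, ((Nat.card (MulAction.fixedBy Ω g) : ℂ) - 1) ^ 2 = (Nat.card X : ℂ) := by
  have h0 : ∀ x x' : Ω, ∃ g : X, g • x = x' := fun x x' => by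
    obtain ⟨y, hy⟩ := exists_ne x
    obtain ⟨y', hy'⟩ := exists_ne x'
    exact (h x y x' y' hy.symm hy'.symm).imp fun _ e => e.1
  obtain ⟨a, b, hab⟩ := exists_pair_ne Ω
  have h1 := H4.classInner_fixedBy_one (G := X) Ω
  have h2 := H4.classInner_fixedBy_one (G := X) (Ω × Ω)
  rw [show Nat.card (MulAction.orbitRel.Quotient X Ω) = 1 from Nat.card_eq_one_iff_exists.2
    ⟨Quotient.mk _ a, fun q => Quotient.inductionOn q fun x => Quotient.sound (h0 a x)⟩] at h1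
  rw [show Nat.card (MulAction.orbitRel.Quotient X (Ω × Ω)) = 2 from Nat.card_eq_two_iff.2
    ⟨Quotient.mk _ (a, a), Quotient.mk _ (a, b), fun e => by
      obtain ⟨g, e⟩ := Quotient.exact e
      exact hab (MulAction.injective g ((congrArg Prod.fst e).trans (congrArg Prod.snd e).symm)),
    Set.eq_univ_of_forall fun q => Quotient.inductionOn q fun x => by
      by_cases e : x.1 = x.2
      · obtain ⟨g, hg⟩ := h0 a x.1
        exact Or.inl (Quotient.sound ⟨g, Prod.ext hg (hg.trans e)⟩)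
      · obtain ⟨g, e1, e2⟩ := h a b x.1 x.2 hab e
        exact Or.inr (Quotient.sound ⟨g, Prod.ext e1 e2⟩)⟩] at h2
  have h3 : (Nat.card X : ℂ) ≠ 0 := by exact_mod_cast Nat.card_pos.ne'
  simp only [classInner, map_one, mul_one, fix_prod, Nat.cast_pow, inv_mul_eq_iff_eq_mul₀ h3] at h1 h2
  have h4 : ∑ _ : X, (1 : ℂ) = Nat.card X := by simp
  refine ⟨by rw [sum_sub_distrib, h1, h4]; simp, ?_⟩
  simp only [sub_sq, sum_add_distrib, sum_sub_distrib, mul_one, one_pow, ← mul_sum, h1, h2, h4]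
  push_cast; ring

end H3.QC
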