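import Mathlib
import Cfsg.Agent.H25.S12a

/-!
# Bender–Glauberman §12, second part (12.7 – 12.10)
-/

set_option autoImplicit false
set_option linter.unusedSectionVars false

open Subgroup H24 Cfsg H25
open scoped commutatorElement

namespace H3BG

universe u

variable {G : Type u} [Group G] [Finite G]

section General
variable {A B K L N X Y : Subgroup G} {p : ℕ} {π : Set ℕ}

/-- a group normalised by a coprime `E_{p^2}` is generated by the centralisers of the subgroups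
of order `p`. -/
theorem le_of_cent_p1Elem {H : Subgroup G} (hp : p.Prime) (hA : PnElem p 2 H A) (hAK : A ≤ N[K])
    (hcop : (♯K).Coprime ♯A) (h : ∀ X, PnElem p 1 A X → K ⊓ C[X] ≤ L) : K ≤ L :=
  H26.coprime_abelian_gen_cent1 hA.abl (hA.not_cyc hp le_rfl) hAK hcop fun a ha ha1 => by
    rw [← C_zpowers]; exact h _ (pnElem_zpowers_of_elem hp hA.elem ha ha1)

/-- if `L'` centralises `K`, then `[K, X]` and `C_K(X)` are normalised by `L` for `X ≤ L`. -/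
theorem norm_comm_cent_of_der1 (hL : L ≤ N[K]) (hc : ⁅L, L⁆ ≤ C[K]) (hX : X ≤ L) :
    L ≤ N[⁅K, X⁆] ∧ L ≤ N[K ⊓ C[X]] := by
  have hn : L ≤ N[X ⊔ ⁅L, L⁆] := norm_of_der1_le le_sup_right (sup_le hX (der1_le L))
  have hp : IsProd X ⁅L, L⁆ (X ⊔ ⁅L, L⁆) := isProd_sup' (hX.trans (der1_nml L).norm)
  constructor
  · rw [← hp.comm_right_of_cent hc]; exact norm_comm hL hn
  · rw [← cent_sup_eq (A := X) hc]; exact norm_inf hL (norm_C hn)

/-- a group all of whose Sylow subgroups are central is abelian -/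
theorem abl_of_syl_cent (h : ∀ p, p.Prime → p ∣ ♯N → ∃ P, Syl p N P ∧ P ≤ C[N]) : Abl N :=
  H24.abl_iff.2 (le_of_syl_le h)

/-- a nilpotent group with abelian Sylow subgroups is abelian -/
theorem nil_abl_of_syl (hN : Nil N) (h : ∀ p P, p.Prime → p ∣ ♯N → Syl p N P → Abl P) : Abl N := by
  refine abl_of_syl_cent fun p hp hd => ⟨_, hN.pcore_hall {p}, ?_⟩
  rw [hN.C_eq {p}]
  exact le_inf (h p _ hp hd (hN.pcore_hall {p})).le_C (pcore_cent_pcore_compl _ _)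

/-- an abelian Hall subgroup of a nilpotent group is central -/
theorem nil_cent_abl_hall (hN : Nil N) (hK : Hall π N K) (ha : Abl K) : N ≤ C[K] := by
  have h := hN.pcoreC π
  rw [← hN.hall_eq_pcore hK] at h
  rw [← h.sup]
  exact sup_le ha.le_C h.cent

end General

variable [FT G]
variable {M Mst H E E₁ E₂ E₃ F K N P Q S U X Y A A₀ : Subgroup G} {p q : ℕ} {g x : G}

theorem tau2_p2Elem_max (hM : IsCoatom M) (hp : p ∈ tau2 M) (hA : PnElem p 2 M A) :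
    PmaxElem p ⊤ A :=
  (tau2_not_beta hM hp).2 A hA

theorem coprime_Msigma_of_le (hE : Hall (sigma M)ᶜ M E) (hX : X ≤ E) :
    (♯(sigmaCore M)).Coprime ♯X :=
  (sigmaCore_pi M).coprime (hE.pi.of_le hX)

/-- 12.7(a) -/
theorem nonabelian_tau2_eq (hM : IsCoatom M) (hE : Hall (sigma M)ᶜ M E) (hp : p ∈ tau2 M)
    (hS : Syl p ⊤ S) (hna : ¬ Abl S) : tau2 M = {p} := by
  have hpp := tau2_prime hp
  obtain ⟨A, hA⟩ := ex_tau2Elem hE hp
  refine Set.Subset.antisymm (fun q hq => ?_) (Set.singleton_subset_iff.2 hp)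
  by_contra hqp
  have hqq := tau2_prime hq
  obtain ⟨B, hB⟩ := ex_tau2Elem hE hq
  have hAE := (tau2_compl_context hM hE hp hA).1.1
  obtain ⟨⟨hBE, -⟩, ⟨hCB, -⟩, -⟩ := tau2_compl_context hM hE hq hB
  have hc : B ≤ C[A] := cents_of_coprime_nml hBE hAE
    ((hB.isPi hqq).coprime_of_ne (hA.isPi hpp) hqp)
  obtain ⟨Q, hQ, hBQ⟩ := maxInv_exists (hB.isPi hqq) (norm_of_cent (cents_symm hc))
  obtain ⟨P, hP, -, -, -, hn⟩ := max_normed_2Elem_signaliser hpp hqq (Ne.symm hqp) hA.top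
    (tau2_p2Elem_max hM hp (hA.mono hE.le)) hQ
    ((hB.prime_dvd_self two_pos).trans (card_dvd hc))
  have hPM : P ≤ M := (hn fun _ => ⟨B, hB.of_le hBQ,
    (tau2_p2Elem_max hM hq (hB.mono hE.le)).restrict hBQ le_top⟩).trans
      ((C_anti hBQ).trans (hCB.trans hE.le))
  obtain ⟨y, -, rfl⟩ := Sylow_trans hpp hP hS
  exact hna (((tau2_context hM hp (hA.mono hE.le)).1 P (hP.of_le hPM le_top)).1.cj y)

/-- 12.7 -/
theorem _root_.H25.nonabelian_tau2 (hM : IsCoatom M) (hE : Hall (sigma M)ᶜ M E) (hp : p ∈ tau2 M)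
    (hA : PnElem p 2 E A) (hP : IsPi {p} P) (hna : ¬ Abl P) :
    tau2 M = {p} ∧ (♯(A ⊓ C[sigmaCore M]) = p ∧ DP (sigmaCore M) (A ⊓ C[sigmaCore M]) F[M]) ∧
      (∀ X, PnElem p 1 E X → X ≠ A ⊓ C[sigmaCore M] → sigmaCore M ⊓ C[X] = ⊥ ∧ ¬ C[X] ≤ M) ∧
      ∃ E₀, SD (A ⊓ C[sigmaCore M]) E₀ E ∧
        ∀ x ∈ sigmaCore M, x ≠ 1 → IsPi (tau1 M) (E₀ ⊓ C{x}) := by
  have hpp := tau2_prime hp
  have hAM := hA.mono hE.le
  obtain ⟨⟨hAE, hEp1⟩, ⟨hCA, -, -⟩, hreg, -⟩ := tau2_compl_context hM hE hp hA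
  obtain ⟨hab, -, hCsA, -, -⟩ := tau2_context hM hp hAM
  obtain ⟨P₁, hP₁, hAP₁⟩ := Sylow_superset hpp (hA.isPi hpp) hA.le
  have hP₁M : Syl p M P₁ := hE.trans_syl hP₁ (tau2_not_sigma hp)
  obtain ⟨S, hS, hP₁S⟩ := Sylow_superset hpp hP₁.pi (le_top (a := P₁))
  have hSna : ¬ Abl S := fun h => by
    obtain ⟨y, -, hy⟩ := Sylow_subJ hpp hS hP le_top
    exact hna ((h.cj y).of_le hy)
  have ht := nonabelian_tau2_eq hM hE hp hS hSna
  have hP₁a := (hab P₁ hP₁M).1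
  have hSM : S ⊓ M = P₁ := hP₁M.eq_of_le (hS.pi.inf_left _) (le_inf hP₁S hP₁M.le) inf_le_right
  have hSC : S ⊓ C[A] = P₁ := le_antisymm (hSM ▸ inf_le_inf_left _ (hCA.trans hE.le))
    (le_inf hP₁S (hP₁a.cents le_rfl hAP₁))
  obtain ⟨hZ, ⟨Y, hY, hZY, hdp⟩, htr⟩ := basic_p2maxElem_structure hpp hA.top
    (tau2_p2Elem_max hM hp hAM) hS.pi (hAP₁.trans hP₁S) hSna
  set Z₀ := omegaOne p Z[S] with hZ₀
  have hSZ : S ≤ C[Z₀] := cents_of_le (le_C_center S) (omegaOne_le _ _)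
  have hZM : ¬ C[Z₀] ≤ M := fun h => hSna <| by
    rw [← inf_eq_left.2 (hSZ.trans h), hSM]; exact hP₁a
  have hcop := coprime_Msigma_of_le hE hA.le
  have hAn : A ≤ N[sigmaCore M] := hAM.le.trans (sigmaCore_norm M)
  obtain ⟨A₀, hA₀, hA₀1⟩ : ∃ A₀, PnElem p 1 A A₀ ∧ sigmaCore M ⊓ C[A₀] ≠ ⊥ := by
    by_contra h
    push Not at h
    exact Msigma_neq1 hM (le_bot_iff.1
      (le_of_cent_p1Elem hpp hA hAn hcop fun X hX => (h X hX).le))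
  have hU := hreg A₀ (hA₀.mono hA.le) hA₀1
  have hA₀Z : A₀ ≠ Z₀ := fun h => hZM (h ▸ hU.le)
  have hc : ∀ X, PnElem p 1 E X → X ≠ A₀ → sigmaCore M ⊓ C[X] = ⊥ ∧ ¬ C[X] ≤ M := by
    intro X hX hne
    suffices h : ¬ C[X] ≤ M from ⟨by_contra fun h' => h (hreg X hX h').le, h⟩
    by_cases hXZ : X = Z₀
    · rwa [hXZ]
    obtain ⟨s, hs, rfl⟩ := htr A₀ X hA₀ hA₀Z (hX.of_le (hEp1 X hX)) hXZ
    intro h
    have h1 := hU.cj s
    rw [cj_C] at h1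
    have h2 : s ∈ P₁ := hSM ▸ ⟨hs.1, mem_of_cj_mmax hM (h1.uniq M hM h).symm⟩
    exact hne (cj_of_mem_C (hP₁a.cents le_rfl (hA₀.le.trans hAP₁) h2))
  have hA₀c : A₀ ≤ C[sigmaCore M] := cents_symm <|
    le_of_cent_p1Elem hpp hA hAn hcop fun X hX => by
      by_cases h : X = A₀
      · rw [h]; exact inf_le_right
      · rw [(hc X (hX.mono hA.le) h).1]; exact bot_le
  have hA₀e : A ⊓ C[sigmaCore M] = A₀ := by
    refine eq_of_card_between hpp (le_inf hA₀.le hA₀c) (H := A) (lt_of_le_of_ne inf_le_left ?_) ?_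
    · intro h
      exact Msigma_neq1 hM (by
        rw [← hCsA, inf_eq_left.2 (cents_symm (inf_eq_left.1 h))])
    · rw [hA.card, hA₀.card]; ring
  have hA₀E : A₀ ⊴ E := hA₀e ▸ ⟨inf_le_left.trans hA.le,
    norm_inf hAE.norm (norm_C (hE.le.trans (sigmaCore_norm M)))⟩
  have hsd := sdprod_sigma hM hE
  have hA₀M : A₀ ⊴ M := ⟨hA₀E.le.trans hE.le,
    hsd.sup ▸ sup_le (norm_of_cent (cents_symm hA₀c)) hA₀E.norm⟩
  have hdp₀ := hdp A₀ hA₀ hA₀Z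
  rw [hSC] at hdp₀
  rw [hA₀e]
  refine ⟨ht, ⟨hA₀.card_one, ?_⟩, hc, ?_⟩
  · have hF := (Fitting_nil M).pcoreC (sigma M)
    have h1 : O[sigma M, F[M]] = sigmaCore M := le_antisymm (pcore_Fitting_le _ _)
      (pcore_max (sigmaCore_pi M) ((sigmaCore_nml M).of_le
        (Fitting_max (sigmaCore_nml M) (tau2_Msigma_nil hM hp)) (Fitting_le M)))
    have hK := pcore_Fitting_nml (sigma M)ᶜ M
    have hKc := sigma'_Fitting_cyclic hM
    have hA₀K : A₀ ≤ O[(sigma M)ᶜ, F[M]] := (Fitting_nil M).le_pcore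
      (hE.pi.of_le hA₀E.le) (Fitting_max hA₀M hA₀.abl.nil)
    have hKp : IsPi {p} O[(sigma M)ᶜ, F[M]] := fun q hq hd => by
      have h2 := hKc.nil.pcore_ne_bot hq (Set.mem_singleton q) hd
      rcases prime_class_mmax_norm hM hq (pcore_pi {q} _)
        (mmax_normal hM (hK.pcore {q}) h2).le with h | h
      · exact absurd h (pcore_pi _ _ q hq hd)
      · rwa [ht] at h
    have h2 := hdp₀.modl hA₀K (hP₁M.nml_le hKp hK)
    have h3 : Y ⊓ O[(sigma M)ᶜ, F[M]] = ⊥ := by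
      by_contra h3
      have h4 : omegaOne p Y ≤ Y ⊓ O[(sigma M)ᶜ, F[M]] :=
        cyc_omegaOne_le hY inf_le_left hpp ((hKp.inf_right Y).dvd_card h3)
      rw [(hZ.of_le hZY).eq_omegaOne_of_cyc hpp hY] at h4
      have h5 := (hc Z₀ (hZ.mono hA.le) hA₀Z.symm).1
      rw [inf_eq_left.2 (cents_symm ((h4.trans inf_le_right).trans (sigma'_Fitting_cent M)))] at h5
      exact Msigma_neq1 hM h5
    rw [h3] at h2
    rwa [h1, ← h2.sup, sup_bot_eq] at hF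
  · obtain ⟨E₀, hE₀⟩ := H26.Gaschutz_split hA₀E hA₀.abl hP₁.le
      ((hA₀.isPi hpp).piNat.coprime hP₁.idx) hdp₀.sd
    refine ⟨E₀, hE₀, fun x hx hx1 q hq hd => ?_⟩
    obtain ⟨X, hX⟩ := exists_pnElem_one hq hd
    have hXE : X ≤ E := (hX.le.trans inf_le_left).trans hE₀.right_le
    have hX1 : sigmaCore M ⊓ C[X] ≠ ⊥ :=
      ne_bot_of_mem ⟨hx, mem_C_iff_le_C1.2 (hX.le.trans inf_le_right)⟩ hx1
    rcases (partition_pi_sigma_compl hM hE).1 ⟨hq, (hX.of_le hXE).prime_dvd_card one_pos⟩ with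
      h | h | h
    · exact h
    · obtain rfl : q = p := by rwa [ht] at h
      refine absurd (hc X (hX.of_le hXE) fun e => ?_).1 hX1
      exact hX.ne_bot hq one_pos (eq_bot_of_le hE₀.inf (le_inf e.le (hX.le.trans inf_le_left)))
    · obtain ⟨E₁, E₂, E₃, hcompl⟩ := ex_sigmaCompl hM hE
      refine absurd ((tau2_regular hM hcompl hp hA).1.inf_C ?_ (hX.ne_bot hq one_pos)) hX1
      exact hcompl.hall3.le_of_nml (sigma_compl_context hM hcompl).1.2.norm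
        ((hX.isPi hq).of_mem h) hXE

/-- the Fitting subgroup of a group normalising `A` centralises `A` when the Sylow subgroups
are abelian -/
theorem Fitting_cent_of_abl_Sylow (hp : p.Prime) (hS : Syl p ⊤ S) (hSa : Abl S) (hA : IsPi {p} A)
    (hn : A ⊴ H) : F[H] ≤ C[A] := by
  have hAF : A ≤ F[H] := Fitting_max hn (hA.nil hp)
  obtain ⟨y, -, hy⟩ := Sylow_subJ hp hS (pcore_pi {p} F[H]) le_top
  exact cents_of_le (nil_cent_abl_hall (Fitting_nil H) ((Fitting_nil H).pcore_hall {p})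
    ((hSa.cj y).of_le hy)) ((Fitting_nil H).le_pcore hA hAF)

theorem abelian_tau2_Fitting_norm (hM : IsCoatom M) (hE : Hall (sigma M)ᶜ M E) (hp : p ∈ tau2 M)
    (hA : PnElem p 2 E A) (hS : Syl p ⊤ S) (hSa : Abl S) :
    F[N[A]] = F[E] ∧ ⁅N[A], N[A]⁆ ≤ F[E] := by
  have hpp := tau2_prime hp
  obtain ⟨⟨hAE, -⟩, ⟨hCA, -, -⟩, -⟩ := tau2_compl_context hM hE hp hA
  have h1 : ∀ H, A ⊴ H → C[A] ≤ H → F[H] = F[C[A]] := fun H hH hC => by
    rw [← Fitting_inf_nml ⟨hC, norm_C hH.norm⟩,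
      inf_eq_left.2 (Fitting_cent_of_abl_Sylow hpp hS hSa (hA.isPi hpp) hH)]
  have h2 : F[N[A]] = F[E] := (h1 _ (nml_N A) (C_le_N A)).trans (h1 _ hAE hCA).symm
  refine ⟨h2, h2 ▸ H26.rank2_der1_sub_Fitting (mFT_odd _)
    (mFT_sol_norm (hA.ne_bot hpp two_pos) (mFT_pgroup_proper (hA.isPi hpp))) ?_⟩
  rw [h2]
  exact (rank_mono (Fitting_le E)).trans (rank_sigma_compl hM hE)

theorem abelian_tau2_omega (hM : IsCoatom M) (hp : p ∈ tau2 M) (hA : PnElem p 2 M A)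
    (hAS : A ≤ S) (hSa : Abl S) : omegaOne p S = A :=
  ((tau2_p2Elem_max hM hp hA).restrict hAS le_top).omegaOne_eq_of_abl hSa

/-- 12.8(c) -/
theorem _root_.H25.abelian_tau2_sub_Fitting (hM : IsCoatom M) (hE : Hall (sigma M)ᶜ M E) (hp : p ∈ tau2 M)
    (hA : PnElem p 2 E A) (hS : Syl p ⊤ S) (hAS : A ≤ S) (hSa : Abl S) :
    S ≤ ⁅N[S], N[S]⁆ ∧ ⁅N[S], N[S]⁆ ≤ F[E] ∧ F[E] ≤ C[S] ∧ C[S] ≤ E := by
  have hpp := tau2_prime hp
  have h1 := mFT_Sylow_der1 hpp hS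
  have h2 : ⁅N[S], N[S]⁆ ≤ F[E] := by
    refine (der1_mono ?_).trans (abelian_tau2_Fitting_norm hM hE hp hA hS hSa).2
    rw [← abelian_tau2_omega hM hp (hA.mono hE.le) hAS hSa]
    exact N_le_N_omegaOne p S
  exact ⟨h1, h2, nil_cent_abl_hall (Fitting_nil E) (hS.of_le (h1.trans h2) le_top) hSa,
    (C_anti hAS).trans (tau2_compl_context hM hE hp hA).2.1.1⟩

/-- if the Sylow `p`-subgroups of `G` are abelian for one `p ∈ τ₂(M)`, the same holds for all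
primes in `τ₂(M)`. -/
theorem abelian_tau2_Sylow (hM : IsCoatom M) (hE : Hall (sigma M)ᶜ M E) (hp : p ∈ tau2 M)
    (hS : Syl p ⊤ S) (hSa : Abl S) (hq : q ∈ tau2 M) (hQ : Syl q ⊤ Q) : Abl Q := by
  by_contra h
  obtain rfl : p = q := by simpa [nonabelian_tau2_eq hM hE hq hQ h] using hp
  obtain ⟨y, -, rfl⟩ := Sylow_trans (tau2_prime hp) hS hQ
  exact h (hSa.cj y)

theorem abelian_tau2_Hall (hM : IsCoatom M) (hE : Hall (sigma M)ᶜ M E) (h2 : Hall (tau2 M) E E₂)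
    (hp : p ∈ tau2 M) (hS : Syl p ⊤ S) (hSa : Abl S) :
    E₂ = O[tau2 M, F[E]] ∧ Abl E₂ ∧ Hall (tau2 M) ⊤ E₂ := by
  have key : ∀ q ∈ tau2 M, ∃ Q, Syl q ⊤ Q ∧ Q ≤ O[tau2 M, F[E]] ∧ F[E] ≤ C[Q] := by
    intro q hq
    have hqq := tau2_prime hq
    obtain ⟨B, hB⟩ := ex_tau2Elem hE hq
    obtain ⟨Q, hQ, hBQ⟩ := Sylow_superset hqq (hB.isPi hqq) (le_top (a := B))
    obtain ⟨a, b, c, -⟩ := abelian_tau2_sub_Fitting hM hE hq hB hQ hBQ
      (abelian_tau2_Sylow hM hE hp hS hSa hq hQ)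
    exact ⟨Q, hQ, (Fitting_nil E).le_pcore (hQ.pi.of_mem hq) (a.trans b), c⟩
  have hH : Hall (tau2 M) ⊤ O[tau2 M, F[E]] := hall_of_syl le_top (pcore_pi _ _)
    fun q _ hq _ => (key q hq).imp fun Q h => ⟨h.1, h.2.1⟩
  have hn := pcore_Fitting_nml (tau2 M) E
  have e : E₂ = O[tau2 M, F[E]] := (hH.of_le hn.le le_top).eq_of_nml hn.norm h2
  rw [e]
  refine ⟨rfl, abl_of_syl_cent fun q hq hd => ?_, hH⟩
  obtain ⟨Q, a, b, c⟩ := key q (pcore_pi _ _ q hq hd)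
  exact ⟨Q, a.of_le b le_top, cents_symm ((pcore_le _ _).trans c)⟩

/-- 12.8(a,b,d,e) -/
theorem _root_.H25.abelian_tau2 (hM : IsCoatom M) (h : SigmaCompl M E E₁ E₂ E₃) (hp : p ∈ tau2 M)
    (hA : PnElem p 2 E A) (hS : Syl p ⊤ S) (hAS : A ≤ S) (hSa : Abl S) :
    (E₂ ⊴ E ∧ Abl E₂) ∧ Hall (tau2 M) ⊤ E₂ ∧
      (N[A] = N[S] ∧ N[S] = N[E₂] ∧ N[E₂] = N[E₃ ⊔ E₂] ∧ N[E₃ ⊔ E₂] = N[F[E]]) ∧
      ∀ X, X ≤ E₁ → (♯X).Prime → sigmaCore M ⊓ C[X] = ⊥ → X ≤ Z[E] := by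
  have hpp := tau2_prime hp
  have hE := h.hallE
  obtain ⟨e2, hE₂a, hE₂G⟩ := abelian_tau2_Hall hM hE h.hall2 hp hS hSa
  obtain ⟨⟨-, hE₃E⟩, -, ⟨hc1, hc3⟩, ⟨-, -, hsd32, hsd321⟩, -⟩ := sigma_compl_context hM h
  obtain ⟨eF, hder⟩ := abelian_tau2_Fitting_norm hM hE hp hA hS hSa
  obtain ⟨s1, s2, -, -⟩ := abelian_tau2_sub_Fitting hM hE hp hA hS hAS hSa
  have hE₂F : E₂ ≤ F[E] := e2 ▸ pcore_le _ _
  have hKF : E₃ ⊔ E₂ ≤ F[E] := sup_le (Fitting_max hE₃E hc3.nil) hE₂F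
  have hKn : Nil (E₃ ⊔ E₂) := (Fitting_nil E).of_le hKF
  have hKH : Hall (tau1 M)ᶜ F[E] (E₃ ⊔ E₂) :=
    (hsd321.hall_compl_left h.hall1).of_le hKF (Fitting_le E)
  have hSE₂ : S ≤ E₂ := e2 ▸ (Fitting_nil E).le_pcore (hS.pi.of_mem hp) (s1.trans s2)
  have n1 : N[A] ≤ N[F[E]] := eF ▸ (Fitting_nml N[A]).norm
  have n2 : N[F[E]] ≤ N[E₃ ⊔ E₂] := (Fitting_nil E).norm_hall hKH le_rfl
  have n3 : N[E₃ ⊔ E₂] ≤ N[E₂] := hKn.norm_hall (hE₂G.of_le le_sup_right le_top) le_rfl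
  have n4 : N[E₂] ≤ N[S] := hE₂a.nil.norm_hall (hS.of_le hSE₂ le_top) le_rfl
  have n5 : N[S] ≤ N[A] := by
    rw [← abelian_tau2_omega hM hp (hA.mono hE.le) hAS hSa]
    exact N_le_N_omegaOne p S
  refine ⟨⟨e2 ▸ pcore_Fitting_nml _ E, hE₂a⟩, hE₂G, ⟨by order, by order, by order, by order⟩,
    fun X hX hq hreg => ?_⟩
  have hXE : X ≤ E := hX.trans h.hall1.le
  have hq1 : ♯X ∈ tau1 M := h.hall1.pi _ hq (card_dvd hX)
  have hKE : E₃ ⊔ E₂ ≤ E := hsd321.left_le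
  have hKa : Abl (E₃ ⊔ E₂) := hc3.abl.sup hE₂a
    (hKn.cents_of_pi le_sup_left le_sup_right h.hall3.pi (h.hall2.pi.mono (tau3'2 M)))
  have hEN : E ≤ N[A] := (tau2_compl_context hM hE hp hA).1.1.norm
  obtain ⟨-, -, hn⟩ := commG_sigma'_1Elem_cyclic hM (hKE.trans hE.le) (hE.pi.of_le hKE) hq
    (tau1_not_sigma hq1) (pnElem_one_of_card hq (le_inf (hXE.trans hE.le)
      (hXE.trans hsd321.nml.norm)) rfl) hreg (hKH.pi.compl_of_mem hq1) hKa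
  have hc : ⁅E₃ ⊔ E₂, X⁆ = ⊥ := by
    by_contra hne
    refine (tau2_compl_context hM hE hp hA).2.1.2.2 ?_
    rw [← mmax_normal hM hn hne]
    exact (norm_comm_cent_of_der1 (n1.trans n2)
      (hder.trans (nil_cent_abl_hall (Fitting_nil E) hKH hKa)) (hXE.trans hEN)).1
  refine le_inf hXE ?_
  rw [← hsd321.sup]
  exact cents_sup (comm_eq_bot'.1 hc) (hc1.abl.cents hX le_rfl)

/-- 12.8(f) -/
theorem _root_.H25.abelian_tau2_norm_Sylow (hM : IsCoatom M) (hE : Hall (sigma M)ᶜ M E) (hp : p ∈ tau2 M)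
    (hA : PnElem p 2 E A) (hS : Syl p ⊤ S) (hAS : A ≤ S) (hSa : Abl S) (hX : X ≤ N[S]) :
    S ⊓ C[X] ⊴ N[S] ∧ ⁅S, X⁆ ⊴ N[S] := by
  obtain ⟨-, s2, s3, -⟩ := abelian_tau2_sub_Fitting hM hE hp hA hS hAS hSa
  obtain ⟨h1, h2⟩ := norm_comm_cent_of_der1 le_rfl (s2.trans s3) hX
  exact ⟨⟨inf_le_left.trans (norm_self S), h2⟩, ⟨(comm_le_left hX).trans (norm_self S), h1⟩⟩

/-- 12.9 -/
theorem _root_.H25.tau1_act_tau2 (hM : IsCoatom M) (hE : Hall (sigma M)ᶜ M E) (hp : p ∈ tau2 M)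
    (hA : PnElem p 2 E A) (hq : q ∈ tau1 M) (hQ : PnElem q 1 E Q) (hreg : sigmaCore M ⊓ C[Q] = ⊥)
    (hne : ⁅A, Q⁆ ≠ ⊥) :
    (PnElem p 1 A ⁅A, Q⁆ ∧ A ⊓ C[sigmaCore M] = ⁅A, Q⁆ ∧ ⁅A, Q⁆ ⊴ M) ∧ NConj (A ⊓ C[Q]) ⁅A, Q⁆ ∧
      (PnElem p 1 A (A ⊓ C[Q]) ∧ ¬ C[A ⊓ C[Q]] ≤ M) := by
  have hpp := tau2_prime hp
  have hqq := tau1_prime hq
  have hpq : p ≠ q := fun e => tau2'1 M hq (e ▸ hp)
  have hAM := hA.mono hE.le
  have hAE := (tau2_compl_context hM hE hp hA).1.1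
  have hQA : Q ≤ N[A] := hQ.le.trans hAE.norm
  obtain ⟨hc, hcyc, hn⟩ := commG_sigma'_1Elem_cyclic hM hAM.le (hE.pi.of_le hA.le) hqq
    (tau1_not_sigma hq) (hQ.of_le (le_inf (hQ.le.trans hE.le) hQA)) hreg
    ((hA.isPi hpp).compl_of_ne hpq) hA.abl
  have hdp := H26.coprime_abelian_cent_dprod hQA
    ((hA.isPi hpp).coprime_of_ne (hQ.isPi hqq) hpq) hA.abl
  have h0 : PnElem p 1 A ⁅A, Q⁆ := hA.one_of_lt hpp hdp.left_le
    (fun e => hA.not_cyc hpp le_rfl (e ▸ hcyc)) hne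
  have h1 : PnElem p 1 A (A ⊓ C[Q]) := hA.one_of_lt hpp inf_le_left
    (fun e => hne (comm_eq_bot.2 (inf_eq_left.1 e)))
    (fun e => hA.not_cyc hpp le_rfl (by rw [← hdp.sup, e, sup_bot_eq]; exact hcyc))
  have e0 : A ⊓ C[sigmaCore M] = ⁅A, Q⁆ := by
    refine eq_of_card_between hpp (le_inf h0.le hc) (H := A) (lt_of_le_of_ne inf_le_left ?_) ?_
    · intro h
      exact Msigma_neq1 hM (by
        rw [← (tau2_context hM hp hAM).2.2.1, inf_eq_left.2 (cents_symm (inf_eq_left.1 h))])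
    · rw [hA.card, h0.card]; ring
  have hne01 : A ⊓ C[Q] ≠ ⁅A, Q⁆ := fun e => hne (by rw [← hdp.inf, e, inf_idem])
  refine ⟨⟨h0, e0, hn⟩, fun g e => ?_, h1, ?_⟩
  · have hQg : cj g Q ≤ C[⁅A, Q⁆] := e ▸ cent_cj (cents_symm inf_le_right) g
    have hQgM : cj g Q ≤ M := hQg.trans ((C_le_N _).trans (mmax_normal hM hn hne).le)
    obtain ⟨R, hR, hQR⟩ := Sylow_superset hqq (hQ.isPi hqq) (hQ.le.trans hE.le)
    obtain ⟨m, hm, hmR⟩ := Sylow_Jsub hqq hR ((hQ.isPi hqq).cj g) hQgM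
    have hRc : Cyc R := odd_pgroup_cyc hqq hR.pi (mFT_odd R)
      (by rw [prank_Syl hqq hR, tau1_prank hq])
    have e1 : cj m (cj g Q) = Q := cyc_eq_of_card_eq hRc hmR hQR (by simp)
    have h2 := cent_cj hQg m
    rw [e1, cj_of_mem_N (hn.norm hm)] at h2
    exact hne (by rw [← hdp.inf, inf_eq_left.2 (le_inf h0.le (cents_symm h2))])
  · obtain ⟨S, hS, hAS⟩ := Sylow_superset hpp (hA.isPi hpp) (le_top (a := A))
    by_cases hSa : Abl S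
    · obtain ⟨E₁, h1, hQE₁⟩ := H26.Hall_superset (sigma_compl_sol hM hE) hQ.le
        ((hQ.isPi hqq).of_mem hq)
      obtain ⟨E₃, h3⟩ := H26.Hall_exists (tau3 M) (sigma_compl_sol hM hE)
      obtain ⟨E₂, hc⟩ := ex_tau2_compl hM hE h1 h3
      exact absurd (comm_eq_bot'.2 (cents_of_le (((abelian_tau2 hM hc hp hA hS hAS hSa).2.2.2 Q hQE₁
        (hQ.card_one ▸ hqq) hreg).trans inf_le_right) hA.le)) hne
    · exact ((nonabelian_tau2 hM hE hp hA hS.pi hSa).2.2.1 _ (h1.mono hA.le) (e0 ▸ hne01)).2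

theorem sigma'_Sylow_abelian (hM : IsCoatom M) (hp : p.Prime) (hs : p ∉ sigma M)
    (hP : Syl p M P) : Abl P := by
  by_cases hr : prank p M ≤ 1
  · exact (odd_pgroup_cyc hp hP.pi (mFT_odd P) (by rwa [prank_Syl hp hP])).abl
  have hr2 : prank p M = 2 := le_antisymm (sigma'_prank_le hM hp hs) (by omega)
  obtain ⟨A, hA⟩ := (prank_geP hp).1 hr2.ge
  exact ((tau2_context hM (mem_tau2.2 ⟨hp, hs, hr2⟩) hA).1 P hP).1

theorem sigma'_pgroup_abelian (hM : IsCoatom M) (hp : p.Prime) (hs : p ∉ sigma M)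
    (hP : IsPi {p} P) (hPM : P ≤ M) : Abl P := by
  obtain ⟨R, hR, hPR⟩ := Sylow_superset hp hP hPM
  exact (sigma'_Sylow_abelian hM hp hs hR).of_le hPR

/-- 12.10(a) -/
theorem _root_.H25.sigma'_nil_abelian (hM : IsCoatom M) (hNM : N ≤ M) (hN : IsPi (sigma M)ᶜ N) (hn : Nil N) :
    Abl N :=
  nil_abl_of_syl hn fun p _ hp hd hP =>
    sigma'_pgroup_abelian hM hp (hN p hp hd) hP.pi (hP.le.trans hNM)

/-- 12.10(b) -/
theorem _root_.H25.der_mmax_compl_abelian (hM : IsCoatom M) (hE : Hall (sigma M)ᶜ M E) : Abl ⁅E, E⁆ :=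
  sigma'_nil_abelian hM ((der1_le E).trans hE.le) (hE.pi.of_le (der1_le E))
    (der1_sigma_compl_nil hM hE)

theorem _root_.H25.tau2_compl_abelian (hM : IsCoatom M) (hE : Hall (sigma M)ᶜ M E) (h2 : Hall (tau2 M) E E₂) :
    Abl E₂ := by
  by_cases h1 : E₂ = ⊥
  · rw [h1]; exact abl_bot
  obtain ⟨p, hpp, hd⟩ := H24.exists_prime_dvd_card h1
  have hp := h2.pi p hpp hd
  obtain ⟨S, hS⟩ := Sylow_exists hpp (⊤ : Subgroup G)
  by_cases hSa : Abl S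
  · exact (abelian_tau2_Hall hM hE h2 hp hS hSa).2.1
  · exact sigma'_pgroup_abelian hM hpp (tau2_not_sigma hp)
      (nonabelian_tau2_eq hM hE hp hS hSa ▸ h2.pi) (h2.le.trans hE.le)

/-- 12.10(c): `E / C_E(A)` is a `τ₁(M)`-group. -/
theorem _root_.H25.tau1_cent_tau2Elem_factor (hM : IsCoatom M) (hE : Hall (sigma M)ᶜ M E) (hp : p ∈ tau2 M)
    (hA : PnElem p 2 E A) : PiNat (tau1 M) ((E ⊓ C[A]).relIndex E) := by
  have hpp := tau2_prime hp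
  have hs := sigma_compl_sol hM hE
  have hAE := (tau2_compl_context hM hE hp hA).1.1
  obtain ⟨E₂, h2, hAE₂⟩ := H26.Hall_superset hs hA.le ((hA.isPi hpp).of_mem hp)
  obtain ⟨E₃, h3⟩ := H26.Hall_exists (tau3 M) hs
  intro q hq hd
  rcases (partition_pi_sigma_compl hM hE).1 ⟨hq, hd.trans (relIndex_dvd_card _ _)⟩ with h | h | h
  · exact h
  · exact absurd h (h2.idx_of_ge
      (le_inf h2.le ((tau2_compl_abelian hM hE h2).cents le_rfl hAE₂)) q hq hd)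
  · exact absurd h (h3.idx_of_ge (le_inf h3.le (cents_of_coprime_nml (tau3_der1 hM hE h3).2 hAE
      (h3.pi.coprime ((hA.isPi hpp).of_mem (tau3'2 M hp))))) q hq hd)

/-- 12.10(d) -/
theorem _root_.H25.norm_noncyclic_sigma (hM : IsCoatom M) (hp : p ∈ sigma M) (hP : IsPi {p} P) (hPM : P ≤ M)
    (hnc : ¬ Cyc P) : N[P] ≤ M := by
  have hpp := sigma_prime hp
  obtain ⟨A, hA⟩ := (prank_geP hpp).1 (odd_pgroup_two_le_prank hpp hP (mFT_odd P) hnc)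
  exact sigma_norm_le_of_cent hM hp hP hPM
    ((C_anti hA.le).trans (p2Elem_mmax hM hpp (hA.mono hPM)))

/-- 12.10(e) -/
theorem _root_.H25.cent1_nreg_sigma_uniq (hM : IsCoatom M) (hx : x ∈ M) (hx1 : x ≠ 1) (ht : PiElt (tau2 M) x)
    (hne : sigmaCore M ⊓ C{x} ≠ ⊥) : UniqMax C{x} M := by
  obtain ⟨E, hE, hxE⟩ := ex_sigma_compl hM (zpowers_le.2 hx) (ht.isPi.mono (tau2_sub_sigma' M))
  obtain ⟨E₂, h2, hxE₂⟩ := H26.Hall_superset (sigma_compl_sol hM hE) hxE ht.isPi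
  obtain ⟨p, hpp, hd⟩ := H24.exists_prime_dvd_card (zpowers_ne_bot.2 hx1)
  have hp := ht.isPi p hpp hd
  obtain ⟨A, hA⟩ := (prank_geP hpp).1 (show 2 ≤ prank p E₂ by
    rw [prank_Hall hpp h2 hp, p_rank_sigma_compl hE hpp (tau2_not_sigma hp), tau2_prank hp])
  have hAC : A ≤ C{x} := C_zpowers x ▸ (tau2_compl_abelian hM hE h2).cents hA.le hxE₂
  refine uniqMax_of_forall (mFT_cent1_proper hx1) fun L hL hC => by_contra fun h => hne ?_
  exact eq_bot_of_le ((tau2_context hM hp (hA.mono (h2.le.trans hE.le))).2.2.2.1 L hL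
    (hAC.trans hC) h) (inf_le_inf_left _ hC)

end H3BG
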