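import Mathlib
import Cfsg.Agent.H3.S12b

/-!
# Bender–Glauberman §12, third part (12.11, 12.12)
-/

set_option autoImplicit false
set_option linter.unusedSectionVars false

open Subgroup H24 Cfsg H25
open scoped commutatorElement

namespace H3BG

universe u

variable {G : Type u} [Group G] [Finite G]

section General
variable {A B H K L N S X Y : Subgroup G} {p : ℕ} {π : Set ℕ} {x y : G}

theorem pow_exponent (hy : y ∈ H) : y ^ Monoid.exponent H = 1 :=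
  congrArg Subtype.val (Monoid.pow_exponent_eq_one (⟨y, hy⟩ : H))

theorem pow_exponent_of_cj {m : G} (h : cj m (zpowers y) ≤ H) : y ^ Monoid.exponent H = 1 := by
  have h1 := pow_exponent (h (conj_mem_cj m (mem_zpowers y)))
  rwa [conj_pow, conj_eq_one_iff'] at h1

theorem exponent_eq_of_piElt (hKH : K ≤ H)
    (h : ∀ r, r.Prime → ∀ y ∈ H, PiElt {r} y → y ^ Monoid.exponent K = 1) :
    Monoid.exponent K = Monoid.exponent H := by
  refine Nat.dvd_antisymm (Monoid.exponent_dvd_of_forall_pow_eq_one fun y =>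
    Subtype.ext (pow_exponent (hKH y.2))) (Monoid.exponent_dvd_of_forall_pow_eq_one fun y =>
      Subtype.ext ?_)
  change (y : G) ^ Monoid.exponent K = 1
  rw [← orderOf_dvd_iff_pow_eq_one, Nat.dvd_iff_prime_pow_dvd_dvd]
  intro r k hr hd
  have ho := orderOf_pow_orderOf_div (orderOf_pos (y : G)).ne' hd
  rw [← ho, orderOf_dvd_iff_pow_eq_one]
  exact h r hr _ (pow_mem y.2 _) (by rw [PiElt, ho]; exact piNat_self_pow hr k)

theorem pow_card_eq_one_of_mem (hy : y ∈ H) : y ^ ♯H = 1 :=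
  orderOf_dvd_iff_pow_eq_one.1 (orderOf_dvd_card' hy)

theorem card_dvd_exponent_of_cyc (hK : Cyc K) (hKH : K ≤ H) : ♯K ∣ Monoid.exponent H := by
  obtain ⟨z, hz, rfl⟩ := hK.exists_gen
  rw [card_zpowers', orderOf_dvd_iff_pow_eq_one]
  exact pow_exponent (hKH hz)

/-- the subgroup of `m`-th powers of an abelian group -/
def powSub (S : Subgroup G) (hS : Abl S) (m : ℕ) : Subgroup G where
  carrier := {w | ∃ y ∈ S, w = y ^ m}
  one_mem' := ⟨1, one_mem _, by simp⟩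
  mul_mem' := by
    rintro _ _ ⟨a, ha, rfl⟩ ⟨b, hb, rfl⟩
    exact ⟨a * b, mul_mem ha hb, ((show Commute a b from hS.comm ha hb).mul_pow m).symm⟩
  inv_mem' := by
    rintro _ ⟨a, ha, rfl⟩
    exact ⟨a⁻¹, inv_mem ha, (inv_pow a m).symm⟩

theorem N_le_N_powSub (hS : Abl S) (m : ℕ) : N[S] ≤ N[powSub S hS m] :=
  le_N_iff.2 <| by
    rintro a ha _ ⟨y, hy, rfl⟩
    exact ⟨a * y * a⁻¹, conj_mem ha hy, conj_pow.symm⟩

/-- in an abelian `p`-group there is a characteristic subgroup `W` of `Ω₁` such that every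
subgroup of order `p` of `W` is the socle of a cyclic subgroup of maximal order. -/
theorem exists_socle (hp : p.Prime) (hS : IsPi {p} S) (hSa : Abl S) (h1 : S ≠ ⊥) :
    ∃ W, W ≠ ⊥ ∧ W ≤ omegaOne p S ∧ N[S] ≤ N[W] ∧ ∀ X, PnElem p 1 W X →
      ∃ Z, Z ≤ S ∧ Cyc Z ∧ (∀ y ∈ S, y ^ ♯Z = 1) ∧ omegaOne p Z = X := by
  classical
  have hex : ∃ k, ∀ y ∈ S, y ^ p ^ k = 1 := by
    obtain ⟨k, hk⟩ := hS.card_eq_pow hp
    exact ⟨k, fun y hy => hk ▸ pow_card_eq_one_of_mem hy⟩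
  have hk := Nat.find_spec hex
  have hk0 : Nat.find hex ≠ 0 := fun h => by
    rw [h] at hk
    obtain ⟨y, hy, hy1⟩ := exists_ne_one h1
    exact hy1 (by simpa using hk y hy)
  obtain ⟨j, hj⟩ := Nat.exists_eq_succ_of_ne_zero hk0
  have hmin := Nat.find_min hex (show j < Nat.find hex by omega)
  rw [hj] at hk
  push Not at hmin
  obtain ⟨z₀, hz₀, hz₀1⟩ := hmin
  refine ⟨powSub S hSa (p ^ j), ne_bot_of_mem ⟨z₀, hz₀, rfl⟩ hz₀1, ?_, N_le_N_powSub hSa _,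
    fun X hX => ?_⟩
  · rintro _ ⟨y, hy, rfl⟩
    exact mem_omegaOne (pow_mem hy _) (by rw [← pow_mul, ← pow_succ]; exact hk y hy)
  · obtain ⟨x, hx, hx1, -, rfl⟩ := hX.exists_generator hp
    obtain ⟨z, hz, rfl⟩ := hX.le hx
    have := Fact.mk hp
    refine ⟨zpowers z, zpowers_le.2 hz, H24.cyc_zpowers z, fun y hy => ?_,
      (hX.of_le (zpowers_le.2 (pow_mem (mem_zpowers z) _))).eq_omegaOne_of_cyc hp
        (H24.cyc_zpowers z)⟩
    rw [card_zpowers', orderOf_eq_prime_pow hx1 (hk z hz)]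
    exact hk y hy

theorem dp_pow_card (hp : p.Prime) (hS : IsPi {p} S) (h : DP A B S) (hc : ♯A ≤ ♯B) (hy : y ∈ S) :
    y ^ ♯B = 1 := by
  obtain ⟨a, ha, b, hb, rfl⟩ := h.isProd.mul y hy
  obtain ⟨i, hi⟩ := (hS.of_le h.left_le).card_eq_pow hp
  obtain ⟨j, hj⟩ := (hS.of_le h.right_le).card_eq_pow hp
  have hd : ♯A ∣ ♯B := by
    rw [hi, hj] at hc ⊢
    exact pow_dvd_pow p ((Nat.pow_le_pow_iff_right hp.one_lt).1 hc)
  rw [(show Commute a b from (comm_of_cent h.cent hb ha).symm).mul_pow, pow_card_eq_one_of_mem hb,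
    orderOf_dvd_iff_pow_eq_one.1 ((orderOf_dvd_card' ha).trans hd), one_mul]

end General

variable [FT G]
variable {M Mst H E E₁ E₂ E₃ F K N P Q S U X Y A A₀ : Subgroup G} {p q : ℕ} {g x : G}

theorem sigma'_tau2_of_p2Elem (hM : IsCoatom M) (hp : p.Prime) (hs : p ∉ sigma M)
    (hA : PnElem p 2 M A) : p ∈ tau2 M :=
  mem_tau2.2 ⟨hp, hs, le_antisymm (sigma'_prank_le hM hp hs) (hA.le_prank hp)⟩

theorem tau2_not_norm (hM : IsCoatom M) (hp : p ∈ tau2 M) (hA : PnElem p 2 M A) : ¬ N[A] ≤ M := by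
  obtain ⟨E, hE, hAE⟩ := ex_sigma_compl hM hA.le
    ((hA.isPi (tau2_prime hp)).of_mem (tau2_not_sigma hp))
  exact (tau2_compl_context hM hE hp (hA.of_le hAE)).2.1.2.2

theorem tau3_sub_der1 (hM : IsCoatom M) (hQ : IsPi (tau3 M) Q) (hQM : Q ≤ M) : Q ≤ ⁅M, M⁆ := by
  obtain ⟨E, hE, hQE⟩ := ex_sigma_compl hM hQM (hQ.mono (tau3_sub_sigma' M))
  obtain ⟨E₃, h3, hQ3⟩ := H26.Hall_superset (sigma_compl_sol hM hE) hQE hQ
  exact hQ3.trans ((tau3_der1 hM hE h3).1.trans (der1_mono hE.le))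

theorem tau1_Sylow_cyclic (hq : q ∈ tau1 M) (hQ : IsPi {q} Q) (hQM : Q ≤ M) : Cyc Q :=
  odd_pgroup_cyc (tau1_prime hq) hQ (mFT_odd Q)
    ((prank_mono (tau1_prime hq) hQM).trans (tau1_prank hq).le)

/-- 12.11(a) -/
theorem primes_norm_tau2Elem_a (hM : IsCoatom M) (hE : Hall (sigma M)ᶜ M E) (hp : p ∈ tau2 M)
    (hA : PnElem p 2 E A) (hMst : IsCoatom Mst) (hN : N[A] ≤ Mst) (hq : q ∈ tau2 M) :
    q ∈ sigma Mst ∧ q ∉ beta Mst := by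
  have hpp := tau2_prime hp
  have hqq := tau2_prime hq
  have hAE := (tau2_compl_context hM hE hp hA).1.1
  have hEM : E ≤ Mst := hAE.norm.trans hN
  have hps : p ∈ sigma Mst := (prime_class_mmax_norm hMst hpp (hA.isPi hpp) hN).resolve_right
    fun h => tau2_not_norm hMst h (hA.mono hEM) hN
  refine ⟨by_contra fun hs => ?_, fun h => (tau2_not_beta hM hq).1 (beta_sub_betaG _ h)⟩
  obtain ⟨B, hB⟩ := ex_tau2Elem hE hq
  have hc : A ≤ C[B] := cents_of_coprime_nml hAE (tau2_compl_context hM hE hq hB).1.1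
    ((hA.isPi hpp).coprime_of_ne (hB.isPi hqq) fun e => hs (e ▸ hps))
  exact hA.ne_bot hpp two_pos (eq_bot_of_le (tau2_context hMst
    (sigma'_tau2_of_p2Elem hMst hqq hs (hB.mono hEM)) (hB.mono hEM)).2.2.1
    (le_inf (sub_Msigma hMst ((hA.isPi hpp).of_mem hps) (hA.le.trans hEM)) hc))

theorem Sylow_not_cent_of_dvd (hq : q.Prime) (hQ : Syl q E Q)
    (hd : q ∣ (E ⊓ C[A]).relIndex E) : ¬ Q ≤ C[A] := fun h =>
  hQ.idx_of_ge (le_inf hQ.le h) q hq hd rfl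

/-- 12.11(b) -/
theorem primes_norm_tau2Elem_b (hM : IsCoatom M) (hE : Hall (sigma M)ᶜ M E) (hp : p ∈ tau2 M)
    (hA : PnElem p 2 E A) (hMst : IsCoatom Mst) (hN : N[A] ≤ Mst) :
    PiNat (tau1 Mst ∪ tau2 Mst) ((E ⊓ C[A]).relIndex E) := by
  intro q hq hd
  have hpp := tau2_prime hp
  have hAE := (tau2_compl_context hM hE hp hA).1.1
  have hEM : E ≤ Mst := hAE.norm.trans hN
  have hq1 := tau1_cent_tau2Elem_factor hM hE hp hA q hq hd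
  have hqp : q ≠ p := fun e => tau2'1 M hq1 (e ▸ hp)
  obtain ⟨hps, hpb⟩ := primes_norm_tau2Elem_a hM hE hp hA hMst hN hp
  obtain ⟨Q, hQ⟩ := Sylow_exists hq E
  have key : ¬ Q ≤ ⁅Mst, Mst⁆ := fun h => by
    have hO := (beta_max_pdiv hMst hpp hpb).1
    have hAM : A ≤ ⁅Mst, Mst⁆ := (sub_Msigma hMst ((hA.isPi hpp).of_mem hps)
      (hA.le.trans hEM)).trans (Msigma_der1 hMst)
    refine Sylow_not_cent_of_dvd hq hQ hd (comm_eq_bot'.1 (eq_bot_of_le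
      ((hA.isPi hpp).inf_eq_bot (pcore_pi {p}ᶜ ⁅Mst, Mst⁆)) (le_inf
        (comm_le_left (hQ.le.trans hAE.norm)) ?_)))
    exact (comm_mono_right (hO.le_pcore (hQ.pi.compl_of_ne hqp) h)).trans
      (comm_le_right (hAM.trans (pcore_nml _ _).norm))
  rcases (partition_pi_mmax hMst).1 ⟨hq, (hd.trans (relIndex_dvd_card _ _)).trans (card_dvd hEM)⟩
    with h | h | h | h
  · exact Or.inl h
  · exact Or.inr h
  · exact absurd (tau3_sub_der1 hMst (hQ.pi.of_mem h) (hQ.le.trans hEM)) key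
  · exact absurd ((sub_Msigma hMst (hQ.pi.of_mem h) (hQ.le.trans hEM)).trans (Msigma_der1 hMst)) key

/-- 12.11 -/
theorem _root_.H25.primes_norm_tau2Elem (hM : IsCoatom M) (hE : Hall (sigma M)ᶜ M E)
    (hp : p ∈ tau2 M)
    (hA : PnElem p 2 E A) (hMst : IsCoatom Mst) (hN : N[A] ≤ Mst) :
    (∀ q ∈ tau2 M, q ∈ sigma Mst ∧ q ∉ beta Mst) ∧
      PiNat (tau1 Mst ∪ tau2 Mst) ((E ⊓ C[A]).relIndex E) ∧
      ∀ q, q.Prime → q ∣ (E ⊓ C[A]).relIndex E → q ∣ ♯(E ⊓ C[A]) →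
        q ∈ tau2 Mst ∧ (∃ P, Syl p ⊤ P ∧ P ⊴ Mst) ∧ ∃ Q, Syl q ⊤ Q ∧ Q ≤ Mst ∧ Abl Q := by
  refine ⟨fun q hq => primes_norm_tau2Elem_a hM hE hp hA hMst hN hq,
    primes_norm_tau2Elem_b hM hE hp hA hMst hN, fun q hq hd hdC => ?_⟩
  have hpp := tau2_prime hp
  obtain ⟨⟨hAE, -⟩, ⟨hCA, -⟩, -⟩ := tau2_compl_context hM hE hp hA
  rw [inf_eq_right.2 hCA] at hdC
  have hq1 := tau1_cent_tau2Elem_factor hM hE hp hA q hq hd
  obtain ⟨Q, hQ⟩ := Sylow_exists hq E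
  have hQc := tau1_Sylow_cyclic hq1 hQ.pi (hQ.le.trans hE.le)
  have hQA := Sylow_not_cent_of_dvd hq hQ hd
  have hQ₀ : Syl q C[A] (Q ⊓ C[A]) := hQ.inf_nml ⟨hCA, norm_C hAE.norm⟩
  have hd₀ : q ∣ ♯(Q ⊓ C[A]) := hQ₀.prime_dvd hq rfl hdC
  have hQ₁ := cyc_omegaOne_pnElem hq hQc (hd₀.trans (card_dvd inf_le_left))
  have h10 : omegaOne q Q ≤ Q ⊓ C[A] := cyc_omegaOne_le hQc inf_le_left hq hd₀
  obtain ⟨L, hL, hNL⟩ := exists_mmax_norm (hQ₁.ne_bot hq one_pos) (mFT_pgroup_proper (hQ₁.isPi hq))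
  have hCL : C[omegaOne q Q] ≤ L := (C_le_N _).trans hNL
  have hAL : N[A] ≤ L := by
    rw [← (Frattini_arg hq (C_nml_N A) hQ₀).sup_eq]
    exact sup_le (p2Elem_mmax hL hpp (hA.of_le ((cents_symm (h10.trans inf_le_right)).trans hCL)))
      (inf_le_right.trans ((cyc_N_le (hQc.of_le inf_le_left) h10).trans hNL))
  have hq2 : q ∈ tau2 L := by
    rcases prime_class_mmax_norm hL hq (hQ₁.isPi hq) hNL with h | h
    · rcases primes_norm_tau2Elem_b hM hE hp hA hL hAL q hq hd with h' | h'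
      · exact absurd h (tau1_not_sigma h')
      · exact h'
    · exact h
  have hLn := tau2_Msigma_nil hL hq2
  have hpL := (primes_norm_tau2Elem_a hM hE hp hA hL hAL hp).1
  obtain ⟨y, rfl⟩ := not_nconj.1 fun h => Set.disjoint_left.1 (sigma_disjoint_nil hL hMst h hLn).2
    hpL (primes_norm_tau2Elem_a hM hE hp hA hMst hN hp).1
  refine ⟨by simpa using hq2, ⟨cj y O[{p}, sigmaCore L],
    (Msigma_Sylow_G hL hpL (hLn.pcore_hall _)).cj_mem (mem_top y),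
      ((sigmaCore_nml L).pcore _).cj y⟩, ?_⟩
  obtain ⟨T, hT, hQT⟩ := Sylow_superset hq hQ.pi (le_top (a := Q))
  suffices hTa : Abl T from ⟨cj y T, hT.cj_mem (mem_top y),
    cj_mono y ((hTa.cents le_rfl (hQ₁.le.trans hQT)).trans hCL), hTa.cj y⟩
  by_contra hTa
  obtain ⟨EL, hEL, hQE⟩ := ex_sigma_compl hL (hQ.le.trans (hAE.norm.trans hAL))
    (hQ.pi.of_mem (tau2_not_sigma hq2))
  obtain ⟨B, hB⟩ := ex_tau2Elem hEL hq2
  obtain ⟨-, -, hc, E₀, hE₀, -⟩ := nonabelian_tau2 hL hEL hq2 hB hT.pi hTa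
  have e : omegaOne q Q = B ⊓ C[sigmaCore L] := by_contra fun h => (hc _ (hQ₁.mono hQE) h).2 hCL
  rw [← e] at hE₀
  have hsd := hE₀.modl hQ₁.le hQE
  have h0 : E₀ ⊓ Q = ⊥ := by_contra fun h => hQ₁.ne_bot hq one_pos (eq_bot_of_le hsd.inf
    (le_inf le_rfl (cyc_omegaOne_le hQc inf_le_right hq ((hQ.pi.inf_right _).dvd_card h))))
  rw [h0] at hsd
  exact hQA (hsd.eq_of_right_bot ▸ h10.trans inf_le_right)

theorem ex_sigmaCompl_tau1 (hM : IsCoatom M) (hE : Hall (sigma M)ᶜ M E) (hX : IsPi (tau1 M) X)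
    (hXE : X ≤ E) : ∃ E₁ E₂ E₃, SigmaCompl M E E₁ E₂ E₃ ∧ X ≤ E₁ := by
  obtain ⟨E₁, h1, hX1⟩ := H26.Hall_superset (sigma_compl_sol hM hE) hXE hX
  obtain ⟨E₃, h3⟩ := H26.Hall_exists (tau3 M) (sigma_compl_sol hM hE)
  obtain ⟨E₂, hc⟩ := ex_tau2_compl hM hE h1 h3
  exact ⟨E₁, E₂, E₃, hc, hX1⟩

/-- the key step of 12.12 -/
theorem exists_regular_cyclic (hM : IsCoatom M) (hE : Hall (sigma M)ᶜ M E) (hU : IsHall E U)
    (hreg : ∀ e ∈ U, e ≠ 1 → PiElt (tau1 M ∪ tau3 M) e → sigmaCore M ⊓ C{e} = ⊥)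
    (hp : p ∈ tau2 M) (hA : PnElem p 2 E A) (hS : Syl p ⊤ S) (hAS : A ≤ S) (hSa : Abl S) :
    ∃ Z, Z ≤ S ∧ Cyc Z ∧ U ≤ N[Z] ∧ (∀ y ∈ S, y ^ ♯Z = 1) ∧
      sigmaCore M ⊓ C[omegaOne p Z] = ⊥ := by
  have hpp := tau2_prime hp
  have hAM := hA.mono hE.le
  obtain ⟨⟨hAE, -⟩, -, hU1, -⟩ := tau2_compl_context hM hE hp hA
  obtain ⟨-, -, -, hCS⟩ := abelian_tau2_sub_Fitting hM hE hp hA hS hAS hSa
  have hSE : S ≤ E := hSa.le_C.trans hCS
  have hom := abelian_tau2_omega hM hp hAM hAS hSa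
  have hNAS : N[A] = N[S] := by
    obtain ⟨E₁, E₂, E₃, hc⟩ := ex_sigmaCompl hM hE
    exact (abelian_tau2 hM hc hp hA hS hAS hSa).2.2.1.1
  have hES : E ≤ N[S] := hNAS ▸ hAE.norm
  have hS1 : S ≠ ⊥ := ne_bot_of_le (hA.ne_bot hpp two_pos) hAS
  have hnreg : ∀ X, PnElem p 1 E X → N[S] ≤ N[X] → sigmaCore M ⊓ C[X] = ⊥ := fun X hX hn =>
    by_contra fun h => tau2_not_norm hM hp hAM
      (hNAS ▸ hn.trans ((N_le_NC X).trans (uniqMax_norm_le (hU1 X hX h))))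
  by_cases hUS : U ≤ C[S]
  · obtain ⟨W, hW1, hWA, hWn, hW⟩ := exists_socle hpp hS.pi hSa hS1
    rw [hom] at hWA
    obtain ⟨X, hX, hXreg⟩ : ∃ X, PnElem p 1 W X ∧ sigmaCore M ⊓ C[X] = ⊥ := by
      by_cases e : W = A
      · rw [e]; exact (tau2_context hM hp hAM).2.2.2.2
      · have hW' := hA.one_of_lt hpp hWA e hW1
        exact ⟨W, hW'.self, hnreg W (hW'.mono hA.le) hWn⟩
    obtain ⟨Z, h1, h2, h3, rfl⟩ := hW X hX
    exact ⟨Z, h1, h2, norm_of_cent (cents_of_le hUS h1), h3, hXreg⟩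
  have hdp : ∀ S₀ S₁, DP S₀ S₁ S → S₀ ≠ ⊥ → S₁ ≠ ⊥ → N[S] ≤ N[S₁] → ♯S₀ ≤ ♯S₁ →
      ∃ Z, Z ≤ S ∧ Cyc Z ∧ U ≤ N[Z] ∧ (∀ y ∈ S, y ^ ♯Z = 1) ∧
        sigmaCore M ⊓ C[omegaOne p Z] = ⊥ := by
    intro S₀ S₁ h h0 h1 hn hle
    have hr := h.prank_add_le hpp
    have hr0 := (prank_pos_iff hpp).2 ((hS.pi.of_le h.left_le).dvd_card h0)
    have hr2 := (prank_mono hpp (hSE.trans hE.le)).trans (tau2_prank hp).le
    have hc := odd_pgroup_cyc hpp (hS.pi.of_le h.right_le) (mFT_odd _) (by omega)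
    exact ⟨S₁, h.right_le, hc, hU.le.trans (hES.trans hn), fun y hy => dp_pow_card hpp hS.pi h hle hy,
      hnreg _ ((cyc_omegaOne_pnElem hpp hc ((hS.pi.of_le h.right_le).dvd_card h1)).mono
        (h.right_le.trans hSE)) (hn.trans (N_le_N_omegaOne p S₁))⟩
  suffices h : ∃ X, X ≤ N[S] ∧ IsPi {p}ᶜ X ∧ S ⊓ C[X] ≠ ⊥ ∧ ¬ X ≤ C[S] by
    obtain ⟨X, hX, hXp, h0, h1⟩ := h
    have hd := H26.coprime_abelian_cent_dprod hX (hS.pi.coprime hXp) hSa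
    obtain ⟨n0, n1⟩ := abelian_tau2_norm_Sylow hM hE hp hA hS hAS hSa hX
    have h1' : ⁅S, X⁆ ≠ ⊥ := fun e => h1 (comm_eq_bot'.1 e)
    rcases le_total ♯⁅S, X⁆ ♯(S ⊓ C[X]) with h | h
    · exact hdp _ _ hd h1' h0 n0.norm h
    · exact hdp _ _ hd.symm h0 h1' n1.norm h
  obtain ⟨q, Q₁, hq, hdq, hQ₁U, hQ₁S⟩ :
      ∃ q Q₁, q.Prime ∧ q ∣ ♯U ∧ Syl q U Q₁ ∧ ¬ Q₁ ≤ C[S] := by
    by_contra h
    push Not at h
    exact hUS (le_of_forall_syl_le h)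
  have hQ₁ : Syl q E Q₁ := hU.syl hQ₁U hq hdq
  have hqp : q ≠ p := by
    rintro rfl
    exact hQ₁S (hSa.cents ((hS.of_le hSE le_top).le_of_nml hES hQ₁.pi hQ₁.le) le_rfl)
  have hQ₁A : ¬ Q₁ ≤ C[A] := fun h => hQ₁S (H26.coprime_odd_faithful_Ohm1 hpp hS.pi
    (hQ₁.le.trans hES) (hS.pi.coprime_of_ne hQ₁.pi hqp.symm) (mFT_odd S) (hom.symm ▸ h))
  have hdi : q ∣ (E ⊓ C[A]).relIndex E := by_contra fun h => hQ₁A
    ((le_of_idx_compl hAE.infC ((piNat_compl_singleton hq).2 h) hQ₁.pi hQ₁.le).trans inf_le_right)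
  have hq1 := tau1_cent_tau2Elem_factor hM hE hp hA q hq hdi
  have hQ₁c := tau1_Sylow_cyclic hq1 hQ₁.pi (hQ₁.le.trans hE.le)
  have hX₁ := cyc_omegaOne_pnElem hq hQ₁c (hQ₁U.prime_dvd hq rfl hdq)
  have hX₁Z : omegaOne q Q₁ ≤ Z[E] := by
    obtain ⟨E₁, E₂, E₃, hc, hX1⟩ := ex_sigmaCompl_tau1 hM hE ((hX₁.isPi hq).of_mem hq1)
      (hX₁.le.trans hQ₁.le)
    refine (abelian_tau2 hM hc hp hA hS hAS hSa).2.2.2 _ hX1 (by rwa [hX₁.card_one]) ?_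
    obtain ⟨e, he, he1, ho, hz⟩ := hX₁.exists_generator hq
    rw [← hz, C_zpowers]
    exact hreg e (hQ₁U.le (hX₁.le he)) he1 ((piElt_of_orderOf_prime hq ho).of_mem (Or.inl hq1))
  obtain ⟨Mst, hMst, hN⟩ := exists_mmax_norm (hA.ne_bot hpp two_pos)
    (mFT_pgroup_proper (hA.isPi hpp))
  obtain ⟨hq2, ⟨P, hP, hPn⟩, -⟩ := (primes_norm_tau2Elem hM hE hp hA hMst hN).2.2 q hq hdi
    ((hX₁.prime_dvd_self one_pos).trans (card_dvd (hX₁Z.trans (inf_le_inf_left _ (C_anti hA.le)))))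
  have hSM : N[S] ≤ Mst := hNAS ▸ hN
  obtain rfl : P = S := hS.eq_of_le hP.pi ((hP.of_le hPn.le le_top).le_of_nml hPn.norm hS.pi
    ((norm_self S).trans hSM)) le_top
  obtain ⟨Q, hQ, hQ₁Q⟩ := Sylow_superset hq hQ₁.pi (hQ₁.le.trans hES)
  have hQa := sigma'_pgroup_abelian hMst hq (tau2_not_sigma hq2) hQ.pi (hQ.le.trans hSM)
  obtain ⟨B, hB⟩ := (prank_geP hq).1 (show 2 ≤ prank q Q by
    rw [prank_Syl hq hQ, ← tau2_prank hq2]; exact prank_mono hq hPn.norm)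
  by_contra hcon
  push Not at hcon
  refine hS1 (le_bot_iff.1 (H26.coprime_abelian_gen_cent hQa hQ.le
    (hS.pi.coprime_of_ne hQ.pi hqp.symm) fun B' hB' ⟨a, ha, hQa'⟩ => le_bot_iff.2 ?_))
  by_contra h0
  have hB'C := hcon B' (hB'.trans hQ.le) ((hQ.pi.of_le hB').compl_of_ne hqp) h0
  have h01 : Q ⊓ C[P] ≤ Q₁ := (inf_le_inf_left _ hCS).trans
    (hQ₁.eq_of_le (hQ.pi.inf_left _) (le_inf hQ₁Q hQ₁.le) inf_le_right).le
  have hn0 : Q ≤ N[Q ⊓ C[P]] := hQa.norm le_rfl inf_le_left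
  have hcq : Cyc (quo Q (Q ⊓ C[P])) := by
    refine ((H24.cyc_zpowers a).quo (Q ⊓ C[P])).of_le ?_
    rw [quo_le_quo_iff hn0 ((zpowers_le.2 ha).trans hn0)]
    exact hQa'.trans (sup_le (le_sup_of_le_right (le_inf hB' hB'C)) le_sup_left)
  have h1 : quo Q₁ (Q ⊓ C[P]) ≠ ⊥ := fun h =>
    hQ₁S (((quo_eq_bot (hQ₁Q.trans hn0)).1 h).trans inf_le_right)
  have h2 : quo B (Q ⊓ C[P]) ≤ quo Q₁ (Q ⊓ C[P]) :=
    ((hB.elem.img _).le_omegaOne (quo_mono _ hB.le)).trans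
      (cyc_omegaOne_le hcq (quo_mono _ hQ₁Q) hq ((hQ₁.pi.quo _).dvd_card h1))
  exact hB.not_cyc hq le_rfl (hQ₁c.of_le
    (le_of_quo_le (hB.le.trans hn0) ⟨h01, hQ₁Q.trans hn0⟩ h2))

/-- 12.12 (generalised as in MathComp) -/
theorem _root_.H25.FTtypeF_complement (hM : IsCoatom M) (hU : IsHall M U)
    (hn : sigmaCore M ⊔ U ⊴ M)
    (hUs : IsPi (sigma M)ᶜ U)
    (hreg : ∀ e ∈ U, e ≠ 1 → PiElt (tau1 M ∪ tau3 M) e → sigmaCore M ⊓ C{e} = ⊥) :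
    (∃ A₀, A₀ ⊴ U ∧ Abl A₀ ∧ ∀ x ∈ sigmaCore M, x ≠ 1 → U ⊓ C{x} ≤ A₀) ∧
      ∃ E₀, E₀ ≤ U ∧ Monoid.exponent E₀ = Monoid.exponent U ∧ Semireg (sigmaCore M) E₀ := by
  obtain ⟨E, hE, hUE⟩ := ex_sigma_compl hM hU.le hUs
  have hUn : U ⊴ E := by
    have h := hn.inf_right hE.le
    rwa [← group_modr (hU.le.trans (sigmaCore_norm M)) hUE, (sdprod_sigma hM hE).inf,
      bot_sup_eq] at h
  have hUH : IsHall E U := hU.of_le hUE hE.le
  have hUsol : Sol U := mmax_sub_sol hM hU.le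
  have hregX : ∀ x ∈ sigmaCore M, x ≠ 1 → IsPi (tau2 M) (U ⊓ C{x}) := by
    intro x hx hx1 r hr hd
    obtain ⟨e, he, ho⟩ := exists_orderOf_eq hr hd
    have he1 : e ≠ 1 := ne_one_of_orderOf_prime (ho ▸ hr)
    have hne : sigmaCore M ⊓ C{e} ≠ ⊥ := ne_bot_of_mem ⟨hx, mem_C1_comm.1 he.2⟩ hx1
    rcases (partition_pi_sigma_compl hM hE).1 ⟨hr, hd.trans (card_dvd (inf_le_left.trans hUE))⟩
      with h | h | h
    · exact absurd (hreg e he.1 he1 ((piElt_of_orderOf_prime hr ho).of_mem (Or.inl h))) hne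
    · exact h
    · exact absurd (hreg e he.1 he1 ((piElt_of_orderOf_prime hr ho).of_mem (Or.inr h))) hne
  by_cases hab : ∀ p ∈ tau2 M, p ∣ ♯U → ∀ S : Subgroup G, Syl p ⊤ S → Abl S
  swap
  · push Not at hab
    obtain ⟨p, hp, hd, S, hS, hSa⟩ := hab
    have hpp := tau2_prime hp
    obtain ⟨A, hA⟩ := ex_tau2Elem hE hp
    obtain ⟨-, ⟨hcard, -⟩, -, E₀, hE₀, hx⟩ := nonabelian_tau2 hM hE hp hA hS.pi hSa
    have hAU : A ≤ U := hUH.hall.le_of_nml hUn.norm ((hA.isPi hpp).of_mem ⟨hpp, hd⟩) hA.le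
    set A₀ := A ⊓ C[sigmaCore M] with hA₀
    have hA₀U : A₀ ≤ U := inf_le_left.trans hAU
    have hsd := hE₀.modl hA₀U hUE
    have hbot : ∀ x ∈ sigmaCore M, x ≠ 1 → E₀ ⊓ U ⊓ C{x} = ⊥ := fun x hx' hx1 =>
      ((hregX x hx' hx1).of_le (inf_le_inf_right _ inf_le_right)).eq_bot
        (((hx x hx' hx1).of_le (inf_le_inf_right _ inf_le_left)).mono (tau2'1 M))
    refine ⟨⟨A₀, hsd.nml, hA.abl.of_le inf_le_left, fun x hx' hx1 => ?_⟩, E₀ ⊓ U, inf_le_right,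
      exponent_eq_of_piElt inf_le_right fun r hr y hy hyr => ?_,
        Semireg.symm fun x hx' hx1 => hbot x hx' hx1⟩
    · rw [← hsd.isProd.modl (inf_le_right.trans (C_le_C1 hx')), hbot x hx' hx1, sup_bot_eq]
    by_cases e : r = p
    · subst e
      obtain ⟨P, hP, hyP⟩ := Sylow_superset hr hyr.isPi (zpowers_le.2 hy)
      have hPa := sigma'_pgroup_abelian hM hr (tau2_not_sigma hp) hP.pi (hP.le.trans hU.le)
      have hA₀P : A₀ ≤ P := hP.nml_le ((hA.isPi hr).inf_left _) hsd.nml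
      obtain ⟨a, ha, z, hz, rfl⟩ := (hsd.modl hA₀P hP.le).isProd.mul y (hyP (mem_zpowers y))
      have hd' : r ∣ ♯(E₀ ⊓ U) := by
        have h1 := (hA.of_le hAU).dvd_card
        rwa [hsd.card, hcard, pow_two, Nat.mul_dvd_mul_iff_left hr.pos] at h1
      obtain ⟨X, hX, hXc⟩ := exists_card_prime hr hd'
      have h2 := card_dvd_exponent_of_cyc (cyc_of_card_prime hr hXc) hX
      rw [(show Commute a z from hPa.comm (hA₀P ha) hz.2).mul_pow, pow_exponent hz.1, mul_one,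
        ← orderOf_dvd_iff_pow_eq_one]
      exact (orderOf_dvd_card' ha).trans (by rwa [hcard, ← hXc])
    · obtain ⟨m, -, hm⟩ := exists_cj_le_of_not_dvd_relIndex hr (H := E₀ ⊓ U) (by
        rw [hsd.relIndex_right, hcard]
        exact fun h => e ((Nat.prime_dvd_prime_iff_eq hr hpp).1 h)) (zpowers_le.2 hy) hyr.isPi
      exact pow_exponent_of_cj hm
  obtain ⟨E₂, h2⟩ := H26.Hall_exists (tau2 M) (sigma_compl_sol hM hE)
  have hU₂ : Hall (tau2 M) U (E₂ ⊓ U) := h2.inf_nml hUn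
  have hU₂a : Abl (E₂ ⊓ U) := (tau2_compl_abelian hM hE h2).of_le inf_le_left
  have hU₂n : U ≤ N[E₂ ⊓ U] := by
    by_cases h : E₂ ⊓ U = ⊥
    · rw [h, N_bot]; exact le_top
    obtain ⟨p, hpp, hd⟩ := H24.exists_prime_dvd_card h
    obtain ⟨S, hS⟩ := Sylow_exists hpp (⊤ : Subgroup G)
    have hp := hU₂.pi p hpp hd
    have e := (abelian_tau2_Hall hM hE h2 hp hS
      (hab p hp (hd.trans (card_dvd inf_le_right)) S hS)).1
    exact norm_inf (hUE.trans (e ▸ (pcore_Fitting_nml _ E).norm)) (norm_self U)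
  set U₂ := E₂ ⊓ U
  refine ⟨⟨U₂, ⟨hU₂.le, hU₂n⟩, hU₂a, fun x hx hx1 =>
    hU₂.le_of_nml hU₂n (hregX x hx hx1) inf_le_left⟩, ?_⟩
  have hZ : ∀ r : ℕ, ∃ Z : Subgroup G, Z ≤ U₂ ∧ IsPi {r} Z ∧ Cyc Z ∧ U ≤ N[Z] ∧
      (r ∈ tau2 M → r ∣ ♯U → (∀ y ∈ U, PiElt {r} y → y ^ ♯Z = 1) ∧
        sigmaCore M ⊓ C[omegaOne r Z] = ⊥) := by
    intro r
    by_cases h : r ∈ tau2 M ∧ r ∣ ♯U
    swap
    · exact ⟨⊥, bot_le, isPi_bot _, H24.cyc_bot, by rw [N_bot]; exact le_top,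
        fun a b => absurd ⟨a, b⟩ h⟩
    obtain ⟨hr, hd⟩ := h
    have hrr := tau2_prime hr
    obtain ⟨A, hA⟩ := ex_tau2Elem hE hr
    obtain ⟨S, hS, hAS⟩ := Sylow_superset hrr (hA.isPi hrr) (le_top (a := A))
    have hSa := hab r hr hd S hS
    obtain ⟨Z, z1, z2, z3, z4, z5⟩ := exists_regular_cyclic hM hE hUH hreg hr hA hS hAS hSa
    have hSE : S ≤ E := hSa.le_C.trans (abelian_tau2_sub_Fitting hM hE hr hA hS hAS hSa).2.2.2
    have hSU₂ : S ≤ U₂ := hU₂.le_of_nml hU₂n (hS.pi.of_mem hr)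
      (hUH.hall.le_of_nml hUn.norm (hS.pi.of_mem ⟨hrr, hd⟩) hSE)
    refine ⟨Z, z1.trans hSU₂, hS.pi.of_le z1, z2, z3, fun _ _ => ⟨fun y hy hyr => z4 y ?_, z5⟩⟩
    exact (hS.of_le hSU₂ le_top).mem_of_nml (hU₂a.norm le_rfl hSU₂) hyr
      (hU₂.mem_of_nml hU₂n (hyr.of_mem hr) hy)
  choose Z z1 z2 z3 z4 z5 using hZ
  obtain ⟨V, hV⟩ := H26.Hall_exists (tau2 M)ᶜ hUsol
  have hW : (⨆ r, Z r) ≤ U₂ := iSup_le z1
  have hE₀ : (⨆ r, Z r) ⊔ V ≤ U := sup_le (hW.trans hU₂.le) hV.le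
  refine ⟨(⨆ r, Z r) ⊔ V, hE₀, exponent_eq_of_piElt hE₀ fun r hr y hy hyr => ?_,
    semireg_of_forall_prime fun X hX hr => ?_⟩
  · by_cases h : r ∈ tau2 M
    · by_cases hy1 : y = 1
      · rw [hy1, one_pow]
      rw [← orderOf_dvd_iff_pow_eq_one]
      exact (orderOf_dvd_iff_pow_eq_one.2 ((z5 r h ((hyr.dvd_orderOf hy1).trans
        (orderOf_dvd_card' hy))).1 y hy hyr)).trans
          (card_dvd_exponent_of_cyc (z3 r) (le_sup_of_le_left (le_iSup Z r)))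
    · obtain ⟨m, -, hm⟩ := H26.Hall_Jsub hUsol hV (zpowers_le.2 hy) (hyr.isPi.of_mem h)
      exact pow_exponent_of_cj (hm.trans le_sup_right)
  · have hXU := hX.trans hE₀
    have hXp : IsPi {♯X} X := isPi_of_card_prime hr rfl
    by_cases h : ♯X ∈ tau2 M
    · have h1 : X ≤ ⨆ r, Z r := by
        have e := group_modl (hV.le.trans (norm_iSup z4)) hW
        rw [hV.pi.inf_eq_bot' hU₂.pi, sup_bot_eq] at e
        rw [e]
        exact le_inf hX (hU₂.le_of_nml hU₂n (hXp.of_mem h) hXU)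
      have h2 : (⨆ r, Z r) ≤ Z ♯X ⊔ O[{♯X}ᶜ, U₂] := iSup_le fun r => by
        by_cases e : r = ♯X
        · rw [e]; exact le_sup_left
        · exact le_sup_of_le_right (hU₂a.nil.le_pcore ((z2 r).compl_of_ne e) (z1 r))
      have h3 : Z ♯X ⊔ O[{♯X}ᶜ, U₂] ≤ N[Z ♯X] :=
        (sup_le (z1 _) (pcore_le _ _)).trans (hU₂.le.trans (z4 _))
      have h4 : X ≤ Z ♯X := ((isProd_sup (le_sup_right.trans h3)).hall_left (z2 _)
        (pcore_pi _ _)).le_of_nml h3 hXp (h1.trans h2)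
      rw [← (pnElem_one_of_card hr h4 rfl).eq_omegaOne_of_cyc hr (z3 _)]
      exact (z5 _ h (card_dvd hXU)).2
    · obtain ⟨e, he, he1⟩ := exists_ne_one (ne_bot_of_prime hr)
      rw [C_eq_C1_of_prime hr he he1]
      refine hreg e (hXU he) he1 ((hXp.piElt he).of_mem ?_)
      rcases (partition_pi_sigma_compl hM hE).1 ⟨hr, card_dvd (hXU.trans hUE)⟩ with h' | h' | h'
      · exact Or.inl h'
      · exact absurd h' h
      · exact Or.inr h'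

end H3BG
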