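import Mathlib
import Cfsg.Agent.H3.S12c

/-!
# Bender–Glauberman §12, last part (12.13 – 12.19)
-/

set_option autoImplicit false
set_option linter.unusedSectionVars false
set_option linter.unusedVariables false

open Subgroup H24 Cfsg H25
open scoped commutatorElement

namespace H3BG

universe u

variable {G : Type u} [Group G] [Finite G] [FT G]
variable {M Mst H E E₁ E₂ E₃ F K N P Q S U X Y A A₀ : Subgroup G} {p q : ℕ} {g x : G}

theorem nonabelian_sigma (hM : IsCoatom M) (hp : p.Prime) (hP : IsPi {p} P) (hPM : P ≤ M)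
    (hna : ¬ Abl P) : p ∈ sigma M :=
  by_contra fun h => hna (sigma'_pgroup_abelian hM hp h hP hPM)

/-- auxiliary step of 12.13 -/
theorem nonabelian_Uniqueness_aux (hp : p.Prime) (hP : Syl p ⊤ P) (hr : prank p P ≤ 2)
    (hM : IsCoatom M) (hH : IsCoatom H) (hne : H ≠ M) (hN : N[P] ≤ H ⊓ M) (hQP : Q ≤ P)
    (hQa : ¬ Abl Q) (hQ : ♯Q = p ^ 3) (hexp : ∀ x ∈ Q, x ^ p = 1) (hA : PnElem p 2 Q A)
    (hZA : Z[Q] ≤ A) : ∃ A₀, PnElem p 1 A A₀ ∧ A₀ ≠ Z[Q] ∧ UniqMax N[A₀] M := by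
  have hPHM : P ≤ H ⊓ M := (norm_self P).trans hN
  have hPM : P ≤ M := hPHM.trans inf_le_right
  obtain ⟨hprod, hab⟩ := nonuniq_norm_Sylow_pprod hM hH hne hp hP hN
  have e : betaCore M = alphaCore M := by rw [betaCore, ← hab]; rfl
  rw [e] at hprod
  have hMa : alphaCore M ≠ ⊥ := fun h => by
    rw [h] at hprod
    exact hne (eq_mmax hM hH (by rw [← hprod.sup_eq, bot_sup_eq]; exact inf_le_left)).symm
  have hpa : p ∉ alpha M := (not_mem_alpha hp).2 (by rwa [← prank_Syl hp (hP.of_le hPM le_top)])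
  have hap : IsPi {p}ᶜ (alphaCore M) := (alphaCore_pi M).compl_of_not_mem hpa
  have hZ : PnElem p 1 Q Z[Q] := pnElem_one_of_card hp inf_le_left (p3_card_center hp hQ hQa)
  have hd := p3_der1_eq_center hp hQ hQa
  have hQZ : Q ≤ N[Z[Q]] := (center_nml Q).norm
  have hQn : Q ≤ N[alphaCore M ⊓ C[Z[Q]]] :=
    norm_inf ((hQP.trans hPM).trans (alphaCore_norm M)) (norm_C hQZ)
  have hK : alphaCore M ⊓ C[Z[Q]] ≤ H := by
    set K := alphaCore M ⊓ C[Z[Q]] with hKdef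
    have hKZ : K ≤ N[Z[Q]] := norm_of_cent inf_le_right
    have hZn : Z[Q] ⊴ H ⊓ N[Z[Q]] :=
      ⟨le_inf (inf_le_left.trans (hQP.trans (hPHM.trans inf_le_left))) (norm_self _), inf_le_right⟩
    refine (le_of_quo_le hKZ hZn ?_).trans inf_le_left
    refine H26.coprime_abelian_gen_cent1 ((abl_quo hQZ).2 hd.le)
      (fun h => hQa (abl_of_cyc_quo_center le_rfl h)) (quo_norm _ hQn)
      (coprime_quo ((hap.inf_left _).coprime' (hP.pi.of_le hQP)) _) fun a ha ha1 => ?_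
    obtain ⟨a, haQ, haN, rfl⟩ := mem_quo.1 ha
    have haZ : a ∉ Z[Q] := fun h => ha1 (cs_of_mem h)
    have ha1' : a ≠ 1 := fun h => haZ (h ▸ one_mem _)
    have hX : PnElem p 1 Q (zpowers a) :=
      pnElem_zpowers haQ (by have := Fact.mk hp; exact orderOf_eq_prime (hexp a haQ) ha1')
    have hB := hZ.sup_one hX hp (cents_symm (inf_le_right.trans (C_anti hX.le)))
      fun h => haZ (h (mem_zpowers a))
    rintro k ⟨hk, hka⟩
    obtain ⟨k, hkK, hkN, rfl⟩ := mem_quo.1 hk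
    refine cs_mem_quo ⟨p2Elem_mmax hH hp (hB.mono (hQP.trans (hPHM.trans inf_le_left))) ?_, hkN⟩ hkN
    rw [C_sup, C_zpowers]
    refine ⟨hkK.2, ?_⟩
    have h1 : ⁅k, a⁆ ∈ Z[Q] := by
      rw [← cs_eq_one (der1_le _ (commutator_mem_commutator hkN haN)), cs, ap_commutator _ hkN haN,
        commutatorElement_eq_one_iff_mul_comm]
      exact mem_C1.1 hka
    have h2 : ⁅k, a⁆ ∈ K := comm_le_left hQn (commutator_mem_commutator hkK haQ)
    have h3 : ⁅k, a⁆ ∈ (⊥ : Subgroup G) :=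
      (hZ.isPi hp).inf_eq_bot (hap.inf_left C[Z[Q]]) ▸ (⟨h1, h2⟩ : _ ∈ Z[Q] ⊓ K)
    exact mem_C1.2 (commutatorElement_eq_one_iff_mul_comm.1 (mem_bot.1 h3))
  have hNZ : ¬ UniqMax N[Z[Q]] M := fun h => by
    have h1 := H26.pprod_norm_coprime_prod hprod (alphaCore_nml M)
      (inf_le_left.trans (hQP.trans hPHM)) (hap.coprime' (hZ.isPi hp)) (mmax_sol hM)
    refine hne (h.uniq H hH ?_)
    rw [← inf_eq_right.2 h.le, ← h1.sup_eq]
    exact sup_le hK (inf_le_left.trans inf_le_left)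
  by_contra hcon
  push Not at hcon
  refine hMa (p2Elem_mmax_b hM hp (hA.mono (hQP.trans hPM)) fun A₀ hA₀ => ?_).2.1
  by_cases h : A₀ = Z[Q]
  · rwa [h]
  · exact hcon A₀ hA₀ h

/-- 12.13 -/
theorem _root_.H25.nonabelian_Uniqueness (hp : p.Prime) (hP : IsPi {p} P) (hna : ¬ Abl P) :
    Uniq P := by
  by_contra hU
  obtain ⟨P, -, ⟨hP, hna, hU⟩, hmax⟩ :=
    exists_max (P := fun R : Subgroup G => IsPi {p} R ∧ ¬ Abl R ∧ ¬ Uniq R) ⟨hP, hna, hU⟩
  obtain ⟨M, hM, hPM⟩ := exists_coatom (mFT_pgroup_proper hP)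
  obtain ⟨H, hH, hPH, hne⟩ := exists_ne_of_not_uniqMax hM hPM fun h => hU h.isUniq
  have hnc : ¬ Cyc P := fun h => hna h.abl
  have hN : N[P] ≤ H ⊓ M := le_inf
    (norm_noncyclic_sigma hH (nonabelian_sigma hH hp hP hPH hna) hP hPH hnc)
    (norm_noncyclic_sigma hM (nonabelian_sigma hM hp hP hPM hna) hP hPM hnc)
  have hS : Syl p ⊤ P := by_contra fun h => by
    obtain ⟨R, h1, h2, -, h3⟩ := exists_lt_norm_of_not_syl hp hP le_top h
    exact h2.ne' (hmax R ⟨h1, fun h => hna (h.of_le h2.le), not_uniq_of_two hM hH hne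
      (h3.trans (hN.trans inf_le_right)) (h3.trans (hN.trans inf_le_left))⟩ h2.le)
  have hr : prank p P ≤ 2 := by_contra fun h =>
    hU (prank3_Uniqueness hp (mFT_pgroup_proper hP) (by omega))
  obtain ⟨Q, C, hQa, hQ, hexp, -, hcp, -⟩ := mFT_rank2_Sylow_cprod hp hS hr hna
  have hQp : IsPi {p} Q := hP.of_le hcp.left_le
  have hZ : PnElem p 1 Q Z[Q] := pnElem_one_of_card hp inf_le_left (p3_card_center hp hQ hQa)
  obtain ⟨A, hA, hZA⟩ := hZ.exists_two_of_prank hp hQp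
    (odd_pgroup_two_le_prank hp hQp (mFT_odd Q) fun h => hQa h.abl)
  obtain ⟨A₀, h0, hne0, hU0⟩ := nonabelian_Uniqueness_aux hp hS hr hM hH hne hN hcp.left_le hQa hQ
    hexp hA hZA
  obtain ⟨A₁, h1, hne1, hU1⟩ := nonabelian_Uniqueness_aux hp hS hr hH hM hne.symm
    (by rwa [inf_comm]) hcp.left_le hQa hQ hexp hA hZA
  obtain ⟨x, hx, rfl⟩ := p2Elem_trans hp hA.top (hZ.of_le hZA) hQp
    (norm_of_der1_le ((p3_der1_eq_center hp hQ hQa).le.trans hZA) hA.le) (le_C_center Q)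
    (fun h => by
      have := hA.rank_le hZ hp (le_inf hA.le (cents_symm h))
      omega) h0 hne0 h1 hne1
  have h2 := hU0.cj x
  rw [cj_N, cj_of_mem (hPM (hcp.left_le hx))] at h2
  exact hne (h2.eq hU1)

/-- 12.14 -/
theorem _root_.H25.cent_der_sigma_uniq (hM : IsCoatom M) (hp : p.Prime) (hX : PnElem p 1 M X)
    (h : p ∈ beta M ∨ X ≤ ⁅sigmaCore M, sigmaCore M⁆) :
    UniqMax C[X] M ∧ ∀ P, Syl p (sigmaCore M) P → UniqMax P M := by
  have hs : p ∈ sigma M := h.elim (fun h => beta_sub_sigma hM h) fun h =>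
    (sigmaCore_pi M) p hp ((hX.of_le (h.trans (der1_le _))).prime_dvd_card one_pos)
  obtain ⟨P, hP, hXP⟩ := Sylow_superset hp (hX.isPi hp)
    (sub_Msigma hM ((hX.isPi hp).of_mem hs) hX.le)
  have hPM := Msigma_Sylow hM hs hP
  suffices hU : Uniq (P ⊓ C[X]) by
    have h1 := hU.uniqMax hM (inf_le_left.trans hPM.le)
    refine ⟨h1.mono' inf_le_right (mFT_cent_proper (hX.ne_bot hp one_pos)), fun P' hP' => ?_⟩
    obtain ⟨m, hm, rfl⟩ := Sylow_trans hp hP hP'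
    have h2 := (h1.mono inf_le_left hPM.le).cj m
    rwa [cj_of_mem (sigmaCore_le M hm)] at h2
  by_cases hr : 2 < prank p (P ⊓ C[X])
  · exact prank3_Uniqueness hp (mFT_pgroup_proper (hP.pi.inf_left _)) hr
  have hnar : Narrow p P := fun h3 =>
    (H26.narrow_centP hp hP.pi (mFT_odd P) h3).2 ⟨X, hXP, hX.card_one, by omega⟩ h3
  have hb : p ∉ beta M := fun hb => ((mem_beta_iff_narrow hM).1 hb).2 P hPM hnar
  have hsd := (ncompl_iff hP).1 (beta_max_pdiv hM hp hb).2.1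
  have hXP' : X ≤ ⁅P, P⁆ := by
    have h1 := H26.pprod_focal_coprime hsd.isProd hsd.nml le_rfl ((pcore_pi _ _).coprime' hP.pi)
    exact ((le_inf hXP (h.resolve_left hb)).trans h1.le).trans inf_le_right
  have hna : ¬ Abl P := fun h => hX.ne_bot hp one_pos (eq_bot_of_le (der1_eq_bot.2 h) hXP')
  by_cases h3 : 2 < prank p P
  · exact absurd (eq_bot_of_le (H26.narrow_cent_dprod hp hP.pi (mFT_odd P) h3 hnar hX.card_one hXP
      (by omega)).2.1 (le_inf le_rfl hXP')) (hX.ne_bot hp one_pos)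
  obtain ⟨Q, C, hQa, hQ, -, hC, hcp, -⟩ := mFT_rank2_Sylow_cprod hp (sigma_Sylow_G hs hPM)
    (by omega) hna
  rw [hcp.der1, der1_eq_bot.2 hC.abl, sup_bot_eq, p3_der1_eq_center hp hQ hQa] at hXP'
  have hc : P ≤ C[X] := cents_symm (((hXP'.trans le_sup_left).trans hcp.center.ge).trans
    inf_le_right)
  rw [inf_eq_left.2 hc]
  exact nonabelian_Uniqueness hp hP.pi hna

theorem syl_of_isProd (hp : p.Prime) (h : IsProd K H M) (hK : IsPi {p}ᶜ K) (hP : Syl p H P) :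
    Syl p M P :=
  hP.of_idx h.right_le (hK.piNat.dvd h.symm.relIndex_dvd)

/-- 12.15 -/
theorem _root_.H25.sigma_subgroup_embedding (hM : IsCoatom M) (hq : q ∈ sigma M) (hXM : X ≤ M)
    (hX : IsPi {q} X)
    (hX1 : X ≠ ⊥) (hMst : IsCoatom Mst) (hN : N[X] ≤ Mst) (hne : Mst ≠ M) :
    NConj M Mst ∧ (∀ S, Syl q (M ⊓ Mst) S → X ≤ S → N[S] ≤ M ∧ Syl q Mst S) ∧
      (q ∈ sigma Mst → IsProd (betaCore Mst) (M ⊓ Mst) Mst ∧ tau1 Mst ⊆ tau1 M ∪ alpha M ∧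
        betaCore M = alphaCore M ∧ alphaCore M ≠ ⊥) ∧
      (q ∉ sigma Mst → q ∈ tau2 Mst ∧ primesOf M ∩ sigma Mst ⊆ beta Mst ∧
        Hall (sigma Mst)ᶜ Mst (M ⊓ Mst)) := by
  have hqq := sigma_prime hq
  have hnc := mmax_norm_notJ hM hMst hX hXM hN (Or.inl ⟨hq, hne.symm⟩)
  have hb : ∀ S, Syl q (M ⊓ Mst) S → X ≤ S → N[S] ≤ M ∧ Syl q Mst S := by
    intro S hS hXS
    have h1 : N[S] ≤ M := by
      by_cases hc : Cyc S
      · exact norm_sigma_Sylow hq (hS.of_norm_le hqq inf_le_left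
          (inf_le_inf_left _ ((cyc_N_le hc hXS).trans hN)))
      · exact norm_noncyclic_sigma hM hq hS.pi (hS.le.trans inf_le_left) hc
    exact ⟨h1, hS.of_norm_le hqq inf_le_right (le_inf (inf_le_right.trans h1) inf_le_left)⟩
  obtain ⟨S, hS, hXS⟩ := Sylow_superset hqq hX (le_inf hXM ((norm_self X).trans hN))
  obtain ⟨hNS, hSM⟩ := hb S hS hXS
  refine ⟨hnc, hb, fun hs => ?_, fun hs => ?_⟩
  · have hSG := sigma_Sylow_G hs hSM
    have hNS' := norm_sigma_Sylow hs hSM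
    obtain ⟨p1, -⟩ := nonuniq_norm_Sylow_pprod hMst hM hne.symm hqq hSG (le_inf hNS hNS')
    obtain ⟨p2, hab⟩ := nonuniq_norm_Sylow_pprod hM hMst hne hqq hSG (le_inf hNS' hNS)
    rw [inf_comm] at p2
    have e : betaCore M = alphaCore M := by rw [betaCore, ← hab]; rfl
    refine ⟨p1, fun r hr => ?_, e, fun h => ?_⟩
    · by_cases ha : r ∈ alpha M
      · exact Or.inr ha
      have hrr := tau1_prime hr
      obtain ⟨R, hR⟩ := Sylow_exists hrr (M ⊓ Mst)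
      have hb1 : IsPi {r}ᶜ (betaCore Mst) := (betaCore_pi Mst).compl_of_not_mem
        fun h => tau1_not_sigma hr (beta_sub_sigma hMst h)
      have hb2 : IsPi {r}ᶜ (betaCore M) := (betaCore_pi M).compl_of_not_mem (hab ▸ ha)
      have hR1 := syl_of_isProd hrr p1 hb1 hR
      have hR2 := syl_of_isProd hrr p2 hb2 hR
      have hrk : prank r M = 1 := by rw [← prank_Syl hrr hR2, prank_Syl hrr hR1, tau1_prank hr]
      have hti : R ⊓ ⁅M, M⁆ = ⊥ := by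
        rw [H26.pprod_focal_coprime p2 (betaCore_nml M) hR.le (hb2.coprime' hR.pi)]
        exact eq_bot_of_le (hR.pi.inf_eq_bot ((isPi_compl_iff hrr).2 (tau1_not_dvd_der hr)))
          (inf_le_inf_left _ (der1_mono inf_le_right))
      refine Or.inl (mem_tau1.2 ⟨hrr, fun h => sigma_Sylow_neq1 h hR2 ?_, hrk,
        (isPi_compl_iff hrr).1 ((hR2.inf_nml (der1_nml M)).isPi_compl_of_eq_bot hti)⟩)
      rwa [inf_eq_left.2 (sigma_Sylow_sub_der1 hM h hR2)] at hti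
    · rw [e, h] at p2
      exact hne (eq_mmax hM hMst (by rw [← p2.sup_eq, bot_sup_eq]; exact inf_le_right)).symm
  · have hq2 : q ∈ tau2 Mst := (prime_class_mmax_norm hMst hqq hX hN).resolve_left hs
    obtain ⟨A, hA⟩ := (prank_geP hqq).1 (show 2 ≤ prank q S by
      rw [prank_Syl hqq hSM, tau2_prank hq2])
    have hAM : A ≤ M := hA.le.trans (hS.le.trans inf_le_left)
    obtain ⟨-, -, hCA, hti, -⟩ := tau2_context hMst hq2 (hA.mono hSM.le)
    have hpi : IsPi (sigma Mst)ᶜ (M ⊓ Mst) :=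
      ((Msigma_Hall hMst).nml_inf (sigmaCore_norm Mst) inf_le_right).isPi_compl_of_eq_bot
        (eq_bot_of_le (hti M hM hAM hne.symm) (inf_le_inf_left _ inf_le_left))
    obtain ⟨E, hE, hME⟩ := ex_sigma_compl hMst inf_le_right hpi
    obtain ⟨⟨hAE, -⟩, ⟨hCE, -⟩, -, hdis⟩ :=
      tau2_compl_context hMst hE hq2 (hA.mono (hS.le.trans hME))
    obtain rfl : M ⊓ Mst = E := le_antisymm hME (le_inf (hAE.norm.trans
      (norm_noncyclic_sigma hM hq (hA.isPi hqq) hAM (hA.not_cyc hqq le_rfl))) hE.le)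
    refine ⟨hq2, fun p ⟨⟨hp, hd⟩, hps⟩ => by_contra fun hpb => ?_, hE⟩
    have hqb := (tau2_not_beta hMst hq2).1
    have hps' : p ∉ sigma M := fun h => Set.disjoint_left.1 (hdis M hM hnc.symm).2 hps h
    rcases lt_trichotomy p q with h | h | h
    · obtain ⟨⟨P, hP, hc⟩, -⟩ := beta'_cent_Sylow hMst hp hqq hpb
        (fun h => hqb (beta_sub_betaG _ h)) (hA.isPi hqq) (Or.inr ⟨h, hA.le.trans hSM.le⟩)
      exact sigma_Sylow_neq1 hps (Msigma_Sylow hMst hps hP)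
        (eq_bot_of_le hCA (le_inf hP.le (cents_symm hc)))
    · exact hs (h ▸ hps)
    · obtain ⟨P, hP⟩ := exists_pnElem_one hp hd
      obtain ⟨⟨Q, hQ, hc⟩, -⟩ := beta'_cent_Sylow hM hqq hp (fun h => hqb (beta_sub_betaG _ h))
        (fun h => hps' (beta_sub_sigma hM h)) (hP.isPi hp) (Or.inr ⟨h, hP.le⟩)
      obtain ⟨m, -, hm⟩ := Sylow_Jsub hqq (Msigma_Sylow hM hq hQ) (hA.isPi hqq) hAM
      have h1 : P ≤ cj m C[A] := by rw [cj_C]; exact cents_of_le hc hm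
      have h2 := (hP.of_le h1).prime_dvd_card one_pos
      rw [card_cj] at h2
      exact hpi p hp (h2.trans (card_dvd hCE)) hps

theorem sigma_group_proper (hM : IsCoatom M) (hY : IsPi (sigma M) Y) : Y ≠ ⊤ := by
  rintro rfl
  obtain ⟨q, hq, hd⟩ := exists_prime_der1_quo hM
  exact der1_quo_sigma' hM hd (hY q hq ((hd.trans (relIndex_dvd_card _ _)).trans (card_dvd le_top)))

/-- the common part of the proofs of the assertions of 12.16 -/
theorem sigma_Jsub_aux (hM : IsCoatom M) (hY : IsPi (sigma M) Y) (hY1 : Y ≠ ⊥) :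
    ∃ g L K, IsCoatom L ∧ N[cj g Y] ≤ L ∧ K ⊴ L ∧ IsProd K (M ⊓ L) L ∧ IsPi (sigma M)ᶜ K ∧
      ∀ p ∈ primesOf M, p ∉ betaG G → IsPi {p}ᶜ K := by
  obtain ⟨q, hq, hX1⟩ := exists_pcore_ne_bot (mFT_sol (sigma_group_proper hM hY)) hY1
  have hqs : q ∈ sigma M := (pcore_pi {q} Y).mem_of_ne_bot (hY.of_le (pcore_le _ _)) hX1
  obtain ⟨Q, hQ⟩ := Sylow_exists hq M
  obtain ⟨g, -, hg⟩ := Sylow_Jsub hq (sigma_Sylow_G hqs hQ) (pcore_pi {q} Y) le_top
  rw [← pcore_cj] at hg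
  have hX1' : O[{q}, cj g Y] ≠ ⊥ := by rwa [pcore_cj, Ne, cj_eq_bot]
  obtain ⟨L, hL, hNL⟩ := exists_mmax_norm hX1' (mFT_pgroup_proper (pcore_pi _ _))
  refine ⟨g, L, ?_⟩
  have hYL := (N_le_N_pcore {q} (cj g Y)).trans hNL
  by_cases e : L = M
  · subst e
    exact ⟨⊥, hL, hYL, Nml.bot _, by
      rw [inf_idem]; exact (SD.bot_left L).isProd, isPi_bot _, fun _ _ _ => isPi_bot _⟩
  obtain ⟨hnc, -, hd, he⟩ := sigma_subgroup_embedding hM hqs (hg.trans hQ.le) (pcore_pi _ _) hX1'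
    hL hNL e
  by_cases hs : q ∈ sigma L
  · refine ⟨betaCore L, hL, hYL, betaCore_nml L, (hd hs).1, (betaCore_pi L).mono fun r hr h =>
      Set.disjoint_left.1 (sigma_disjoint_alpha hL hM hnc.symm).2 (beta_sub_alpha L hr) h,
      fun p _ hb => (betaCore_pi L).compl_of_not_mem fun h => hb (beta_sub_betaG L h)⟩
  · obtain ⟨h1, h2, h3⟩ := he hs
    refine ⟨sigmaCore L, hL, hYL, sigmaCore_nml L, (sdprod_sigma hL h3).isProd,
      (sigmaCore_pi L).mono fun r hr h => Set.disjoint_left.1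
        (sigma_disjoint_nil hL hM hnc.symm (tau2_Msigma_nil hL h1)).2 hr h,
      fun p hp hb => (sigmaCore_pi L).compl_of_not_mem fun h => hb (beta_sub_betaG L (h2 ⟨hp, h⟩))⟩

theorem exists_cj_le_of_isProd {π : Set ℕ} {L : Subgroup G} (hL : Sol L) (h : IsProd K H L)
    (hK : IsPi πᶜ K) (hX : IsPi π X) (hXL : X ≤ L) : ∃ g ∈ L, cj g X ≤ H := by
  obtain ⟨W, hW⟩ := H26.Hall_exists π (hL.of_le h.right_le)
  obtain ⟨g, hg, h1⟩ := H26.Hall_Jsub hL (hW.of_idx h.right_le (hK.piNat.dvd h.symm.relIndex_dvd))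
    hXL hX
  exact ⟨g, hg, h1.trans hW.le⟩

/-- 12.16, first part -/
theorem _root_.H25.sigma_Jsub (hM : IsCoatom M) (hY : IsPi (sigma M) Y) (hY1 : Y ≠ ⊥) :
    ∃ g, cj g Y ≤ sigmaCore M := by
  obtain ⟨g, L, K, hL, hN, -, hp, hK, -⟩ := sigma_Jsub_aux hM hY hY1
  obtain ⟨y, -, hy⟩ := exists_cj_le_of_isProd (mmax_sol hL) hp hK (hY.cj g) ((norm_self _).trans hN)
  exact ⟨y * g, by rw [cj_mul]; exact sub_Msigma hM ((hY.cj g).cj y) (hy.trans inf_le_left)⟩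

/-- 12.16(a,b) -/
theorem _root_.H25.sigma_Jsub_rank (hM : IsCoatom M) (hY : IsPi (sigma M) Y) (hY1 : Y ≠ ⊥)
    (hE : Hall (sigma M)ᶜ M E) (hp : p ∈ primesOf E) (hb : p ∉ betaG G) (hH : IsCoatom H) (hYH : Y ≤ H)
    (hnc : NConj M H) :
    prank p (H ⊓ N[Y]) ≤ 1 ∧ (p ∈ tau1 M → ¬ p ∣ ♯⁅H ⊓ N[Y], H ⊓ N[Y]⁆) := by
  obtain ⟨g, L, K, hL, hN, hKn, hpr, hK, hK'⟩ := sigma_Jsub_aux hM hY hY1
  have hpp := hp.1
  have hKp := hK' p (primesOf_mono hE.le hp) hb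
  constructor
  · by_contra h
    obtain ⟨A, hA⟩ := (prank_geP hpp).1 (show 2 ≤ prank p (H ⊓ N[Y]) by omega)
    have hAY : cj g A ≤ N[cj g Y] := norm_cj (hA.le.trans inf_le_right) g
    obtain ⟨y, -, hy⟩ := exists_cj_le_of_isProd (π := sigma M ∪ {p}) (mmax_sol hL) hpr
      (by rw [Set.compl_union]; exact hK.inter hKp)
      (((hY.cj g).mono Set.subset_union_left).sup (((hA.isPi hpp).cj g).of_mem (Or.inr rfl)) hAY)
      (sup_le ((norm_self _).trans hN) (hAY.trans hN))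
    rw [cj_sup, sup_le_iff] at hy
    have hA' : PnElem p 2 M (cj y (cj g A)) := ((hA.cj g).cj y).of_le (hy.2.trans inf_le_left)
    have h1 := (tau2_context hM (sigma'_tau2_of_p2Elem hM hpp (hE.pi p hpp hp.2) hA') hA').2.2.2.1
      (cj y (cj g H)) (isCoatom_cj (isCoatom_cj hH g) y)
      (cj_mono y (cj_mono g (hA.le.trans inf_le_left))) ((hnc.cj_right g).cj_right y).ne
    exact hY1 (by simpa using eq_bot_of_le h1 (le_inf (sub_Msigma hM ((hY.cj g).cj y)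
      (hy.1.trans inf_le_left)) (cj_mono y (cj_mono g hYH))))
  · intro h1 hd
    have h2 : cj g ⁅H ⊓ N[Y], H ⊓ N[Y]⁆ ≤ ⁅L, L⁆ := by
      rw [cj_comm]; exact der1_mono ((norm_cj inf_le_right g).trans hN)
    have hn : M ⊓ L ≤ N[K] := inf_le_right.trans hKn.norm
    have h3 : ⁅L, L⁆ ≤ K ⊔ ⁅M ⊓ L, M ⊓ L⁆ := by
      conv_lhs => rw [← hpr.sup_eq]
      rw [der1_sup hn]
      exact sup_le_sup_right (sup_le (der1_le K) (comm_le_left hn)) _
    have h4 : IsPi {p}ᶜ (K ⊔ ⁅M ⊓ L, M ⊓ L⁆) := hKp.sup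
      (((isPi_compl_iff hpp).2 (tau1_not_dvd_der h1)).of_le (der1_mono inf_le_left))
      ((der1_le _).trans hn)
    exact (isPi_compl_iff hpp).1 (isPi_cj.1 (h4.of_le (h2.trans h3))) hd

/-- 12.17 -/
theorem _root_.H25.sigma_compl_embedding (hM : IsCoatom M) (hE : Hall (sigma M)ᶜ M E) :
    sigmaCore M ⊓ C[E] ≤ ⁅sigmaCore M, sigmaCore M⁆ ∧ ⁅sigmaCore M, E⁆ = sigmaCore M :=
  (H26.coprime_der1_sdprod (sdprod_sigma hM hE) (coprime_sigma_compl hM hE) (Msigma_sol hM)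
    (Msigma_der1 hM)).symm

theorem _root_.H25.sigma_compl_embedding_cj (hM : IsCoatom M) (hg : g ∉ M) :
    Cyc (sigmaCore M ⊓ cj g M) ∧ IsPi (beta M)ᶜ (sigmaCore M ⊓ cj g M) ∧
      sigmaCore M ⊓ cj g M ⊓ ⁅sigmaCore M, sigmaCore M⁆ = ⊥ := by
  have key : ∀ p X, p.Prime → IsPi {p} X → X ≠ ⊥ → X ≤ sigmaCore M ⊓ cj g M → ¬ C[X] ≤ M := by
    intro p X hp hX h1 hle hC
    exact hg (inv_mem_iff.1 (sigma_group_trans_e hM (hX.mem_of_ne_bot
      ((sigmaCore_pi M).of_le (hle.trans inf_le_left)) h1) hX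
      ((hle.trans inf_le_left).trans (sigmaCore_le M)) hC (le_cj_iff.1 (hle.trans inf_le_right))))
  have key1 : ∀ p X, p.Prime → PnElem p 1 (sigmaCore M ⊓ cj g M) X →
      ¬ (p ∈ beta M ∨ X ≤ ⁅sigmaCore M, sigmaCore M⁆) := fun p X hp hX h =>
    key p X hp (hX.isPi hp) (hX.ne_bot hp one_pos) hX.le
      (cent_der_sigma_uniq hM hp (hX.mono (inf_le_left.trans (sigmaCore_le M))) h).1.le
  have h3 : sigmaCore M ⊓ cj g M ⊓ ⁅sigmaCore M, sigmaCore M⁆ = ⊥ := by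
    by_contra h
    obtain ⟨p, hp, hd⟩ := H24.exists_prime_dvd_card h
    obtain ⟨X, hX⟩ := exists_pnElem_one hp hd
    exact key1 p X hp (hX.mono inf_le_left) (Or.inr (hX.le.trans inf_le_right))
  refine ⟨(abelian_rank1_cyclic (der1_eq_bot.1 (eq_bot_of_le h3
    (le_inf (der1_le _) (der1_mono inf_le_left))))).2 (by_contra fun h => ?_), fun p hp hd hb => ?_,
    h3⟩
  · obtain ⟨p, hp, A, hA⟩ := rank_geP.1 (show 2 ≤ rank (sigmaCore M ⊓ cj g M) by omega)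
    exact key p A hp (hA.isPi hp) (hA.ne_bot hp two_pos) hA.le
      (p2Elem_mmax hM hp (hA.mono (inf_le_left.trans (sigmaCore_le M))))
  · obtain ⟨X, hX⟩ := exists_pnElem_one hp hd
    exact key1 p X hp hX (Or.inl hb)

theorem tau1_not_norm (hM : IsCoatom M) (hp : p ∈ tau1 M) (hP : IsPi {p} P) : ¬ N[P] ≤ M :=
  fun h => (prime_class_mmax_norm hM (tau1_prime hp) hP h).elim (tau1_not_sigma hp) (tau2'1 M hp)

theorem rank_Malpha_cent_le (hM : IsCoatom M) (hXM : X ≤ M) (hX : IsPi (alpha M)ᶜ X) (h1 : X ≠ ⊥)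
    (hnu : ¬ UniqMax N[X] M) : rank (alphaCore M ⊓ C[X]) ≤ 1 := by_contra fun h =>
  hnu (((cent_alpha'_uniq hM hXM hX (by omega)).uniqMax hM inf_le_left).mono'
    (inf_le_right.trans (C_le_N X)) (mFT_norm_proper h1 (sub_mmax_proper hM hXM)))

omit [FT G] in
/-- if `P` of prime order acts without fixed points on `R` and `Q`, then `Q` centralises `R`. -/
theorem cent_of_fpf_prime {R : Subgroup G} (hP : (♯P).Prime) (hQR : Q ≤ N[R]) (hPR : P ≤ N[R])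
    (hPQ : P ≤ N[Q]) (hcop : (♯R).Coprime ♯Q) (hR : Sol R) (hQ : Sol Q) (h1 : R ⊓ C[P] = ⊥)
    (h2 : Q ⊓ C[P] = ⊥) : Q ≤ C[R] :=
  (prime_Frobenius_sol_kernel_nil (norm_sup hPR hPQ) (hR.sup hQ hQR) hP
    (cent_sup_eq_bot hQR hPR hPQ (inf_eq_bot_of_cop hcop) h1 h2)).cents_of_coprime
      le_sup_right le_sup_left hcop.symm

/-- 12.18(a) -/
theorem _root_.H25.cent_Malpha_reg_tau1_a (hM : IsCoatom M) (hp : p ∈ tau1 M) (hq : q.Prime)
    (hqp : q ≠ p)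
    (hP : PnElem p 1 M P) (hQ1 : Q ≠ ⊥) (hPQ : P ≤ N[Q]) (hreg : Q ⊓ C[P] = ⊥)
    (hnu : ¬ UniqMax N[Q] M) (hMa : alphaCore M ≠ ⊥) (hqa : q ∉ alpha M) (hQ : IsPi {q} Q)
    (hQM : Q ≤ M) : alphaCore M ⊓ C[P] ≠ ⊥ ∧ alphaCore M ⊓ C[Q ⊔ P] = ⊥ := by
  have hpp := tau1_prime hp
  have hpa : p ∉ alpha M := fun h => tau1_not_sigma hp (alpha_sub_sigma hM h)
  have hPp : (♯P).Prime := by rwa [hP.card_one]
  have hQa : IsPi (alpha M)ᶜ Q := hQ.of_mem hqa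
  have hPa : IsPi (alpha M)ᶜ P := (hP.isPi hpp).of_mem hpa
  have hrQ := rank_Malpha_cent_le hM hQM hQa hQ1 hnu
  have hrP := rank_Malpha_cent_le hM hP.le hPa (hP.ne_bot hpp one_pos)
    fun h => tau1_not_norm hM hp (hP.isPi hpp) h.le
  have hQPn : Q ⊔ P ≤ N[alphaCore M] := (sup_le hQM hP.le).trans (alphaCore_norm M)
  have hcop := (alphaCore_pi M).coprime (hQa.sup hPa hPQ)
  have hnc : ∀ r R, r ∈ alpha M → Syl r (alphaCore M) R → ¬ Q ≤ C[R] := by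
    intro r R hr hR h
    have h1 := (prank_le_rank (alpha_prime hr) R).trans
      ((rank_mono (le_inf hR.le (cents_symm h))).trans hrQ)
    rw [prank_Syl (alpha_prime hr) ((Malpha_Hall hM).trans_syl hR hr)] at h1
    have := (mem_alpha.1 hr).2
    omega
  constructor
  · intro h
    obtain ⟨r, hr, hd⟩ := H24.exists_prime_dvd_card hMa
    obtain ⟨R, hR⟩ := Sylow_exists hr (alphaCore M)
    exact hnc r R (alphaCore_pi M r hr hd) hR (cents_of_le (cent_of_fpf_prime hPp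
      (le_sup_left.trans hQPn) (le_sup_right.trans hQPn) hPQ ((alphaCore_pi M).coprime hQa)
      (Malpha_sol hM) (hQ.sol hq) h hreg) hR.le)
  by_contra hne
  obtain ⟨r, hr, hd⟩ := H24.exists_prime_dvd_card hne
  obtain ⟨Z₀, hZ₀⟩ := exists_pnElem_one hr hd
  have hra : r ∈ alpha M := alphaCore_pi M r hr (hd.trans (card_dvd inf_le_left))
  have hZC : Z₀ ≤ C[Q ⊔ P] := hZ₀.le.trans inf_le_right
  obtain ⟨R, hR, hnR, hZR⟩ := H26.sol_coprime_Sylow_subset hr hQPn hcop (Or.inr (Malpha_sol hM))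
    (hZ₀.le.trans inf_le_left) (hZ₀.isPi hr) (norm_of_cent (cents_symm hZC))
  obtain ⟨R₁, hch, -, -, hexp, hcrit⟩ := H26.critical_odd hr hR.pi (mFT_odd R)
    (ne_bot_of_le (hZ₀.ne_bot hr one_pos) hZR)
  have hqr : q ≠ r := fun e => hqa (e ▸ hra)
  have hpr : p ≠ r := fun e => hpa (e ▸ hra)
  refine hnc r R hra hR (hcrit Q (le_sup_left.trans hnR) (hQ.compl_of_ne hqr) ?_)
  have hR₁ : IsPi {r} R₁ := hR.pi.of_le hch.le
  have hn₁ : Q ⊔ P ≤ N[R₁] := hch.norm hnR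
  have key : ∀ X, X ≤ Q ⊔ P → rank (alphaCore M ⊓ C[X]) ≤ 1 → R₁ ⊓ C[X] ≤ Z₀ := by
    intro X hX hrk
    have hc : Cyc (R ⊓ C[X]) := odd_pgroup_cyc hr (hR.pi.inf_left _) (mFT_odd _)
      ((prank_le_rank hr _).trans ((rank_mono (inf_le_inf_right _ hR.le)).trans hrk))
    rw [← (hZ₀.of_le (le_inf hZR (hZC.trans (C_anti hX)))).eq_omegaOne_of_cyc hr hc]
    exact fun y hy => mem_omegaOne ⟨hch.le hy.1, hy.2⟩ (hexp y hy.1)
  have hT : ∀ X, X ≤ Q ⊔ P → rank (alphaCore M ⊓ C[X]) ≤ 1 → R₁ ⊓ C[X] = R₁ ⊓ Z₀ := fun X hX hrk =>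
    le_antisymm (le_inf inf_le_left (key X hX hrk)) (inf_le_inf_left _ (hZC.trans (C_anti hX)))
  have hTP := hT P le_sup_right hrP
  have hTQ := hT Q le_sup_left hrQ
  set T := R₁ ⊓ Z₀ with hTdef
  have hTn : Q ⊔ P ≤ N[T] := norm_inf hn₁ (norm_of_cent (cents_symm hZC))
  have hTp : IsPi {r} T := hR₁.inf_left _
  have hNn : Q ⊔ P ≤ N[R₁ ⊓ N[T]] := norm_inf hn₁ (norm_N hTn)
  have hTN : T ⊴ R₁ ⊓ N[T] := ⟨le_inf inf_le_left (norm_self T), inf_le_right⟩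
  have hPT : P ≤ N[T] := le_sup_right.trans hTn
  have hQT : Q ≤ N[T] := le_sup_left.trans hTn
  have hcTP := hTp.coprime_of_ne (hP.isPi hpp) hpr.symm
  have hcTQ := hTp.coprime_of_ne hQ hqr.symm
  have h1 : quo Q T ≤ C[quo (R₁ ⊓ N[T]) T] := by
    refine cent_of_fpf_prime (P := quo P T) (by
      rwa [card_quo_of_inf hPT (inf_eq_bot_of_cop hcTP)]) (quo_norm T (le_sup_left.trans hNn))
      (quo_norm T (le_sup_right.trans hNn)) (quo_norm T hPQ)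
      (coprime_quo ((hR₁.inf_left _).coprime_of_ne hQ hqr.symm) T)
      (((hR₁.inf_left _).sol hr).quo T) ((hQ.sol hq).quo T) ?_ ?_
    · rw [← coprime_quo_cent hTN.le hPT hcTP (hTp.sol hr)]
      exact quo_eq_bot_of_le ((inf_le_inf_right _ inf_le_left).trans hTP.le)
    · rw [← coprime_norm_quo_cent hPQ hPT hQT hcTP (Or.inl (hTp.sol hr)), hreg]
      exact quo_eq_bot_of_le bot_le
  have h2 := (coprime_isProd_of_quo_cent hTN hQT hcTQ (Or.inl (hTp.sol hr)) h1).sup_eq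
  have h3 : T = R₁ := (hR₁.nil hr).eq_of_norm_le inf_le_left (by
    rw [← h2]; exact sup_le le_rfl ((inf_le_inf_right _ inf_le_left).trans hTQ.le))
  exact cents_symm (inf_eq_left.1 (hTQ.trans h3))

/-- 12.18(b) -/
theorem _root_.H25.cent_Malpha_reg_tau1_b (hM : IsCoatom M) (hp : p ∈ tau1 M) (hq : q.Prime)
    (hqp : q ≠ p)
    (hP : PnElem p 1 M P) (hQ1 : Q ≠ ⊥) (hPQ : P ≤ N[Q]) (hreg : Q ⊓ C[P] = ⊥)
    (hnu : ¬ UniqMax N[Q] M) (hQ : Syl q M Q) :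
    alpha M = beta M ∧ alphaCore M ≠ ⊥ ∧ q ∉ alpha M ∧ alphaCore M ⊓ C[P] ≠ ⊥ ∧
      alphaCore M ⊓ C[Q ⊔ P] = ⊥ := by
  have hpp := tau1_prime hp
  have hNQ := mFT_norm_proper hQ1 (mFT_pgroup_proper hQ.pi)
  have hqa : q ∉ alpha M := fun h =>
    hnu (((uniq_Sylow_alpha hM h hQ).uniqMax hM hQ.le).mono' (norm_self Q) hNQ)
  have hQd : Q ≤ ⁅M, M⁆ := by
    have h1 := (H26.coprime_cent_prod hPQ (hQ.pi.coprime_of_ne (hP.isPi hpp) hqp)
      (hQ.pi.sol hq)).sup_eq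
    rw [hreg, sup_bot_eq] at h1
    rw [← h1]
    exact commutator_mono hQ.le hP.le
  have hMa : alphaCore M ≠ ⊥ := fun h => hnu <| by
    rw [mmax_normal hM ⟨hQ.le, (der1_nil_of_Malpha hM h).norm_hall (hQ.of_le hQd (der1_le M))
      (der1_nml M).norm⟩ hQ1]
    exact uniqMax_self hM
  refine ⟨Set.Subset.antisymm (fun r hr => by_contra fun hb => ?_) (beta_sub_alpha M), hMa, hqa,
    cent_Malpha_reg_tau1_a hM hp hq hqp hP hQ1 hPQ hreg hnu hMa hqa hQ.pi hQ.le⟩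
  exact hnu ((((beta'_cent_Sylow hM (alpha_prime hr) hq hb (fun h => hqa (beta_sub_alpha M h)) hQ.pi
    (Or.inl ⟨fun e => hqa (e ▸ hr), hQd⟩)).2.1 hr).uniqMax hM inf_le_left).mono'
      (inf_le_right.trans (C_le_N Q)) hNQ)

/-- 12.19 -/
theorem _root_.H25.der_compl_cent_beta' (hM : IsCoatom M) (hE : Hall (sigma M)ᶜ M E) :
    ∃ H, Hall (beta M)ᶜ (sigmaCore M) H ∧ ⁅E, E⁆ ≤ C[H] := by
  have hE' : IsPi (sigma M)ᶜ ⁅E, E⁆ := hE.pi.of_le (der1_le E)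
  obtain ⟨W, hW, hEW⟩ := H26.Hall_superset (mmax_sub_sol hM (der1_le M)) (der1_mono hE.le)
    (hE'.mono (Set.compl_subset_compl.2 (beta_sub_sigma hM)))
  exact ⟨W ⊓ sigmaCore M, hW.inf_nml ((sigmaCore_nml M).of_le (Msigma_der1 hM) (der1_le M)),
    cents_symm ((beta'_der1_nil hM hW.pi hW.le).cents_of_pi inf_le_left hEW
      ((sigmaCore_pi M).inf_right W) hE')⟩

end H3BG
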