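import Cfsg.Agent.H12.NGM
import Cfsg.Agent.H3.NG1

/-! N-groups, case (A), `U` and `W` abelian: modules with transvections. -/

set_option autoImplicit false
set_option linter.unusedSectionVars false
set_option linter.unusedVariables false

namespace H3.NB

open Subgroup Cfsg H24 H11.ZN H12.NG H3.NG

universe u

variable {G : Type u} [Group G] [Finite G] {W H T X E : Subgroup G} {v w s s' f f' c c' t g : G}

theorem card_iSup {ι : Type*} [Fintype ι] {X : ι → Subgroup G} (Y : ι → Subgroup G) {m : ℕ}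
    (hc : ∀ i j, i ≠ j → X i ≤ C[X j]) (h1 : ∀ i j, j ≠ i → X j ≤ Y i) (h2 : ∀ i, X i ⊓ Y i = ⊥)
    (hm : ∀ i, ♯(X i) = m) : ♯(⨆ i, X i) = m ^ Fintype.card ι := by
  have hc' : Pairwise fun i j : ι => ∀ x y : G, x ∈ X i → y ∈ X j → Commute x y := fun i j n x y hx hy =>
    comm_of_cent (hc i j n) hx hy
  rw [← noncommPiCoprod_range (hcomm := hc'), ← Nat.card_congr (MonoidHom.ofInjective
    (injective_noncommPiCoprod_of_iSupIndep (hcomm := hc') (iSupIndep_def.2 fun i =>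
      (disjoint_iff.2 (h2 i)).mono_right (iSup₂_le (h1 i))))).toEquiv, Nat.card_pi]
  simp [hm]

/-- `s` is a transvection with centre `c` inverting `f` -/
structure Tf (W H : Subgroup G) (s f c : G) : Prop where
  md : Md W H
  sH : s ∈ H
  fF : f ∈ F[H]
  f1 : f ≠ 1
  s2 : s * s = 1
  inv : s * f * s⁻¹ = f⁻¹
  c1 : c ≠ 1
  cm : ⁅W, zpowers s⁆ = zpowers c

namespace Tf
variable (h : Tf W H s f c)
include h

theorem sN : s ∈ N[W] := h.md.le h.sH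
theorem fN : f ∈ N[W] := h.md.nF h.fF
theorem cW : c ∈ W := comm1_le h.sN (h.cm ▸ mem_zpowers c)
theorem c2 : c * c = 1 := H12.NG.ea_sq h.md.ea h.cW
theorem cs : c ∈ C{s} := (comm1_le_C h.md.ea h.sN (h.s2 ▸ one_mem _) (h.cm ▸ mem_zpowers c)).2

theorem tv : Tv W s := by
  have h1 := card_comm1 (ea_abl h.md.ea) h.sN
  rw [h.cm, card_zp2 h.c2 h.c1, ← card_mul_relIndex (inf_le_left : W ⊓ C{s} ≤ W)] at h1
  exact (Nat.eq_of_mul_eq_mul_left Nat.card_pos h1).symm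

theorem f3 : orderOf f = 3 := (h.md.m3 h.sH h.tv h.fF h.f1 h.inv).1
theorem n4 : ♯⁅W, zpowers f⁆ = 4 := (h.md.m3 h.sH h.tv h.fF h.f1 h.inv).2
theorem ea : EA ⁅W, zpowers f⁆ := h.md.ea_comm (Fitting_le H h.fF)
theorem nN : s ∈ N[⁅W, zpowers f⁆] := mem_N_comm1 h.sN (norm_zp_of_inv h.inv)
theorem NW : ⁅W, zpowers f⁆ ≤ W := comm1_le h.fN

theorem nc : s ∉ C[⁅W, zpowers f⁆] := fun e => by
  have := mul_mem (conj_mem (N_le_NC _ (mem_N_comm1 h.fN (norm_self _ (mem_zpowers f)))) e) (inv_mem e)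
  rw [show f * s * f⁻¹ * s⁻¹ = f * (s * f * s⁻¹)⁻¹ by group, h.inv, inv_inv, ← pow_two] at this
  have := orderOf_dvd_of_pow_eq_one (h.md.pow_eq_one h.fF this)
  rw [h.f3] at this
  omega

theorem cases (hw : w ∈ W) : w ∈ C{s} ∨ s * w * s⁻¹ * w⁻¹ = c :=
  ((mem_zp2 h.c2).1 (h.cm ▸ (mem_comm1 (ea_abl h.md.ea) h.sN).2 ⟨w, hw, rfl⟩)).imp_left fun e =>
    mem_C1.2 (ccj (mul_inv_eq_one.1 e)).symm

theorem cN : c ∈ ⁅W, zpowers f⁆ := by
  by_contra n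
  exact h.nc (mem_C.2 fun w hw => mem_C1.1 ((h.cases (h.NW hw)).resolve_right fun e =>
    n (e ▸ mul_mem (conj_mem h.nN hw) (inv_mem hw))))

theorem ti (hw : w ∈ ⁅W, zpowers f⁆) (hc : w ∈ C{f}) : w = 1 := mem_bot.1 (h.md.TI h.fF ▸ ⟨hw, hc⟩)

theorem cent (hw : w ∈ W) (hc : w ∈ C{f}) : w ∈ C{s} := (h.cases hw).resolve_right fun e =>
  h.c1 (h.ti h.cN (e ▸ mul_mem (conj_mem (C_zpowers f ▸ N_le_NC _ (norm_zp_of_inv h.inv)) hc) (inv_mem hc)))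

theorem dec (hw : w ∈ W) : ∃ n ∈ ⁅W, zpowers f⁆, ∃ x ∈ W, x ∈ C{f} ∧ w = n * x := by
  obtain ⟨n, hn, x, hx, e⟩ := (odd_dp h.md.ea (zpowers_le.2 h.fN) (piElt_odd.2 (h.md.odd h.fF)).isPi).isProd.mul w hw
  exact ⟨n, hn, x, hx.1, C_zpowers f ▸ hx.2, e⟩

theorem k1 (hw : w ∈ W) (hs : w ∈ C{s}) (hf : w ∉ C{f}) : w * c ∈ C{f} := by
  obtain ⟨n, hn, x, hx, hc, rfl⟩ := h.dec hw
  have n1 : n ≠ 1 := fun e => hf (by rwa [e, one_mul])
  have : n = c := by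
    by_contra ne
    exact h.nc (four_cent h.ea h.n4 hn h.cN n1 h.c1 ne (mem_C1.1 ((mul_mem_cancel_right (h.cent hx hc)).1 hs)).symm
      (mem_C1.1 h.cs).symm)
  rwa [this, ea_comm h.md.ea h.cW hx, mul_assoc, h.c2, mul_one]

theorem conj (ht : t ∈ H) : Tf W H (t * s * t⁻¹) (t * f * t⁻¹) (t * c * t⁻¹) :=
  ⟨h.md, conj_mem (norm_self H ht) h.sH, conj_mem ((Fitting_nml H).norm ht) h.fF, cjne t h.f1,
    by rw [← cjm, h.s2]; simp, by rw [conj_inv (a := f), ← h.inv]; group, cjne t h.c1,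
    by rw [← cj_zpowers, ← cj_zpowers, ← h.cm, cj_comm, cj_of_mem_N (h.md.le ht)]⟩

theorem uniq (h' : Tf W H s' f' c') (e : zpowers f = zpowers f') (hv : v ∈ W) (h1 : v ∈ C{s}) (h2 : v ∈ C{s'})
    (h3 : v ∉ C{f}) : s = s' ∧ c = c' := by
  have e1 : C{f'} = C{f} := by rw [← C_zpowers, ← e, C_zpowers]
  have cc : c = c' := by
    have := mul_mem (inv_mem (h.k1 hv h1 h3)) (e1 ▸ h'.k1 hv h2 (e1 ▸ h3))
    rw [mul_inv_rev, mul_assoc, inv_mul_cancel_left] at this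
    exact inv_mul_eq_one.1 (h.ti (mul_mem (inv_mem h.cN) (e ▸ h'.cN)) this)
  refine ⟨?_, cc⟩
  rw [← inv_sq h.s2]
  refine inv_eq_of_mul_eq_one_right (h.md.eq_one (mul_mem h.sH h'.sH) (mem_C.2 fun w hw => ?_))
  obtain ⟨n, hn, x, hx, hc, rfl⟩ := h.dec hw
  exact mem_C1.1 (mul_mem (mem_C1_comm.1 (C_le_C1 hn (four_ix h.ea h.n4 h.cN h.c1 h.nN (mem_C1_comm.1 h.cs) (e ▸ h'.nN)
    (mem_C1_comm.1 (cc ▸ h'.cs)) h.nc (e ▸ h'.nc))))
    (mem_C1_comm.1 (mul_mem (mem_C1_comm.1 (h.cent hx hc)) (mem_C1_comm.1 (h'.cent hx (e1 ▸ hc))))))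

theorem diff (h' : Tf W H s' f' c') (e : zpowers f ≠ zpowers f') :
    f * f' = f' * f ∧ f' ∈ C[⁅W, zpowers f⁆] ∧ s' ∈ C[⁅W, zpowers f⁆] := by
  obtain ⟨h1, -, h2⟩ := (h.md.m4 h.fF h'.fF h.f3 h'.f3 h.n4 h'.n4).resolve_left e
  exact ⟨h1, h2, mem_C_iff_le_C1.2 fun w hw => h'.cent (h.NW hw) (mem_C_iff_le_C1.1 h2 hw)⟩

end Tf

/-- the components -/
structure Fam (W H T : Subgroup G) (v : G) {ι : Type u} (s f c : ι → G) : Prop where
  md : Md W H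
  TH : T ≤ H
  dec : ∀ h ∈ H, ∃ k ∈ F[H], ∃ t ∈ T, h = k * t
  vW : v ∈ W
  Tv : T ≤ C{v}
  gen : ∀ X ≤ W, v ∈ X → F[H] ≤ N[X] → W ≤ X
  fr : ∀ k ∈ F[H], k ∈ C{v} → k = 1
  tf : ∀ i, Tf W H (s i) (f i) (c i)
  inj : ∀ i j, zpowers (f i) = zpowers (f j) → i = j
  sT : ∀ i, s i ∈ T
  cl : ∀ t ∈ T, ∀ i, ∃ j, t * s i * t⁻¹ = s j ∧ t * c i * t⁻¹ = c j ∧ cj t (zpowers (f i)) = zpowers (f j)
  tr : ∀ i j, ∃ t ∈ T, t * s i * t⁻¹ = s j ∧ t * c i * t⁻¹ = c j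
  sup : F[H] = ⨆ i, zpowers (f i)

theorem exists_fam (h : Tf W H s f c) (TH : T ≤ H) (dec : ∀ h ∈ H, ∃ k ∈ F[H], ∃ t ∈ T, h = k * t) (vW : v ∈ W)
    (Tv : T ≤ C{v}) (gen : ∀ X ≤ W, v ∈ X → F[H] ≤ N[X] → W ≤ X) (fr : ∀ k ∈ F[H], k ∈ C{v} → k = 1)
    (min : ∀ X ≤ F[H], T ≤ N[X] → X = ⊥ ∨ X = F[H]) (sT : s ∈ T) :
    ∃ (ι : Type u) (_ : Fintype ι) (s' f' c' : ι → G) (i : ι), Fam W H T v s' f' c' ∧ s' i = s ∧ c' i = c ∧
      zpowers (f' i) = zpowers f := by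
  have := Fintype.ofFinite {X : Subgroup G // ∃ t ∈ T, cj t (zpowers f) = X}
  choose τ hτ e using fun X : {X : Subgroup G // ∃ t ∈ T, cj t (zpowers f) = X} => X.2
  have cT : ∀ t ∈ T, t * s * t⁻¹ ∈ T := fun t ht => conj_mem (norm_self T ht) sT
  have un : ∀ t ∈ T, ∀ X, cj t (zpowers f) = X.1 → t * s * t⁻¹ = τ X * s * (τ X)⁻¹ ∧ t * c * t⁻¹ = τ X * c * (τ X)⁻¹ :=
    fun t ht X e' => (h.conj (TH ht)).uniq (h.conj (TH (hτ X))) (by rw [← cj_zpowers, ← cj_zpowers, e', e]) vW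
      (mem_C1_comm.1 (Tv (cT t ht))) (mem_C1_comm.1 (Tv (cT _ (hτ X)))) fun n =>
        (h.conj (TH ht)).f1 (fr _ (h.conj (TH ht)).fF (mem_C1_comm.1 n))
  have ex : ∀ t ∈ T, ∃ X : {X : Subgroup G // ∃ t ∈ T, cj t (zpowers f) = X}, cj t (zpowers f) = X.1 :=
    fun t ht => ⟨⟨_, t, ht, rfl⟩, rfl⟩
  obtain ⟨X0, e0⟩ := ex 1 (one_mem _)
  refine ⟨_, this, fun X => τ X * s * (τ X)⁻¹, fun X => τ X * f * (τ X)⁻¹, fun X => τ X * c * (τ X)⁻¹,
    X0, ⟨h.md, TH, dec, vW, Tv, gen, fr, fun X => h.conj (TH (hτ X)), fun X Y e' => Subtype.ext ?_,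
      fun X => cT _ (hτ X), fun t ht X => ?_, fun X Y => ⟨τ Y * (τ X)⁻¹, mul_mem (hτ Y) (inv_mem (hτ X)), by group, by group⟩,
      ?_⟩, by simpa using (un 1 (one_mem _) _ e0).1.symm, by simpa using (un 1 (one_mem _) _ e0).2.symm,
    by rw [← cj_zpowers, e, ← e0, cj_one]⟩
  · rwa [← cj_zpowers, ← cj_zpowers, e, e] at e'
  · have m := mul_mem ht (hτ X)
    obtain ⟨Y, eY⟩ := ex _ m
    obtain ⟨h1, h2⟩ := un _ m Y eY
    exact ⟨Y, by rw [← h1]; group, by rw [← h2]; group, by rw [← cj_zpowers, ← cj_zpowers, e Y, ← eY, cj_mul]⟩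
  · refine ((min _ (iSup_le fun X => zpowers_le.2 (h.conj (TH (hτ X))).fF) fun t ht => mem_N_of_cj_le ?_).resolve_left
      fun e' => (h.conj (TH (hτ X0))).f1 (mem_bot.1 (e' ▸ mem_iSup_of_mem X0 (mem_zpowers _)))).symm
    rw [cj_le_iff]
    refine iSup_le fun X => cj_le_iff.1 ?_
    obtain ⟨Y, eY⟩ := ex _ (mul_mem ht (hτ X))
    refine le_iSup_of_le Y ?_
    rw [← cj_zpowers, ← cj_zpowers, e Y, ← eY, cj_mul]

namespace Fam
variable {ι : Type u} [Fintype ι] {s f c : ι → G} (h : Fam W H T v s f c) {i j : ι}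
include h

theorem diff (n : i ≠ j) : f i * f j = f j * f i ∧ f j ∈ C[⁅W, zpowers (f i)⁆] ∧ s j ∈ C[⁅W, zpowers (f i)⁆] :=
  (h.tf i).diff (h.tf j) fun e => n (h.inj i j e)

theorem mem_CF : w ∈ C[F[H]] ↔ ∀ i, w ∈ C{f i} := by
  rw [mem_C_iff_le_C1, h.sup, iSup_le_iff]
  exact forall_congr' fun i => zpowers_le.trans mem_C1_comm

theorem abl : Abl F[H] := abl_iff.2 (h.sup.le.trans (iSup_le fun i => zpowers_le.2 (h.mem_CF.2 fun j =>
  mem_C1.2 ((em (i = j)).elim (fun e => by rw [e]) fun n => (h.diff n).1))))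

theorem cs (i j : ι) : c i ∈ C{s j} := (em (i = j)).elim (fun e => e ▸ (h.tf i).cs) fun n =>
  mem_C_iff_le_C1.1 (h.diff n).2.2 (h.tf i).cN

theorem vf (i : ι) : v ∉ C{f i} := fun e => (h.tf i).f1 (h.fr _ (h.tf i).fF (mem_C1_comm.1 e))

theorem ss (i j : ι) : s i * s j = s j * s i := by
  by_cases n : i = j
  · rw [n]
  obtain ⟨k, h1, h2, -⟩ := h.cl _ (h.sT i) j
  rw [cjc (mem_C1.1 (h.cs j i)).symm] at h2
  have : j = k := by
    by_contra ne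
    exact (h.tf j).c1 ((h.tf j).ti (h.tf j).cN (h2 ▸ mem_C_iff_le_C1.1 (h.diff (Ne.symm ne)).2.1 (h.tf k).cN))
  exact ccj (this ▸ h1)

theorem ncl_eq (i : ι) : ncl (zpowers (s i)) T = ⨆ j, zpowers (s j) := le_antisymm
  (ncl_le fun t ht => let ⟨j, e, _⟩ := h.cl t ht i; le_iSup_of_le j (by rw [cj_zpowers, e]))
  (iSup_le fun j => let ⟨t, ht, e, _⟩ := h.tr i j; (by rw [cj_zpowers, e] : _ ≤ cj t _).trans (le_ncl ht))

theorem mem_CA (i : ι) : w ∈ C[ncl (zpowers (s i)) T] ↔ ∀ j, w ∈ C{s j} := by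
  rw [mem_C_iff_le_C1, h.ncl_eq, iSup_le_iff]
  exact forall_congr' fun i => zpowers_le.trans mem_C1_comm

theorem A_le (i : ι) : ncl (zpowers (s i)) T ≤ T := ncl_le_of_norm (zpowers_le.2 (h.sT i)) (norm_self T)

theorem s1 (i : ι) : s i ≠ 1 := fun e => (h.tf i).nc (e ▸ one_mem _)

theorem card_A (i : ι) : ♯(ncl (zpowers (s i)) T) = 2 ^ Fintype.card ι := by
  rw [h.ncl_eq]
  refine card_iSup (fun i => C[⁅W, zpowers (f i)⁆]) (fun i j _ => zpowers_le.2 (C_zpowers (s j) ▸ mem_C1.2 (h.ss i j)))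
    (fun i j n => zpowers_le.2 (h.diff n.symm).2.2) (fun i => eq_bot_iff.2 fun x hx => ?_)
    fun i => card_zp2 (h.tf i).s2 (h.s1 i)
  exact ((mem_zp2 (h.tf i).s2).1 hx.1).resolve_right fun e => (h.tf i).nc (e ▸ hx.2)

theorem card_F : ♯F[H] = 3 ^ Fintype.card ι := by
  rw [h.sup]
  exact card_iSup (fun i => C[⁅W, zpowers (f i)⁆]) (fun i j n => zpowers_le.2 (C_zpowers (f j) ▸ mem_C1.2 (h.diff n).1))
    (fun i j n => zpowers_le.2 (h.diff n.symm).2.1) (fun i => h.md.faF (zpowers_le.2 (h.tf i).fF))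
    fun i => (card_zpowers' _).trans (h.tf i).f3

theorem N_le (i : ι) : ⁅W, zpowers (f i)⁆ ≤ ⁅W, F[H]⁆ := commutator_mono le_rfl (zpowers_le.2 (h.tf i).fF)

theorem FN : F[H] ≤ N[W] := (Fitting_le H).trans h.md.le

theorem card_N : 4 ^ Fintype.card ι ≤ ♯⁅W, F[H]⁆ := by
  rw [← card_iSup (fun i => C{f i}) (fun i j n => (ea_abl h.md.ea).cents (h.tf i).NW (h.tf j).NW)
    (fun i j n => mem_C_iff_le_C1.1 (h.diff n).2.1) (fun i => h.md.TI (h.tf i).fF) fun i => (h.tf i).n4]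
  exact card_le_of_le (iSup_le h.N_le)

theorem ea_A (i : ι) : EA (ncl (zpowers (s i)) T) := by
  have ab : Abl (ncl (zpowers (s i)) T) := abl_iff.2 ((h.ncl_eq i).le.trans (iSup_le fun j => zpowers_le.2
    ((h.mem_CA i).2 fun k => mem_C1.2 (h.ss j k))))
  refine H12.NG.ea_of_sq fun x hx => ?_
  have l : ∀ j, zpowers (s j) ≤ ncl (zpowers (s i)) T := fun j => (le_iSup (fun j => zpowers (s j)) j).trans (h.ncl_eq i).ge
  have := iSup_induction (fun j => zpowers (s j)) (C := fun x => x ∈ ncl (zpowers (s i)) T ∧ x * x = 1) (h.ncl_eq i ▸ hx)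
    (fun j y hy => ⟨l j hy, by
      rcases (mem_zp2 (h.tf j).s2).1 hy with rfl | rfl
      exacts [mul_one 1, (h.tf j).s2]⟩) ⟨one_mem _, mul_one 1⟩ fun x y hx hy => ⟨mul_mem hx.1 hy.1, by
        rw [mul_assoc, ← mul_assoc y, ab.comm hy.1 hx.1, mul_assoc, hy.2, mul_one, hx.2]⟩
  exact this.2

theorem idx (i : ι) : (W ⊓ C[ncl (zpowers (s i)) T]).relIndex W = 2 ^ Fintype.card ι := by
  refine le_antisymm ?_ ?_
  · rw [inf_relIndex_left, show C[ncl (zpowers (s i)) T] = ⨅ j, C{s j} from ext fun w => (h.mem_CA i).trans mem_iInf.symm]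
    refine (relIndex_iInf_le _).trans (le_of_eq ?_)
    rw [Finset.prod_congr rfl fun j _ => (inf_relIndex_left _ _).symm.trans (h.tf j).tv]
    simp
  · have := h.md.m1 (h.ea_A i) ((h.A_le i).trans h.TH)
    rw [h.card_A, ← card_mul_relIndex (inf_le_left : W ⊓ C[ncl (zpowers (s i)) T] ≤ W), mul_comm] at this
    exact Nat.le_of_mul_le_mul_left this Nat.card_pos

theorem ea_le (hE : EA E) (l : E ≤ H) : ♯E ≤ 2 ^ Fintype.card ι := by
  have key : ∀ (k : ℕ) (E : Subgroup G), EA E → E ≤ H → ♯E = 2 ^ k → 3 ^ k * ♯(F[H] ⊓ C[E]) ≤ ♯F[H] := by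
    intro k
    induction k with
    | zero => exact fun E _ _ _ => by simpa using card_le_of_le inf_le_left
    | succ k ih =>
      intro E hE l e
      obtain ⟨a, ha, a1⟩ := (bot_or_exists_ne_one E).resolve_left fun e' => by
        rw [e', card_bot] at e
        exact absurd e.symm (by simp)
      obtain ⟨B, h1, h2, h3, g, hg, g1, h4, h5⟩ := h.md.hyper hE l ha a1
      have cB : ♯B = 2 ^ k := by
        rw [← card_mul_relIndex h1, h2, pow_succ] at e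
        omega
      have le : F[H] ⊓ C[E] ≤ F[H] ⊓ C[B] := inf_le_inf_left _ (C_anti h1)
      have o : Odd ((F[H] ⊓ C[E]).relIndex (F[H] ⊓ C[B])) :=
        (isPi_odd.1 (h.md.odd_F.inf_left _)).of_dvd_nat (relIndex_dvd_card _ _)
      have n1 : (F[H] ⊓ C[E]).relIndex (F[H] ⊓ C[B]) ≠ 1 := fun e' => by
        have := (h5 a ha h3).symm.trans (cjc (mem_C.1 (relIndex_eq_one.1 e' ⟨hg, h4⟩).2 a ha))
        exact g1 (one_of_odd (zp_two (inv_eq_iff_mul_eq_one.1 this)) (mem_zpowers g) (h.md.odd hg))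
      have := ih B (H12.NG.ea_le hE h1) (h1.trans l) cB
      rw [← card_mul_relIndex le] at this
      obtain ⟨m, hm⟩ := o
      refine le_trans ?_ this
      rw [pow_succ, mul_assoc, mul_comm 3]
      exact Nat.mul_le_mul_left _ (Nat.mul_le_mul_left _ (by omega))
  obtain ⟨k, e⟩ := ea_card hE
  have := (Nat.le_mul_of_pos_right _ Nat.card_pos).trans (key k E hE l e)
  rw [h.card_F] at this
  exact e ▸ Nat.pow_le_pow_right two_pos ((Nat.pow_le_pow_iff_right (by norm_num)).1 this)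

theorem cl' (hg : g ∈ H) (i : ι) : ∃ j, cj g (zpowers (f i)) = zpowers (f j) := by
  obtain ⟨k, hk, t, ht, rfl⟩ := h.dec g hg
  obtain ⟨j, -, -, e⟩ := h.cl t ht i
  exact ⟨j, by rw [cj_mul, e, cj_of_mem_C (C_anti (zpowers_le.2 (h.tf j).fF) (h.abl.le_C hk))]⟩

theorem two_le (i : ι) (hE : IsPi {2} E) (l : E ≤ H) : 2 * ♯E ≤ 4 ^ Fintype.card ι := by
  classical
  choose σ hσ using fun g : E => h.cl' (l g.2)
  let φ : E →* Equiv.Perm ι := MonoidHom.toHomPerm (G := E) (α := ι) ⟨⟨σ, funext fun i => h.inj _ _ (by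
    rw [← hσ, coe_one, cj_one]; rfl)⟩, fun x y => funext fun i => h.inj _ _ (by
      rw [← hσ, coe_mul, cj_mul, hσ, hσ]; rfl)⟩
  have h1 : φ.ker.index ∣ (Fintype.card ι).factorial := by
    rw [index_ker, ← Fintype.card_perm, ← Nat.card_eq_fintype_card]
    exact card_subgroup_dvd_card _
  obtain ⟨b, hb⟩ := (piNat_singleton Nat.prime_two Nat.card_pos.ne').1 hE
  obtain ⟨a, ha⟩ := (Nat.dvd_prime_pow Nat.prime_two).1 (hb ▸ φ.ker.index_dvd_card :)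
  have h2 : a < Fintype.card ι := by
    have := (le_emultiplicity_of_pow_dvd (ha.2 ▸ h1)).trans_lt
      (Nat.emultiplicity_two_factorial_lt (Fintype.card_pos_iff.2 ⟨i⟩).ne')
    exact_mod_cast this
  have h3 : ♯(φ.ker.map E.subtype) ≤ 2 ^ Fintype.card ι := by
    have b : (⨅ j, C{f j}) ⊓ φ.ker.map E.subtype = ⊥ := eq_bot_iff.2 fun x hx =>
      (hE.inf_eq_bot h.md.odd_F).le ⟨map_subtype_le _ hx.2,
        cent_sub_Fitting h.md.sol ⟨l (map_subtype_le _ hx.2), h.mem_CF.2 (mem_iInf.1 hx.1)⟩⟩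
    rw [← relIndex_bot_left, ← b, inf_relIndex_right]
    refine (relIndex_iInf_le _).trans ((Finset.prod_le_pow_card _ _ 2 fun j _ => ?_).trans_eq (by simp))
    rw [← ncard_cls]
    refine (Set.ncard_le_ncard (t := (zpowers (f j) : Set G) \ {1}) ?_).trans_eq ?_
    · rintro _ ⟨_, ⟨x, hx, rfl⟩, rfl⟩
      have e : σ x j = j := congrFun (congrArg (⇑) (MonoidHom.mem_ker.1 hx)) j
      exact ⟨(hσ x j).le.trans (by rw [e]) (conj_mem_cj _ (mem_zpowers _)), cjne _ (h.tf j).f1⟩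
    · rw [Set.ncard_sdiff_singleton_of_mem (one_mem _), ← Nat.card_coe_set_eq]
      exact congrArg (· - 1) ((card_zpowers' _).trans (h.tf j).f3)
  rw [card_map_of_injective E.subtype_injective] at h3
  rw [← φ.ker.index_mul_card, ha.2, ← mul_assoc, ← pow_succ', show 4 = 2 * 2 from rfl, mul_pow]
  exact Nat.mul_le_mul (Nat.pow_le_pow_right two_pos h2) h3

theorem big (hX : X ≤ zpowers v ⊔ W ⊓ C[F[H]]) : 4 ^ Fintype.card ι ≤ 2 * X.relIndex W := by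
  have v2 := H12.NG.ea_sq h.md.ea h.vW
  have l : zpowers v ⊔ W ⊓ C[F[H]] ≤ W := sup_le (zpowers_le.2 h.vW) inf_le_left
  have h1 : ♯X ≤ 2 * ♯(W ⊓ C[F[H]]) := (card_le_of_le hX).trans ((Nat.le_of_dvd
    (Nat.mul_pos Nat.card_pos Nat.card_pos) (isProd_sup ((ea_abl h.md.ea).norm inf_le_left (zpowers_le.2 h.vW))).card_dvd).trans
      (Nat.mul_le_mul_right _ (Nat.le_of_dvd two_pos (card_zpowers' v ▸ orderOf_dvd_of_pow_eq_one (pow_two v ▸ v2)))))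
  have h2 := (odd_dp h.md.ea h.FN h.md.odd_F).card
  rw [← card_mul_relIndex (hX.trans l)] at h2
  refine Nat.le_of_mul_le_mul_right ?_ (Nat.card_pos (α := ↥(W ⊓ C[F[H]])))
  have := Nat.mul_le_mul_right ♯(W ⊓ C[F[H]]) h.card_N
  nlinarith [Nat.mul_le_mul_right (X.relIndex W) h1]

theorem ti (h1 : w ∈ ⁅W, F[H]⁆) (h2 : ∀ i, w ∈ C{f i}) : w = 1 :=
  mem_bot.1 (odd_TI h.md.ea h.FN h.md.odd_F ▸ ⟨h1, h.mem_CF.2 h2⟩)

theorem k2 (hg : g ∈ H) (hs : ∀ i, g * v * g⁻¹ ∈ C{s i}) : g ∈ C{v} := by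
  obtain ⟨k, hk, t, ht, rfl⟩ := h.dec g hg
  have e : k * t * v * (k * t)⁻¹ = k * v * k⁻¹ := by
    rw [show k * t * v * (k * t)⁻¹ = k * (t * v * t⁻¹) * k⁻¹ by group, mem_C1_iff_conj.1 (h.Tv ht)]
  rw [e] at hs
  refine mul_mem (mem_C1_iff_conj.2 (mul_inv_eq_one.1 (h.ti (commC F[H] W ▸ cm_mem hk h.vW) fun i => ?_))) (h.Tv ht)
  have kf : k ∈ C{f i} := mem_C1.2 (h.abl.comm hk (h.tf i).fF)
  have := mul_mem ((h.tf i).k1 (conj_mem (h.FN hk) h.vW) (hs i) fun e => h.vf i ((conj_mem_iff (norm_self _ kf)).1 e))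
    (inv_mem ((h.tf i).k1 h.vW (mem_C1_comm.1 (h.Tv (h.sT i))) (h.vf i)))
  rwa [mul_inv_rev, ← mul_assoc, mul_inv_cancel_right] at this

theorem mv (i : ι) (hg : g ∈ H) (n : g ∉ C{v}) : ∃ t ∈ T, g * t * s i * t⁻¹ * g⁻¹ ∉ C{v} := by
  by_contra! e
  refine n (inv_mem_iff.1 (h.k2 (inv_mem hg) fun j => ?_))
  obtain ⟨t, ht, e1, -⟩ := h.tr i j
  rw [mem_C1_comm, ← cj_C1, mem_cj, ← e1]
  simpa [mul_assoc] using e t ht

theorem sp (i : ι) (hg : g ∈ H) (n : g ∉ C{v}) (h1 : v ∈ X) (h2 : g * v * g⁻¹ ∈ X) (h3 : T ≤ N[X]) :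
    W ⊓ C[ncl (zpowers (s i)) T] ≤ X ∧ g * v * g⁻¹ ∉ C[ncl (zpowers (s i)) T] := by
  classical
  obtain ⟨j, hj⟩ : ∃ j, g * v * g⁻¹ ∉ C{s j} := by
    by_contra! e
    exact n (h.k2 hg e)
  refine ⟨fun w hw => ?_, fun e => hj ((h.mem_CA i).1 e j)⟩
  have cX : ∀ k, c k ∈ X := fun k => by
    obtain ⟨t, ht, -, e⟩ := h.tr j k
    rw [← e, ← ((h.tf j).cases (conj_mem (h.md.le hg) h.vW)).resolve_left hj]
    exact conj_mem (h3 ht) (mul_mem (conj_mem (h3 (h.sT j)) h2) (inv_mem h2))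
  have NW : ⁅W, F[H]⁆ ≤ W := comm_le_left h.FN
  have key : ∀ w ∈ ⁅W, F[H]⁆, (∀ k, w ∈ C{s k}) → w ∈ X := fun w hw hs => by
    have : ∀ I : Finset ι, ∃ y ∈ X, w * y ∈ ⁅W, F[H]⁆ ∧ (∀ k, w * y ∈ C{s k}) ∧ ∀ k ∈ I, w * y ∈ C{f k} := fun I => by
      induction I using Finset.induction_on with
      | empty => exact ⟨1, one_mem _, by rwa [mul_one], by simpa using hs, by simp⟩
      | insert k I hk ih =>
        obtain ⟨y, y1, y2, y3, y4⟩ := ih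
        by_cases e : w * y ∈ C{f k}
        · exact ⟨y, y1, y2, y3, Finset.forall_mem_insert .. |>.2 ⟨e, y4⟩⟩
        refine ⟨y * c k, mul_mem y1 (cX k), ?_⟩
        rw [← mul_assoc]
        exact ⟨mul_mem y2 (h.N_le k (h.tf k).cN), fun l => mul_mem (y3 l) (h.cs k l),
          Finset.forall_mem_insert .. |>.2 ⟨(h.tf k).k1 (NW y2) (y3 k) e, fun l hl => mul_mem (y4 l hl)
            (mem_C_iff_le_C1.1 (h.diff fun e : k = l => hk (e ▸ hl)).2.1 (h.tf k).cN)⟩⟩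
    obtain ⟨y, y1, y2, -, y4⟩ := this Finset.univ
    rw [eq_inv_of_mul_eq_one_left (h.ti y2 fun k => y4 k (Finset.mem_univ k))]
    exact inv_mem y1
  have ab := ea_abl h.md.ea
  have vW := zpowers_le.2 h.vW
  obtain ⟨n, hn, y, hy, rfl⟩ := (mem_sup_of_norm (ab.norm vW NW)).1 (h.gen _ (sup_le NW vW) (mem_sup_right (mem_zpowers v))
    (norm_of_comm_le (sup_le NW vW) le_sup_left) hw.1)
  have yA : ∀ k, y ∈ C{s k} := fun k => zpowers_le.2 (mem_C1_comm.1 (h.Tv (h.sT k))) hy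
  exact mul_mem (key n hn fun k => (mul_mem_cancel_right (yA k)).1 ((h.mem_CA i).1 hw.2 k)) (zpowers_le.2 h1 hy)

theorem four (e : c i = v) : ♯W = 4 := by
  have a : ∀ j, j = i := fun j => by
    by_contra n
    obtain ⟨t, ht, -, e1⟩ := h.tr i j
    rw [e, mem_C1_iff_conj.1 (h.Tv ht)] at e1
    exact h.vf i (e1 ▸ mem_C_iff_le_C1.1 (h.diff n).2.1 (h.tf j).cN)
  have := h.gen _ (h.tf i).NW (e ▸ (h.tf i).cN) (h.sup.le.trans (iSup_le fun j => by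
    rw [a j]; exact norm_of_comm_le (h.tf i).NW le_rfl))
  exact (congrArg (fun X : Subgroup G => ♯X) (le_antisymm this (h.tf i).NW)).trans (h.tf i).n4

theorem other (ht : t ∈ T) (n : t * c i * t⁻¹ ≠ c i) : t * c i * t⁻¹ ∈ C{f i} := by
  obtain ⟨j, -, e, -⟩ := h.cl t ht i
  exact e ▸ mem_C_iff_le_C1.1 (h.diff fun e' => n (e.trans (by rw [e']))).2.1 (h.tf j).cN

end Fam

end H3.NB
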