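import Mathlib
import Cfsg.Agent.H12.NGMc
import Cfsg.Agent.H12.NGC1
import Cfsg.Agent.H3.NG1

/-! N-groups, pushing up: the structure of a dihedral parabolic. -/

set_option autoImplicit false
set_option linter.unusedSectionVars false
set_option linter.unusedVariables false

namespace H3.NG

open Subgroup Cfsg H24 H26 H11.ZN H12.NG

universe u

variable {G : Type u} [Group G] [Finite G] {B P A Q X Y W T : Subgroup G} {a b k t x y g w f : G}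

theorem inv_pow_mod (ht : t ∈ N[Q]) (hk : k ∈ N[Q]) (h : t * k * t⁻¹ * k ∈ Q) (hx : x ∈ zpowers k) :
    t * x * t⁻¹ * x ∈ Q := by
  obtain ⟨n, rfl⟩ := mem_powers_iff_mem_zpowers.2 hx
  clear hx
  induction n with
  | zero => simp
  | succ n ih =>
    have e : t * k ^ (n + 1) * t⁻¹ * k ^ (n + 1) =
        (t * k * t⁻¹) * (t * k ^ n * t⁻¹ * k ^ n) * (t * k * t⁻¹)⁻¹ * (t * k * t⁻¹ * k) := by
      rw [pow_succ' k n]; nth_rw 2 [← pow_succ' k n]; rw [pow_succ k n]; group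
    show t * k ^ (n + 1) * t⁻¹ * k ^ (n + 1) ∈ Q
    rw [e]
    exact mul_mem (conj_mem (conj_mem (norm_self _ ht) hk) ih) h

/-- a four-group is irreducible under a fixed point free element -/
theorem four_irr (h4 : ♯W = 4) (hc : W ⊓ C{k} = ⊥) (hY : Y ≤ W) (hn : k ∈ N[Y]) (h1 : Y ≠ ⊥) :
    Y = W := by
  have h2 : ♯Y ∣ 4 := h4 ▸ card_dvd hY
  have h3 : ¬ ♯Y ≤ 2 := fun e => h1 (eq_bot_of_le hc
    (le_inf hY (mem_C_iff_le_C1.1 (mem_C_of_card_le_two hn e))))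
  have h5 := Nat.le_of_dvd (by norm_num) h2
  refine eq_of_card_eq hY ?_
  generalize ♯Y = n at *
  interval_cases n <;> simp_all

theorem four_trans (hW : EA W) (h4 : ♯W = 4) (hk : k ∈ N[W]) (ho : Odd (orderOf k))
    (hc : W ⊓ C{k} = ⊥) (hx : x ∈ W) (x1 : x ≠ 1) (hy : y ∈ W) (y1 : y ≠ 1) :
    ∃ g ∈ zpowers k, g * x * g⁻¹ = y := by
  have n : ∀ v ∈ W, v ≠ 1 → k * v * k⁻¹ ≠ v := fun v hv v1 e =>
    v1 (mem_bot.1 (hc ▸ (⟨hv, mem_C1_comm.1 (mem_C1_iff_conj.2 e)⟩ : v ∈ W ⊓ C{k})))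
  have h1 := conj_mem hk hx
  rcases four_cases hW h4 hx h1 x1 (cjne k x1) (n x hx x1).symm hy with e | e | e | e
  · exact absurd e y1
  · exact ⟨1, one_mem _, by simp [e]⟩
  · exact ⟨k, mem_zpowers k, e.symm⟩
  · refine ⟨k * k, mul_mem (mem_zpowers k) (mem_zpowers k), ?_⟩
    have e0 : k * k * x * (k * k)⁻¹ = k * (k * x * k⁻¹) * k⁻¹ := by group
    rcases four_cases hW h4 hx h1 x1 (cjne k x1) (n x hx x1).symm (conj_mem hk h1) with e' | e' | e' | e'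
    · exact absurd e' (cjne k (cjne k x1))
    · exact absurd (mem_C1_iff_conj.1 (mem_of_sq ho (mem_C1_iff_conj.2 (e0.trans e')))) (n x hx x1)
    · exact absurd e' (n _ h1 (cjne k x1))
    · rw [e0, e', e]

/-- a dihedral parabolic with chosen data -/
structure PS (B P A : Subgroup G) (k a : G) : Prop extends ParS B P where
  kP : k ∈ P
  odd : Odd (orderOf k)
  gen : P ≤ B ⊔ zpowers k
  inv : ∀ t ∈ B, t ∉ Q2 P → t * k * t⁻¹ * k ∈ Q2 P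
  mx : H12.MaxEA 2 B A
  aA : a ∈ A
  aQ : a ∉ Q2 P

theorem nml_sup_zp (hB : B ≤ N[Q]) (hk : k ∈ N[Q]) (hg : P ≤ B ⊔ zpowers k)
    (hi : ∀ t ∈ B, t ∉ Q → t * k * t⁻¹ * k ∈ Q) (hx : x ∈ zpowers k) : P ≤ N[Q ⊔ zpowers x] := by
  have hxN : x ∈ N[Q] := zpowers_le.2 hk hx
  refine hg.trans (sup_le (fun b hb => mem_N_of_cj_le ?_) (norm_sup (zpowers_le.2 hk)
    (norm_of_cent ((abl_zpowers k).cents le_rfl (zpowers_le.2 hx)))))
  rw [cj_sup, cj_of_mem_N (hB hb), cj_zpowers]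
  refine sup_le le_sup_left (zpowers_le.2 ?_)
  by_cases e : b ∈ Q
  · have : b * x * b⁻¹ = b * (x * b⁻¹ * x⁻¹) * x := by group
    rw [this]
    exact mul_mem (mem_sup_left (mul_mem e (conj_mem hxN (inv_mem e)))) (mem_sup_right (mem_zpowers x))
  · have := mul_mem (mem_sup_left (inv_pow_mod (hB hb) hk (hi b hb e) hx) : _ ∈ Q ⊔ zpowers x)
      (inv_mem (mem_sup_right (mem_zpowers x)))
    rwa [mul_inv_cancel_right] at this

theorem exists_PS' (h : ParS B P) : ∃ k, ∀ A a, H12.MaxEA 2 B A → a ∈ A → a ∉ Q2 P → PS B P A k a := by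
  obtain ⟨k, hk, hg, hi⟩ := h.dih
  have hn := (pcore_nml {2} P).norm
  obtain ⟨y, z, hy, hz, hyk, hzk, e⟩ := exists_piElt_decomp {2} k
  have yP : y ∈ P := zpowers_le.2 hk hyk
  have yQ : y ∈ Q2 P := pcore_max' ((pcore_pi _ _).sup hy.isPi (zpowers_le.2 (hn yP)))
    (sup_le (pcore_le _ _) (zpowers_le.2 yP)) (nml_sup_zp (h.syl.le.trans hn) (hn hk) hg hi hyk)
    (mem_sup_right (mem_zpowers y))
  refine ⟨z, fun A a h1 h2 h3 => ⟨h, zpowers_le.2 hk hzk, odd_of_piElt hz, hg.trans (sup_le le_sup_left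
    (zpowers_le.2 ?_)), fun t ht ht' => inv_pow_mod (hn (h.syl.le ht)) (hn hk) (hi t ht ht') hzk, h1, h2, h3⟩⟩
  rw [e]
  exact mul_mem (mem_sup_left (pcore_le_Hall h.syl yQ)) (mem_sup_right (mem_zpowers z))

theorem exists_PS (h : ParS B P) : ∃ A k a, PS B P A k a := by
  obtain ⟨k, hk⟩ := exists_PS' h
  obtain ⟨A, hA, h1⟩ : ∃ A, H12.MaxEA 2 B A ∧ ¬ A ≤ Q2 P := by
    by_contra e
    push Not at e
    exact h.nJ (H12.J_le_iff.2 e)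
  obtain ⟨a, ha, h2⟩ := SetLike.not_le_iff_exists.1 h1
  exact ⟨A, k, a, hk A a hA ha h2⟩

namespace PS

variable (h : PS B P A k a)
include h

theorem BP : B ≤ P := h.syl.le
theorem QB : Q2 P ≤ B := pcore_le_Hall h.syl
theorem nQ : P ≤ N[Q2 P] := (pcore_nml _ _).norm
theorem nZ' : P ≤ N[OZ (Q2 P)] := norm_OZ h.nQ
theorem aB : a ∈ B := h.mx.le h.aA
theorem aP : a ∈ P := h.BP h.aB
theorem a2 : a * a = 1 := ea_sq h.mx.ea h.aA
theorem ZP : OZ (Q2 P) ≤ P := (OZ_le _).trans (pcore_le _ _)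

theorem change {a' : G} (h1 : a' ∈ A) (h2 : a' ∉ Q2 P) : PS B P A k a' :=
  ⟨h.toParS, h.kP, h.odd, h.gen, h.inv, h.mx, h1, h2⟩

theorem mulQ (hb : b ∈ B) (hb' : b ∉ Q2 P) : a * b ∈ Q2 P :=
  (mul_mem_idx2 h.idx h.aB hb).2 (iff_of_false h.aQ hb')

theorem genB (h1 : Q2 P ≤ X) (h2 : a ∈ X) : B ≤ X := fun b hb => by
  by_cases e : b ∈ Q2 P
  · exact h1 e
  · exact (mul_mem_cancel_left h2).1 (h1 (h.mulQ hb e))

theorem genk (h1 : B ≤ X) (h2 : k ∈ X) : P ≤ X := h.gen.trans (sup_le h1 (zpowers_le.2 h2))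

theorem gena (h1 : B ≤ X) (h2 : k * a * k⁻¹ ∈ X) : P ≤ X := by
  refine h.genk h1 (mem_of_sq h.odd ?_)
  have q2 := h1 (h.QB (h.inv a h.aB h.aQ))
  have e3 : k * k = (k * a * k⁻¹) * a⁻¹ * (a * k * a⁻¹ * k) := by group
  rw [e3]
  exact mul_mem (mul_mem h2 (inv_mem (h1 h.aB))) q2

theorem nK : P ≤ N[Q2 P ⊔ zpowers k] := nml_sup_zp (h.BP.trans h.nQ) (h.nQ h.kP) h.gen h.inv (mem_zpowers k)

theorem KP : Q2 P ⊔ zpowers k ≤ P := sup_le (pcore_le _ _) (zpowers_le.2 h.kP)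

theorem prodK : IsProd (Q2 P ⊔ zpowers k) B P := by
  have := isProd_sup (h.BP.trans h.nK)
  rwa [le_antisymm (sup_le h.KP h.BP) (h.genk le_sup_right
    (mem_sup_left (mem_sup_right (mem_zpowers k))))] at this

theorem prod (hx : x ∈ P) : ∃ y ∈ zpowers k, ∃ b ∈ B, x = y * b := by
  obtain ⟨c, hc, b, hb, rfl⟩ := h.prodK.mul x hx
  rw [sup_comm] at hc
  obtain ⟨y, hy, q, hq, rfl⟩ := (mem_sup_of_norm' (zpowers_le.2 (h.nQ h.kP))).1 hc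
  exact ⟨y, hy, q * b, mul_mem (h.QB hq) hb, mul_assoc _ _ _⟩

theorem OdK : Od2 P ≤ Q2 P ⊔ zpowers k := by
  refine (closure_le _).2 fun g hg => ?_
  exact le_of_idx_compl' ⟨h.KP, h.nK⟩ (h.syl.pi.piNat.dvd h.prodK.relIndex_dvd)
    (piElt_of_odd hg.2).isPi (zpowers_le.2 hg.1) (mem_zpowers g)

theorem ZB : OZ B ≤ OZ (Q2 P) := fun x hx =>
  have c := C_anti h.QB (OZ_le_C _ hx)
  mem_OZ.2 ⟨h.ch2.2 ⟨h.BP (OZ_le _ hx), c⟩, c, (mem_OZ.1 hx).2.2⟩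

/-- a normal subgroup containing `B` is everything -/
theorem gen_nml (hn : P ≤ N[X]) (h1 : B ≤ X) : P ≤ X := h.gena h1 (conj_mem (hn h.kP) (h1 h.aB))

theorem a_nc : a ∉ C[OZ (Q2 P)] := fun e =>
  h.nZ ((h.gen_nml (norm_C h.nZ') (h.genB (le_C_OZ _) e)).trans (C_anti h.ZB))

theorem idxA : (Q2 P).relIndex A = 2 := by
  have := relIndex_dvd_of_nml (Nml.mk h.QB (h.BP.trans h.nQ)) h.mx.le
  rw [h.idx] at this
  exact ((Nat.dvd_prime two_prime).1 this).resolve_left fun e => h.aQ (relIndex_eq_one.1 e h.aA)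

theorem replace : H12.MaxEA 2 B ((A ⊓ Q2 P) ⊔ OZ (Q2 P)) ∧ A.relIndex (OZ (Q2 P)) = 2 := by
  have hA := h.mx
  have hc : A ⊓ Q2 P ≤ C[OZ (Q2 P)] := inf_le_right.trans (le_C_OZ _)
  have hea : IsElementaryAbelian 2 ((A ⊓ Q2 P) ⊔ OZ (Q2 P) : Subgroup G) :=
    H12.ea_sup (H12.ea_of_le hA.ea inf_le_left) (OZ_ea _) hc
  have hle : (A ⊓ Q2 P) ⊔ OZ (Q2 P) ≤ B := (sup_le inf_le_right (OZ_le _)).trans h.QB
  have c1 := hA.card_le hle hea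
  have c2 := card_sup (norm_of_cent (cents_symm hc))
  have e1 : A ⊓ Q2 P ⊓ OZ (Q2 P) = A ⊓ OZ (Q2 P) := by
    rw [inf_assoc, inf_eq_right.2 (OZ_le _)]
  rw [e1, ← card_inf_mul_relIndex A (OZ (Q2 P)), mul_comm (♯(A ⊓ OZ (Q2 P))), ← mul_assoc] at c2
  have c3 := Nat.eq_of_mul_eq_mul_right (card_pos _) c2
  have c4 := card_inf_mul_relIndex (Q2 P) A
  rw [h.idxA, inf_comm] at c4
  have c5 : A.relIndex (OZ (Q2 P)) ≤ 2 := by
    rw [c3, ← c4] at c1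
    exact Nat.le_of_mul_le_mul_left c1 (card_pos _)
  have c6 : A.relIndex (OZ (Q2 P)) ≠ 1 := fun e =>
    h.a_nc (C_anti (relIndex_eq_one.1 e) (H12.ea_le_centralizer hA.ea h.aA))
  have c7 := relIndex_pos A (OZ (Q2 P))
  have c8 : A.relIndex (OZ (Q2 P)) = 2 := by omega
  refine ⟨hA.of_card_le hle hea ?_, c8⟩
  rw [c3, c8, c4]

theorem AZ : A ⊓ OZ (Q2 P) = OZ B := by
  refine le_antisymm (fun x hx => mem_OZ.2 ⟨h.mx.le hx.1, cents_symm (h.genB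
    ((le_C_OZ _).trans (C_anti inf_le_right))
    (C_anti inf_le_left (H12.ea_le_centralizer h.mx.ea h.aA))) hx, (mem_OZ.1 hx.2).2.2⟩)
    (le_inf h.mx.omega_center_le h.ZB)

theorem idxZ : (OZ B).relIndex (OZ (Q2 P)) = 2 := by rw [← h.AZ, inf_relIndex_right, h.replace.2]

theorem D_le : OZ (Q2 P) ⊓ C[P] ≤ OZ B := fun x hx =>
  mem_OZ.2 ⟨h.QB (OZ_le _ hx.1), C_anti h.BP hx.2, (mem_OZ.1 hx.1).2.2⟩

theorem D_eq : OZ (Q2 P) ⊓ C[P] = OZ B ⊓ cj k (OZ B) := by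
  refine le_antisymm (le_inf h.D_le fun x hx => ?_) fun x hx => ⟨h.ZB hx.1, mem_C_iff_le_C1.2
    (h.gena (mem_C_iff_le_C1.1 (OZ_le_C _ hx.1)) ?_)⟩
  · have := conj_mem_cj k (h.D_le hx)
    rwa [conj_eq_of_mem_C (cents_symm inf_le_right h.kP) hx] at this
  · rw [← OZ_cj] at hx
    exact mem_C_iff_le_C1.1 (OZ_le_C _ hx.2) (conj_mem_cj k h.aB)

theorem D_eq' : OZ B ⊓ C[P] = OZ (Q2 P) ⊓ C[P] :=
  le_antisymm (inf_le_inf_right _ h.ZB) (le_inf h.D_le inf_le_right)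

theorem idxD : (OZ (Q2 P) ⊓ C[P]).relIndex (OZ B) = 2 := by
  have h1 : (cj k (OZ B)).relIndex (OZ (Q2 P)) = 2 := by
    rw [← cj_of_mem_N (h.nZ' h.kP), relIndex_cj, h.idxZ]
  have h2 := relIndex_le_of_le_right h.ZB (relIndex_ne_zero' (cj k (OZ B)) _)
  have h3 := relIndex_pos (cj k (OZ B)) (OZ B)
  have h4 : (OZ (Q2 P) ⊓ C[P]).relIndex (OZ B) ≠ 1 := fun e =>
    h.nZ (cents_symm ((relIndex_eq_one.1 e).trans inf_le_right))
  rw [h.D_eq, inf_relIndex_left] at *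
  omega

theorem cardZ : ♯(OZ (Q2 P)) = 4 * ♯(OZ (Q2 P) ⊓ C[P]) := by
  rw [← card_mul_relIndex h.ZB, ← card_mul_relIndex h.D_le, h.idxZ, h.idxD]; ring

theorem W_eq : WP P = ⁅OZ (Q2 P), zpowers k⁆ := by
  refine le_antisymm ((comm_mono_right h.OdK).trans ?_)
    (comm_mono_right (zpowers_le.2 (mem_Od2 h.kP h.odd)))
  rw [(isProd_sup (zpowers_le.2 (h.nQ h.kP))).symm.comm_right_of_cent (le_C_OZ _)]

theorem W_nml : WP P ⊴ P :=
  ⟨(comm_le_left ((Od2_le P).trans h.nZ')).trans h.ZP, norm_comm h.nZ' (Od2_nml P).norm⟩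

theorem WZ : WP P ≤ OZ (Q2 P) := comm_le_left ((Od2_le P).trans h.nZ')

theorem W_ea : EA (WP P) := ea_le (OZ_ea _) h.WZ

theorem W_fpf : WP P ⊓ C{k} = ⊥ := h.W_eq ▸ odd_TI1 (OZ_ea _) (h.nZ' h.kP) h.odd

theorem k_nc : k ∉ C[OZ (Q2 P)] := fun e =>
  h.nZ (h.genk (le_C_OZ _) (C_anti h.ZB e))

theorem cardW' : ♯(WP P) = 4 ∧ OZ (Q2 P) ⊓ C{k} = OZ (Q2 P) ⊓ C[P] := by
  have h1 := card_comm1 (OZ_ea (Q2 P)).1 (h.nZ' h.kP)
  have h2 : OZ (Q2 P) ⊓ C[P] ≤ OZ (Q2 P) ⊓ C{k} :=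
    inf_le_inf_left _ (C_le_C1 h.kP)
  have h3 := card_mul_relIndex h2
  have h4 : ¬ ♯(WP P) ≤ 2 := fun e => h.k_nc (comm_eq_bot'.1 (h.W_eq ▸ eq_bot_of_le h.W_fpf (le_inf le_rfl
    (mem_C_iff_le_C1.1 (mem_C_of_card_le_two (h.W_nml.norm h.kP) e)))) (mem_zpowers k))
  rw [← h.W_eq, h.cardZ, ← h3, mul_assoc, mul_comm 4] at h1
  have h5 := Nat.eq_of_mul_eq_mul_left (card_pos _) h1
  have h6 : ♯(WP P) = 4 := by
    have := Nat.le_of_dvd (by norm_num) (Dvd.intro_left _ h5)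
    have h7 := Dvd.intro_left _ h5
    generalize ♯(WP P) = n at *
    interval_cases n <;> simp_all
  refine ⟨h6, (eq_of_card_eq h2 ?_).symm⟩
  rw [h6] at h5
  rw [← h3, show (OZ (Q2 P) ⊓ C[P]).relIndex (OZ (Q2 P) ⊓ C{k}) = 1 by omega, mul_one]

theorem cardW : ♯(WP P) = 4 := h.cardW'.1

theorem dp : DP (WP P) (OZ (Q2 P) ⊓ C[P]) (OZ (Q2 P)) := by
  have := odd_dp (OZ_ea (Q2 P)) (zpowers_le.2 (h.nZ' h.kP)) (piElt_of_odd h.odd).isPi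
  rwa [C_zpowers, h.cardW'.2, ← h.W_eq] at this

theorem W_inf : WP P ⊓ C[P] = ⊥ := eq_bot_of_le h.W_fpf (inf_le_inf_left _ (C_le_C1 h.kP))

theorem C_eq : P ⊓ C[WP P] = P ⊓ C[OZ (Q2 P)] := by
  refine le_antisymm (fun x hx => ⟨hx.1, ?_⟩) (inf_le_inf_left _ (C_anti h.WZ))
  rw [← h.dp.sup, C_sup]
  exact ⟨hx.2, cents_symm inf_le_right hx.1⟩

theorem a_ncW : a ∉ C[WP P] := fun e => h.a_nc (h.C_eq.le ⟨h.aP, e⟩).2

theorem k_ncW : k ∉ C[WP P] := fun e => h.k_nc (h.C_eq.le ⟨h.kP, e⟩).2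

theorem QW : Q2 P ≤ C[WP P] := (le_C_OZ _).trans (C_anti h.WZ)

theorem memQ (hb : b ∈ B) (hc : b ∈ C[WP P]) : b ∈ Q2 P := by
  by_contra e
  exact h.a_ncW ((mul_mem_cancel_right hc).1 (h.QW (h.mulQ hb e)))

theorem irr (hY : Y ≤ WP P) (hn : k ∈ N[Y]) (h1 : Y ≠ ⊥) : Y = WP P := four_irr h.cardW h.W_fpf hY hn h1

/-- the fixed vector of `B` in `W` -/
theorem exists_w : ∃ w ∈ WP P, w ≠ 1 ∧ w ∈ OZ B ∧ OZ B = zpowers w ⊔ (OZ (Q2 P) ⊓ C[P]) := by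
  have h1 := IsPi.inf_C_ne_bot two_prime h.syl.pi (ea_pi h.W_ea) (h.BP.trans h.W_nml.norm)
    fun e => by have := h.cardW; rw [e] at this; simp at this
  obtain ⟨w, hw, w1⟩ := exists_ne_one h1
  have hB : w ∈ OZ B := mem_OZ.2 ⟨h.QB (OZ_le _ (h.WZ hw.1)), hw.2, by rw [sq]; exact ea_sq h.W_ea hw.1⟩
  refine ⟨w, hw.1, w1, hB, ?_⟩
  rw [sup_comm]
  exact sup_of_idx2 h.idxD h.D_le hB fun e => w1 (mem_bot.1 (h.W_inf ▸ (⟨hw.1, e.2⟩ : w ∈ WP P ⊓ C[P])))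

theorem idxC : (P ⊓ C[WP P]).relIndex P = 6 := by
  have h1 := relIndex_C_abelem_dvd two_prime h.W_nml.norm h.W_ea (n := 2) h.cardW
  have n := h.W_nml.infC
  have h2 := relIndex_dvd_of_nml n (zpowers_le.2 h.aP)
  have h3 := relIndex_dvd_of_nml n (zpowers_le.2 h.kP)
  have h4 : (P ⊓ C[WP P]).relIndex (zpowers a) = 2 := by
    have := relIndex_dvd_card (P ⊓ C[WP P]) (zpowers a)
    rw [card_zp2 h.a2 fun e => h.aQ (e ▸ one_mem _)] at this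
    exact ((Nat.dvd_prime two_prime).1 this).resolve_left fun e =>
      h.a_ncW (relIndex_eq_one.1 e (mem_zpowers a)).2
  have h5 : Odd ((P ⊓ C[WP P]).relIndex (zpowers k)) := piNat_odd.1 ((piElt_of_odd h.odd).isPi.relIndex _)
  have h6 : (P ⊓ C[WP P]).relIndex (zpowers k) ≠ 1 := fun e =>
    h.k_ncW (relIndex_eq_one.1 e (mem_zpowers k)).2
  rw [inf_relIndex_left] at *
  simp only [Fin.prod_univ_succ] at h1
  norm_num at h1
  rw [h4] at h2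
  have h7 := Nat.le_of_dvd (by norm_num) h1
  have h8 := Nat.le_of_dvd (by norm_num) (h3.trans h1)
  generalize C[WP P].relIndex P = n at *
  generalize (P ⊓ C[WP P]).relIndex (zpowers k) = m at *
  interval_cases n <;> interval_cases m <;> simp_all (config := { decide := true })

theorem red : Red (OZ (Q2 P)) P := by
  refine ⟨⟨h.ZP, h.nZ'⟩, OZ_ea _, fun X hX h1 h2 => ?_⟩
  obtain ⟨w, hw, w1, hB, -⟩ := h.exists_w
  have p := (h.syl.inf_nml hX).isProd_of_idx h1 h2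
  have e := h.irr (Y := WP P ⊓ C[X]) inf_le_left
    (mem_N_inf (h.W_nml.norm h.kP) (norm_C hX.norm h.kP)) (ne_bot_of_mem ⟨hw, mem_C'.2 fun x hx => by
      obtain ⟨b, hb, c, hc, rfl⟩ := p.mul x hx
      rw [← mul_assoc, comm_of_cent (OZ_le_C B) hB hb.1, mul_assoc, mul_assoc,
        comm_of_cent (cents_symm (zpowers_le.2 hc.2)) (h.WZ hw) (mem_zpowers c)]⟩ w1)
  exact fun x hx => (h.C_eq.le ⟨hX.le hx, cents_symm (e.ge.trans inf_le_right) hx⟩).2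

end PS

end H3.NG
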