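import Mathlib
import Cfsg.Agent.H3.NF1
import Cfsg.Agent.H12.NGY

/-! N-groups, pushing up: the four-group `W_P` in overgroups, Baumann's lemma. -/

set_option autoImplicit false
set_option linter.unusedSectionVars false
set_option linter.unusedVariables false

namespace H3.NG

open Subgroup Cfsg H24 H26 H11.ZN H12.NG
open scoped commutatorElement

universe u

variable {G : Type u} [Group G] [Finite G] {B P A Q X Y W T D H : Subgroup G} {a b k t x y g w f : G}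

namespace PS

theorem key (h : PS B P A k a) (hw : w ∈ WP P) (w1 : w ≠ 1) (hD : D ≤ OZ (Q2 P) ⊓ C[P])
    (hX : P ≤ N[X]) (hT : T ≤ N[B])
    (hp : ∀ x ∈ X, ∃ c ∈ C[WP P ⊔ D], ∃ y ∈ X ⊓ T, x = c * y)
    (hn : X ⊓ T ≤ N[zpowers w ⊔ D]) : X ≤ C[WP P] ∧ X ≤ N[D] := by
  have UZ : WP P ⊔ D ≤ OZ (Q2 P) := sup_le h.WZ (hD.trans inf_le_left)
  have hU : EA (WP P ⊔ D) := ea_le (OZ_ea _) UZ
  have PD : P ≤ C[D] := cents_symm (hD.trans inf_le_right)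
  have PU : P ≤ N[WP P ⊔ D] := norm_sup h.W_nml.norm (norm_of_cent PD)
  have WD : WP P ⊓ D = ⊥ := eq_bot_of_le h.dp.inf (inf_le_inf_left _ hD)
  have n1 : X ≤ N[zpowers w ⊔ D] := fun x hx => by
    obtain ⟨c, hc, y, hy, rfl⟩ := hp x hx
    exact mul_mem (C_le_N _ (C_anti (sup_le_sup_right (zpowers_le.2 hw) _) hc)) (hn hy)
  have n2 : ∀ u ∈ WP P, u ≠ 1 → X ≤ N[zpowers u ⊔ D] := fun u hu u1 => by
    obtain ⟨g, hg, rfl⟩ := four_trans h.W_ea h.cardW (h.W_nml.norm h.kP) h.odd h.W_fpf hw w1 hu u1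
    have gP : g ∈ P := zpowers_le.2 h.kP hg
    have := norm_cj n1 g
    rwa [cj_of_mem_N (hX gP), cj_sup, cj_zpowers, cj_of_mem_C (PD gP)] at this
  have dec : ∀ u ∈ WP P, ∀ v ∈ zpowers u ⊔ D, v ∈ D ∨ v * u ∈ D := fun u hu v hv => by
    rw [sup_comm] at hv
    obtain ⟨d, hd, c, hc, rfl⟩ := (mem_sup_of_norm (zpowers_le.2 (C_le_N _ (PD (h.W_nml.le hu))))).1 hv
    rcases (mem_zp2 (ea_sq h.W_ea hu)).1 hc with rfl | rfl
    · exact Or.inl (by simpa using hd)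
    · exact Or.inr (by rwa [mmr (ea_sq h.W_ea hu)])
  have one : ∀ u ∈ WP P, u ∈ D → u = 1 := fun u hu hd => mem_bot.1 (WD ▸ (⟨hu, hd⟩ : u ∈ WP P ⊓ D))
  have hw' := h.W_nml.conj_mem h.kP hw
  have ne : k * w * k⁻¹ ≠ w := fun e =>
    w1 (mem_bot.1 (h.W_fpf ▸ (⟨hw, mem_C1_comm.1 (mem_C1_iff_conj.2 e)⟩ : w ∈ WP P ⊓ C{k})))
  have n3 : X ≤ N[D] := by
    have e : D = (zpowers w ⊔ D) ⊓ (zpowers (k * w * k⁻¹) ⊔ D) := by
      refine le_antisymm (le_inf le_sup_right le_sup_right) fun v hv => ?_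
      rcases dec w hw v hv.1 with e1 | e1
      · exact e1
      rcases dec _ hw' v hv.2 with e2 | e2
      · exact e2
      have := mul_mem (inv_mem e2) e1
      rw [show (v * (k * w * k⁻¹))⁻¹ * (v * w) = (k * w * k⁻¹)⁻¹ * w by group] at this
      exact absurd (inv_mul_eq_one.1 (one _ (mul_mem (inv_mem hw') hw) this)) ne
    rw [e]
    exact norm_inf n1 (n2 _ hw' (cjne k w1))
  have n4 : ∀ x ∈ X, ∀ u ∈ WP P, x * u * x⁻¹ * u ∈ D := fun x hx u hu => by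
    rcases eq_or_ne u 1 with rfl | u1
    · simp
    · exact (dec u hu _ (conj_mem (n2 u hu u1 hx) (mem_sup_left (mem_zpowers u)))).resolve_left
        fun e => u1 (one u hu ((conj_mem_iff (n3 hx)).1 e))
  have n5 : X ≤ N[WP P ⊔ D] := fun x hx => mem_N_of_cj_le (by
    rw [cj_sup, cj_of_mem_N (n3 hx)]
    refine sup_le (fun v hv => ?_) le_sup_right
    obtain ⟨u, hu, rfl⟩ := mem_cj'.1 hv
    exact (mul_mem_cancel_right (mem_sup_left hu)).1 (mem_sup_right (n4 x hx u hu)))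
  have n6 : P ⊓ X ≤ C[WP P ⊔ D] := fun p hp => by
    rw [C_sup]
    refine ⟨mem_C'.2 fun u hu => ccj ?_, PD hp.1⟩
    rw [← ea_inv h.W_ea hu]
    nth_rw 1 [ea_inv h.W_ea hu]
    exact eq_inv_of_mul_eq_one_left (one _ (mul_mem (h.W_nml.conj_mem hp.1 hu) hu) (n4 p hp.2 u hu))
  have n7 : P ≤ centQ X C[WP P ⊔ D] := h.gen_nml (norm_centQ hX (norm_C PU))
    fun b hb => (mem_centQ (norm_C n5)).2 ⟨norm_C PU (h.BP hb), fun x hx => by
      obtain ⟨c, hc, y, hy, rfl⟩ := hp x hx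
      have e : ⁅b, c * y⁆ = b * c * b⁻¹ * (b * (y * b⁻¹ * y⁻¹)) * c⁻¹ := by
        rw [commutatorElement_def]; group
      rw [e]
      refine mul_mem (mul_mem (conj_mem (norm_C PU (h.BP hb)) hc) (n6 ⟨h.BP (mul_mem hb
        (conj_mem (hT hy.2) (inv_mem hb))), ?_⟩)) (inv_mem hc)
      rw [show b * (y * b⁻¹ * y⁻¹) = b * y * b⁻¹ * y⁻¹ by group]
      exact X.mul_mem (conj_mem (hX (h.BP hb)) hy.1) (X.inv_mem hy.1)⟩
  refine ⟨fun x hx => ?_, n3⟩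
  have F : ∀ u ∈ WP P, x * (k * u * k⁻¹) * x⁻¹ = k * (x * u * x⁻¹) * k⁻¹ := fun u hu => by
    have c := ((mem_centQ (norm_C n5)).1 (n7 h.kP)).2 x hx
    have := conj_eq_of_mem_C c (conj_mem (n5 hx) (conj_mem (PU h.kP) (mem_sup_left hu)))
    rw [← this, commutatorElement_def]; group
  refine mem_C_iff_le_C1.2 ((h.irr (Y := WP P ⊓ C{x}) inf_le_left (mem_N_of_finite fun u hu =>
    ⟨h.W_nml.conj_mem h.kP hu.1, mem_C1_comm.1 (mem_C1_iff_conj.2 ?_)⟩)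
    (ne_bot_of_mem (x := k * w * k⁻¹ * w) ⟨mul_mem hw' hw, mem_C1_comm.1 (mem_C1_iff_conj.2 ?_)⟩
      (ea_mul_ne h.W_ea hw' ne))).ge.trans inf_le_right)
  · rw [F u hu.1, mem_C1_iff_conj.1 (mem_C1_comm.1 hu.2)]
  · have d := n4 x hx w hw
    have w2 := ea_sq h.W_ea hw
    have e1 : x * w * x⁻¹ = (x * w * x⁻¹ * w) * w := (mmr w2 _).symm
    generalize x * w * x⁻¹ * w = d' at d e1
    rw [cjm, F w hw, e1, cjm, conj_eq_of_mem_C (PD h.kP) d, ea_comm hU (mem_sup_right d) (mem_sup_left hw'),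
      mul_assoc, ← mul_assoc d', ea_sq hU (mem_sup_right d), one_mul]

section
variable (h : PS (Bm T) P A k a) (hH : Ch2 H) (hT : Syl 2 H T) (hP : P ≤ H)
include h hH hT hP

theorem step0 : Q2 H ≤ C[WP P] ∧ Q2 H ≤ N[OZ (Q2 P) ⊓ C[P]] := by
  obtain ⟨w, hw, w1, hB, e⟩ := h.exists_w
  have hn := (norm_self T).trans (N_le_N_Bm T)
  exact h.key hw w1 le_rfl (hP.trans (pcore_nml _ _).norm) hn
    (fun x hx => ⟨1, one_mem _, x, ⟨hx, pcore_le_Hall hT hx⟩, (one_mul x).symm⟩)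
    (e ▸ inf_le_right.trans (norm_OZ hn))

theorem W_le_Ys : WP P ≤ Ys H := by
  obtain ⟨w, hw, w1, hB, e⟩ := h.exists_w
  have hn := (norm_self T).trans (N_le_N_Bm T)
  have c := cents_symm (h.step0 hH hT hP).1
  have h1 : WP P ≤ OZ (Q2 H) := fun x hx => mem_OZ.2 ⟨hH.2 ⟨hP (h.W_nml.le hx), c hx⟩, c hx,
    by rw [sq]; exact ea_sq h.W_ea hx⟩
  have h2 : ncl (WP P) H ≤ OZ (Q2 H) := ncl_le_of_norm h1 (norm_OZ (pcore_nml _ _).norm)
  have h3 : ncl (WP P) H ⊴ H := ⟨h2.trans ((OZ_le _).trans (pcore_le _ _)), norm_ncl _ _⟩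
  refine self_le_ncl.trans (Red.le_Ys ⟨h3, ea_le (OZ_ea _) h2, fun X hX h4 h5 => ?_⟩)
  have p := ((hT.inf_nml hX).isProd_of_idx h4 h5).symm
  have k1 := (h.key (D := OZ (Q2 P) ⊓ C[P] ⊓ ncl (WP P) H) (X := X) hw w1 inf_le_left (hP.trans hX.norm) hn
    (fun x hx => by
      obtain ⟨c, hc, y, hy, rfl⟩ := p.mul x hx
      exact ⟨c, C_anti (sup_le self_le_ncl inf_le_right) hc.2, y, ⟨hy.2, hy.1⟩, rfl⟩)
    (by
      rw [group_modl (norm_of_cent (inf_le_right.trans (C_anti (zpowers_le.2 (h.W_nml.le hw)))))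
        (zpowers_le.2 (self_le_ncl hw)), ← e]
      exact inf_le_right.trans (norm_inf (norm_OZ hn) (hT.le.trans h3.norm)))).1
  refine cents_symm (ncl_le fun g hg => cents_symm ?_)
  rw [← cj_of_mem_N (hX.norm hg)]
  exact cent_cj k1 g

theorem Q2_norm : Q2 H ≤ N[P] := fun x hx => by
  obtain ⟨w, hw, w1, hB, e⟩ := h.exists_w
  obtain ⟨c, n⟩ := h.step0 hH hT hP
  have hn := (norm_self T).trans (N_le_N_Bm T)
  refine mem_N_of_cj_le ((cj_mono x h.gen).trans ?_)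
  rw [cj_sup, cj_of_mem_N (hn (pcore_le_Hall hT hx)), cj_zpowers]
  refine sup_le h.BP (zpowers_le.2 ((mul_mem_cancel_right (inv_mem h.kP)).1 (h.BP ?_)))
  have q : x * k * x⁻¹ * k⁻¹ ∈ Q2 H := by
    rw [show x * k * x⁻¹ * k⁻¹ = x * (k * x⁻¹ * k⁻¹) by group]
    exact mul_mem hx ((pcore_nml _ _).conj_mem (hP h.kP) (inv_mem hx))
  refine ⟨pcore_le_Hall hT q, ?_⟩
  rw [← OZ_Bm, e, C_sup]
  have kD : k ∈ C[OZ (Q2 P) ⊓ C[P]] := cents_symm inf_le_right h.kP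
  exact mem_inf.2 ⟨C_anti (zpowers_le.2 hw) (c q), mul_mem (conj_mem (norm_C n hx) kD) (inv_mem kD)⟩

end

/-- Baumann's lemma -/
theorem baumann (h : PS T P A k a) : ∃ N, ParS (Bm T) N ∧ N ≤ P ∧ P ≤ N ⊔ T := by
  have hA := h.mx
  obtain ⟨hA0, hi⟩ := h.replace
  have hU : cj k (OZ (Q2 P)) = OZ (Q2 P) := cj_of_mem_N (h.nZ' h.kP)
  have hQ : cj k (Q2 P) = Q2 P := cj_of_mem_N (h.nQ h.kP)
  have hYT : T ≤ C[A ⊓ OZ (Q2 P)] := h.AZ ▸ le_C_OZ _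
  have hYZ : A ⊓ OZ (Q2 P) ≤ OZ (JJ T) := h.AZ ▸ H12.omega_center_le_omega_center_J T
  have heag : IsElementaryAbelian 2 (cj k A) := H12.ea_map hA.ea _
  have hY : ¬ A ⊓ OZ (Q2 P) ≤ cj k A := fun e => h.nZ (h.AZ ▸ h.gena hYT
    (C_anti e (H12.ea_le_centralizer heag (conj_mem_cj k h.aA))))
  obtain ⟨y0, hy0, hy0'⟩ := SetLike.not_le_iff_exists.1 hY
  have hi' : (cj k A).relIndex (OZ (Q2 P)) = 2 := by rw [← hU, relIndex_cj, hi]
  have hZg : OZ (JJ T) ≤ (cj k A ⊓ Q2 P) ⊔ OZ (Q2 P) := by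
    have e : (cj k A ⊓ Q2 P) ⊔ OZ (Q2 P) = cj k ((A ⊓ Q2 P) ⊔ OZ (Q2 P)) := by
      rw [cj_sup, cj_inf, hU, hQ]
    refine H12.MaxEA.omega_center_J_le (hA0.of_card_le
      ((sup_le inf_le_right (OZ_le _)).trans h.QB) ?_ ?_)
    · rw [e]; exact H12.ea_map hA0.ea _
    · rw [e, card_cj]
  have hdec : ∀ z ∈ OZ (JJ T), ∃ w ∈ A ⊓ OZ (Q2 P), z * w ∈ cj k A := by
    intro z hz
    obtain ⟨a1, ha1, u, hu, rfl⟩ := (mem_sup_of_norm
      (norm_of_cent (cents_symm (inf_le_right.trans (le_C_OZ _))))).1 (hZg hz)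
    by_cases e : u ∈ cj k A
    · exact ⟨1, one_mem _, by simpa using mul_mem ha1.1 e⟩
    · refine ⟨y0, hy0, ?_⟩
      rw [mul_assoc]
      exact mul_mem ha1.1 ((mul_mem_idx2 hi' hu hy0.2).2 (iff_of_false e hy0'))
  let U : Subgroup G := ⨅ k : P, cj (k : G) (OZ (JJ T))
  have hUZ : U ≤ OZ (JJ T) := (iInf_le _ (1 : P)).trans (by simp [cj_one])
  have hUn : P ≤ N[U] := by
    rw [le_N_iff]
    intro k hk x hx
    refine mem_iInf.2 fun l => ?_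
    have := mem_iInf.1 hx ⟨k⁻¹ * l, mul_mem (inv_mem hk) l.2⟩
    rw [mem_cj] at this ⊢
    simpa [mul_assoc] using this
  have hTZ : T ≤ N[OZ (JJ T)] := norm_OZ ((norm_self T).trans (N_le_N_JJ T))
  have haJ : a ∈ JJ T := hA.le_J h.aA
  have hmem : ∀ x ∈ OZ (JJ T), x ∈ cj k A → x ∈ U := by
    intro x hx hxg
    have e : P ≤ Q2 P ⊔ (P ⊓ C{x}) := h.gena
      (h.genB le_sup_left (mem_sup_right ⟨h.aP, C_le_C1 hx (le_C_OZ _ haJ)⟩))
      (mem_sup_right ⟨conj_mem (norm_self P h.kP) h.aP,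
        C_le_C1 hxg (H12.ea_le_centralizer heag (conj_mem_cj k h.aA))⟩)
    refine mem_iInf.2 fun l => ?_
    obtain ⟨q, hq, c, hc, e'⟩ := (mem_sup_of_norm (inf_le_left.trans h.nQ)).1 (e (inv_mem l.2))
    have e2 : (l : G)⁻¹ * x * l = q * x * q⁻¹ := by
      have := mem_C1_iff_conj.1 hc.2
      calc (l : G)⁻¹ * x * l = (l : G)⁻¹ * x * ((l : G)⁻¹)⁻¹ := by group
        _ = q * (c * x * c⁻¹) * q⁻¹ := by rw [e']; group
        _ = q * x * q⁻¹ := by rw [this]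
    rw [mem_cj, e2]
    exact conj_mem (hTZ (h.QB hq)) hx
  have hN : P ⊓ C[U] ⊴ P := ⟨inf_le_left, norm_inf (norm_self P) (norm_C hUn)⟩
  have hNT : T ⊓ (P ⊓ C[U]) = Bm T := by
    refine le_antisymm (fun t ht => ⟨ht.1, ?_⟩)
      (le_inf (Bm_le T) (le_inf ((Bm_le T).trans h.BP) (inf_le_right.trans (C_anti hUZ))))
    refine mem_C_iff_le_C1.2 fun z hz => ?_
    obtain ⟨w, hw, hzw⟩ := hdec z hz
    have e1 : z * w ∈ C{t} := mem_C_iff_le_C1.1 ht.2.2 (hmem _ (mul_mem hz (hYZ hw)) hzw)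
    have e2 : w ∈ C{t} := mem_C_iff_le_C1.1 (hYT ht.1) hw
    exact (mul_mem_cancel_right e2).1 e1
  have haB : a ∈ Bm T := JJ_le_Bm T haJ
  generalize P ⊓ C[U] = N at hN hNT
  have BN : Bm T ≤ N := hNT.ge.trans inf_le_right
  have eQ : Q2 P ⊓ N = Q2 N := pcore_inf_nml _ hN
  have hk' : k * a * k⁻¹ * a⁻¹ ∈ N := mul_mem (hN.conj_mem h.kP (BN haB)) (inv_mem (BN haB))
  have hkK : ∀ t ∈ T, t ∉ Q2 P → t * (k * a * k⁻¹ * a⁻¹) * t⁻¹ * (k * a * k⁻¹ * a⁻¹) ∈ Q2 P := by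
    intro t ht ht'
    have q := h.mulQ ht ht'
    have e : t * (k * a * k⁻¹ * a⁻¹) * t⁻¹ * (k * a * k⁻¹ * a⁻¹) = a⁻¹ * ((a * t) *
        ((k * a * k⁻¹ * a⁻¹) * (a * t)⁻¹ * (k * a * k⁻¹ * a⁻¹)⁻¹)) * a *
        (a⁻¹ * (k * a * k⁻¹ * a⁻¹) * a * (k * a * k⁻¹ * a⁻¹)) := by group
    have e2 : a⁻¹ * (k * a * k⁻¹ * a⁻¹) * a * (k * a * k⁻¹ * a⁻¹) = 1 := by
      calc _ = a⁻¹ * k * (a * a) * k⁻¹ * (a * a)⁻¹ * a := by group
        _ = 1 := by rw [h.a2]; group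
    rw [e, e2, mul_one]
    exact conj_mem' (h.nQ h.aP) (mul_mem q (conj_mem (h.nQ (hN.le hk')) (inv_mem q)))
  have hP : P ≤ T ⊔ zpowers (k * a * k⁻¹ * a⁻¹) := h.gena le_sup_left
    ((mul_mem_cancel_right (inv_mem (mem_sup_left h.aB))).1 (mem_sup_right (mem_zpowers _)))
  refine ⟨N, ⟨hNT ▸ h.syl.inf_nml hN, h.ch2.nml hN, ?_, ⟨_, hk', fun n hn => ?_, fun t ht ht' => ?_⟩, ?_, ?_⟩,
    hN.le, hP.trans (sup_le le_sup_right ((zpowers_le.2 hk').trans le_sup_left))⟩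
  · have := relIndex_dvd_of_nml (Nml.mk h.QB (h.BP.trans h.nQ)) (Bm_le T)
    rw [h.idx] at this
    rw [← eQ, ← inf_relIndex_right, inf_assoc, inf_eq_right.2 BN, inf_relIndex_right]
    exact ((Nat.dvd_prime two_prime).1 this).resolve_left fun e => h.aQ (relIndex_eq_one.1 e haB)
  · have nK := nml_sup_zp (h.BP.trans h.nQ) (h.nQ (hN.le hk')) hP hkK (mem_zpowers _)
    obtain ⟨c, hc, b, hb, rfl⟩ := (mem_sup_of_norm (h.BP.trans nK)).1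
      ((hP.trans (sup_le le_sup_right (le_sup_right.trans le_sup_left))) (hN.le hn))
    rw [sup_comm] at hc
    obtain ⟨y, hy, q, hq, rfl⟩ := (mem_sup_of_norm' (zpowers_le.2 (h.nQ (hN.le hk')))).1 hc
    rw [mul_assoc y] at hn ⊢
    exact mul_mem (mem_sup_right hy) (mem_sup_left (hNT.le ⟨mul_mem (h.QB hq) hb,
      (mul_mem_cancel_left (zpowers_le.2 hk' hy)).1 hn⟩))
  · rw [← eQ] at ht' ⊢
    exact ⟨hkK t (Bm_le T ht) fun e => ht' ⟨e, BN ht⟩, mul_mem (conj_mem (norm_self N (BN ht)) hk') hk'⟩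
  · rw [JJ_Bm, ← eQ]
    exact fun e => h.aQ (e haJ).1
  · intro e
    refine h.nZ (hP.trans (sup_le (le_C_OZ T) (zpowers_le.2 (C_anti ?_ (e hk')))))
    rw [OZ_Bm]
    exact H12.omega_center_le_omega_center_J T

end PS

end H3.NG
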