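import Mathlib
import Cfsg.Agent.H3.NF1
import Cfsg.Agent.H12.NGY

/-! N-groups, pushing up: components of a reduced module. -/

set_option autoImplicit false
set_option linter.unusedSectionVars false
set_option linter.unusedVariables false

namespace H3.NG

open Subgroup Cfsg H24 H26 H11.ZN H12.NG
open scoped commutatorElement

universe u

variable {G : Type u} [Group G] [Finite G] {V H A B X Y W T : Subgroup G} {a b t x y g w f : G}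

section sec
variable {Γ : Type u} [Group Γ] [Finite Γ] {ι : V →* Γ} {ρ : H →* Γ} (s : Sec V ⊥ H ι ρ) (hH : H ≤ N[V])
include s hH

theorem sec_one (hg : g ∈ H) : ap ρ g = 1 ↔ g ∈ C[V] := by
  rw [s.kerρ g hg, mem_C']
  refine forall₂_congr fun x hx => ?_
  rw [mem_bot, mul_inv_eq_one, mul_inv_eq_iff_eq_mul]

theorem sec_inj (hx : x ∈ V) (hy : y ∈ V) (e : ap ι x = ap ι y) : x = y := by
  have := (s.ker _ (mul_mem hx (inv_mem hy))).1 (by rw [ap_mul _ hx (inv_mem hy), ap_inv _ hy, e, mul_inv_cancel])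
  exact mul_inv_eq_one.1 (mem_bot.1 this)

theorem sec_card (hX : X ≤ V) : ♯(img ι X) = ♯X :=
  card_img_of_inf ι hX (eq_bot_iff.2 fun x hx => (s.ker x (hX hx.2)).1 (mem_pre_bot.1 hx.1).2)

theorem sec_C1 (hg : g ∈ H) (hx : x ∈ V) : ap ι x ∈ C{ap ρ g} ↔ x ∈ C{g} := by
  rw [mem_C1_comm, mem_C1_iff_conj, ← s.act g hg x hx, mem_C1_comm, mem_C1_iff_conj]
  exact ⟨sec_inj s hH (conj_mem (hH hg) hx) hx, fun e => by rw [e]⟩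

theorem sec_fix1 (hg : g ∈ H) : img ι (V ⊓ C{g}) = ι.range ⊓ C{ap ρ g} := by
  ext z
  rw [mem_img_of_le inf_le_left]
  refine ⟨?_, fun ⟨⟨x, e⟩, h⟩ => ⟨x, ⟨x.2, (sec_C1 s hH hg x.2).1 (by rwa [ap_coe, e])⟩, by rw [ap_coe, e]⟩⟩
  rintro ⟨x, hx, rfl⟩
  exact ⟨img_le_range ι V (ap_mem_img ι hx.1 hx.1), (sec_C1 s hH hg hx.1).2 hx.2⟩

theorem sec_fix (hA : A ≤ H) : img ι (V ⊓ C[A]) = ι.range ⊓ C[img ρ A] := by
  ext z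
  rw [mem_img_of_le inf_le_left]
  constructor
  · rintro ⟨x, hx, rfl⟩
    refine ⟨img_le_range ι V (ap_mem_img ι hx.1 hx.1), mem_C_iff_le_C1.2 fun z hz => ?_⟩
    obtain ⟨a, ha, rfl⟩ := (mem_img_of_le hA).1 hz
    exact mem_C1_comm.1 ((sec_C1 s hH (hA ha) hx.1).2 (C_le_C1 ha hx.2))
  · rintro ⟨⟨x, rfl⟩, h⟩
    exact ⟨x, ⟨x.2, mem_C_iff_le_C1.2 fun a ha => mem_C1_comm.1 ((sec_C1 s hH (hA ha) x.2).1
      (by rw [ap_coe]; exact C_le_C1 (ap_mem_img ρ ha (hA ha)) h))⟩, ap_coe ι x⟩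

theorem sec_comm (hV : Abl V) (hV' : Abl ι.range) (hn : ρ.range ≤ N[ι.range]) (hg : g ∈ H) :
    img ι ⁅V, zpowers g⁆ = ⁅ι.range, zpowers (ap ρ g)⁆ := by
  ext z
  rw [mem_img_of_le (comm1_le (hH hg)), mem_comm1 hV' (hn (img_le_range ρ H (ap_mem_img ρ hg hg)))]
  have e : ∀ w ∈ V, ap ι (g * w * g⁻¹ * w⁻¹) = ap ρ g * ap ι w * (ap ρ g)⁻¹ * (ap ι w)⁻¹ := fun w hw => by
    rw [ap_mul _ (conj_mem (hH hg) hw) (inv_mem hw), ap_inv _ hw, s.act g hg w hw]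
  constructor
  · rintro ⟨x, hx, rfl⟩
    obtain ⟨w, hw, rfl⟩ := (mem_comm1 hV (hH hg)).1 hx
    exact ⟨_, img_le_range ι V (ap_mem_img ι hw hw), (e w hw).symm⟩
  · rintro ⟨_, ⟨w, rfl⟩, rfl⟩
    exact ⟨_, (mem_comm1 hV (hH hg)).2 ⟨w, w.2, rfl⟩, by rw [e w w.2, ap_coe]⟩

theorem sec_tv (hg : g ∈ H) : Tv ι.range (ap ρ g) ↔ Tv V g := by
  have h1 := card_mul_relIndex (inf_le_left : V ⊓ C{g} ≤ V)
  have h2 := card_mul_relIndex (inf_le_left : ι.range ⊓ C{ap ρ g} ≤ _)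
  rw [← sec_card s hH le_rfl, img_dom, ← h2, ← sec_card s hH inf_le_left, sec_fix1 s hH hg] at h1
  unfold Tv
  rw [Nat.eq_of_mul_eq_mul_left (card_pos _) h1]

end sec

theorem three_cases (h : orderOf f = 3) (hg : g ∈ zpowers f) (h1 : g ≠ 1) : g = f ∨ g = f⁻¹ := by
  obtain ⟨n, rfl⟩ := mem_powers_iff_mem_zpowers.2 hg
  have e : f ^ n = f ^ (n % 3) := by rw [← h, pow_mod_orderOf]
  have e3 : f ^ 3 = 1 := h ▸ pow_orderOf_eq_one f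
  simp only [e] at h1 ⊢
  have := Nat.mod_lt n (by norm_num : 0 < 3)
  interval_cases n % 3
  · simp at h1
  · simp
  · exact Or.inr (eq_inv_of_mul_eq_one_left (by rw [← pow_succ, e3]))

/-- `Ω` is the set of elements inducing an element of order three of the Fitting subgroup of `H / C_H(V)`
with commutator space of order four -/
structure Cp (V H : Subgroup G) (Ω : Set G) : Prop where
  ea : EA V
  nml : V ⊴ H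
  le : ∀ f ∈ Ω, f ∈ H
  odd : ∀ f ∈ Ω, Odd (orderOf f)
  card : ∀ f ∈ Ω, ♯⁅V, zpowers f⁆ = 4
  conj : ∀ g ∈ H, ∀ f ∈ Ω, g * f * g⁻¹ ∈ Ω
  m4 : ∀ f ∈ Ω, ∀ g ∈ Ω, (f * g⁻¹ ∈ C[V] ∨ f * g ∈ C[V]) ∨
    (⁅V, zpowers f⁆ ⊓ ⁅V, zpowers g⁆ = ⊥ ∧ g ∈ C[⁅V, zpowers f⁆])
  tv : ∀ t ∈ H, Tv V t → ∃ f ∈ Ω, t * f * t⁻¹ * f ∈ C[V]
  m2 : ∀ A ≤ H, EA A → ♯V * ♯(A ⊓ C[V]) ≤ ♯A * ♯(V ⊓ C[A]) →
    ∀ X, A ⊓ C[V] ≤ X → (∀ t ∈ A, Tv V t → t ∈ X) → A ≤ X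
  m5 : Ω = ∅ → ∀ A ≤ H, (∀ a ∈ A, a * a ∈ C[V]) → ¬ A ≤ C[V] →
    2 * (A ⊓ C[V]).relIndex A * ♯(V ⊓ C[A]) ≤ ♯V ∧
      (4 ≤ (A ⊓ C[V]).relIndex A → 4 * (A ⊓ C[V]).relIndex A * ♯(V ⊓ C[A]) ≤ ♯V)

theorem exists_Cp (h : Red V H) (hs : Sol H) : ∃ Ω, Cp V H Ω := by
  obtain ⟨Γ, _, _, ι, ρ, s, m⟩ := h.exists_md hs
  have hH := h.nml.norm
  have mem : ∀ g ∈ H, ap ρ g ∈ ρ.range := fun g hg => img_le_range ρ H (ap_mem_img ρ hg hg)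
  have cm : ∀ g ∈ H, img ι ⁅V, zpowers g⁆ = ⁅ι.range, zpowers (ap ρ g)⁆ := fun g hg =>
    sec_comm s hH h.ea.1 m.ea.1 m.le hg
  have cc : ∀ g ∈ H, ♯⁅ι.range, zpowers (ap ρ g)⁆ = ♯⁅V, zpowers g⁆ := fun g hg => by
    rw [← cm g hg, sec_card s hH (comm1_le (hH hg))]
  have cV : ♯ι.range = ♯V := by rw [← img_dom, sec_card s hH le_rfl]
  have ker : ∀ A ≤ H, pre ρ ⊥ ⊓ A = A ⊓ C[V] := fun A hA => by
    ext x
    exact ⟨fun e => ⟨e.2, (sec_one s hH (hA e.2)).1 (mem_pre_bot.1 e.1).2⟩,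
      fun e => ⟨mem_pre_bot.2 ⟨hA e.1, (sec_one s hH (hA e.1)).2 e.2⟩, e.1⟩⟩
  have lift : ∀ z ∈ F[ρ.range], ∃ f ∈ H, Odd (orderOf f) ∧ ap ρ f = z := fun z hz => by
    obtain ⟨f, rfl⟩ := Fitting_le _ hz
    exact ⟨_, constt_mem {2}ᶜ f.2, odd_of_piElt (piElt_constt _ _), by
      rw [constt_ap ρ _ f.2, ap_coe, constt_eq_self (piElt_of_odd (m.odd hz))]⟩
  have eaA : ∀ A ≤ H, (∀ a ∈ A, a * a ∈ C[V]) → EA (img ρ A) := fun A hA h2 => ea_of_sq fun z hz => by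
    obtain ⟨a, ha, rfl⟩ := (mem_img_of_le hA).1 hz
    rw [← ap_mul _ (hA ha) (hA ha), sec_one s hH (mul_mem (hA ha) (hA ha))]
    exact h2 a ha
  refine ⟨{f | f ∈ H ∧ Odd (orderOf f) ∧ ap ρ f ∈ F[ρ.range] ∧ ♯⁅V, zpowers f⁆ = 4}, h.ea, h.nml,
    fun f hf => hf.1, fun f hf => hf.2.1, fun f hf => hf.2.2.2, fun g hg f hf =>
      ⟨conj_mem (norm_self H hg) hf.1, by rw [orderOf_conj]; exact hf.2.1, ?_, ?_⟩,
    fun f hf g hg => ?_, fun t ht hT => ?_, fun A hA hA' e X h1 h2 a ha => ?_, fun e A hA h2 h3 => ?_⟩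
  · rw [ap_conj _ hg hf.1]
    exact (Fitting_nml _).conj_mem (mem g hg) hf.2.2.1
  · rw [← cj_zpowers, ← cj_of_mem_N (hH hg), ← cj_comm, card_cj]
    exact hf.2.2.2
  · have f4 := (cc f hf.1).trans hf.2.2.2
    have g4 := (cc g hg.1).trans hg.2.2.2
    have f3 := m.three hf.2.2.1 f4
    have g3 := m.three hg.2.2.1 g4
    rcases m.m4 hf.2.2.1 hg.2.2.1 f3 g3 f4 g4 with e | ⟨-, e1, e2⟩
    · left
      rw [← sec_one s hH (mul_mem hf.1 (inv_mem hg.1)), ← sec_one s hH (mul_mem hf.1 hg.1),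
        ap_mul _ hf.1 (inv_mem hg.1), ap_mul _ hf.1 hg.1, ap_inv _ hg.1]
      rcases three_cases f3 (e.ge (mem_zpowers _)) (ne_one_of_orderOf_prime (g3 ▸ Nat.prime_three)) with e | e <;>
        simp [e]
    · have l1 := comm1_le (hH hf.1)
      refine Or.inr ⟨eq_bot_iff.2 fun x hx => (s.ker x (l1 hx.1)).1 (mem_bot.1 (e1 ▸ ⟨?_, ?_⟩)),
        mem_C_iff_le_C1.2 fun x hx => (sec_C1 s hH hg.1 (l1 hx)).1 (mem_C_iff_le_C1.1 e2 ?_)⟩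
      · exact cm f hf.1 ▸ ap_mem_img ι hx.1 (l1 hx.1)
      · exact cm g hg.1 ▸ ap_mem_img ι hx.2 (l1 hx.1)
      · exact cm f hf.1 ▸ ap_mem_img ι hx (l1 hx)
  · have hT' := (sec_tv s hH ht).2 hT
    obtain ⟨z, hz, z1, e⟩ := m.inv (mem t ht)
      (m.eq_one (mul_mem (mem t ht) (mem t ht)) (hT'.sq m.ea.1 (m.le (mem t ht)))) (fun e => by
        rw [Tv, e] at hT'; simp at hT')
    obtain ⟨f, hf, ho, rfl⟩ := lift z hz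
    refine ⟨f, ⟨hf, ho, hz, (cc f hf).symm.trans (m.m3 (mem t ht) hT' hz z1 e).2⟩, ?_⟩
    have c := conj_mem (norm_self H ht) hf
    rw [← sec_one s hH (mul_mem c hf), ap_mul _ c hf, ap_conj _ ht hf, e, inv_mul_cancel]
  · have c1 := card_img_mul ρ hA
    have := m.m2 (eaA A hA fun a ha => by rw [ea_sq hA' ha]; exact one_mem _) (img_le_range _ _) (by
      rw [cV, ← sec_fix s hH hA, sec_card s hH inf_le_left]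
      rw [← c1, ker A hA, mul_comm ♯V, mul_assoc] at e
      exact Nat.le_of_mul_le_mul_left e (card_pos _))
    have h3 : img ρ A ≤ img ρ (A ⊓ X) := this.trans ((closure_le _).2 fun z hz => by
      obtain ⟨t, ht, rfl⟩ := (mem_img_of_le hA).1 hz.1
      exact ap_mem_img ρ ⟨ht, h2 t ht ((sec_tv s hH (hA ht)).1 hz.2)⟩ (hA ht))
    obtain ⟨x, hx, e'⟩ := (mem_img_of_le (inf_le_left.trans hA)).1 (h3 (ap_mem_img ρ ha (hA ha)))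
    refine (X.mul_mem_cancel_left (X.inv_mem hx.2)).1 (h1 (mem_inf.2 ⟨A.mul_mem (A.inv_mem hx.1) ha, ?_⟩))
    rw [← sec_one s hH (hA (A.mul_mem (A.inv_mem hx.1) ha)), ap_mul _ (hA (A.inv_mem hx.1)) (hA ha),
      ap_inv _ (hA hx.1), e', inv_mul_cancel]
  · have := m.m5 (fun z hz z3 z4 => by
        obtain ⟨f, hf, ho, rfl⟩ := lift z hz
        exact Set.eq_empty_iff_forall_notMem.1 e f ⟨hf, ho, hz, (cc f hf).symm.trans z4⟩)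
      (eaA A hA h2) (img_le_range _ _) (fun e => h3 fun a ha =>
        (sec_one s hH (hA ha)).1 (mem_pre_bot.1 ((img_eq_bot hA).1 e ha)).2)
    rwa [cV, ← sec_fix s hH hA, sec_card s hH inf_le_left, card_img ρ hA, ← inf_relIndex_right, ker A hA] at this

namespace Cp

variable {Ω : Set G} (h : Cp V H Ω)
include h

theorem nV (hf : f ∈ Ω) : f ∈ N[V] := h.nml.norm (h.le f hf)
theorem W_le (hf : f ∈ Ω) : ⁅V, zpowers f⁆ ≤ V := comm1_le (h.nV hf)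
theorem W_ea (hf : f ∈ Ω) : EA ⁅V, zpowers f⁆ := ea_le h.ea (h.W_le hf)
theorem fpf (hf : f ∈ Ω) : ⁅V, zpowers f⁆ ⊓ C{f} = ⊥ := odd_TI1 h.ea (h.nV hf) (h.odd f hf)
theorem nW (f : G) : f ∈ N[⁅V, zpowers f⁆] := norm_comm_right _ _ (mem_zpowers f)
theorem W_ne (hf : f ∈ Ω) : ⁅V, zpowers f⁆ ≠ ⊥ := fun e => by
  have := h.card f hf; rw [e] at this; simp at this

theorem nc (hf : f ∈ Ω) : f ∉ C[⁅V, zpowers f⁆] := fun e =>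
  h.W_ne hf (eq_bot_of_le (h.fpf hf) (le_inf le_rfl (mem_C_iff_le_C1.1 e)))

theorem dec (hf : f ∈ Ω) (hy : y ∈ V) : ∃ u ∈ ⁅V, zpowers f⁆, ∃ c ∈ V ⊓ C{f}, y = u * c := by
  have := odd_dp h.ea (zpowers_le.2 (h.nV hf)) (piElt_of_odd (h.odd f hf)).isPi
  rw [C_zpowers] at this
  exact this.isProd.mul y hy

theorem cent (hf : f ∈ Ω) (h1 : x ∈ C[⁅V, zpowers f⁆]) (h2 : x ∈ C[V ⊓ C{f}]) : x ∈ C[V] :=
  mem_C_iff_le_C1.2 fun y hy => by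
    obtain ⟨u, hu, c, hc, rfl⟩ := h.dec hf hy
    exact mul_mem (mem_C_iff_le_C1.1 h1 hu) (mem_C_iff_le_C1.1 h2 hc)

theorem W_cj (hg : g ∈ H) (f : G) : ⁅V, zpowers (g * f * g⁻¹)⁆ = cj g ⁅V, zpowers f⁆ := by
  rw [cj_comm, cj_zpowers, cj_of_mem_N (h.nml.norm hg)]

theorem same' (hf : f ∈ Ω) (hg : g ∈ Ω) (e : ⁅V, zpowers f⁆ ⊓ ⁅V, zpowers g⁆ ≠ ⊥) :
    f * g⁻¹ ∈ C[V] ∨ f * g ∈ C[V] := (h.m4 f hf g hg).resolve_right fun e' => e e'.1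

theorem same_le (hf : f ∈ Ω) (hg : g ∈ Ω) (e : ⁅V, zpowers f⁆ ⊓ ⁅V, zpowers g⁆ ≠ ⊥) :
    V ⊓ C{g} ≤ C{f} := fun x hx => by
  rcases h.same' hf hg e with c | c
  · exact mem_C1_comm.1 ((mul_mem_cancel_right (inv_mem (mem_C1_comm.1 hx.2))).1 (C_le_C1 hx.1 c))
  · exact mem_C1_comm.1 ((mul_mem_cancel_right (mem_C1_comm.1 hx.2)).1 (C_le_C1 hx.1 c))

theorem same_C (hf : f ∈ Ω) (hg : g ∈ Ω) (e : ⁅V, zpowers f⁆ ⊓ ⁅V, zpowers g⁆ ≠ ⊥) :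
    V ⊓ C{f} = V ⊓ C{g} :=
  le_antisymm (le_inf inf_le_left (h.same_le hg hf (by rwa [inf_comm]))) (le_inf inf_le_left (h.same_le hf hg e))

theorem same (hf : f ∈ Ω) (hg : g ∈ Ω) (e : ⁅V, zpowers f⁆ ⊓ ⁅V, zpowers g⁆ ≠ ⊥) :
    ⁅V, zpowers f⁆ = ⁅V, zpowers g⁆ := by
  have n : f ∈ N[⁅V, zpowers g⁆] := by
    rcases h.same' hf hg e with c | c
    · exact (mul_mem_cancel_right (inv_mem (h.nW g))).1 (C_le_N _ (C_anti (h.W_le hg) c))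
    · exact (mul_mem_cancel_right (h.nW g)).1 (C_le_N _ (C_anti (h.W_le hg) c))
  have := four_irr (h.card f hf) (h.fpf hf) inf_le_left (mem_N_inf (h.nW f) n) e
  exact eq_of_card_eq (this.ge.trans inf_le_right) ((h.card f hf).trans (h.card g hg).symm)

theorem other (hf : f ∈ Ω) (hg : g ∈ Ω) (e : ⁅V, zpowers f⁆ ⊓ ⁅V, zpowers g⁆ = ⊥) :
    g ∈ C[⁅V, zpowers f⁆] := by
  refine ((h.m4 f hf g hg).elim (fun c => ?_) fun c => c.2)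
  have n : g ∈ N[⁅V, zpowers f⁆] := by
    rcases c with c | c
    · exact inv_mem_iff.1 ((mul_mem_cancel_left (h.nW f)).1 (C_le_N _ (C_anti (h.W_le hf) c)))
    · exact (mul_mem_cancel_left (h.nW f)).1 (C_le_N _ (C_anti (h.W_le hf) c))
  exact comm_eq_bot'.1 (eq_bot_of_le e (le_inf (comm1_le n) (comm_mono_left (h.W_le hf)))) (mem_zpowers g)

theorem norm_of (hf : f ∈ Ω) (hx : x ∈ H) (hw : w ∈ ⁅V, zpowers f⁆) (w1 : w ≠ 1)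
    (e : x * w * x⁻¹ ∈ ⁅V, zpowers f⁆) : x ∈ N[⁅V, zpowers f⁆] := by
  rw [mem_N_iff_cj, ← h.W_cj hx]
  exact h.same (h.conj x hx f hf) hf (ne_bot_of_mem ⟨h.W_cj hx f ▸ conj_mem_cj x hw, e⟩ (cjne x w1))

theorem norm_fix (hf : f ∈ Ω) (hx : x ∈ H) (n : x ∈ N[⁅V, zpowers f⁆]) : x ∈ N[V ⊓ C{f}] := by
  rw [mem_N_iff_cj, cj_inf, cj_C1, cj_of_mem_N (h.nml.norm hx)]
  refine h.same_C (h.conj x hx f hf) hf ?_
  rw [h.W_cj hx, cj_of_mem_N n, inf_idem]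
  exact h.W_ne hf

theorem cent_f (hf : f ∈ Ω) (hx : x ∈ H) (c : x ∈ C[⁅V, zpowers f⁆]) : x * f * x⁻¹ * f⁻¹ ∈ C[V] := by
  refine (h.same' (h.conj x hx f hf) hf ?_).resolve_right fun e => h.nc hf (mem_of_sq (h.odd f hf) ?_)
  · rw [h.W_cj hx, cj_of_mem_C c, inf_idem]
    exact h.W_ne hf
  · have := mul_mem (inv_mem (mul_mem c (conj_mem (N_le_NC _ (h.nW f)) (inv_mem c)))) (C_anti (h.W_le hf) e)
    rwa [show (x * (f * x⁻¹ * f⁻¹))⁻¹ * (x * f * x⁻¹ * f) = f * f by group] at this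

theorem tv_norm (hf : f ∈ Ω) (ht : t ∈ H) (hT : Tv V t) : t ∈ N[⁅V, zpowers f⁆] := by
  have e := card_le_mul_of_relIndex (K := C{t}) (n := 2) (h.W_le hf) (by rw [← inf_relIndex_left]; exact hT.le)
  obtain ⟨w, hw, w1⟩ := exists_ne_one (H := ⁅V, zpowers f⁆ ⊓ C{t}) fun e' => by
    rw [e', h.card f hf] at e; simp at e
  exact h.norm_of hf ht hw.1 w1 (by rw [mem_C1_iff_conj.1 (mem_C1_comm.1 hw.2)]; exact hw.1)

theorem tv_card (ht : t ∈ H) (hT : Tv V t) : ♯⁅V, zpowers t⁆ = 2 := by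
  have e := card_comm1 h.ea.1 (h.nml.norm ht)
  rw [← card_mul_relIndex (inf_le_left : V ⊓ C{t} ≤ V), hT] at e
  exact Nat.eq_of_mul_eq_mul_left (card_pos _) e

theorem tv_le' (ht : t ∈ H) (hT : Tv V t) (hX : X ≤ V) (n : t ∈ N[X]) (c : t ∉ C[X]) : ⁅V, zpowers t⁆ ≤ X :=
  (prime_eq_of_le (h.tv_card ht hT ▸ two_prime) (comm_mono_left hX)
    fun e => c (comm_eq_bot'.1 e (mem_zpowers t))).ge.trans (comm1_le n)

theorem tv_le (hf : f ∈ Ω) (ht : t ∈ H) (hT : Tv V t) (c : t ∉ C[⁅V, zpowers f⁆]) :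
    ⁅V, zpowers t⁆ ≤ ⁅V, zpowers f⁆ := h.tv_le' ht hT (h.W_le hf) (h.tv_norm hf ht hT) c

theorem tv_ne (ht : t ∈ H) (hT : Tv V t) : ⁅V, zpowers t⁆ ≠ ⊥ := fun e => by
  have := h.tv_card ht hT; rw [e] at this; simp at this

theorem tv_ex (ht : t ∈ H) (hT : Tv V t) : ∃ f ∈ Ω, t ∉ C[⁅V, zpowers f⁆] := by
  obtain ⟨f, hf, e⟩ := h.tv t ht hT
  refine ⟨f, hf, fun c => h.nc hf (C_anti (h.W_le hf) (mem_of_sq (h.odd f hf) ?_))⟩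
  have := mul_mem (inv_mem (h.cent_f hf ht c)) e
  rwa [show (t * f * t⁻¹ * f⁻¹)⁻¹ * (t * f * t⁻¹ * f) = f * f by group] at this

theorem tv_cent (hf : f ∈ Ω) (ht : t ∈ H) (hT : Tv V t) (c : t ∉ C[⁅V, zpowers f⁆]) : t ∈ C[V ⊓ C{f}] := by
  by_contra e
  exact h.tv_ne ht hT (eq_bot_of_le (h.fpf hf) (le_inf (h.tv_le hf ht hT c)
    ((h.tv_le' ht hT inf_le_left (h.norm_fix hf ht (h.tv_norm hf ht hT)) e).trans inf_le_right)))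

theorem tv_same (hf : f ∈ Ω) (hg : g ∈ Ω) (ht : t ∈ H) (hT : Tv V t) (c : t ∉ C[⁅V, zpowers f⁆])
    (c' : t ∉ C[⁅V, zpowers g⁆]) : ⁅V, zpowers f⁆ ⊓ ⁅V, zpowers g⁆ ≠ ⊥ :=
  ne_bot_of_le (h.tv_ne ht hT) (le_inf (h.tv_le hf ht hT c) (h.tv_le hg ht hT c'))

section
variable (hT : IsPi {2} T) (hTH : T ≤ H) (hV : V ≤ T)
include hT hTH hV

theorem mx_le (hA : H12.MaxEA 2 T A) (h1 : A ⊓ C[V] ≤ X) (h2 : ∀ t ∈ A, Tv V t → t ∈ X) : A ≤ X := by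
  refine h.m2 A (hA.le.trans hTH) hA.ea ?_ X h1 h2
  have c1 := hA.card_le (sup_le hV (inf_le_left.trans hA.le) : V ⊔ A ⊓ C[V] ≤ T)
    (H12.ea_sup h.ea (ea_le hA.ea inf_le_left) (cents_symm inf_le_right))
  rw [← card_sup (norm_of_cent (inf_le_right : A ⊓ C[V] ≤ _))]
  exact Nat.mul_le_mul c1 (card_le (inf_le_inf_left _ (inf_le_left.trans (H12.ea_le_centralizer hA.ea))))

theorem J_le (h1 : JJ T ⊓ C[V] ≤ X) (h2 : ∀ t ∈ JJ T, t * t = 1 → Tv V t → t ∈ X) : JJ T ≤ X :=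
  H12.J_le_iff.2 fun A hA => h.mx_le hT hTH hV hA ((inf_le_inf_right _ hA.le_J).trans h1)
    fun t ht e => h2 t (hA.le_J ht) (ea_sq hA.ea ht) e

theorem J_norm (hf : f ∈ Ω) : JJ T ≤ N[⁅V, zpowers f⁆] :=
  h.J_le hT hTH hV (inf_le_right.trans ((C_anti (h.W_le hf)).trans (C_le_N _)))
    fun t ht _ e => h.tv_norm hf (hTH (JJ_le T ht)) e

theorem J_ex (hX : X ≤ V) (c : ¬ JJ T ≤ C[X]) : ∃ t ∈ JJ T, t * t = 1 ∧ Tv V t ∧ t ∉ C[X] := by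
  by_contra e
  push Not at e
  exact c (h.J_le hT hTH hV (inf_le_right.trans (C_anti hX)) e)

theorem fixJ : V ⊓ C[JJ T] ≤ C[Bm T] := fun x hx =>
  have e : x ^ 2 = 1 := by rw [sq]; exact ea_sq h.ea hx.1
  cents_symm (inf_le_right : Bm T ≤ _) (mem_OZ.2 ⟨H12.mem_J_of_centralizer (hV hx.1) hx.2 e, hx.2, e⟩)

theorem ex_w (hf : f ∈ Ω) : ∃ w ∈ ⁅V, zpowers f⁆, w ≠ 1 ∧ w ∈ C[JJ T] := by
  obtain ⟨w, hw, w1⟩ := exists_ne_one (IsPi.inf_C_ne_bot two_prime (hT.of_le (JJ_le T)) (ea_pi (h.W_ea hf))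
    (h.J_norm hT hTH hV hf) (h.W_ne hf))
  exact ⟨w, hw.1, w1, hw.2⟩

theorem B_norm (hf : f ∈ Ω) : Bm T ≤ N[⁅V, zpowers f⁆] := fun b hb => by
  obtain ⟨w, hw, w1, c⟩ := h.ex_w hT hTH hV hf
  refine h.norm_of hf (hTH (Bm_le T hb)) hw w1 ?_
  rwa [cjc (comm_of_cent (h.fixJ hT hTH hV) ⟨h.W_le hf hw, c⟩ hb).symm]

theorem conjJ (hy : y ∈ V) : ∃ g ∈ H, g * y * g⁻¹ ∈ C[JJ T] ∧
    ∀ x, (∀ f ∈ Ω, ¬ JJ T ≤ C[⁅V, zpowers f⁆] → x ∈ C[⁅V, zpowers f⁆]) → g * y * g⁻¹ * y ∈ C{x} := by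
  obtain ⟨g, ⟨hg, h1⟩, hm⟩ := Set.exists_max_image {g | g ∈ H ∧ ∀ x, (∀ f ∈ Ω, ¬ JJ T ≤ C[⁅V, zpowers f⁆] →
      x ∈ C[⁅V, zpowers f⁆]) → g * y * g⁻¹ * y ∈ C{x}}
    (fun g => {t | t ∈ JJ T ∧ Tv V t ∧ t ∈ C{g * y * g⁻¹}}.ncard) (Set.toFinite _)
    ⟨1, one_mem _, fun x _ => by simp [ea_sq h.ea hy]⟩
  refine ⟨g, hg, ?_, h1⟩
  have hy' := conj_mem (h.nml.norm hg) hy
  by_contra c
  obtain ⟨t, ht, -, tv, c⟩ := h.J_ex hT hTH hV (zpowers_le.2 hy') fun e => c (cents_symm e (mem_zpowers _))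
  rw [C_zpowers] at c
  have tH := hTH (JJ_le T ht)
  obtain ⟨f, hf, c1⟩ := h.tv_ex tH tv
  obtain ⟨w, hw, w1, cw⟩ := h.ex_w hT hTH hV hf
  obtain ⟨u, hu, d, hd, e⟩ := h.dec hf hy'
  have u1 : u ≠ 1 := by
    rintro rfl
    exact c (e ▸ (one_mul d).symm ▸ C_le_C1 hd (h.tv_cent hf tH tv c1))
  obtain ⟨p, hp, e1⟩ := four_trans (h.W_ea hf) (h.card f hf) (h.nW f) (h.odd f hf) (h.fpf hf) hu u1 hw w1
  have e2 : p * g * y * (p * g)⁻¹ = w * d := by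
    rw [show p * g * y * (p * g)⁻¹ = p * (g * y * g⁻¹) * p⁻¹ by group, e, cjm, e1,
      mem_C1_iff_conj.1 (mem_C1_comm.1 (C1_le_C1_of_mem_zpowers hp hd.2))]
  have e3 : w * d = w * u * (g * y * g⁻¹) := by rw [e, mul_assoc, mml (ea_sq (h.W_ea hf) hu)]
  have k : ∀ s ∈ JJ T, Tv V s → s ∉ C[⁅V, zpowers f⁆] → s ∈ C{w * d} := fun s hs sv sc =>
    mem_C1_comm.1 (mul_mem (C_le_C1 hs cw) (mem_C_iff_le_C1.1 (h.tv_cent hf (hTH (JJ_le T hs)) sv sc) hd))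
  refine (hm (p * g) ⟨mul_mem (zpowers_le.2 (h.le f hf) hp) hg, fun x hx => ?_⟩).not_gt
    (Set.ncard_lt_ncard ⟨fun s hs => ⟨hs.1, hs.2.1, ?_⟩, fun e => c (e ⟨ht, tv, e2 ▸ k t ht tv c1⟩).2.2⟩)
  · rw [e2, e3, mul_assoc]
    exact mul_mem (mem_C_iff_le_C1.1 (hx f hf fun e => c1 (e ht)) (mul_mem hw hu)) (h1 x hx)
  · rw [e2]
    by_cases sc : s ∈ C[⁅V, zpowers f⁆]
    · rw [e3]
      exact mem_C1_comm.1 (mul_mem (mem_C_iff_le_C1.1 sc (mul_mem hw hu)) (mem_C1_comm.1 hs.2.2))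
    · exact k s hs.1 hs.2.1 sc

theorem B_le (hb : b ∈ Bm T) : ∃ j ∈ JJ T, b * j ∈ C[V] := by
  obtain ⟨j, hj, hm⟩ := Set.exists_max_image {j | j ∈ JJ T}
    (fun j => {f | f ∈ Ω ∧ b * j ∈ C[⁅V, zpowers f⁆]}.ncard) (Set.toFinite _) ⟨1, (JJ T).one_mem⟩
  have hb' : b * j ∈ Bm T := mul_mem hb (JJ_le_Bm T hj)
  have k : ∀ f ∈ Ω, ¬ JJ T ≤ C[⁅V, zpowers f⁆] → b * j ∈ C[⁅V, zpowers f⁆] := fun f hf c => by
    by_contra c2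
    obtain ⟨t, ht, -, tv, c1⟩ := h.J_ex hT hTH hV (h.W_le hf) c
    have tH := hTH (JJ_le T ht)
    obtain ⟨w, hw, w1, cw⟩ := h.ex_w hT hTH hV hf
    have c3 : b * (j * t) ∈ C[⁅V, zpowers f⁆] := mul_assoc b j t ▸ four_ix (h.W_ea hf) (h.card f hf) hw w1
      (h.B_norm hT hTH hV hf hb') (mem_C_iff_le_C1.1 (h.fixJ hT hTH hV ⟨h.W_le hf hw, cw⟩) hb')
      (h.tv_norm hf tH tv) (mem_C_iff_le_C1.1 cw ht) c2 c1
    refine (hm (j * t) (mul_mem hj ht)).not_gt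
      (Set.ncard_lt_ncard ⟨fun g hg => ⟨hg.1, ?_⟩, fun e => c2 (e ⟨hf, c3⟩).2⟩)
    rw [← mul_assoc]
    refine mul_mem hg.2 ?_
    by_contra c4
    exact c2 (h.same hf hg.1 (h.tv_same hf hg.1 tH tv c1 c4) ▸ hg.2)
  refine ⟨j, hj, mem_C_iff_le_C1.2 fun y hy => ?_⟩
  obtain ⟨g, hg, h1, h2⟩ := h.conjJ hT hTH hV hy
  exact (mul_mem_cancel_left (C_le_C1 hb' (h.fixJ hT hTH hV ⟨conj_mem (h.nml.norm hg) hy, h1⟩))).1 (h2 _ k)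

theorem small (hJ : ¬ JJ T ≤ C[V]) (e : ♯(V ⊓ C[Bm T]) ≤ 2 * ♯(V ⊓ C[H])) : ♯V = 4 * ♯(V ⊓ C[H]) := by
  obtain ⟨t, ht, -, tv, -⟩ := h.J_ex hT hTH hV le_rfl hJ
  have tH := hTH (JJ_le T ht)
  obtain ⟨f, hf, c1⟩ := h.tv_ex tH tv
  obtain ⟨w, hw, w1, cw⟩ := h.ex_w hT hTH hV hf
  have l0 : V ⊓ C[H] ≤ V ⊓ C{f} := inf_le_inf_left _ (C_le_C1 (h.le f hf))
  have nw : w ∉ C{f} := fun e => w1 (mem_bot.1 (h.fpf hf ▸ (⟨hw, e⟩ : w ∈ ⁅V, zpowers f⁆ ⊓ C{f})))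
  have l1 : V ⊓ C[H] ≤ V ⊓ C[Bm T] := inf_le_inf_left _ (C_anti ((Bm_le T).trans hTH))
  have wB : w ∈ V ⊓ C[Bm T] := ⟨h.W_le hf hw, h.fixJ hT hTH hV ⟨h.W_le hf hw, cw⟩⟩
  have l2 : V ⊓ C[Bm T] ⊓ C{f} = V ⊓ C[H] := by
    have h1 := two_mul_card_le (lt_of_le_of_ne (inf_le_left : V ⊓ C[Bm T] ⊓ C{f} ≤ _)
      fun e => nw (e.ge wB).2)
    exact (eq_of_card_ge (le_inf l1 (l0.trans inf_le_right)) (by omega)).symm
  have l3 : JJ T ≤ C[V ⊓ C{f}] := by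
    by_contra c
    obtain ⟨s, hs, -, sv, c2⟩ := h.J_ex hT hTH hV inf_le_left c
    have sH := hTH (JJ_le T hs)
    obtain ⟨g, hg, c3⟩ := h.tv_ex sH sv
    obtain ⟨v, hv, v1, cv⟩ := h.ex_w hT hTH hV hg
    have e1 : ⁅V, zpowers g⁆ ⊓ ⁅V, zpowers f⁆ = ⊥ := by
      by_contra e1
      exact c2 (h.same_C hg hf e1 ▸ h.tv_cent hg sH sv c3)
    have := l2.le ⟨⟨h.W_le hg hv, h.fixJ hT hTH hV ⟨h.W_le hg hv, cv⟩⟩,
      mem_C_iff_le_C1.1 (h.other hg hf e1) hv⟩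
    exact v1 (mem_bot.1 (h.fpf hg ▸ (⟨hv, C_le_C1 (h.le g hg) this.2⟩ : v ∈ ⁅V, zpowers g⁆ ⊓ C{g})))
  have l4 : V ⊓ C{f} = V ⊓ C[H] := le_antisymm (l2 ▸ le_inf (le_inf inf_le_left
    ((le_inf inf_le_left (cents_symm l3)).trans (h.fixJ hT hTH hV))) inf_le_right) l0
  rw [← l4, ← card_comm1 h.ea.1 (h.nV hf), h.card f hf, mul_comm]

end

end Cp

end H3.NG
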