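import Mathlib
import Cfsg.Agent.H3.XP0

/-! Large extraspecial subgroups, commuting pairs: the action of `b` on `Q a`, the case `α`. -/

set_option autoImplicit false
set_option linter.unusedSectionVars false
set_option linter.unusedVariables false

namespace H3.XP

open Subgroup H24 H6.XS
open scoped commutatorElement

variable {G : Type*} [Group G] [Finite G] {D : Set G} {Q : G → Subgroup G} {w : ℕ} {X Y N A : Subgroup G}
  {a b d g i j r s t u x y z : G}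

theorem csymm (c : Col D a b) : Col D b a := ⟨c.r, c.l, c.ne.symm, c.comm.symm⟩
theorem cC (c : Col D a b) : b ∈ C{a} := mem_C1.2 c.comm.symm

theorem ccj (h : Sit D Q w) (c : Col D a b) (g : G) : Col D (g * a * g⁻¹) (g * b * g⁻¹) :=
  ⟨h.conj a c.l g, h.conj b c.r g, fun e => c.ne (by simpa using e), by rw [← cjm, ← cjm, c.comm]⟩

section
variable (h : Sit D Q w) (c : Col D a b)
include h c

theorem a_P0 : a ∈ Q a ⊓ Fx a b := ⟨h.mem c.l, self_mem_C1 a, by rw [k_one.2 (cC (csymm c))]; exact one_mem _⟩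

theorem A_P0 : Q a ⊓ C{b} ≤ Q a ⊓ Fx a b := fun x hx =>
  ⟨hx.1, h.le c.l hx.1, by rw [k_one.2 hx.2]; exact one_mem _⟩

theorem a_A : a ∈ Q a ⊓ C{b} := ⟨h.mem c.l, cC (csymm c)⟩

theorem a_W (hX : X ≤ Q a) : a ∈ Q a ⊓ C[X] :=
  ⟨h.mem c.l, mem_C_iff_le_C1.2 (hX.trans (h.le c.l))⟩

theorem k_cent' (hx : x ∈ Q a) (hy : y ∈ Q a) (e : κ[y, b] ∈ C{x}) : κ[x, b] ∈ C{y} :=
  k_symm ((k_cent h c.l (cC c) hx hy).2 (by simpa only [inv_inv, inv_sq (h.sq c.r)] using k_symm e))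

theorem k_W (hx : x ∈ Q a) : κ[x, b] ∈ Q a ⊓ C[Q a ⊓ Fx a b] :=
  ⟨k_mem' h c.l (cC c) hx, mem_C_iff_le_C1.2 fun y hy => mem_C1_comm.1 (k_cent' h c hx hy.1
    (zpowers_le.2 (mem_C1_comm.1 (h.le c.l hx)) hy.2.2))⟩

theorem W_surj (hu : u ∈ Q a ⊓ C[Q a ⊓ Fx a b]) : ∃ x ∈ Q a, κ[x, b] = u ∨ κ[x, b] = a * u := by
  have n : ∀ {v z}, v ∈ Q a → z ∈ zpowers a → v⁻¹ * z * v ∈ zpowers a := fun hv hz =>
    conj_mem' (norm_zpowers_of_cent (h.le c.l) hv) hz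
  let W : Subgroup G :=
    { carrier := {u | u ∈ Q a ∧ ∃ x ∈ Q a, u⁻¹ * κ[x, b] ∈ zpowers a}
      one_mem' := ⟨one_mem _, 1, one_mem _, by simp⟩
      mul_mem' := by
        rintro u v ⟨hu, x, hx, e⟩ ⟨hv, y, hy, e'⟩
        refine ⟨mul_mem hu hv, y * x, mul_mem hy hx, ?_⟩
        have := mul_mem (n hv (mul_mem (n hu (k_zp h c.l hy (k_W h c hx).1)) e)) e'
        convert this using 1
        group
      inv_mem' := by
        rintro u ⟨hu, x, hx, e⟩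
        refine ⟨inv_mem hu, x, hx, ?_⟩
        have := mul_mem (sq_zp h c.l hu) e
        convert this using 1
        group }
  have h1 : Q a ⊓ C[W] ≤ Q a ⊓ Fx a b := fun y hy => ⟨hy.1, h.le c.l hy.1, (h.mem_zp c.l).2
    (h.eq_or c.l (mem_C_iff_le_C1.2 fun x hx => mem_C1_comm.1 (k_cent' h c hy.1 hx (mem_C_iff_le_C1.1 hy.2
      (⟨(k_W h c hx).1, x, hx, by rw [inv_mul_cancel]; exact one_mem _⟩ : κ[x, b] ∈ W)))))⟩
  have h2 := h.dual_dual c.l (A := W) (fun _ e => e.1) ⟨h.mem c.l, 1, one_mem _, by simp⟩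
  obtain ⟨-, x, hx, e⟩ := h2.le ⟨hu.1, C_anti h1 hu.2⟩
  refine ⟨x, hx, ((h.mem_zp c.l).1 e).imp (fun e => (inv_mul_eq_one.1 e).symm) fun e => ?_⟩
  rw [cQ h c.l hu.1, ← inv_mul_eq_iff_eq_mul, e]

theorem W_k (hu : u ∈ Q a ⊓ C[Q a ⊓ Fx a b]) : κ[u, b] = u * u := by
  have e0 : ∀ x : G, b * κ[x, b]⁻¹ * b⁻¹ = κ[x, b] := fun x => by
    calc _ = (b * b) * x * b⁻¹ * x⁻¹ * b⁻¹ := by group
      _ = _ := by rw [h.sq c.r, one_mul, inv_sq (h.sq c.r)]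
  have : b * u⁻¹ * b⁻¹ = u := by
    obtain ⟨x, hx, e | e⟩ := W_surj h c hu
    · rw [← e, e0]
    · have e1 := e0 x
      rw [e, cQ h c.l hu.1, mul_inv_rev, cjm, cj1 (C1_le_C1_of_mem_zpowers (inv_mem (mem_zpowers a)) (cC c)),
        inv_sq (h.sq c.l), ← cQ h c.l hu.1] at e1
      exact mul_left_cancel e1
  rw [show κ[u, b] = u * (b * u⁻¹ * b⁻¹) by group, this]

theorem W_P0 : Q a ⊓ C[Q a ⊓ Fx a b] ≤ Q a ⊓ Fx a b := fun u hu =>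
  ⟨hu.1, h.le c.l hu.1, W_k h c hu ▸ sq_zp h c.l hu.1⟩

theorem dual0 : ♯(Q a ⊓ Fx a b) * ♯(Q a ⊓ C[Q a ⊓ Fx a b]) = 2 ^ (2 * w + 2) :=
  h.dual c.l inf_le_left (a_P0 h c)

theorem dualA : ♯(Q a ⊓ C{b}) * ♯(Q a ⊓ C[Q a ⊓ C{b}]) = 2 ^ (2 * w + 2) :=
  h.dual c.l inf_le_left (a_A h c)

theorem k_I (hx : x ∈ Q a ⊓ C{b}) (hy : y ∈ Q b ⊓ C{a}) : κ[x, y] ∈ Q a ⊓ Q b :=
  ⟨k_mem' h c.l hy.2 hx.1, k_mem h c.r hx.2 hy.1⟩

/-- an element centralizing `A` acts trivially on `P / C_P(A)` -/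
theorem k_CA (hX : X ≤ Q a) (hg : g ∈ C{a}) (hgX : g ∈ C[X]) (hx : x ∈ Q a) : κ[g, x] ∈ Q a ⊓ C[X] :=
  ⟨k_mem h c.l hg hx, mem_C_iff_le_C1.2 fun y hy => mem_C1_comm.1 ((k_cent h c.l hg hx (hX hy)).2 (by
    rw [k_one.2 (C_le_C1 hy (inv_mem hgX))]; exact one_mem _))⟩

variable (wc : WC D Q)
include wc

theorem nR : a ∉ Q b := fun e => c.ne (wc b c.r a c.l e)

theorem zp_inf (hx : x ∈ zpowers a) (hx' : x ∈ Q b) : x = 1 :=
  ((h.mem_zp c.l).1 hx).resolve_right fun e => nR h c wc (e ▸ hx')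

omit c in
theorem star' (hb : b ∈ D) (hx : κ[x, b] ∈ Q b) : x ∈ C{b} :=
  mem_C1_iff_conj.2 (wc b hb _ (h.conj b hb x) ((mul_mem_cancel_right (inv_mem (h.mem hb))).1 hx))

theorem ea_I : EA (Q a ⊓ Q b) := fun i hi => zp_inf h c wc (sq_zp h c.l hi.1) (mul_mem hi.2 hi.2)

theorem I_cent : Q a ⊓ Q b ≤ C[Q a ⊓ C{b}] := fun i hi => mem_C_iff_le_C1.2 fun x hx =>
  k_one.1 (zp_inf h c wc (k_zp h c.l hx.1 hi.1) (k_mem h c.r hx.2 hi.2))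

theorem I_A : Q a ⊓ Q b ≤ Q a ⊓ C{b} := inf_le_inf_left _ (h.le c.r)

variable (hα : ∀ x ∈ Q a, x * b * x⁻¹ ≠ a * b)
include hα

theorem al_cent (hx : x ∈ Q a) (e : κ[x, b] ∈ zpowers a) : x ∈ C{b} :=
  k_one.1 (((h.mem_zp c.l).1 e).resolve_right fun e => hα x hx (k_eq e))

theorem P0_eq : Q a ⊓ Fx a b = Q a ⊓ C{b} :=
  le_antisymm (fun x hx => ⟨hx.1, al_cent h c wc hα hx.1 hx.2.2⟩) (A_P0 h c)

theorem al' : Al Q a b := by
  have e0 := P0_eq h c wc hα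
  have le : Q a ⊓ C[Q a ⊓ C{b}] ≤ C{b} := (e0 ▸ W_P0 h c).trans inf_le_right
  have ea : EA (Q a ⊓ C[Q a ⊓ C{b}]) := fun u hu => by rw [← W_k h c (e0 ▸ hu), k_one.2 (le hu)]
  have cm : ∀ x ∈ Q a, κ[x, b] ∈ Q a ⊓ C[Q a ⊓ C{b}] := fun x hx => e0 ▸ k_W h c hx
  have alt : ∀ x ∈ Q a, x ∈ C{κ[x, b]} := fun x hx => mem_C1_comm.1 (k_symm
    ((k_sq h c.l (cC c) hx).1 (ea _ (k_symm (cm x hx)))))
  have cn : ∀ i ∈ Q a ⊓ Q b, i ≠ 1 → ∃ x ∈ Q a, κ[x, b] = a * i := fun i hi i1 => by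
    obtain ⟨x, hx, e | e⟩ := W_surj h c (e0 ▸ ⟨hi.1, I_cent h c wc hi⟩ : i ∈ Q a ⊓ C[Q a ⊓ Fx a b])
    · exact absurd (e ▸ k_one.2 (star' h wc c.r (e ▸ hi.2))) i1
    · exact ⟨x, hx, e⟩
  refine ⟨fun x hx => al_cent h c wc hα hx, ea, le, cm, fun u hu => W_surj h c (e0 ▸ hu), alt, I_cent h c wc,
    fun i hi i1 => ?_, ?_, ?_⟩
  · obtain ⟨x, hx, e⟩ := cn i hi i1
    exact ⟨x, hx, by rw [k_eq e, mul_assoc, mul_assoc, cQ h c.r hi.2]⟩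
  · by_cases e : Q a ⊓ Q b = ⊥
    · rw [e]; simp
    obtain ⟨i, hi, i1⟩ := exists_ne_one e
    obtain ⟨x, hx, e1⟩ := cn i hi i1
    have : Q a ⊓ Q b ⊓ C{x} ≤ zpowers i := fun j hj => by
      by_cases j1 : j = 1
      · exact j1 ▸ one_mem _
      obtain ⟨y, hy, e2⟩ := cn j hj.1 j1
      have e3 : κ[x * y, b] = j * i := by
        rw [k_mul, e1, e2, cjm, cj1 (h.le c.l hx), cj2 hj.2, mul_assoc, ← mul_assoc j, ← cQ h c.l hj.1.1,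
          mul_assoc, mml (h.sq c.l)]
      have := k_one.2 (star' h wc c.r (e3 ▸ mul_mem hj.1.2 hi.2))
      rw [e3] at this
      rw [eq_inv_of_mul_eq_one_left this]
      exact inv_mem (mem_zpowers i)
    have h1 := card_le this
    have h2 := idx_C h c.l (inf_le_left : Q a ⊓ Q b ≤ _) hx
    rw [card_zp (ea_I h c wc i hi) i1] at h1
    omega
  · obtain ⟨m, hm⟩ := even_idx (A := Q a ⊓ C{b}) (fun x => C{κ[x, b]}) (Q a) inf_le_left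
      (fun x hx y hy z hz => mul_cent h c.l hx hy (cm z hz).1)
      (fun x hx y hy e => mem_C1_comm.1 (k_cent' h c hx hy (mem_C1_comm.1 e)))
      alt fun x hx => ⟨fun e => by rw [k_one.2 e.2]; simp, fun e => ⟨hx, al_cent h c wc hα hx
        ((h.mem_zp c.l).2 (h.eq_or c.l (mem_C_iff_le_C1.2 e)))⟩⟩
    have h1 := card_inf_mul_relIndex C{b} (Q a)
    have h2 := dualA h c
    have h3 := h.card a c.l
    have h4 := card_pos (Q a ⊓ C{b})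
    rw [inf_comm] at h1
    refine ⟨m, ?_, Nat.eq_of_mul_eq_mul_left h4 (by rw [h1, hm, mul_comm]),
      Nat.eq_of_mul_eq_mul_left h4 (by rw [h2, pow_succ, ← h3, hm]; ring)⟩
    rcases Nat.eq_zero_or_pos m with rfl | e
    · have := eq_of_card_eq (inf_le_left : Q a ⊓ C{b} ≤ _) (by rw [hm]; simp)
      rcases h.eq_or c.l (mem_C_iff_le_C1.2 (this.ge.trans inf_le_right)) with e | e
      · exact absurd e (h.ne_one c.r)
      · exact absurd e.symm c.ne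
    · exact e

omit hα in
/-- conjugating `b` by an element centralizing `i` -/
theorem lemN0 (hi : i ∈ Q a ⊓ Q b) (i1 : i ≠ 1) (hx : x ∈ Q a) (xi : x ∈ C{i}) (k1 : κ[x, b] ∈ C{b})
    (n : x ∉ C{b}) : κ[x, b] = a ∨ κ[x, b] = a * i := by
  have hk := k_mem' h c.l (cC c) hx
  have e0 : b * (x * b * x⁻¹) = κ[x, b] := by
    calc _ = b * κ[x, b] * b := by group
      _ = _ := by rw [← mem_C1.1 k1, mmr (h.sq c.r)]
  have c' : Col D b (x * b * x⁻¹) := ⟨c.r, h.conj b c.r x, fun e => n (mem_C1_iff_conj.2 e.symm),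
    (mem_C1.1 ((mul_mem_cancel_right (inv_mem (self_mem_C1 b))).1 k1)).symm⟩
  by_cases hβ : ∃ r ∈ Q b, r * (x * b * x⁻¹) * r⁻¹ = b * (x * b * x⁻¹)
  · obtain ⟨r, -, e⟩ := hβ
    exact Or.inl (wc a c.l _ (e0 ▸ e ▸ h.conj _ c'.r r) hk)
  · push Not at hβ
    obtain ⟨r, -, e⟩ := (al' h c' wc hβ).cnj i ⟨hi.2, by
      rw [h.eqv b c.r, ← cj1 xi]; exact conj_mem_cj x hi.2⟩ i1
    have := wc a c.l _ (e0 ▸ e ▸ h.conj _ c'.r r) (mul_mem hk hi.1)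
    exact Or.inr (by rw [← this, mmr (ea_I h c wc i hi)])

end

end H3.XP
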