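import Mathlib
import Cfsg.Agent.H3.XPa

/-! Large extraspecial subgroups, commuting pairs: the case `β`. -/

set_option autoImplicit false
set_option linter.unusedSectionVars false
set_option linter.unusedVariables false

namespace H3.XP

open Subgroup H24 H6.XS
open scoped commutatorElement

variable {G : Type*} [Group G] [Finite G] {D : Set G} {Q : G → Subgroup G} {w : ℕ} {X Y N A : Subgroup G}
  {a b d g i j r s t u x y z : G}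

theorem sq_pow {n m : ℕ} (h : n * n = 2 ^ m) : ∃ k, n = 2 ^ k ∧ m = 2 * k := by
  obtain ⟨k, -, rfl⟩ := (Nat.dvd_prime_pow Nat.prime_two).1 (Dvd.intro _ h)
  rw [← pow_add] at h
  exact ⟨k, rfl, by have := Nat.pow_right_injective le_rfl h; omega⟩

theorem sq_pow' {n w : ℕ} (h : n * n = 2 ^ (2 * w + 2)) : n = 2 ^ (w + 1) := by
  obtain ⟨k, rfl, e⟩ := sq_pow h
  congr 1; omega

section
variable (h : Sit D Q w) (c : Col D a b) (wc : WC D Q)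
include h c wc

theorem B_CA (hI : Q a ⊓ Q b = ⊥) : Q b ⊓ C{a} ≤ C[Q a ⊓ C{b}] := fun y hy =>
  mem_C_iff_le_C1.2 fun x hx => k_one.1 (mem_bot.1 (hI ▸ k_I h c hx hy))

variable (ht : t ∈ Q a) (e : t * b * t⁻¹ = a * b)
include ht e

theorem kt : κ[t, b] = a := by rw [e]; group
theorem tP0 : t ∈ Q a ⊓ Fx a b := ⟨ht, h.le c.l ht, by rw [kt h c wc ht e]; exact mem_zpowers a⟩
theorem tn : t ∉ C{b} := fun n => h.ne_one c.l (kt h c wc ht e ▸ k_one.2 n)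
theorem abD : a * b ∈ D := e ▸ h.conj b c.r t

theorem W_R (hu : u ∈ Q a ⊓ C[Q a ⊓ Fx a b]) : ∃ x ∈ Q a, κ[x, b] = u := by
  obtain ⟨x, hx, e1 | e1⟩ := W_surj h c hu
  · exact ⟨x, hx, e1⟩
  · refine ⟨t * x, mul_mem ht hx, ?_⟩
    rw [k_mul, cj2 (C_le_C1 (tP0 h c wc ht e) (k_W h c hx).2), e1, kt h c wc ht e, cQ h c.l hu.1, mmr (h.sq c.l)]

theorem W_R' (hu : u ∈ Q a ⊓ C[Q a ⊓ Fx a b]) (hu' : u ∈ Q b) : u = 1 := by
  obtain ⟨x, hx, rfl⟩ := W_R h c wc ht e hu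
  exact k_one.2 (star' h wc c.r hu')

theorem P0_or (hx : x ∈ Q a ⊓ Fx a b) (n : x ∉ C{b}) : t * x ∈ C{b} := k_one.1 (by
  rw [k_mul, ((h.mem_zp c.l).1 hx.2.2).resolve_left fun e => n (k_one.1 e), kt h c wc ht e, cj1 (h.le c.l ht),
    h.sq c.l])

theorem W_mem (hu : u ∈ Q a ⊓ C[Q a ⊓ C{b}]) (hu' : u ∈ C{t}) : u ∈ Q a ⊓ C[Q a ⊓ Fx a b] :=
  ⟨hu.1, mem_C_iff_le_C1.2 fun x hx => by
    by_cases n : x ∈ C{b}
    · exact mem_C_iff_le_C1.1 hu.2 ⟨hx.1, n⟩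
    · exact (mul_mem_cancel_left (mem_C1_comm.1 hu')).1
        (mem_C_iff_le_C1.1 hu.2 ⟨mul_mem ht hx.1, P0_or h c wc ht e hx n⟩)⟩

theorem card_P0 : ♯(Q a ⊓ Fx a b) = 2 * ♯(Q a ⊓ C{b}) := by
  have := idx_eq (X := Q a ⊓ Fx a b) (N := C{b}) (fun x hx y hy n n' => P0_or h c wc hx.1
    (k_eq (((h.mem_zp c.l).1 hx.2.2).resolve_left fun e => n (k_one.1 e))) hy n') (tP0 h c wc ht e) (tn h c wc ht e)
  rwa [show Q a ⊓ Fx a b ⊓ C{b} = Q a ⊓ C{b} from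
    le_antisymm (inf_le_inf_right _ inf_le_left) (le_inf (A_P0 h c) inf_le_right)] at this

theorem p_A (hy : y ∈ C{a}) (hy' : y ∈ C{b}) : κ[y, t] ∈ Q a ⊓ C{b} := by
  refine ⟨k_mem h c.l hy ht, P0_or h c wc (conj_mem (h.norm c.l hy) ht) ?_ (inv_mem (tP0 h c wc ht e))
    fun n => tn h c wc ht e (inv_mem_iff.1 n)⟩
  calc _ = y * (t * (y⁻¹ * b * y⁻¹⁻¹) * t⁻¹) * y⁻¹ := by group
    _ = _ := by rw [cj1 (inv_mem hy'), e, cjm, cj1 hy, cj1 hy']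

theorem B_abl (hI : Q a ⊓ Q b = ⊥) : Q b ⊓ C{a} ≤ C[Q b ⊓ C{a}] := fun y hy => mem_C_iff_le_C1.2 fun z hz => by
  have hB := B_CA h c wc hI
  have p1 := fun y (hy : y ∈ Q b ⊓ C{a}) => p_A h c wc ht e hy.2 (h.le c.r hy.1)
  have p2 := fun y (hy : y ∈ Q b ⊓ C{a}) => (k_CA h c inf_le_left hy.2 (hB hy) ht).2
  have e1 : κ[y * z, t] = κ[z * y, t] := by
    rw [k_mul, k_mul, conj_eq_of_mem_C (hB hy) (p1 z hz), conj_eq_of_mem_C (hB hz) (p1 y hy),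
      mem_C'.1 (p2 z hz) _ (p1 y hy)]
  have e2 : κ[z⁻¹, y⁻¹] ∈ C{t} := mem_C1_iff_conj.2 (by
    calc _ = (y * z)⁻¹ * (κ[z * y, t] * t) * (y * z) := by group
      _ = t := by rw [← e1]; group)
  rcases (h.mem_zp c.r).1 (k_zp h c.r (inv_mem hz.1) (inv_mem hy.1)) with e3 | e3
  · exact inv_mem_iff.1 (mem_C1_comm.1 (inv_mem_iff.1 (mem_C1_comm.1 (k_one.1 e3))))
  · exact absurd (mem_C1_comm.1 (e3 ▸ e2)) (tn h c wc ht e)

/-- `(b, a)` is not of type `α` -/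
theorem beta_symm : ∃ s ∈ Q b, s * a * s⁻¹ = b * a := by
  by_contra hα
  push Not at hα
  have c' := csymm c
  have al := al' h c' wc hα
  have b2 := h.sq c.r
  by_cases hI : Q a ⊓ Q b = ⊥
  swap
  · obtain ⟨i, hi, i1⟩ := exists_ne_one hI
    obtain ⟨r, hr, e1⟩ := al.cnj i ⟨hi.2, hi.1⟩ i1
    have := h.conj _ (abD h c wc ht e) r
    rw [cjm, e1, cj1 (h.le c.r hr), mul_assoc, ← cQ h c.r hi.2, ← c.comm, mul_assoc, mml b2] at this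
    exact i1 (by simpa using wc a c.l _ this (mul_mem (h.mem c.l) hi.1))
  have hB := B_abl h c wc ht e hI
  have eB : Q b ⊓ C[Q b ⊓ C{a}] = Q b ⊓ C{a} := le_antisymm (le_inf inf_le_left al.le) (le_inf inf_le_left hB)
  have cB := dualA h c'
  rw [eB] at cB
  have inj : Q b ⊓ C{a} ⊓ C{t} = ⊥ := eq_bot_iff.2 fun i hi => by
    by_contra i1
    have c2 : Col D b (a * b) := ⟨c.r, abD h c wc ht e, fun e => h.ne_one c.l (by simpa using e),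
      by rw [← mul_assoc, ← c.comm]⟩
    obtain ⟨r, hr, e1⟩ := (al' h c2 wc fun x hx e1 => hα x hx (by
      rw [cjm, cj1 (h.le c.r hx), ← mul_assoc] at e1; exact mul_right_cancel e1)).cnj i
      ⟨hi.1.1, by rw [← e, h.eqv b c.r, ← cj2 hi.2]; exact conj_mem_cj t hi.1.1⟩ i1
    rw [cjm, cj1 (h.le c.r hr), mul_assoc b, mul_assoc a, cQ h c.r hi.1.1, ← mul_assoc, ← mul_assoc] at e1
    have := h.conj _ (h.conj a c.l r) t
    rw [mul_right_cancel e1, cjm, cjm, e, cj1 (h.le c.l ht), cj2 hi.2, mul_assoc a, ← c.comm, mml (h.sq c.l)] at this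
    exact i1 (by simpa using wc b c.r _ this (mul_mem (h.mem c.r) hi.1.1))
  have h1 := orbit_le (X := Q b ⊓ C{a}) (t := t) (Y := Q a ⊓ C{b} ⊓ (Q a ⊓ C[Q a ⊓ Fx a b])) fun y hy => by
    have p1 := p_A h c wc ht e hy.2 (h.le c.r hy.1)
    refine ⟨p1, W_mem h c wc ht e (k_CA h c inf_le_left hy.2 (B_CA h c wc hI hy) ht) ((k_sq h c.l hy.2 ht).1 ?_)⟩
    nth_rw 1 [← conj_eq_of_mem_C (B_CA h c wc hI hy) p1]
    rw [← k_mul, al.ea y (eB.ge hy)]; group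
  have h2 := dual0 h c
  rw [card_P0 h c wc ht e] at h2
  rw [inj, sq_pow' cB] at h1
  have h3 := Nat.mul_le_mul (card_le (inf_le_left : Q a ⊓ C{b} ⊓ (Q a ⊓ C[Q a ⊓ Fx a b]) ≤ _))
    (card_le (inf_le_right : Q a ⊓ C{b} ⊓ (Q a ⊓ C[Q a ⊓ Fx a b]) ≤ _))
  have h4 := Nat.mul_le_mul h1 h1
  have h5 : 2 ^ (w + 1) * 2 ^ (w + 1) = 2 ^ (2 * w + 2) := by ring
  have h6 := Nat.two_pow_pos (2 * w + 2)
  simp only [card_bot, one_mul] at h4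
  rw [mul_assoc] at h2
  omega

omit ht e in
theorem W_beta (hu : u ∈ Q a ⊓ C[Q a ⊓ Fx a b]) (n : u * u ≠ 1) : u * u = a ∧ u * b * u⁻¹ = a * b :=
  have := (h.sq_or c.l hu.1).resolve_left n
  ⟨this, k_eq ((W_k h c hu).trans this)⟩

theorem beta_bot : Q a ⊓ Q b = ⊥ := eq_bot_iff.2 fun i hi => by
  by_contra i1
  obtain ⟨s, hs, e'⟩ := beta_symm h c wc ht e
  have c' := csymm c
  have iW : ∀ {a b t}, Col D a b → t ∈ Q a → t * b * t⁻¹ = a * b → i ∈ Q a ⊓ Q b → i ∉ C[Q a ⊓ Fx a b] :=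
    fun c ht e hi n => i1 (W_R' h c wc ht e ⟨hi.1, n⟩ hi.2)
  have ea : EA (Q a ⊓ C[Q a ⊓ Fx a b]) := fun u hu => by
    by_contra n
    obtain ⟨-, e1⟩ := W_beta h c wc hu n
    exact iW c ht e hi (W_mem h c wc hu.1 e1 ⟨hi.1, I_cent h c wc hi⟩
      (mem_C_iff_le_C1.1 hu.2 (A_P0 h c (I_A h c wc hi)))).2
  obtain ⟨r, hr, n⟩ : ∃ r ∈ Q a ⊓ C{i}, r ∉ Fx a b := by
    by_contra n
    push Not at n
    refine iW c ht e hi (mem_C_iff_le_C1.2 fun y hy => ?_)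
    by_contra n1
    refine nR h c' wc (h.inner c.l (cC c) fun x hx => k_symm ?_)
    by_cases n2 : x ∈ C{i}
    · exact (n x ⟨hx, n2⟩).2
    · exact (((Fx a b).mul_mem_cancel_right hy.2).1 (n _ ⟨mul_mem hx hy.1, mul_cent h c.l hx hy.1 hi.1 n2 n1⟩)).2
  have kW := k_W h c hr.1
  rcases lemN0 h c wc hi i1 hr.1 hr.2 (k_one.1 ((W_k h c kW).trans (ea _ kW)))
    (fun e => n (A_P0 h c ⟨hr.1, e⟩).2) with e1 | e1
  · exact n ⟨h.le c.l hr.1, e1 ▸ mem_zpowers a⟩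
  · exact iW c ht e hi ((mul_mem_cancel_left (a_W h c inf_le_left)).1 (e1 ▸ kW)).2

theorem p_inj : Q b ⊓ C{a} ⊓ C{t} = ⊥ := eq_bot_iff.2 fun i hi => by
  obtain ⟨s, hs, e'⟩ := beta_symm h c wc ht e
  have h1 : i ∈ Q (s * a * s⁻¹) := by
    rw [e', ← c.comm, ← e, h.eqv b c.r, ← cj2 hi.2]; exact conj_mem_cj t hi.1.1
  rw [h.eqv a c.l, mem_cj] at h1
  have := mem_bot.1 ((beta_bot h c wc ht e).le ⟨h1, conj_mem' (norm_self _ hs) hi.1.1⟩)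
  exact (conj_eq_one_iff' (g := s⁻¹)).1 (by rwa [inv_inv])

theorem p_card (hY : ∀ y ∈ Q b ⊓ C{a}, κ[y, t] ∈ Y) : ♯(Q b ⊓ C{a}) ≤ ♯Y := by
  simpa [p_inj h c wc ht e] using orbit_le hY

theorem W_ne : ∃ u ∈ Q a ⊓ C[Q a ⊓ Fx a b], u * u ≠ 1 := by
  by_contra ea
  push Not at ea
  obtain ⟨s, hs, e'⟩ := beta_symm h c wc ht e
  have c' := csymm c
  have hI := beta_bot h c wc ht e
  have hA := B_abl h c' wc hs e' (inf_comm (Q a) _ ▸ hI)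
  have hB := B_CA h c wc hI
  have WA : Q a ⊓ C[Q a ⊓ Fx a b] ≤ Q a ⊓ C{b} := fun u hu => ⟨hu.1, k_one.1 ((W_k h c hu).trans (ea u hu))⟩
  obtain ⟨z, hz, n⟩ : ∃ z ∈ Q a ⊓ C{b}, z ∉ C{t} := by
    by_contra n
    push Not at n
    have h1 := dual0 h c
    rw [card_P0 h c wc ht e, le_antisymm WA fun z hz => W_mem h c wc ht e ⟨hz.1, hA hz⟩ (n z hz), mul_assoc,
      pow_succ'] at h1
    obtain ⟨k, -, e⟩ := sq_pow (Nat.eq_of_mul_eq_mul_left two_pos h1)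
    omega
  have CA : Q a ⊓ C[Q a ⊓ C{b}] ≤ Q a ⊓ C{b} := fun x hx => by
    by_cases n1 : x ∈ C{t}
    · exact WA (W_mem h c wc ht e hx n1)
    · exact (mul_mem_cancel_right hz).1 (WA (W_mem h c wc ht e (mul_mem hx ⟨hz.1, hA hz⟩)
        (mul_cent h c.l hx.1 hz.1 ht n1 n)))
  obtain ⟨y, hy, n1⟩ : ∃ y ∈ Q b ⊓ C{a}, κ[y, t] ∉ C{t} := by
    by_contra n1
    push Not at n1
    have h1 := p_card h c wc ht e (Y := Q a ⊓ C{b} ⊓ C{t}) fun y hy =>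
      ⟨p_A h c wc ht e hy.2 (h.le c.r hy.1), n1 y hy⟩
    have h2 := p_card h c' wc hs e' fun y hy => p_A h c' wc hs e' hy.2 (h.le c.l hy.1)
    have h3 := two_le (inf_le_left : Q a ⊓ C{b} ⊓ C{t} ≤ _) hz fun e => n e.2
    have h4 := card_pos (Q a ⊓ C{b} ⊓ C{t})
    omega
  have k : ∀ x ∈ Q a, κ[y * y, x] = κ[y, x] * κ[y, x] := fun x hx => by
    rw [k_mul, conj_eq_of_mem_C (hB hy) (CA (k_CA h c inf_le_left hy.2 (hB hy) hx))]
  have y2 : y * y = b := (h.sq_or c.r hy.1).resolve_left fun e1 =>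
    n1 ((k_sq h c.l hy.2 ht).1 (by rw [← k t ht, e1]; group))
  exact nR h c' wc (h.inner c.l (cC c) fun x hx => y2 ▸ k x hx ▸ sq_zp h c.l (k_mem h c.l hy.2 hx))

theorem beta_half : EA (Q a ⊓ C{b}) ∧ ♯(Q a ⊓ C{b}) = 2 ^ w ∧ ♯(Q b ⊓ C{a}) ≤ 4 ∧
    ∃ x ∈ Q a, x * x = a ∧ x * b * x⁻¹ = a * b := by
  obtain ⟨s, hs, e'⟩ := beta_symm h c wc ht e
  have c' := csymm c
  have hI := beta_bot h c wc ht e
  have hA := B_abl h c' wc hs e' (inf_comm (Q a) _ ▸ hI)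
  have hB := B_CA h c wc hI
  obtain ⟨u, hu, n⟩ := W_ne h c wc ht e
  obtain ⟨u2, eu⟩ := W_beta h c wc hu n
  have AW : Q a ⊓ C{b} ≤ Q a ⊓ C[Q a ⊓ Fx a b] := fun z hz =>
    W_mem h c wc hu.1 eu ⟨hz.1, hA hz⟩ (mem_C_iff_le_C1.1 hu.2 (A_P0 h c hz))
  have PW : Q a ⊓ Fx a b ≤ Q a ⊓ C[Q a ⊓ Fx a b] := fun x hx => by
    by_cases n1 : x ∈ C{b}
    · exact AW ⟨hx.1, n1⟩
    · exact (mul_mem_cancel_left hu).1 (AW ⟨mul_mem hu.1 hx.1, P0_or h c wc hu.1 eu hx n1⟩)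
  have h1 := dual0 h c
  rw [le_antisymm (W_P0 h c) PW] at h1
  have h2 := sq_pow' h1
  rw [card_P0 h c wc ht e, pow_succ'] at h2
  refine ⟨fun z hz => by rw [← W_k h c (AW hz), k_one.2 hz.2], by omega, ?_, u, hu.1, u2, eu⟩
  obtain ⟨x, hx, ex⟩ := W_R h c wc ht e hu
  have za : ∀ {v z}, v ∈ Q a → z ∈ zpowers a → v * z * v⁻¹ ∈ zpowers a := fun hv hz =>
    conj_mem (norm_zpowers_of_cent (h.le c.l) hv) hz
  have k1 : ∀ y ∈ Q b ⊓ C{a}, κ[y, u] ∈ zpowers a → y ∈ zpowers b := fun y hy e1 => by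
    have inj := p_inj h c wc hu.1 eu
    rcases (h.mem_zp c.l).1 e1 with e1 | e1
    · exact mem_bot.1 (inj.le ⟨hy, k_one.1 e1⟩) ▸ one_mem _
    · have : b * y ∈ Q b ⊓ C{a} ⊓ C{u} := ⟨mul_mem (a_A h c') hy, k_one.1 (by
        rw [k_mul, e1, cj1 (cC c), ← inv_inv κ[b, u], show κ[b, u]⁻¹ = κ[u, b] by group, kt h c wc hu.1 eu,
          mul_inv_cancel])⟩
      rw [eq_inv_of_mul_eq_one_right (mem_bot.1 (inj.le this))]
      exact inv_mem (mem_zpowers b)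
  have k2 : ∀ y ∈ Q b ⊓ C{a}, κ[κ[y, x], b]⁻¹ * κ[y, u] ∈ zpowers a := fun y hy => by
    have hv := k_mem h c.l hy.2 hx
    have e1 : y * u * y⁻¹ = κ[y, x] * u * κ[y, x]⁻¹ * κ[κ[y, x], b] := by
      rw [← ex, ← k_mul]
      calc _ = κ[y * x * y⁻¹, y * b * y⁻¹] := by group
        _ = _ := by rw [cj1 (h.le c.r hy.1)]; group
    have hk := k_W h c hv
    rw [e1]
    generalize κ[y, x] = v at hv hk
    generalize κ[v, b] = k at hk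
    have := mul_mem (conj_mem' (norm_zpowers_of_cent (h.le c.l) hk.1) (k_zp h c.l hv hu.1))
      (k_zp h c.l (inv_mem hk.1) hu.1)
    convert this using 1
    group
  have := idx_le (X := Q b ⊓ C{a}) (N := zpowers b) fun y hy z hz ny nz => k1 _ (mul_mem hy hz) (by
    have k3 : ∀ y ∈ Q b ⊓ C{a}, y ∉ zpowers b → κ[y, x] ∉ C{u} := fun y hy ny e1 => ny (k1 y hy
      ((mul_mem_cancel_left (inv_mem (W_P0 h c (W_mem h c wc hu.1 eu
        (k_CA h c inf_le_left hy.2 (hB hy) hx) e1)).2.2)).1 (k2 y hy)))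
    have v1 := k_CA h c inf_le_left hy.2 (hB hy) hx
    have v2 := k_CA h c inf_le_left hz.2 (hB hz) hx
    have k4 := (W_P0 h c (W_mem h c wc hu.1 eu (mul_mem v1 v2)
      (mul_cent h c.l v1.1 v2.1 hu.1 (k3 y hy ny) (k3 z hz nz)))).2.2
    rw [k_mul] at k4
    rw [k_mul, conj_eq_of_mem_C (hB hy) (p_A h c wc hu.1 eu hz.2 (h.le c.r hz.1))]
    have a1 := k2 y hy
    have a2 := k2 z hz
    have q1 := (k_W h c v1.1).1
    have q2 := (k_W h c v2.1).1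
    generalize κ[κ[y, x], b] = k at *
    generalize κ[κ[z, x], b] = l at *
    generalize κ[y, x] = v at *
    have := mul_mem (mul_mem (za q2 a2) (mul_mem (k_zp h c.l q2 v1.1) k4)) a1
    convert this using 1
    group)
  have h3 := card_le (inf_le_right : Q b ⊓ C{a} ⊓ zpowers b ≤ _)
  rw [card_zp (h.sq c.r) (h.ne_one c.r)] at h3
  omega

theorem beta' : w = 2 ∧ TL Q a b := by
  obtain ⟨s, hs, e'⟩ := beta_symm h c wc ht e
  obtain ⟨a1, a2, a3, a4⟩ := beta_half h c wc ht e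
  obtain ⟨b1, b2, b3, b4⟩ := beta_half h (csymm c) wc hs e'
  have : w = 2 := by
    have := (Nat.pow_le_pow_iff_right one_lt_two).1 (show 2 ^ w ≤ 2 ^ 2 by omega)
    have := h.two_le
    omega
  subst this
  exact ⟨rfl, beta_bot h c wc ht e, a1, b1, a2, b2, a4, c.comm ▸ b4⟩

end

end H3.XP
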