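import Mathlib
import Cfsg.Agent.H3.XPb

/-! Large extraspecial subgroups, commuting pairs: both pairs of type `α`. -/

set_option autoImplicit false
set_option linter.unusedSectionVars false
set_option linter.unusedVariables false

namespace H3.XP

open Subgroup H24 H6.XS
open scoped commutatorElement

variable {G : Type*} [Group G] [Finite G] {D : Set G} {Q : G → Subgroup G} {w : ℕ} {X Y N A : Subgroup G}
  {a b d g i j r s t u x y z : G}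

theorem dc (S T : Set G) (r : G → G → Prop) {m n : ℕ} (hm : ∀ y ∈ S, m ≤ {x | x ∈ T ∧ r y x}.ncard)
    (hn : ∀ x ∈ T, {y | y ∈ S ∧ r y x}.ncard ≤ n) : S.ncard * m ≤ T.ncard * n := by
  classical
  rw [Set.ncard_eq_toFinset_card S, Set.ncard_eq_toFinset_card T]
  refine Finset.card_mul_le_card_mul r (fun y hy => (hm y (by simpa using hy)).trans_eq ?_)
    fun x hx => le_trans (le_of_eq ?_) (hn x (by simpa using hx))
  all_goals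
    rw [← Set.ncard_coe_finset]
    congr 1
    ext
    simp

theorem card_ncard (X : Subgroup G) : ♯X = (X : Set G).ncard := Nat.card_coe_set_eq (X : Set G)

theorem rel_le (h : ♯Y ≤ 2 * ♯(X ⊓ Y)) : X.relIndex Y ≤ 2 := by
  rw [← card_inf_mul_relIndex X Y, mul_comm 2] at h
  exact Nat.le_of_mul_le_mul_left h (card_pos _)

theorem abl_of (h : Sit D Q w) (hd : d ∈ D) (hX : X ≤ Q d) (hr : r ∉ C{d})
    (h1 : ∀ x ∈ X, κ[x, r] ∈ C[X]) (h2 : ∀ x ∈ X, ∀ y ∈ X, κ[x, r] ∈ C{κ[y, r]}) : X ≤ C[X] :=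
  fun y hy => mem_C_iff_le_C1.2 fun z hz => by
  have e1 : κ[y * z, r] = κ[z * y, r] := by
    rw [k_mul, k_mul, cj2 (C_le_C1 hy (h1 z hz)), cj2 (C_le_C1 hz (h1 y hy)), mem_C1.1 (h2 z hz y hy)]
  have e2 : κ[z⁻¹, y⁻¹] ∈ C{r} := mem_C1_iff_conj.2 (by
    calc _ = (y * z)⁻¹ * (κ[z * y, r] * r) * (y * z) := by group
      _ = r := by rw [← e1]; group)
  rcases (h.mem_zp hd).1 (k_zp h hd (hX (inv_mem hz)) (hX (inv_mem hy))) with e3 | e3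
  · exact inv_mem_iff.1 (mem_C1_comm.1 (inv_mem_iff.1 (mem_C1_comm.1 (k_one.1 e3))))
  · exact absurd (mem_C1_comm.1 (e3 ▸ e2)) hr

section
variable (h : Sit D Q w) (c : Col D a b) (wc : WC D Q) (hα : ∀ x ∈ Q a, x * b * x⁻¹ ≠ a * b)
include h c wc hα

theorem lemN (hi : i ∈ Q a ⊓ Q b) (i1 : i ≠ 1) (hx : x ∈ Q a) (xi : x ∈ C{i}) (n : x ∉ C{b}) :
    κ[x, b] = a * i :=
  have al := al' h c wc hα
  (lemN0 h c wc hi i1 hx xi (al.le (al.comm x hx)) n).resolve_left fun e => hα x hx (k_eq e)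

theorem lemN' (hi : i ∈ Q a ⊓ Q b) (i1 : i ≠ 1) (hx : x ∈ Q a ⊓ C{i}) (hy : y ∈ Q a ⊓ C{i}) (n : x ∉ C{b})
    (n' : y ∉ C{b}) : x * y ∈ C{b} := k_one.1 (by
  rw [k_mul, lemN h c wc hα hi i1 hx.1 hx.2 n, lemN h c wc hα hi i1 hy.1 hy.2 n', cjm, cj1 (h.le c.l hx.1), cj1 hx.2,
    mul_assoc, ← mul_assoc i, ← cQ h c.l hi.1, mmr (ea_I h c wc i hi), h.sq c.l])

theorem card4 (hI : Q a ⊓ Q b ≠ ⊥) : ♯(Q a) = 4 * ♯(Q a ⊓ C{b}) ∧ ♯(Q a ⊓ C[Q a ⊓ C{b}]) = 8 := by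
  obtain ⟨i, hi, i1⟩ := exists_ne_one hI
  have h1 := idx_C h c.l le_rfl hi.1
  have h2 := idx_le (X := Q a ⊓ C{i}) (N := C{b}) fun x hx y hy => lemN' h c wc hα hi i1 hx hy
  have h3 := card_le (inf_le_inf_right C{b} (inf_le_left : Q a ⊓ C{i} ≤ _))
  obtain ⟨m, m1, e1, e2⟩ := (al' h c wc hα).even
  have h4 := card_inf_mul_relIndex C{b} (Q a)
  have h5 := card_pos (Q a ⊓ C{b})
  rw [inf_comm, e1] at h4
  have : m = 1 := by
    by_contra n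
    have := Nat.mul_le_mul_left ♯(Q a ⊓ C{b}) (Nat.pow_le_pow_right (n := 4) (by norm_num) (show 2 ≤ m by omega))
    omega
  subst this
  omega

theorem tu (h4 : ♯(Q a ⊓ Q b) = 4) : TU Q a b := by
  have al := al' h c wc hα
  have hI : Q a ⊓ Q b ≠ ⊥ := fun e => by rw [e] at h4; simp at h4
  have e : zpowers a ⊔ Q a ⊓ Q b = Q a ⊓ C[Q a ⊓ C{b}] := by
    refine eq_of_card_eq (sup_le (zpowers_le.2 (a_W h c inf_le_left)) (le_inf inf_le_left al.inW)) ?_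
    rw [(card4 h c wc hα hI).2, card_sup_of_inf (norm_zpowers_of_cent (inf_le_left.trans (h.le c.l)))
      (eq_bot_iff.2 fun x hx => zp_inf h c wc hx.1 hx.2.2), card_zp (h.sq c.l) (h.ne_one c.l), h4]
  refine ⟨h4, fun x hx => ⟨fun n => cents_symm al.inW ⟨hx, n⟩, fun n => ?_⟩, fun i hi i1 x hx n xi => ?_⟩
  · refine ((h.dual_dual c.l inf_le_left (a_A h c)).le ⟨hx, ?_⟩).2
    rw [← e, C_sup, C_zpowers]
    exact ⟨h.le c.l hx, n⟩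
  · rw [k_eq (lemN h c wc hα hi i1 hx xi n), mul_assoc, mul_assoc, cQ h c.r hi.2]

theorem sw (hx : x ∈ Q a) (n : x ∉ C{b}) (hd : x * b * x⁻¹ = d) : Col D b d ∧ (∀ y ∈ Q b, y * d * y⁻¹ ≠ b * d) ∧
    (∀ y ∈ Q d, y * b * y⁻¹ ≠ d * b) ∧ x * d * x⁻¹ = b := by
  have al := al' h c wc hα
  have hu := al.comm x hx
  have e1 : d = κ[x, b] * b := by rw [← hd]; group
  have c' : Col D b d := ⟨c.r, hd ▸ h.conj b c.r x, fun e => n (mem_C1_iff_conj.2 (hd.trans e.symm)),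
    (mem_C1.1 (e1 ▸ mul_mem (al.le hu) (self_mem_C1 b))).symm⟩
  have e2 : d * b ∉ D := fun e => by
    rw [e1, mmr (h.sq c.r)] at e
    exact hα x hx (k_eq (wc a c.l _ e hu.1))
  refine ⟨c', fun y _ e => e2 (c'.comm ▸ e ▸ h.conj d c'.r y), fun y _ e => e2 (e ▸ h.conj b c.r y), ?_⟩
  calc _ = x * κ[x, b] * x⁻¹ * (κ[x, b] * b) := by rw [e1]; group
    _ = b := by rw [cj1 (al.alt x hx), mml (al.ea _ hu)]

theorem CB_le (hd : x * b * x⁻¹ = d) : Q b ⊓ C{a} ⊓ C{x} ≤ Q b ⊓ Q d := fun y hy =>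
  ⟨hy.1.1, by rw [← hd, h.eqv b c.r, ← cj2 hy.2]; exact conj_mem_cj x hy.1.1⟩

theorem abl_eq (hA : Q a ⊓ C{b} ≤ C[Q a ⊓ C{b}]) : Q a ⊓ C[Q a ⊓ C{b}] = Q a ⊓ C{b} :=
  le_antisymm (le_inf inf_le_left (al' h c wc hα).le) (le_inf inf_le_left hA)

variable (hα' : ∀ x ∈ Q b, x * a * x⁻¹ ≠ b * a)
include hα'

theorem two_abl (hi : i ∈ Q a ⊓ Q b) (i1 : i ≠ 1) (hI : Q a ⊓ Q b ≤ zpowers i) :
    Q a ⊓ C{b} ≤ C[Q a ⊓ C{b}] := by
  have c' := csymm c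
  have al := al' h c' wc hα'
  have hi' : i ∈ Q b ⊓ Q a := ⟨hi.2, hi.1⟩
  obtain ⟨r, hr, n⟩ : ∃ r ∈ Q b ⊓ C{i}, r ∉ C{a} := by
    by_contra n
    push Not at n
    have h1 := card_le (le_inf inf_le_left n : Q b ⊓ C{i} ≤ _)
    have h2 := idx_C h c.r le_rfl hi.2
    have h3 := (card4 h c' wc hα' (ne_bot_of_mem hi' i1)).1
    have := card_pos (Q b ⊓ C{a})
    omega
  have k1 : ∀ x ∈ Q a ⊓ C{b}, κ[x, r] ∈ Q b ⊓ C[Q b ⊓ C{a}] := fun x hx =>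
    ⟨k_mem h c.r hx.2 hr.1, mem_C_iff_le_C1.2 fun y hy => mem_C1_comm.1 ((k_cent h c.r hx.2 hr.1 hy.1).2
      (zpowers_le.2 (mem_C1_comm.1 hr.2) (hI (k_I h c (inv_mem hx) hy))))⟩
  refine abl_of h c.l inf_le_left n (fun x hx => ?_) fun x hx y hy => mem_C1.2 (al.ea.comm (k1 x hx) (k1 y hy))
  have k2 := (k_sq h c.r hx.2 hr.1).1 (al.ea _ (k1 x hx))
  refine (sup_le (zpowers_le.2 (mem_C_iff_le_C1.2 inf_le_right)) (zpowers_le.2 (I_cent h c wc hi)) :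
    zpowers b ⊔ zpowers i ≤ _) ((h.dual_dual c.r (sup_le (zp_le h c.r) (zpowers_le.2 hi.2))
      (mem_sup_left (mem_zpowers b))).le ⟨(k1 x hx).1, mem_C_iff_le_C1.2 fun z hz => ?_⟩)
  have hz' : z ∈ Q b ⊓ C{i} := ⟨hz.1, C_le_C1 (mem_sup_right (mem_zpowers i)) hz.2⟩
  have k3 := mem_C_iff_le_C1.1 (k1 x hx).2
  by_cases n' : z ∈ C{a}
  · exact k3 ⟨hz.1, n'⟩
  · exact (mul_mem_cancel_left (mem_C1_comm.1 k2)).1 (k3 ⟨mul_mem hr.1 hz.1, lemN' h c' wc hα' hi' i1 hr hz' n n'⟩)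

theorem bot_eq (hI : Q a ⊓ Q b = ⊥) : Q a ⊓ C[Q a ⊓ C{b}] = Q a ⊓ C{b} := by
  have c' := csymm c
  have al := al' h c' wc hα'
  have hB := B_CA h c wc hI
  obtain ⟨r, hr, n⟩ : ∃ r ∈ Q b, r ∉ C{a} := by
    by_contra n
    push Not at n
    exact (h.eq_or c.r (mem_C_iff_le_C1.2 n)).elim (h.ne_one c.l) c.ne
  have k1 : ∀ x ∈ Q a ⊓ C{b}, κ[x, r] ∈ Q b ⊓ C[Q b ⊓ C{a}] := fun x hx =>
    k_CA h c' inf_le_left hx.2 (cents_symm hB hx) hr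
  exact abl_eq h c wc hα (abl_of h c.l inf_le_left n (fun x hx => hB ⟨(k1 x hx).1, al.le (k1 x hx)⟩)
    fun x hx y hy => mem_C1.2 (al.ea.comm (k1 x hx) (k1 y hy)))

theorem bot_card (hI : Q a ⊓ Q b = ⊥) : ♯(Q a ⊓ C{b}) = 2 ^ (w + 1) :=
  sq_pow' (by have := dualA h c; rwa [bot_eq h c wc hα hα' hI] at this)

theorem bot_ker (hI : Q a ⊓ Q b = ⊥) (hr : r ∈ Q b) (n : r ∉ C{a}) : Q a ⊓ C{b} ⊓ C{r} ≠ ⊥ := fun e => by
  have c' := csymm c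
  have al := al' h c' wc hα'
  have hI' := inf_comm (Q a) _ ▸ hI
  have eB := bot_eq h c' wc hα' hα hI'
  have h1 := orbit_le (X := Q a ⊓ C{b}) (t := r) (Y := Q b ⊓ C{a} ⊓ C{r}) fun x hx =>
    have := k_CA h c' inf_le_left hx.2 (cents_symm (B_CA h c wc hI) hx) hr
    ⟨eB.le this, (k_sq h c.r hx.2 hr).1 (al.ea _ this)⟩
  have h2 := card_lt (lt_of_le_of_ne (inf_le_left : Q b ⊓ C{a} ⊓ C{r} ≤ _) fun e =>
    n (eB.le ⟨hr, mem_C_iff_le_C1.2 (e.ge.trans inf_le_right)⟩).2)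
  rw [e, bot_card h c wc hα hα' hI] at h1
  rw [bot_card h c' wc hα' hα hI'] at h2
  simp only [card_bot] at h1
  omega

theorem bot_ne2 (hI : Q a ⊓ Q b = ⊥) : w ≠ 2 := by
  rintro rfl
  have c' := csymm c
  obtain ⟨r, hr, n⟩ : ∃ r ∈ Q b, r ∉ C{a} := by
    by_contra n
    push Not at n
    exact (h.eq_or c.r (mem_C_iff_le_C1.2 n)).elim (h.ne_one c.l) c.ne
  obtain ⟨y, hy, y1⟩ := exists_ne_one (bot_ker h c wc hα hα' hI hr n)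
  refine y1 (mem_bot.1 (hI.le ⟨hy.1.1, h.mem_of_index c.r
    ((al' h c wc hα).ea y ((bot_eq h c wc hα hα' hI).ge hy.1)) hy.1.2 (rel_le ?_)⟩))
  have h1 := two_le (Y := C{y} ⊓ Q b) (le_inf (mem_C_iff_le_C1.1 (cents_symm (B_CA h c wc hI) hy.1)) inf_le_left)
    ⟨mem_C1_comm.1 hy.2, hr⟩ fun e => n e.2
  rw [bot_card h c' wc hα' hα (inf_comm (Q a) _ ▸ hI)] at h1
  rw [h.card b c.r]
  omega

theorem bot_le4 (hI : Q a ⊓ Q b = ⊥) : w ≤ 4 := by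
  have c' := csymm c
  have al := al' h c' wc hα'
  have hI' := inf_comm (Q a) _ ▸ hI
  have eB := bot_eq h c' wc hα' hα hI'
  have cA := bot_card h c wc hα hα' hI
  have cB := bot_card h c' wc hα' hα hI'
  have cP := h.card a c.l
  have k : ∀ r ∈ Q b, κ[r, a] ≠ 1 → ♯(Q a) = 4 * ♯(Q a ⊓ C{κ[r, a]}) := fun r hr n => by
    have n' : r ∉ C{a} := fun e => n (k_one.2 e)
    obtain ⟨c2, a1, -, -⟩ := sw h c' wc hα' hr n' rfl
    rw [(card4 h c2 wc a1 (ne_bot_of_le (bot_ker h c wc hα hα' hI hr n') (CB_le h c' wc hα' rfl))).1]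
    congr 3
    ext x
    refine and_congr_right fun hx => ?_
    rw [SetLike.mem_coe, SetLike.mem_coe, mem_toSubmonoid, mem_toSubmonoid, mem_C1_comm (g := x), mem_C1_comm (g := x),
      mul_mem_cancel_right (inv_mem (mem_C1_comm.1 (h.le c.l hx)))]
  have h1 := dc {y | y ∈ Q b ⊓ C{a} ∧ y ≠ 1 ∧ ♯(Q a) = 4 * ♯(Q a ⊓ C{y})} ((Q a : Set G) \ (Q a ⊓ C{b} : Subgroup G))
    (fun y x => x ∈ C{y}) (m := 2 ^ (2 * w - 1) - 2 ^ (w + 1)) (n := 3) (fun y hy => by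
      have := Set.ncard_le_ncard (s := ((Q a ⊓ C{y} : Subgroup G) : Set G) \ (Q a ⊓ C{b} : Subgroup G))
        (t := {x | x ∈ (Q a : Set G) \ (Q a ⊓ C{b} : Subgroup G) ∧ x ∈ C{y}}) fun x hx => ⟨⟨hx.1.1, hx.2⟩, hx.1.2⟩
      refine le_trans ?_ ((Set.le_ncard_sdiff _ _).trans this)
      rw [← card_ncard, ← card_ncard, cA]
      have e1 := hy.2.2
      have e2 : 2 ^ (2 * w + 1) = 4 * 2 ^ (2 * w - 1) := by
        rw [show 2 * w + 1 = 2 * w - 1 + 2 by have := h.two_le; omega]; ring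
      omega) (fun x hx => by
      have n : x ∉ C{b} := fun e => hx.2 ⟨hx.1, e⟩
      obtain ⟨c2, a1, -, -⟩ := sw h c wc hα hx.1 n rfl
      have e1 := (card_le (CB_le h c wc hα (x := x) rfl)).trans (al' h c2 wc a1).card
      have := Set.ncard_le_ncard (t := ((Q b ⊓ C{a} ⊓ C{x} : Subgroup G) : Set G) \ {1})
        (s := {y | y ∈ {y | y ∈ Q b ⊓ C{a} ∧ y ≠ 1 ∧ ♯(Q a) = 4 * ♯(Q a ⊓ C{y})} ∧ x ∈ C{y}})
        fun y hy => ⟨⟨hy.1.1, mem_C1_comm.1 hy.2⟩, hy.1.2.1⟩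
      rw [Set.ncard_sdiff_singleton_of_mem (one_mem _), ← card_ncard] at this
      omega)
  have h2 := Set.ncard_le_ncard (s := ((Q b ⊓ C{a} : Subgroup G) : Set G) \ zpowers b)
    (t := {y | y ∈ Q b ⊓ C{a} ∧ y ≠ 1 ∧ ♯(Q a) = 4 * ♯(Q a ⊓ C{y})} ∪
      (fun y => b * y) '' {y | y ∈ Q b ⊓ C{a} ∧ y ≠ 1 ∧ ♯(Q a) = 4 * ♯(Q a ⊓ C{y})}) fun u hu => by
    have u1 : u ≠ 1 := fun e => hu.2 (e ▸ one_mem _)
    have u2 : b * u ≠ 1 := fun e => hu.2 (eq_inv_of_mul_eq_one_right e ▸ inv_mem (mem_zpowers b))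
    obtain ⟨r, hr, e | e⟩ := al.surj u (eB.ge hu.1)
    · exact Or.inl ⟨hu.1, u1, e ▸ k r hr (e ▸ u1)⟩
    · exact Or.inr ⟨b * u, ⟨mul_mem (a_A h c') hu.1, u2, e ▸ k r hr (e ▸ u2)⟩, mml (h.sq c.r) u⟩
  have h3 := h2.trans ((Set.ncard_union_le _ _).trans (Nat.add_le_add_left (Set.ncard_image_le) _))
  rw [Set.ncard_sdiff (zpowers_le.2 (a_A h c')), ← card_ncard, ← card_ncard, cB,
    card_zp (h.sq c.r) (h.ne_one c.r)] at h3
  generalize Set.ncard {y | y ∈ Q b ⊓ C{a} ∧ y ≠ 1 ∧ ♯(Q a) = 4 * ♯(Q a ⊓ C{y})} = s at h1 h3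
  rw [Set.ncard_sdiff fun x hx => hx.1, ← card_ncard, ← card_ncard, cA, cP] at h1
  by_contra n
  obtain ⟨v, rfl⟩ : ∃ v, w = v + 5 := ⟨w - 5, by omega⟩
  rw [show 2 * (v + 5) - 1 = 2 * v + 9 by omega] at h1
  have e1 : 2 ^ (2 * v + 9) = 512 * (2 ^ v * 2 ^ v) := by ring
  have e2 : 2 ^ (v + 5 + 1) = 64 * 2 ^ v := by ring
  have e3 : 2 ^ (2 * (v + 5) + 1) = 2048 * (2 ^ v * 2 ^ v) := by ring
  rw [e1, e2, e3] at h1
  rw [e2] at h3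
  have := Nat.two_pow_pos v
  generalize 2 ^ v = n at *
  have h4 : 32 * n - 1 ≤ s := by omega
  have h5 := (Nat.mul_le_mul_right _ h4).trans h1
  have h6 : 64 * n ≤ 512 * (n * n) := by nlinarith
  have h7 : 64 * n ≤ 2048 * (n * n) := by nlinarith
  zify [h6, h7, show 1 ≤ 32 * n by omega] at h5
  nlinarith

theorem to' (hI : Q a ⊓ Q b = ⊥) : w = 4 ∧ TO Q a b := by
  have c' := csymm c
  have hI' := inf_comm (Q a) _ ▸ hI
  have eA := bot_eq h c wc hα hα' hI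
  have cA := bot_card h c wc hα hα' hI
  obtain ⟨m, -, -, e⟩ := (al' h c wc hα).even
  rw [eA, cA, pow_succ', show 4 = 2 ^ 2 by norm_num, ← pow_mul] at e
  have h1 := Nat.pow_right_injective le_rfl (Nat.eq_of_mul_eq_mul_left two_pos e)
  have h2 := bot_le4 h c wc hα hα' hI
  have h3 := bot_ne2 h c wc hα hα' hI
  have h4 := h.two_le
  obtain rfl : w = 4 := by omega
  exact ⟨rfl, hI, eA ▸ (al' h c wc hα).ea, bot_eq h c' wc hα' hα hI' ▸ (al' h c' wc hα').ea, cA,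
    bot_card h c' wc hα' hα hI', hα, c.comm ▸ hα'⟩

theorem two_false (hi : i ∈ Q a ⊓ Q b) (i1 : i ≠ 1) (hI : Q a ⊓ Q b ≤ zpowers i) : False := by
  have c' := csymm c
  have al := al' h c wc hα
  have hi' : i ∈ Q b ⊓ Q a := ⟨hi.2, hi.1⟩
  have eA := abl_eq h c wc hα (two_abl h c wc hα hα' hi i1 hI)
  have eB := abl_eq h c' wc hα' (two_abl h c' wc hα' hα hi' i1 (inf_comm (Q a) _ ▸ hI))
  obtain ⟨c1, c2⟩ := card4 h c wc hα (ne_bot_of_mem hi i1)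
  rw [eA] at c2
  have i2 := ea_I h c wc i hi
  have hw : w = 2 := by
    rw [c2, h.card a c.l] at c1
    have := Nat.pow_right_injective le_rfl (show 2 ^ (2 * w + 1) = 2 ^ 5 by omega)
    omega
  have l1 : zpowers a ⊔ zpowers i ≤ Q a ⊓ C{b} := sup_le (zpowers_le.2 (a_A h c)) (zpowers_le.2 (I_A h c wc hi))
  have c3 : ♯(zpowers a ⊔ zpowers i) = 4 := by
    rw [card_sup_of_inf (norm_zpowers_of_cent (zpowers_le.2 (h.le c.l hi.1)))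
      (eq_bot_iff.2 fun x hx => zp_inf h c wc hx.1 (zpowers_le.2 hi.2 hx.2)), card_zp (h.sq c.l) (h.ne_one c.l),
      card_zp i2 i1]
  have aZ : a ∈ zpowers a ⊔ zpowers i := mem_sup_left (mem_zpowers a)
  have iZ : i ∈ zpowers a ⊔ zpowers i := mem_sup_right (mem_zpowers i)
  obtain ⟨x, hx, n⟩ : ∃ x ∈ Q a, κ[x, b] ∉ zpowers a ⊔ zpowers i := by
    obtain ⟨u, hu, n⟩ := SetLike.not_le_iff_exists.1 fun e : Q a ⊓ C{b} ≤ zpowers a ⊔ zpowers i => by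
      have := card_le e; omega
    obtain ⟨x, hx, e | e⟩ := al.surj u (eA.ge hu)
    · exact ⟨x, hx, e ▸ n⟩
    · exact ⟨x, hx, e ▸ fun e' => n ((mul_mem_cancel_left aZ).1 e')⟩
  have n1 : x ∉ C{b} := fun e => n (k_one.2 e ▸ one_mem _)
  have n2 : x ∉ C{i} := fun e => n (lemN h c wc hα hi i1 hx e n1 ▸ mul_mem aZ iZ)
  have hu := eA.le (al.comm x hx)
  obtain ⟨d, hd⟩ : ∃ d, x * b * x⁻¹ = d := ⟨_, rfl⟩
  obtain ⟨c4, a1, a2, e1⟩ := sw h c wc hα hx n1 hd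
  have pi : ∀ {e X}, e ∈ D → X ≤ Q e → IsPi {2} X := fun he hX =>
    (isPi_of_isPGroup Nat.prime_two (h.two he)).of_le hX
  obtain ⟨k, hk, k1⟩ := exists_ne_one (IsPi.inf_C_ne_bot Nat.prime_two (pi c.l (zpowers_le.2 hx))
    (pi c.r (inf_le_left : Q b ⊓ Q d ≤ _)) (zpowers_le.2 (mem_N_iff_cj.2 (by
      rw [cj_inf, ← h.eqv b c.r, ← h.eqv d c4.r, hd, e1, inf_comm]))) fun e => bot_ne2 h c4 wc a1 a2 e hw)
  have kx : k ∈ C{x} := C_zpowers x ▸ hk.2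
  have ku : k ∈ C{κ[x, b]} := mem_C1_comm.1 (hd ▸ mul_mem (mem_C1_comm.1 (h.le c4.r hk.1.2))
    (inv_mem (mem_C1_comm.1 (h.le c.r hk.1.1))))
  have ki : k ∈ C{i} := C_le_C1 (show i ∈ Q b ⊓ C{d} from ⟨hi.2, mem_C1_comm.1 (by
    rw [← hd, k_eq rfl]
    exact mul_mem (C_le_C1 (I_A h c wc hi) (eA.ge hu).2) (mem_C1_comm.1 (h.le c.r hi.2)))⟩) (I_cent h c4 wc hk.1)
  by_cases ka : k ∈ C{a}
  · have l2 : zpowers a ⊔ zpowers i ≤ Q a ⊓ C{b} ⊓ C{k} :=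
      le_inf l1 (sup_le (zpowers_le.2 (mem_C1_comm.1 ka)) (zpowers_le.2 (mem_C1_comm.1 ki)))
    have h1 := two_le l2 ⟨hu, mem_C1_comm.1 ku⟩ n
    have h2 := two_le (X := Q a ⊓ C{b} ⊓ C{k}) (Y := C{k} ⊓ Q a) (le_inf inf_le_right (inf_le_left.trans inf_le_left))
      ⟨mem_C1_comm.1 kx, hx⟩ fun e => n1 e.1.2
    have := hI ⟨h.mem_of_index c.l (ea_I h c4 wc k hk.1) ka (rel_le (by omega)), hk.1.1⟩
    rw [← zpowers_eq_of_prime (card_zp i2 i1 ▸ Nat.prime_two) this k1] at iZ hI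
    exact n2 (C1_le_C1_of_mem_zpowers (hI hi) (mem_C1_comm.1 kx))
  · have e2 := k_eq (lemN h c' wc hα' hi' i1 hk.1.1 ki ka)
    have c5 : Col D a (k * a * k⁻¹) := ⟨c.l, h.conj a c.l k, fun e => ka (mem_C1_iff_conj.2 e.symm), (mem_C1.1 (by
      rw [e2]; exact mul_mem (mul_mem (cC c) (h.le c.l hi.1)) (self_mem_C1 a))).symm⟩
    have m : ∀ y ∈ Q a, k ∈ C{y} → y ∈ Q a ⊓ Q (k * a * k⁻¹) := fun y hy e =>
      ⟨hy, by rw [h.eqv a c.l, ← cj1 e]; exact conj_mem_cj k hy⟩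
    exact n2 (mem_C1.2 ((ea_I h c5 wc).comm (m x hx kx) (m i hi.1 ki)))

end

theorem pair' (h : Sit D Q w) (wc : WC D Q) (c : Col D a b) :
    TU Q a b ∨ (w = 4 ∧ TO Q a b) ∨ (w = 2 ∧ TL Q a b) := by
  by_cases hα : ∃ x ∈ Q a, x * b * x⁻¹ = a * b
  · obtain ⟨t, ht, e⟩ := hα
    exact Or.inr (Or.inr (beta' h c wc ht e))
  by_cases hα' : ∃ x ∈ Q b, x * a * x⁻¹ = b * a
  · obtain ⟨t, ht, e⟩ := hα'
    exact absurd (beta_symm h (csymm c) wc ht e) hα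
  push Not at hα hα'
  by_cases hI : Q a ⊓ Q b = ⊥
  · exact Or.inr (Or.inl (to' h c wc hα hα' hI))
  obtain ⟨i, hi, i1⟩ := exists_ne_one hI
  obtain ⟨j, hj, n⟩ := SetLike.not_le_iff_exists.1 (two_false h c wc hα hα' hi i1)
  have h1 := two_le (zpowers_le.2 hi) hj n
  rw [card_zp (ea_I h c wc i hi) i1] at h1
  exact Or.inl (tu h c wc hα (le_antisymm (al' h c wc hα).card h1))

end H3.XP
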