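import Mathlib
import Cfsg.Agent.H6.XB
import Cfsg.Agent.H20.XA0

/-! The orthogonal group `O₄⁺(2)` in coordinates. -/

set_option autoImplicit false
set_option linter.unusedSectionVars false
set_option linter.unusedVariables false
set_option synthInstance.maxSize 8000
set_option synthInstance.maxHeartbeats 200000

namespace H3.XL

open Subgroup H24 H15 H6.XS Module H20.XA

abbrev V4 := ZMod 2 × ZMod 2 × ZMod 2 × ZMod 2

/-- the determinant -/
def q0 (v : V4) : ZMod 2 := v.1 * v.2.2.2 + v.2.1 * v.2.2.1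

def β0 (u v : V4) : ZMod 2 := u.1 * v.2.2.2 + u.2.2.2 * v.1 + u.2.1 * v.2.2.1 + u.2.2.1 * v.2.1

/-- the six involutions trivial on a singular line and its quotient -/
def T (l : Fin 6) (v : V4) : V4 :=
  match l with
  | 0 => (v.1 + v.2.2.1, v.2.1 + v.2.2.2, v.2.2.1, v.2.2.2)
  | 1 => (v.1, v.2.1, v.1 + v.2.2.1, v.2.1 + v.2.2.2)
  | 2 => (v.2.2.1, v.2.2.2, v.1, v.2.1)
  | 3 => (v.1 + v.2.1, v.2.1, v.2.2.1 + v.2.2.2, v.2.2.2)
  | 4 => (v.1, v.1 + v.2.1, v.2.2.1, v.2.2.1 + v.2.2.2)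
  | 5 => (v.2.1, v.1, v.2.2.2, v.2.2.1)

def fam (l : Fin 6) : Bool := decide (l < 3)

def tr (v : V4) : V4 := (v.1, v.2.2.1, v.2.1, v.2.2.2)

def ap (v1 v2 v3 v4 v : V4) : V4 := v.1 • v1 + v.2.1 • v2 + v.2.2.1 • v3 + v.2.2.2 • v4

def wd (w : List (Fin 6)) (v : V4) : V4 := w.foldr T v

def WL : List (List (Fin 6)) :=
  [[], [0], [1], [2], [0, 1], [1, 0]].flatMap fun w => [[], [3], [4], [5], [3, 4], [4, 3]].map (w ++ ·)

def same (u v : V4) : Prop := (T 0 u = u ∧ T 0 v = v) ∨ (T 1 u = u ∧ T 1 v = v) ∨ (T 2 u = u ∧ T 2 v = v)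

instance (u v : V4) : Decidable (same u v) := by unfold same; infer_instance

theorem all1 : ∀ v1 : V4, q0 v1 = 0 → ∀ v4 : V4, q0 v4 = 0 → β0 v1 v4 = 1 → ∀ v2 : V4, q0 v2 = 0 →
    β0 v1 v2 = 0 → β0 v4 v2 = 0 → ∀ v3 : V4, q0 v3 = 0 → β0 v1 v3 = 0 → β0 v4 v3 = 0 → β0 v2 v3 = 1 →
    ((∀ v, q0 (v + ap v1 v2 v3 v4 v) = 0) → (∀ v, ap v1 v2 v3 v4 v = v) ∨ ∃ l, ∀ v, ap v1 v2 v3 v4 v = T l v) ∧
    ∃ w ∈ WL, (∀ v, ap v1 v2 v3 v4 v = wd w v) ∨ ∀ v, ap v1 v2 v3 v4 (tr v) = wd w v := by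
  decide +kernel

theorem TT : ∀ l v, T l (T l v) = v := by decide +kernel
theorem Tfix : ∀ l v, T l v = v → q0 v = 0 ∧ ∃ u, v = u + T l u := by decide +kernel
theorem Tcomm : ∀ l m, (fam l = fam m → l = m) → ∀ v, T l (T m v) = T m (T l v) := by decide +kernel
theorem T3 : ∀ l m, fam l = fam m → l ≠ m → (∀ v, T l (T m (T l (T m (T l (T m v))))) = v) ∧
    (∀ v, T l (T m v) = v → v = 0) ∧ ∀ k, fam k = fam l → k = l ∨ k = m ∨ ∀ v, T l (T m (T l v)) = T k v := by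
  decide +kernel
theorem T5 : ∀ l m, fam l ≠ fam m → ∀ v, T l (T m v + v) = T m v + v →
    ∃ u, T l (u + T m u + v) = u + T m u + v := by decide +kernel
theorem T6 : ∀ l m k, fam l ≠ fam m → fam k = fam m → k ≠ m →
    ∃ u, T l (u + T m u + 0) = u + T m u + 0 ∧ T l (u + T k u + 0) ≠ u + T k u + 0 := by decide +kernel
theorem T7 : ∀ l l', fam l = fam l' → l ≠ l' → ∀ m, fam l ≠ fam m → ∀ m', fam m = fam m' → m ≠ m' →
    ∀ p, T l' p = p → T m' p = p → p ≠ 0 → q0 (p + T l (T m p)) = 1 ∧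
      ∀ v, ∃ s : V4, v = ap p (T l p) (T m p) (T l (T m p)) s := by decide +kernel
theorem Tsame : ∀ l u v, same (T l u) (T l v) ↔ same u v := by decide +kernel
theorem trsame : ¬ ∀ u v, same (tr u) (tr v) ↔ same u v := by decide +kernel

/-- the determinant as a quadratic form -/
noncomputable def Q0 : QuadraticForm (ZMod 2) V4 :=
  QuadraticMap.linMulLin (LinearMap.fst _ _ _)
    (LinearMap.snd _ _ _ ∘ₗ LinearMap.snd _ _ _ ∘ₗ LinearMap.snd _ _ _) +
  QuadraticMap.linMulLin (LinearMap.fst _ _ _ ∘ₗ LinearMap.snd _ _ _)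
    (LinearMap.fst _ _ _ ∘ₗ LinearMap.snd _ _ _ ∘ₗ LinearMap.snd _ _ _)

theorem Q0_apply (v : V4) : Q0 v = q0 v := rfl

section
variable {q : QuadraticForm (ZMod 2) V4} (hq : ∀ v, q v = q0 v)
include hq

theorem pol0 (u v : V4) : pol q u v = β0 u v := by
  have := quad_add q u v
  rw [hq, hq, hq] at this
  generalize pol q u v = s at this
  revert u v s
  decide +kernel

theorem iso_ap (g : (ofQuad q).Isom) : ∃ v1 v2 v3 v4, (∀ v, g.1 v = ap v1 v2 v3 v4 v) ∧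
    ((∀ v, q0 (v + ap v1 v2 v3 v4 v) = 0) → (∀ v, ap v1 v2 v3 v4 v = v) ∨ ∃ l, ∀ v, ap v1 v2 v3 v4 v = T l v) ∧
    ∃ w ∈ WL, (∀ v, ap v1 v2 v3 v4 v = wd w v) ∨ ∀ v, ap v1 v2 v3 v4 (tr v) = wd w v := by
  have a : ∀ v, q0 (g.1 v) = q0 v := fun v => by rw [← hq, ← hq, mq]
  have b : ∀ u v, β0 (g.1 u) (g.1 v) = β0 u v := fun u v => by rw [← pol0 hq, ← pol0 hq, mp]
  refine ⟨g.1 (1, 0, 0, 0), g.1 (0, 1, 0, 0), g.1 (0, 0, 1, 0), g.1 (0, 0, 0, 1), fun v => ?_, ?_⟩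
  · rw [ap, ← map_smul, ← map_smul, ← map_smul, ← map_smul, ← map_add, ← map_add, ← map_add]
    congr 1
    revert v; decide +kernel
  · apply all1 <;> simp only [a, b] <;> decide

theorem iso_T (g : (ofQuad q).Isom) (h1 : g ≠ 1) (h2 : ∀ v, q0 (v + g.1 v) = 0) : ∃ l, ∀ v, g.1 v = T l v := by
  obtain ⟨v1, v2, v3, v4, e, a, -⟩ := iso_ap hq g
  simp only [← e] at a
  exact (a h2).resolve_left fun c => h1 (Form.Isom.ext c)

theorem refl_tr (v : V4) : (refl q (0, 1, 1, 0)).1 v = tr v := by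
  rw [refl_apply, hq, pol0 hq, show q0 (0, 1, 1, 0) = 1 by decide, inv_one]
  revert v; decide +kernel

theorem iso_or (A : Subgroup (ofQuad q).Isom) (hA : ∀ l, ∃ t ∈ A, ∀ v, t.1 v = T l v) (g : (ofQuad q).Isom) :
    g ∈ A ∨ g * refl q (0, 1, 1, 0) ∈ A := by
  have k : ∀ w, ∃ t ∈ A, ∀ v, t.1 v = wd w v := fun w => by
    induction w with
    | nil => exact ⟨1, one_mem _, fun v => rfl⟩
    | cons l w ih =>
      obtain ⟨t, t1, t2⟩ := ih
      obtain ⟨s, s1, s2⟩ := hA l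
      exact ⟨s * t, mul_mem s1 t1, fun v => by rw [Form.Isom.mul_apply, t2, s2]; rfl⟩
  obtain ⟨v1, v2, v3, v4, e, -, w, -, a⟩ := iso_ap hq g
  obtain ⟨t, t1, t2⟩ := k w
  simp only [← e, ← t2] at a
  refine a.imp (fun c => ?_) fun c => ?_
  · rwa [show g = t from Form.Isom.ext c]
  · rwa [show g * refl q (0, 1, 1, 0) = t from
      Form.Isom.ext fun v => by rw [Form.Isom.mul_apply, refl_tr hq, c]]

end

/-- the stabiliser of a family of lines -/
def Om (q : QuadraticForm (ZMod 2) V4) : Subgroup (ofQuad q).Isom where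
  carrier := {g | ∀ u v, same (g.1 u) (g.1 v) ↔ same u v}
  one_mem' := fun _ _ => Iff.rfl
  mul_mem' := fun x y u v => (x _ _).trans (y u v)
  inv_mem' := fun {g} x u v => by
    have := x ((g⁻¹).1 u) ((g⁻¹).1 v)
    rw [Form.Isom.apply_inv_apply, Form.Isom.apply_inv_apply] at this
    exact this.symm

theorem refl_not {q : QuadraticForm (ZMod 2) V4} (hq : ∀ v, q v = q0 v) : refl q (0, 1, 1, 0) ∉ Om q :=
  fun c => trsame fun u v => by simpa only [refl_tr hq] using c u v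

theorem idx_two {q : QuadraticForm (ZMod 2) V4} (hq : ∀ v, q v = q0 v) (A : Subgroup (ofQuad q).Isom)
    (hA : ∀ l, ∃ t ∈ A, ∀ v, t.1 v = T l v) (hO : A ≤ Om q) : A.index = 2 :=
  index_eq_two_iff.2 ⟨refl q (0, 1, 1, 0), fun g => by
    by_cases c : g ∈ A
    · exact Or.inr ⟨c, fun d => refl_not hq (hO ((mul_mem_cancel_left c).1 d))⟩
    · exact Or.inl ⟨(iso_or hq A hA g).resolve_left c, c⟩⟩

section tr

variable {G : Type*} [Group G] {z : G} {P : Subgroup G} {V W : Type*} [AddCommGroup V] [Module (ZMod 2) V]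
  [AddCommGroup W] [Module (ZMod 2) W]

/-- change of coordinates -/
def trF (F : Fr z P V) (e : V ≃ₗ[ZMod 2] W) (q : QuadraticForm (ZMod 2) W) (he : ∀ x, q (e x) = F.q x)
    (hp : ∀ x y, pol q (e x) (e y) = pol F.q x y) : Fr z P W where
  π x := e (F.π x)
  q := q
  ρ :=
    { toFun := fun g => ⟨e.symm.trans ((F.ρ g).1.trans e), (mem_Isom_ofQuad _ _).2 fun x => by
        rw [LinearEquiv.trans_apply, LinearEquiv.trans_apply, he, mq, ← he, e.apply_symm_apply]⟩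
      map_one' := Form.Isom.ext fun x => by simp
      map_mul' := fun g k => Form.Isom.ext fun x => by simp }
  nondeg := fun x hx => by
    have := F.nondeg (e.symm x) fun y => by
      have := hx (e y)
      rw [← e.apply_symm_apply x] at this
      exact (hp _ _).symm.trans this
    simpa using this
  π_mul x hx y hy := by rw [F.π_mul x hx y hy, map_add]
  π_eq_zero x hx := by rw [← F.π_eq_zero x hx, e.map_eq_zero_iff]
  π_surj v := by
    obtain ⟨x, hx, h⟩ := F.π_surj (e.symm v)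
    exact ⟨x, hx, by rw [h, e.apply_symm_apply]⟩
  q_π x hx := by rw [he, F.q_π x hx]
  pol_π x hx y hy := by rw [hp, F.pol_π x hx y hy]
  ρ_π g x hx := by
    change e ((F.ρ g).1 (e.symm (e (F.π x)))) = _
    rw [e.symm_apply_apply, F.ρ_π g x hx]
  ker g := by
    rw [← F.ker]
    refine ⟨fun c => Form.Isom.ext fun x => e.injective ?_, fun c => Form.Isom.ext fun x => ?_⟩
    · have := congrArg (fun k : (ofQuad q).Isom => k.1 (e x)) c
      simpa using this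
    · change e ((F.ρ g).1 (e.symm x)) = x
      rw [c]; simp

theorem exists_std [Finite V] (F : Fr z P V) (h4 : finrank (ZMod 2) V = 4) {U : Submodule (ZMod 2) V}
    (hU : TS F.q U) (h2 : 2 ≤ finrank (ZMod 2) U) : ∃ F' : Fr z P V4, ∀ v, F'.q v = q0 v := by
  have t := (totSing_ofQuad F.q).2 hU
  have := t.two_mul_finrank_le F.nondeg
  obtain ⟨e, f, H, -⟩ := F.nondeg.exists_hyp_of_totSing t (k := 2) (by omega)
  have H' : (ofQuad Q0).Hyp ![(1, 0, 0, 0), (0, 1, 0, 0)] ![(0, 0, 0, 1), (0, 0, 1, 0)] := by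
    have p := pol0 Q0_apply
    refine ⟨?_, ?_, ?_, ?_, ?_⟩
    · simp only [p]; decide
    · simp only [p]; decide
    · simp only [p]; decide
    · simp only [ofQuad_Q, Q0_apply]; decide
    · simp only [ofQuad_Q, Q0_apply]; decide
  obtain ⟨g, g1, g2, -⟩ := Form.Hyp.exists_equiv (Φ := ofQuad F.q) (Ψ := ofQuad Q0) rfl H H'
    (by simpa using h4) (by simp)
  exact ⟨trF F g Q0 (g2 rfl) g1, Q0_apply⟩

end tr

end H3.XL
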