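import Mathlib
import Cfsg.Agent.H3.XL0
import Cfsg.Agent.H6.XEDefs
import Cfsg.Agent.H6.XN
import Cfsg.Agent.H6.XP2

/-! Type `L₄(3)`: the points collinear with `a` and their action on `Q a`. -/

set_option autoImplicit false
set_option linter.unusedSectionVars false
set_option linter.unusedVariables false
set_option synthInstance.maxSize 8000

namespace H3.XL

open Subgroup H24 H15 H6.XS Module H20.XA H3.XP

variable {G : Type*} [Group G] [Finite G] {D : Set G} {Q : G → Subgroup G} {a b c d g k u x y : G}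
  {f f' : V4 → V4} {l m : Fin 6}

/-- `g` induces `f` -/
def R (F : Fr a (Q a) V4) (g : G) (f : V4 → V4) : Prop :=
  g ∈ C{a} ∧ ∀ x ∈ Q a, F.π (g * x * g⁻¹) = f (F.π x)

/-- `c` is a point over the line `l` -/
structure Ov (D : Set G) (F : Fr a (Q a) V4) (c : G) (l : Fin 6) : Prop where
  nb : Nb D a c
  r : R F c (T l)

theorem nbC (n : Nb D a c) : c ∈ C{a} := mem_C1.2 n.comm.symm

theorem ncol (ha : a ∈ D) (n : Nb D a c) : Col D a c := ⟨ha, n.mem, n.ne.symm, n.comm⟩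

theorem nal (h : Sit D Q 2) (wc : WC D Q) (ha : a ∈ D) (n : Nb D a c) : Al Q a c :=
  h.al wc (ncol ha n) fun x _ e => n.not (e ▸ h.conj c n.mem x)

theorem std (h : Sit D Q 2) (wc : WC D Q) (ha : a ∈ D) (n : Nb D a c) :
    ∃ F : Fr a (Q a) V4, ∀ v, F.q v = q0 v := by
  obtain ⟨V, _, _, _, h4, ⟨F⟩⟩ := h.exists_fr ha
  have A := nal h wc ha n
  obtain ⟨m, m1, -, m2⟩ := A.even
  have e := F.sub_im h ha (a_W h (ncol ha n) (X := Q a ⊓ C{c}) inf_le_left)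
  rw [inf_eq_left.2 inf_le_left] at e
  refine exists_std F h4 ((F.ea_sub h ha).1 (e.symm ▸ A.ea)) ?_
  have := F.card_sub h ha (W := F.im (Q a ⊓ C[Q a ⊓ C{c}]))
  rw [e, m2, show 4 = 2 ^ 2 from rfl, ← pow_mul, ← pow_succ'] at this
  have := Nat.pow_right_injective le_rfl this
  omega

variable (h : Sit D Q 2) (ha : a ∈ D) {F : Fr a (Q a) V4}
include h ha

theorem R.mul (r : R F g f) (s : R F k f') : R F (g * k) fun v => f (f' v) :=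
  ⟨mul_mem r.1 s.1, fun x hx => by
    beta_reduce; rw [← s.2 x hx, ← r.2 _ (H20.XA.cQ h ha s.1 hx)]; congr 1; group⟩

theorem R.iso (r : R F g f) (v : V4) : (F.ρ ⟨g, r.1⟩).1 v = f v := by
  obtain ⟨x, hx, rfl⟩ := F.π_surj v
  rw [F.ρ_π _ x hx, r.2 x hx]

theorem R.mem (r : R F g f) (e : ∀ v, f v = v) : g ∈ Q a :=
  (F.ker ⟨g, r.1⟩).1 (Form.Isom.ext fun v => (r.iso h ha v).trans (e v))

theorem R.congr (r : R F g f) (e : ∀ v, f v = f' v) : R F g f' := ⟨r.1, fun x hx => e _ ▸ r.2 x hx⟩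

theorem R_Q (hx : x ∈ Q a) : R F x fun v => v := ⟨h.le ha hx, fun y hy => by
  rw [F.π_mul _ (mul_mem hx hy) _ (inv_mem hx), F.π_mul x hx y hy, F.π_inv hx, add_comm, vv']⟩

theorem π_k (r : R F g f) (hx : x ∈ Q a) : F.π κ[x, g] = F.π x + f (F.π x) := by
  rw [show κ[x, g] = x * (g * x⁻¹ * g⁻¹) by group, F.π_mul x hx _ (H20.XA.cQ h ha r.1 (inv_mem hx)),
    r.2 _ (inv_mem hx), F.π_inv hx]

theorem nb_cj (n : Nb D a c) (hg : g ∈ C{a}) : Nb D a (g * c * g⁻¹) :=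
  ⟨h.conj c n.mem g, (mem_C1.1 (mul_mem (mul_mem hg (nbC n)) (inv_mem hg))).symm, fun e => n.not (by
    have := h.conj _ e g⁻¹
    rwa [← zc h ha hg, show g⁻¹ * (g * (a * c) * g⁻¹) * g⁻¹⁻¹ = a * c by group] at this),
    fun e => n.ne (by rw [← cj1 (inv_mem hg), ← e]; group)⟩

theorem Ov.cj (o : Ov D F c l) (hx : x ∈ Q a) : Ov D F (x * c * x⁻¹) l :=
  ⟨nb_cj h ha o.nb (h.le ha hx), ((R_Q h ha hx).mul h ha o.r).mul h ha (R_Q h ha (inv_mem hx))⟩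

theorem Ov.sq (o : Ov D F c l) : c * c = 1 := h.sq o.nb.mem

theorem Ov.cent (o : Ov D F c l) (hx : x ∈ Q a) : x ∈ C{c} ↔ T l (F.π x) = F.π x := by
  rw [← o.r.2 x hx, F.π_eq h ha (H20.XA.cQ h ha o.r.1 hx) hx]
  refine ⟨fun e => Or.inl (cj2 e), fun e => e.elim (fun e => mem_C1.2 (mul_inv_eq_iff_eq_mul.1 e).symm)
    fun e => (o.nb.not ?_).elim⟩
  have : x⁻¹ * c * x⁻¹⁻¹ = a * c := by
    rw [inv_inv, mul_assoc, mul_inv_eq_iff_eq_mul.1 e, XP.cQ h ha hx]; group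
  exact this ▸ h.conj c o.nb.mem x⁻¹

theorem Ov.notQ (wc : WC D Q) (o : Ov D F c l) : c ∉ Q a := fun e => o.nb.ne (wc a ha c o.nb.mem e)

variable (hq : ∀ v, F.q v = q0 v)
include hq

theorem exists_ov (wc : WC D Q) (n : Nb D a c) : ∃ l, Ov D F c l := by
  have A := nal h wc ha n
  have r : R F c (F.ρ ⟨c, nbC n⟩).1 := ⟨nbC n, fun x hx => (F.ρ_π ⟨c, nbC n⟩ x hx).symm⟩
  obtain ⟨l, e⟩ := iso_T hq (F.ρ ⟨c, nbC n⟩) (fun e => n.ne (wc a ha c n.mem ((F.ker _).1 e))) fun v => by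
    obtain ⟨x, hx, rfl⟩ := F.π_surj v
    rw [← π_k h ha r hx, ← hq, F.q_π _ (A.comm x hx).1]
    exact A.ea _ (A.comm x hx)
  exact ⟨l, n, r.congr h ha e⟩

theorem Ov.fuse (o : Ov D F c l) (hd : d ∈ D) (r : R F d (T l)) : ∃ x ∈ Q a, d = x * c * x⁻¹ := by
  have c2 := o.sq h ha
  have hu : d * c ∈ Q a := (r.mul h ha o.r).mem h ha (TT l)
  have e : c * (d * c) * c⁻¹ = (d * c)⁻¹ := by
    rw [mul_inv_rev, inv_sq (h.sq hd), inv_sq c2, mul_assoc, mmr c2]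
  have e1 := o.r.2 _ hu
  rw [e, F.π_inv hu] at e1
  obtain ⟨-, v, e2⟩ := Tfix l _ e1.symm
  obtain ⟨x, hx, rfl⟩ := F.π_surj v
  rw [← π_k h ha o.r hx, F.π_eq h ha hu (k_mem' h ha o.r.1 hx), inv_sq c2] at e2
  refine ⟨x, hx, e2.elim mul_right_cancel fun e2 => (o.nb.not ?_).elim⟩
  rw [← mul_assoc, mul_right_cancel_iff, ← zc h ha (h.le ha hx)] at e2
  have := h.conj d hd x⁻¹
  rwa [e2, show x⁻¹ * (x * (a * c) * x⁻¹) * x⁻¹⁻¹ = a * c by group] at this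

theorem Ov.three (o : Ov D F c l) (p : Ov D F d m) (e : fam l = fam m) (n : l ≠ m) : (c * d) ^ 3 = 1 := by
  obtain ⟨t1, t2, -⟩ := T3 l m e n
  have r := o.r.mul h ha p.r
  have e1 : (c * d) ^ 3 = c * d * (c * d * (c * d)) := by rw [pow_succ', pow_two]
  have hu : (c * d) ^ 3 ∈ Q a := e1 ▸ (r.mul h ha (r.mul h ha r)).mem h ha t1
  have e2 := r.2 _ hu
  rw [← pow_succ', pow_succ, mul_inv_cancel_right] at e2
  refine ((F.π_eq_zero _ hu).1 (t2 _ e2.symm)).resolve_right fun e3 => o.nb.not ?_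
  have : a * c = d * c * d * (d * c)⁻¹ := by
    rw [o.nb.comm, ← e3, e1, mul_inv_rev, inv_sq (o.sq h ha), inv_sq (p.sq h ha)]
    simp only [mul_assoc, mml (o.sq h ha)]
  exact this ▸ h.conj d p.nb.mem _

theorem Ov.iff (o : Ov D F c l) (p : Ov D F d m) (hx : x ∈ Q a) (e : d * c * d⁻¹ = x * c * x⁻¹) (hy : y ∈ Q a) :
    y * c * y⁻¹ ∈ C{d} ↔ T l (F.π y + T m (F.π y) + F.π x) = F.π y + T m (F.π y) + F.π x := by
  have m1 := H20.XA.cQ h ha p.r.1 hy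
  have m2 := mul_mem (inv_mem hy) m1
  rw [← p.r.2 y hy, ← F.π_inv hy, ← F.π_mul _ (inv_mem hy) _ m1, ← F.π_mul _ m2 x hx,
    ← o.cent h ha (mul_mem m2 hx), mem_C1, mem_C1]
  have e1 : d * (y * c * y⁻¹) * d⁻¹ = d * y * d⁻¹ * x * c * (d * y * d⁻¹ * x)⁻¹ := by
    calc _ = d * y * d⁻¹ * (d * c * d⁻¹) * (d * y * d⁻¹)⁻¹ := by group
      _ = _ := by rw [e]; group
  rw [eq_comm, ← mul_inv_eq_iff_eq_mul, e1, ← mul_inv_eq_iff_eq_mul (a := y⁻¹ * (d * y * d⁻¹) * x * c)]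
  constructor
  · intro e2
    calc _ = y⁻¹ * (d * y * d⁻¹ * x * c * (d * y * d⁻¹ * x)⁻¹) * y := by group
      _ = _ := by rw [e2]; group
  · intro e2
    calc _ = y * (y⁻¹ * (d * y * d⁻¹) * x * c * (y⁻¹ * (d * y * d⁻¹) * x)⁻¹) * y⁻¹ := by group
      _ = _ := by rw [e2]

theorem Ov.iff0 (o : Ov D F c l) (p : Ov D F d m) (e : c ∈ C{d}) (hy : y ∈ Q a) :
    y * c * y⁻¹ ∈ C{d} ↔ T l (F.π y + T m (F.π y) + 0) = F.π y + T m (F.π y) + 0 := by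
  rw [← F.π_one]
  exact o.iff h ha hq p (one_mem _) (by rw [cj2 e]; simp) hy

theorem Ov.exc (o : Ov D F c l) (p : Ov D F d m) (n : fam l ≠ fam m) : ∃ c', Ov D F c' l ∧ c' ∈ C{d} := by
  have d2 := inv_sq (p.sq h ha)
  obtain ⟨x, hx, e⟩ := o.fuse h ha hq (h.conj c o.nb.mem d) (by
    rw [d2]
    exact ((p.r.mul h ha o.r).mul h ha p.r).congr h ha fun v => by rw [Tcomm l m fun c => (n c).elim, TT])
  have e1 : d * x * d⁻¹ * x ∈ C{c} := mem_C1.2 (mul_inv_eq_iff_eq_mul.1 (by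
    calc _ = d * x * d⁻¹ * (x * c * x⁻¹) * (d * x * d⁻¹)⁻¹ := by group
      _ = d * x * d⁻¹ * (d * c * d⁻¹) * (d * x * d⁻¹)⁻¹ := by rw [e]
      _ = d * (x * c * x⁻¹) * d⁻¹ := by group
      _ = c := by rw [← e, d2, ← mul_assoc, ← mul_assoc, p.sq h ha, one_mul, mmr (p.sq h ha)]))
  have m1 := H20.XA.cQ h ha p.r.1 hx
  rw [o.cent h ha (mul_mem m1 hx), F.π_mul _ m1 x hx, p.r.2 x hx] at e1
  obtain ⟨v, e2⟩ := T5 l m n _ e1
  obtain ⟨y, hy, rfl⟩ := F.π_surj v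
  exact ⟨_, o.cj h ha hy, (o.iff h ha hq p hx e hy).2 e2⟩

theorem Ov.other (wc : WC D Q) (o : Ov D F c l) : ∃ d m, Ov D F d m ∧ fam l = fam m ∧ l ≠ m := by
  by_contra n
  push Not at n
  have k1 : ∀ g : C{a}, F.ρ g * F.ρ ⟨c, o.r.1⟩ * (F.ρ g)⁻¹ * F.ρ ⟨c, o.r.1⟩ =
      F.ρ ⟨c, o.r.1⟩ * (F.ρ g * F.ρ ⟨c, o.r.1⟩ * (F.ρ g)⁻¹) := fun g => by
    obtain ⟨m, p⟩ := exists_ov h ha hq wc (nb_cj h ha o.nb g.2)
    rw [← map_inv, ← map_mul, ← map_mul]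
    refine Form.Isom.ext fun v => ?_
    have e := p.r.iso h ha
    rw [Form.Isom.mul_apply, Form.Isom.mul_apply, o.r.iso h ha, o.r.iso h ha]
    exact (e _).trans ((Tcomm l m (n _ m p) v).symm.trans (congrArg _ (e v).symm))
  have k2 : F.ρ ⟨c, o.r.1⟩ * F.ρ ⟨c, o.r.1⟩ = 1 := by
    rw [← map_mul, ← F.ρ.map_one]; exact congrArg _ (Subtype.ext (o.sq h ha))
  have k3 : F.ρ ⟨c, o.r.1⟩ ≠ 1 := fun e => o.notQ h ha wc ((F.ker _).1 e)
  have k4 : F.ρ ⟨c, o.r.1⟩ ∈ F.ρ.range := ⟨_, rfl⟩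
  generalize F.ρ ⟨c, o.r.1⟩ = t at k1 k2 k3 k4
  let S : Set (ofQuad F.q).Isom := {s | ∃ g ∈ F.ρ.range, s = g * t * g⁻¹}
  have c1 : ∀ x ∈ S, ∀ y ∈ S, x * y = y * x := by
    rintro _ ⟨g, g1, rfl⟩ _ ⟨k, k1', rfl⟩
    obtain ⟨j, e⟩ := mul_mem (inv_mem k1') g1
    have := k1 j
    rw [e] at this
    calc _ = k * (k⁻¹ * g * t * (k⁻¹ * g)⁻¹ * t) * k⁻¹ := by group
      _ = _ := by rw [this]; group
  have c2 : closure S ≤ C[closure S] := by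
    rw [closure_le, centralizer_closure]
    exact fun x hx y hy => c1 y hy x hx
  have c3 : EA (closure S) := fun x hx => by
    induction hx using closure_induction with
    | mem x hx => obtain ⟨g, -, rfl⟩ := hx; rw [← cjm, k2]; simp
    | one => simp
    | mul x y hx hy e1 e2 => rw [mul_assoc, ← mul_assoc y, mem_C.1 (c2 hx) y hy, mul_assoc, e2, mul_one, e1]
    | inv x hx e => rw [inv_sq e, e]
  have := F.o2V h ha (closure S) ((closure_le _).2 (by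
      rintro _ ⟨g, g1, rfl⟩; exact mul_mem (mul_mem g1 k4) (inv_mem g1)))
    (norm_closure (by
      rintro k k1 _ ⟨g, g1, rfl⟩; exact subset_closure ⟨k * g, mul_mem k1 g1, by group⟩)) c3.two
  exact k3 (mem_bot.1 (this ▸ subset_closure ⟨1, one_mem _, by simp⟩))

theorem quad (wc : WC D Q) {b0 b3 : G} {l0 l3 : Fin 6} (o0 : Ov D F b0 l0) (o3 : Ov D F b3 l3)
    (e : b0 ∈ C{b3}) (n : fam l0 ≠ fam l3) : ∃ b1 b2 l1 l2, Ov D F b1 l1 ∧ Ov D F b2 l2 ∧ fam l0 = fam l1 ∧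
      l0 ≠ l1 ∧ fam l3 = fam l2 ∧ l3 ≠ l2 ∧ b2 ∈ C{b0} ∧ b1 ∈ C{b3} ∧ b1 ∉ C{b2} := by
  obtain ⟨d1, l1, p1, f1, n1⟩ := o0.other h ha hq wc
  obtain ⟨d2, l2, p2, f2, n2⟩ := o3.other h ha hq wc
  obtain ⟨b2, o2, e2⟩ := p2.exc h ha hq o0 (f2 ▸ n.symm)
  obtain ⟨d, o1, e1⟩ := p1.exc h ha hq o3 (f1 ▸ n)
  by_cases c : d ∈ C{b2}
  · obtain ⟨v, v1, v2⟩ := T6 l1 l3 l2 (f1 ▸ n) f2.symm n2.symm
    obtain ⟨y, hy, rfl⟩ := F.π_surj v
    exact ⟨_, b2, l1, l2, o1.cj h ha hy, o2, f1, n1, f2, n2, e2, (o1.iff0 h ha hq o3 e1 hy).2 v1,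
      fun c' => v2 ((o1.iff0 h ha hq o2 c hy).1 c')⟩
  · exact ⟨d, b2, l1, l2, o1, o2, f1, n1, f2, n2, e2, e1, c⟩

theorem Ov.four (o : Ov D F c l) (p : Ov D F d m) (n : fam l ≠ fam m) (e : c ∉ C{d}) :
    (c * d) ^ 2 ∈ Q a ∧ T l (F.π ((c * d) ^ 2)) = F.π ((c * d) ^ 2) ∧
      T m (F.π ((c * d) ^ 2)) = F.π ((c * d) ^ 2) ∧ F.π ((c * d) ^ 2) ≠ 0 := by
  have c2 := o.sq h ha
  have d2 := p.sq h ha
  have r := o.r.mul h ha p.r
  have hu : (c * d) ^ 2 ∈ Q a := pow_two (c * d) ▸ (r.mul h ha r).mem h ha fun v => by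
    rw [← Tcomm l m (fun c => (n c).elim), TT, TT]
  refine ⟨hu, ?_, ?_, fun e1 => ((F.π_eq_zero _ hu).1 e1).elim (fun e2 => e ?_) fun e2 => o.nb.not ?_⟩
  · rw [← o.r.2 _ hu, ← F.π_inv hu]
    congr 1
    simp only [pow_two, mul_inv_rev, inv_sq c2, inv_sq d2, mul_assoc, mml c2]
  · rw [← p.r.2 _ hu, ← F.π_inv hu]
    congr 1
    simp only [pow_two, mul_inv_rev, inv_sq c2, inv_sq d2, mul_assoc, d2, mul_one]
  · rw [pow_two, ← eq_inv_iff_mul_eq_one, mul_inv_rev, inv_sq c2, inv_sq d2] at e2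
    exact mem_C1.2 e2
  · have : a * c = d * c * d⁻¹ := by
      rw [o.nb.comm, ← e2, inv_sq d2]
      simp only [pow_two, mul_assoc, mml c2]
    exact this ▸ h.conj c o.nb.mem d

theorem main (wc : WC D Q) {b0 b3 : G} {l0 l3 : Fin 6} (o0 : Ov D F b0 l0) (o3 : Ov D F b3 l3)
    (e : b0 ∈ C{b3}) (n : fam l0 ≠ fam l3) (tl : b0 * b3 ∈ D) : ∃ b1 b2, b1 ∈ D ∧ b2 ∈ D ∧
      Q a ≤ closure {b0, b1, b2, b3} ∧ ((∀ K : Subgroup G, K.index ≠ 2) → Sys D a b0 b1 b2 b3) := by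
  obtain ⟨b1, b2, l1, l2, o1, o2, f1, n1, f2, n2, e2, e1, c⟩ := quad h ha hq wc o0 o3 e n
  obtain ⟨hy, y1, y2, y3⟩ := o1.four h ha hq o2 (f1 ▸ f2 ▸ n) c
  obtain ⟨t1, t2⟩ := T7 l0 l1 f1 n1 l3 n l2 f2 n2 _ y1 y2 y3
  have r := o0.r.mul h ha o3.r
  have m0 : b0 ∈ closure {b0, b1, b2, b3} := subset_closure (by simp)
  have m1 : b1 ∈ closure {b0, b1, b2, b3} := subset_closure (by simp)
  have m2 : b2 ∈ closure {b0, b1, b2, b3} := subset_closure (by simp)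
  have m3 : b3 ∈ closure {b0, b1, b2, b3} := subset_closure (by simp)
  have my := pow_mem (mul_mem m1 m2) 2
  have sq : (b1 * b2) ^ 2 * (b1 * b2) ^ 2 = 1 := (F.q_π _ hy).1 ((hq _).trans (Tfix l1 _ y1).1)
  have le : closure {b0, b1, b2, b3} ≤ C{a} := (closure_le _).2 (by
    rintro _ (rfl | rfl | rfl | rfl); exacts [o0.r.1, o1.r.1, o2.r.1, o3.r.1])
  have om : F.img (closure {b0, b1, b2, b3}) ≤ Om F.q := by
    have k : ∀ {c l}, Ov D F c l → c ∈ ((Om F.q).comap F.ρ).map C{a}.subtype := fun {c l} o =>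
      ⟨⟨c, o.r.1⟩, fun u v => by rw [o.r.iso h ha, o.r.iso h ha]; exact Tsame l u v, rfl⟩
    have : closure {b0, b1, b2, b3} ≤ ((Om F.q).comap F.ρ).map C{a}.subtype := (closure_le _).2 (by
      rintro _ (rfl | rfl | rfl | rfl); exacts [k o0, k o1, k o2, k o3])
    rintro _ ⟨g, g1, rfl⟩
    obtain ⟨g', g2, g3⟩ := this g1
    rwa [← show g' = g from Subtype.ext g3]
  have cen : ((b1 * b2) ^ 2 * (b0 * b3 * (b1 * b2) ^ 2 * b3 * b0)) ^ 2 = a := by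
    have m := H20.XA.cQ h ha r.1 hy
    have e := r.2 _ hy
    beta_reduce at e
    rw [← hq, ← e, ← F.π_mul _ hy _ m, F.q_one h ha (mul_mem hy m), mul_inv_rev,
      inv_sq (o0.sq h ha), inv_sq (o3.sq h ha), ← mul_assoc (b0 * b3 * _), ← pow_two] at t1
    exact t1
  generalize hK : closure {b0, b1, b2, b3} = K at m0 m1 m2 m3 my le om
  have ma : a ∈ K := cen ▸ pow_mem (mul_mem my (mul_mem (mul_mem (mul_mem (mul_mem m0 m3) my) m3) m0)) 2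
  have hQ : Q a ≤ K := fun x hx => by
    have k : ∀ {g f}, R F g f → g ∈ K → f (F.π ((b1 * b2) ^ 2)) ∈ F.im K := fun {g f} r m =>
      ⟨_, mul_mem (mul_mem m my) (inv_mem m), H20.XA.cQ h ha r.1 hy, r.2 _ hy⟩
    obtain ⟨s, e⟩ := t2 (F.π x)
    have : x ∈ F.sub (F.im K) := ⟨hx, e ▸ add_mem (add_mem (add_mem (Submodule.smul_mem _ _ ⟨_, my, hy, rfl⟩)
      (Submodule.smul_mem _ _ (k o0.r m0))) (Submodule.smul_mem _ _ (k o3.r m3)))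
      (Submodule.smul_mem _ _ (k r (mul_mem m0 m3)))⟩
    rw [F.sub_im h ha ma] at this
    exact this.1
  refine ⟨b1, b2, o1.nb.mem, o2.nb.mem, hK ▸ hQ, fun hG => ⟨ha, o0.nb, o1.nb, o2.nb, o3.nb,
    o0.three h ha hq o1 f1 n1, by rw [← sq, ← pow_add], o2.three h ha hq o3 f2.symm n2.symm,
    (mem_C1.1 e2).symm, mem_C1.1 e, mem_C1.1 e1, cen, tl, hK ▸ le_antisymm le fun g hg => ?_⟩⟩
  have k : ∀ {g l}, R F g (T l) → g ∈ K → ∃ t ∈ F.img K, ∀ v, t.1 v = T l v := fun {g l} r m =>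
    ⟨_, ⟨⟨g, r.1⟩, m, rfl⟩, r.iso h ha⟩
  have k' : ∀ {c d l m}, Ov D F c l → Ov D F d m → c ∈ K → d ∈ K → fam l = fam m → l ≠ m → ∀ j, fam j = fam l →
      ∃ t ∈ F.img K, ∀ v, t.1 v = T j v := fun {c d l m} o p c1 d1 e n j hj => by
    rcases (T3 l m e n).2.2 j hj with rfl | rfl | e'
    · exact k o.r c1
    · exact k p.r d1
    · exact k ((o.r.mul h ha (p.r.mul h ha o.r)).congr h ha e') (mul_mem c1 (mul_mem d1 c1))
  have hA : ∀ j, ∃ t ∈ F.img K, ∀ v, t.1 v = T j v := fun j => by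
    by_cases c : fam j = fam l0
    · exact k' o0 o1 m0 m1 f1 n1 j c
    · exact k' o3 o2 m3 m2 f2 n2 j (by revert c n; cases fam j <;> cases fam l0 <;> cases fam l3 <;> simp)
  obtain ⟨j, j1, j2⟩ : F.ρ ⟨g, hg⟩ ∈ F.img K := (iso_or hq _ hA _).resolve_right fun c => by
    obtain ⟨j, -, j2⟩ := c
    refine refl_not hq (om (h.no_refl' hG ha F (idx_two hq _ hA om) (by rw [hq]; decide)
      ⟨⟨g, hg⟩⁻¹ * j, ?_⟩))
    rw [map_mul, map_inv, j2, inv_mul_cancel_left]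
  have := hQ ((F.ker (j⁻¹ * ⟨g, hg⟩)).1 (by rw [map_mul, map_inv, j2, inv_mul_cancel]))
  exact (mul_mem_cancel_left (inv_mem j1)).1 this

omit ha hq in
theorem start (wc : WC D Q) (k : Col D a b) (t : TL Q a b) :
    ∃ c d, Nb D a c ∧ Nb D a d ∧ c ∈ C{d} ∧ c * d = b := by
  have k' := csymm k
  obtain ⟨s, s1, -, s2⟩ := t.exb
  rw [k.comm] at s2
  have e1 := card_P0 h k' wc s1 s2
  have e2 := dual0 h k'
  rw [t.cardb] at e1
  rw [e1] at e2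
  have e3 : Q b ⊓ C[Q b ⊓ Fx b a] = Q b ⊓ Fx b a := eq_of_le_of_card_ge (W_P0 h k') (by omega)
  have m : ∀ u ∈ Q b ⊓ C{a}, u ≠ 1 → u ≠ b → Nb D a (u * a) := fun u hu u1 u2 => by
    obtain ⟨x, -, e⟩ := W_R h k' wc s1 s2 (e3.ge (A_P0 h k' hu))
    refine ⟨k_eq e ▸ h.conj a k.l x, by rw [← mul_assoc, mem_C1.1 hu.2], fun c => u2 (wc b k.r u ?_ hu.1),
      fun c => u1 (mul_eq_right.1 c)⟩
    rwa [mem_C1.1 hu.2, mml (h.sq k.l)] at c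
  obtain ⟨u, hu, n⟩ : ∃ u ∈ Q b ⊓ C{a}, u ∉ zpowers b := by
    by_contra n
    push Not at n
    have := card_le_of_le (H := Q b ⊓ C{a}) n
    rw [t.cardb, card_zp (h.sq k.r) (h.ne_one k.r)] at this
    omega
  rw [h.mem_zp k.r, not_or] at n
  have hb := a_A h k'
  have u2 := t.eb u hu
  have ub := XP.cQ h k.r hu.1
  have ua := mem_C1.1 hu.2
  have e : u * a * (b * u * a) = b := by
    rw [← mul_assoc, ← mul_assoc, mul_assoc u, k.comm, ← mul_assoc, ← ub, mul_assoc _ a, ← ua, ← mul_assoc,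
      mmr u2, mmr (h.sq k.l)]
  refine ⟨u * a, b * u * a, m u hu n.1 n.2, m _ (mul_mem hb hu) (fun c => n.2 ?_) (fun c => n.1 (mul_eq_left.1 c)),
    mem_C1.2 ?_, e⟩
  · rw [← inv_sq (h.sq k.r), eq_inv_iff_mul_eq_one, ← ub, c]
  · rw [e, mul_assoc (b * u), ← mul_assoc a, ← ua, mmr (h.sq k.l), mmr u2]

omit ha hq in
theorem all (wc : WC D Q) (k : Col D a b) (t : TL Q a b) : ∃ b0 b1 b2 b3, b0 ∈ D ∧ b1 ∈ D ∧ b2 ∈ D ∧ b3 ∈ D ∧
    Q a ≤ closure {b0, b1, b2, b3} ∧ ((∀ K : Subgroup G, K.index ≠ 2) → Sys D a b0 b1 b2 b3) := by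
  obtain ⟨c, d, n1, n2, e1, e2⟩ := start h wc k t
  obtain ⟨F, hq⟩ := std h wc k.l n1
  obtain ⟨l, o⟩ := exists_ov h k.l hq wc n1
  obtain ⟨m, p⟩ := exists_ov h k.l hq wc n2
  have n : fam l ≠ fam m := fun e => by
    by_cases c : l = m
    · subst c
      exact k.ne (wc a k.l b k.r (e2 ▸ (o.r.mul h k.l p.r).mem h k.l (TT l))).symm
    · have := o.three h k.l hq p e c
      rw [e2, pow_succ, pow_two, h.sq k.r, one_mul] at this
      exact h.ne_one k.r this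
  obtain ⟨b1, b2, h1, h2, h3⟩ := main h k.l hq wc o p e1 n (e2 ▸ k.r)
  exact ⟨c, b1, b2, d, n1.mem, h1, h2, n2.mem, h3⟩

end H3.XL
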