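import Mathlib
import Cfsg.Agent.H7.XKG
import Cfsg.Agent.H3.GD0

/-! The amalgam of `C(z)` and `N(V)` is unique. -/

set_option autoImplicit false
set_option maxRecDepth 100000
set_option linter.all false

namespace H3.G2

open H29 H7 H7.Cay H7.X32

/-- The element with a given code. -/
noncomputable abbrev o (c : ℕ) : KG := KK.of c

theorem o_val (x : KG) : o x.val = x := KK.of_val x

variable {G : Type*} [Group G]

/-- `ι` is an isomorphism onto the centraliser of `ι z`. -/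
structure Cx (ι : KG →* G) : Prop where
  inj : Function.Injective ι
  cen : ∀ g, g * ι (o 16) = ι (o 16) * g → ∃ k, ι k = g

/-- The standard amalgam. -/
structure Am (ι : KG →* G) (y : G) : Prop extends Cx ι where
  sq : y * y = 1
  hY : ∀ p ∈ Y, ι (o p.1) * y = y * ι (o p.2)
  cube : (y * ι (o 17)) ^ 3 = 1

theorem z_comm : ∀ k : KG, k * o 16 = o 16 * k := by decide +kernel

def Rm (x : KG) : Prop := x * o 15 = o 15 * x
noncomputable instance : DecidablePred Rm := fun x => inferInstanceAs (Decidable (x * o 15 = o 15 * x))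

def Rl : List ℕ := [0, 3, 5, 6, 9, 10, 12, 15, 16, 19, 21, 22, 25, 26, 28, 31, 160, 163, 165, 166, 169, 170, 172,
  175, 176, 179, 181, 182, 185, 186, 188, 191]

def wR (c : ℕ) : List ℕ := (([(3, [0]), (5, [2]), (6, [0, 2]), (9, [1, 1, 2, 0]), (10, [1, 1, 2]),
  (12, [0, 0, 0, 1, 1]), (15, [1, 1]), (16, [0, 0]), (19, [0, 0, 0]), (21, [0, 0, 2]), (22, [2, 0]),
  (25, [0, 1, 1, 2]), (26, [0, 0, 1, 1, 2]), (28, [0, 1, 1]), (31, [0, 0, 1, 1]), (160, [2, 1]), (163, [0, 2, 1]),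
  (165, [1]), (166, [0, 1]), (169, [2, 0, 1, 2]), (170, [1, 1, 1]), (172, [1, 2, 0]), (175, [1, 2]),
  (176, [0, 0, 2, 1]), (179, [2, 0, 1]), (181, [0, 0, 1]), (182, [0, 0, 0, 1]), (185, [0, 1, 1, 1]),
  (186, [0, 0, 1, 1, 1]), (188, [0, 1, 2]), (191, [0, 0, 1, 2])] : List (ℕ × List ℕ)).lookup c).getD []

def tr {K : Type*} (a b c : K) (n : ℕ) : K := if n = 0 then a else if n = 1 then b else c

noncomputable def ph (a b c x : KG) : KG := ev (tr a b c) (wR x.val)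

theorem R_spec : ∀ x, Rm x → x.val ∈ Rl ∧ ph (o 3) (o 165) (o 5) x = x ∧ x * x * (x * x) = 1 ∧
    Rm (o 1 * x * (o 1)⁻¹) := by decide +kernel

def AL : List (List ℕ) := [[1, 2, 4, 8, 32, 96, 160], [17, 2, 20, 8, 49, 116, 175], [2, 1, 24, 20, 65, 128, 176],
  [18, 17, 8, 4, 64, 132, 176], [2, 1, 8, 4, 65, 132, 160], [18, 17, 24, 20, 64, 128, 160],
  [1, 2, 20, 24, 32, 120, 176], [17, 2, 4, 24, 49, 124, 191], [1, 2, 8, 20, 32, 136, 172],
  [17, 2, 24, 20, 49, 128, 179], [1, 2, 24, 4, 32, 140, 188], [17, 2, 8, 4, 49, 132, 163],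
  [2, 1, 20, 8, 65, 116, 172], [18, 17, 4, 24, 64, 124, 172], [2, 1, 4, 24, 65, 124, 188],
  [18, 17, 20, 8, 64, 116, 188], [1, 2, 4, 8, 32, 96, 176], [17, 2, 20, 8, 49, 116, 191],
  [2, 1, 24, 20, 65, 128, 160], [18, 17, 8, 4, 64, 132, 160], [2, 1, 8, 4, 65, 132, 176],
  [18, 17, 24, 20, 64, 128, 176], [1, 2, 20, 24, 32, 120, 160], [17, 2, 4, 24, 49, 124, 175],
  [2, 1, 20, 8, 65, 116, 188], [18, 17, 4, 24, 64, 124, 188], [2, 1, 4, 24, 65, 124, 172],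
  [18, 17, 20, 8, 64, 116, 172], [1, 2, 8, 20, 32, 136, 188], [17, 2, 24, 20, 49, 128, 163],
  [1, 2, 24, 4, 32, 140, 172], [17, 2, 8, 4, 49, 132, 179]]

theorem AL_spec : ∀ w ∈ AL, w.length = 7 ∧ (∀ r ∈ XG0.R, ev (pe (w.map o)) r = 1) ∧
    ev (pe (w.map o)) [0, 0] = o 16 := by decide +kernel

theorem cand : ∀ a ∈ Rl, o a * o a = o 15 → ∀ b ∈ Rl, o b * o b = o 16 * o 15 → ∀ c ∈ Rl,
    (∀ x ∈ [3, 165, 5], ph (o a) (o b) (o c) (ph (o a) (o b) (o c) (ph (o a) (o b) (o c) (o x))) = o x) →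
    ∀ r ∈ Rl, (∀ x ∈ [3, 165, 5], ph (o a) (o b) (o c) (o 1 * ph (o a) (o b) (o c) (o 1 * o x * (o 1)⁻¹) * (o 1)⁻¹) =
      o r * o x * (o r)⁻¹) → ph (o a) (o b) (o c) (o 1 * o r * (o 1)⁻¹) = o r → ∃ w ∈ AL,
    (∀ p ∈ [([0, 2], [2, 6, 12]), ([0, 4, 12], [0, 7, 12]), ([0, 4], [0, 4])], Rm (ev (pe (w.map o)) p.1) ∧
      ph (o a) (o b) (o c) (ev (pe (w.map o)) p.1) = ev (pe (w.map o)) p.2) ∧
    Rm ((o 1)⁻¹ * ev (pe (w.map o)) [0]) ∧
    ph (o a) (o b) (o c) (ev (pe (w.map o)) [0] * (o 1)⁻¹) * o r * ((o 1)⁻¹ * ev (pe (w.map o)) [0]) = 1 := by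
  decide +kernel

theorem exists_aut {w : List ℕ} (hw : w ∈ AL) : ∃ α : KG →* KG, Function.Bijective α ∧ α (o 16) = o 16 ∧
    ∀ c u, c < 576 → XG0.C.run u 0 = c → α (o c) = ev (pe (w.map o)) u := by
  obtain ⟨h1, h2, h3⟩ := AL_spec w hw
  have iv : IvOK (pe (w.map o)) (ivOf XG0.ivl) := ivOK_pe _ (by rw [List.length_map, h1]; rfl) (by decide)
  have k : ∀ c u, c < 576 → XG0.C.run u 0 = c → KK.hom (XG0.sound iv h2) (o c) = ev (pe (w.map o)) u :=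
    fun c u a b => by rw [KK.hom_apply, KK.val_of a]; exact (XG0.ok iv h2).word a b
  have z := (k 16 [0, 0] (by decide) (by decide +kernel)).trans h3
  exact ⟨_, Finite.injective_iff_bijective.1 (KG.mono.inj _ (by
    rw [show KG.z = o 16 from rfl, z]; decide +kernel)), z, k⟩

namespace Cx

variable {ι : KG →* G} (h : Cx ι)
include h

theorem cenR {g : G} (h1 : g * ι (o 16) * g⁻¹ = ι (o 16)) (h2 : g * ι (o 15) * g⁻¹ = ι (o 15)) :
    ∃ r, Rm r ∧ ι r = g := by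
  obtain ⟨r, rfl⟩ := h.cen g (mul_inv_eq_iff_eq_mul.1 h1)
  exact ⟨r, h.inj (by simpa using mul_inv_eq_iff_eq_mul.1 h2), rfl⟩

theorem exists_am {y : G} (y1 : y * ι (o 16) * y⁻¹ = ι (o 15)) (y2 : y * ι (o 15) * y⁻¹ = ι (o 16)) :
    ∃ (ι' : KG →* G) (y' : G), Am ι' y' := by
  have cz : ∀ k g, g * ι (o 16) * g⁻¹ = ι k → g * ι (o 1) * ι (o 16) * (g * ι (o 1))⁻¹ = ι k := fun k g e => by
    rw [← e, mul_assoc g, ← map_mul, z_comm, map_mul]; group
  have cv : ∀ g, g * ι (o 1) * ι (o 15) * (g * ι (o 1))⁻¹ = g * ι (o 16) * g⁻¹ * (g * ι (o 15) * g⁻¹) := fun g => by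
    rw [conj_mul, ← map_mul, show o 16 * o 15 = o 1 * o 15 * (o 1)⁻¹ by decide +kernel, map_mul, map_mul, map_inv]
    group
  have e1 : ι (o 15) * ι (o 16) = ι (o 31) := by rw [← map_mul]; exact congrArg ι (by decide +kernel)
  have e2 : ι (o 15) * ι (o 31) = ι (o 16) := by rw [← map_mul]; exact congrArg ι (by decide +kernel)
  have e3 : ι (o 16) * ι (o 15) = ι (o 31) := by rw [← map_mul]; exact congrArg ι (by decide +kernel)
  obtain ⟨ρ, r1, r2, r3⟩ : ∃ ρ : G, ρ * ι (o 16) * ρ⁻¹ = ι (o 15) ∧ ρ * ι (o 15) * ρ⁻¹ = ι (o 31) ∧ ρ ^ 3 = 1 := by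
    have a1 := cz _ _ y1
    have a2 := cv y
    rw [y1, y2, e1] at a2
    generalize y * ι (o 1) = p at a1 a2
    have a3 : p * ι (o 31) * p⁻¹ = ι (o 16) := by rw [← e3, ← conj_mul, a1, a2, e2]
    have q : ∀ x, p ^ 3 * x * (p ^ 3)⁻¹ = p * (p * (p * x * p⁻¹) * p⁻¹) * p⁻¹ := fun x => by
      rw [pow_three]; simp only [mul_assoc, mul_inv_rev]
    obtain ⟨r, hr, e⟩ := h.cenR (g := p ^ 3) (by rw [q, a1, a2, a3]) (by rw [q, a2, a3, a1])
    refine ⟨p * ι r, ?_, ?_, ?_⟩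
    · rw [mul_assoc p, ← map_mul, z_comm, map_mul, ← a1]; group
    · rw [mul_assoc p, ← map_mul, hr, map_mul, ← a2]; group
    · rw [e, ← pow_succ', ← pow_mul, show (3 + 1) * 3 = 3 * 4 from rfl, pow_mul, ← e, ← map_pow,
        show r ^ 4 = r * r * (r * r) by rw [← pow_two, ← pow_two, ← pow_mul], (R_spec r hr).2.2.1, map_one]
  have r4 : ρ * ι (o 31) * ρ⁻¹ = ι (o 16) := by rw [← e3, ← conj_mul, r1, r2, e2]
  have ex : ∀ x, Rm x → ∃ x', Rm x' ∧ ι x' = ρ * ι x * ρ⁻¹ := fun x hx => by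
    have a1 : Commute (ι x) (ι (o 16)) := (Commute.map (z_comm x) ι)
    have a2 : Commute (ι x) (ι (o 31)) := e3 ▸ a1.mul_right (Commute.map hx ι)
    refine h.cenR ?_ ?_
    · rw [← r4, mul_inv_eq_iff_eq_mul, conj_mul, conj_mul, a2.eq]
    · rw [← r1, mul_inv_eq_iff_eq_mul, conj_mul, conj_mul, a1.eq]
  obtain ⟨a, a1, a2⟩ := ex (o 3) (by decide +kernel)
  obtain ⟨b, b1, b2⟩ := ex (o 165) (by decide +kernel)
  obtain ⟨c, c1, c2⟩ := ex (o 5) (by decide +kernel)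
  have H : ∀ x, Rm x → Rm (ph a b c x) ∧ ι (ph a b c x) = ρ * ι x * ρ⁻¹ := fun x hx => by
    have : ι (ph a b c x) = ρ * ι x * ρ⁻¹ := by
      conv_rhs => rw [← (R_spec x hx).2.1]
      have := map_ev ((MulAut.conj ρ).toMonoidHom.comp ι) (tr (o 3) (o 165) (o 5)) (wR x.val)
      refine Eq.trans ?_ this.symm
      rw [ph, map_ev]
      congr 1
      funext n
      simp only [tr]
      split_ifs
      exacts [a2, b2, c2]
    obtain ⟨x', h1, h2⟩ := ex x hx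
    exact ⟨h.inj (this.trans h2.symm) ▸ h1, this⟩
  have H' : ∀ x, Rm x → Rm (ph a b c (o 1 * x * (o 1)⁻¹)) ∧
      ι (ph a b c (o 1 * x * (o 1)⁻¹)) = ρ * ι (o 1) * ι x * (ρ * ι (o 1))⁻¹ := fun x hx => by
    obtain ⟨h1, h2⟩ := H _ (R_spec x hx).2.2.2
    exact ⟨h1, by rw [h2, map_mul, map_mul, map_inv]; group⟩
  have s1 := cz _ _ r1
  have s2 := cv ρ
  rw [r1, r2, e2] at s2
  have q : ∀ p x : G, p * p * x * (p * p)⁻¹ = p * (p * x * p⁻¹) * p⁻¹ := fun p x => by group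
  obtain ⟨r, t1, t2⟩ := h.cenR (g := ρ * ι (o 1) * (ρ * ι (o 1))) (by rw [q, s1, s2]) (by rw [q, s2, s1])
  have gR : ∀ x ∈ [3, 165, 5], Rm (o x) := by decide +kernel
  have := cand _ (R_spec a a1).1 (h.inj (by
      rw [o_val, map_mul, a2, conj_mul, ← map_mul, ← r1, show o 3 * o 3 = o 16 by decide +kernel]))
    _ (R_spec b b1).1 (h.inj (by
      rw [o_val, map_mul, b2, conj_mul, ← map_mul, map_mul ι (o 16), e3, ← r2,
        show o 165 * o 165 = o 15 by decide +kernel]))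
    _ (R_spec c c1).1 (fun x hx => h.inj (by
      simp only [o_val]
      rw [(H _ (H _ (H _ (gR x hx)).1).1).2, (H _ (H _ (gR x hx)).1).2, (H _ (gR x hx)).2]
      calc _ = ρ ^ 3 * ι (o x) * (ρ ^ 3)⁻¹ := by rw [pow_three]; simp only [mul_assoc, mul_inv_rev]
        _ = _ := by rw [r3]; group))
    _ (R_spec r t1).1 (fun x hx => h.inj (by
      simp only [o_val]
      rw [(H' _ (H' _ (gR x hx)).1).2, (H' _ (gR x hx)).2, map_mul, map_mul, map_inv, t2]; group))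
    (h.inj (by simp only [o_val]; rw [(H' _ t1).2, t2]; group))
  simp only [o_val] at this
  obtain ⟨w, hw, w1, w2, w3⟩ := this
  obtain ⟨α, α1, α2, α3⟩ := exists_aut hw
  rw [← α3 1 [0] (by decide) (by decide +kernel)] at w2 w3
  refine ⟨ι.comp α, ρ * ι (α (o 1)), ⟨h.inj.comp α1.1, fun g hg => ?_⟩, ?_, ?_, ?_⟩
  · rw [MonoidHom.comp_apply, α2] at hg
    obtain ⟨k, rfl⟩ := h.cen g hg
    obtain ⟨k, rfl⟩ := α1.2 k
    exact ⟨k, rfl⟩
  · have := (H' _ w2).2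
    rw [mul_inv_cancel_left] at this
    have w4 := congrArg ι w3
    rw [map_mul, map_mul, this, t2, map_one, map_mul, map_inv] at w4
    rw [← w4]; group
  · have k : ∀ x x' x'' u u', XG0.C.run u 0 = x ∧ XG0.C.run u' 0 = x' ∧ x < 576 ∧ x' < 576 ∧
        o x'' = (o 1)⁻¹ * o x * o 1 → Rm (ev (pe (w.map o)) u) ∧
        ph a b c (ev (pe (w.map o)) u) = ev (pe (w.map o)) u' →
        ι.comp α (o x') * (ρ * ι (α (o 1))) = ρ * ι (α (o 1)) * ι.comp α (o x'') :=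
      fun x x' x'' u u' ⟨u1, u2, u3, u4, u5⟩ ⟨u6, u7⟩ => by
        rw [← α3 _ _ u3 u1] at u6 u7
        rw [← α3 _ _ u4 u2] at u7
        rw [u5, MonoidHom.comp_apply, ← u7, (H _ u6).2]
        simp only [MonoidHom.comp_apply, map_mul, map_inv]
        group
    simp only [List.forall_mem_cons, List.not_mem_nil, false_imp_iff, implies_true, and_true, Y] at w1 ⊢
    exact ⟨k 3 _ _ _ _ (by decide +kernel) w1.1, k 165 _ _ _ _ (by decide +kernel) w1.2.1,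
      k 5 _ _ _ _ (by decide +kernel) w1.2.2⟩
  · rw [show o 17 = (o 1)⁻¹ by decide +kernel, MonoidHom.comp_apply, map_inv, map_inv, mul_inv_cancel_right, r3]

end Cx

end H3.G2
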