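import Mathlib
import Cfsg.Agent.H3.GB
import Cfsg.Agent.H6.Dihedral
import Cfsg.Agent.H6.BaerSuzuki

/-! Involutions and elements of order three. -/

set_option autoImplicit false
set_option maxRecDepth 100000
set_option linter.all false

namespace H3.G2

open H29 H7 H7.Cay H7.X32 Subgroup

variable {G : Type*} [Group G] [Finite G]

theorem one_class {H : Subgroup G} {z : G} (hz : z ∈ H) (h2 : z * z = 1)
    (hc : ∀ w ∈ H, w * w = 1 → w ≠ 1 → w * z = z * w → ∃ h ∈ H, h * z * h⁻¹ = w)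
    {u : G} (hu : u ∈ H) (hu2 : u * u = 1) (hu1 : u ≠ 1) : ∃ h ∈ H, h * z * h⁻¹ = u := by
  rcases Nat.even_or_odd (orderOf (z * u)) with h | h
  · obtain ⟨a1, a2, a3⟩ := H6.central_involution h2 hu2 h
    have hw : (z * u) ^ (orderOf (z * u) / 2) ∈ H := pow_mem (mul_mem hz hu) _
    generalize (z * u) ^ (orderOf (z * u) / 2) = w at a1 a2 a3 hw
    obtain ⟨h, hh, rfl⟩ := hc w hw (by rw [← sq, ← a1, pow_orderOf_eq_one]) (by rintro rfl; simp at a1) a2
    obtain ⟨k, hk, e⟩ := hc (h⁻¹ * u * h) (mul_mem (mul_mem (inv_mem hh) hu) hh)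
      (by calc _ = h⁻¹ * (u * u) * h := by group
          _ = 1 := by rw [hu2]; group)
      (fun e => hu1 (by calc u = h * (h⁻¹ * u * h) * h⁻¹ := by group
          _ = 1 := by rw [e]; group))
      (by calc _ = h⁻¹ * (u * (h * z * h⁻¹)) * h := by group
          _ = _ := by rw [← a3.eq]; group)
    exact ⟨h * k, mul_mem hh hk, by
      calc _ = h * (k * z * k⁻¹) * h⁻¹ := by group
        _ = _ := by rw [e]; group⟩
  · obtain ⟨d, hd, e⟩ := H6.exists_conj_of_odd h2 hu2 h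
    refine ⟨d, (closure_le H).2 ?_ hd, e⟩
    rintro x (rfl | rfl)
    exacts [hz, hu]

/-- The dihedral argument. -/
theorem dih {M : Subgroup G} {z t w : G} (hz : z * z = 1) (ht : t * t = 1) (zt : Commute z t) (zM : z ∈ M)
    (tM : ∀ x ∈ M, t * x * t⁻¹ ∈ M) (u : ∀ w ∈ M, w * w = 1 → Commute w z → w = 1 ∨ w = z)
    (wM : w ∈ M) (w2 : w * w = 1) (w1 : w ≠ 1) (wz : w ≠ z) :
    ∃ μ ∈ M, μ ≠ 1 ∧ Odd (orderOf μ) ∧ z * μ * z⁻¹ = μ⁻¹ ∧ (Commute μ t ∨ Commute μ (t * z)) := by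
  have o1 : ∀ w ∈ M, w * w = 1 → w ≠ 1 → Odd (orderOf (z * w)) := fun w wM w2 w1 => by
    by_contra n
    have n := Nat.not_odd_iff_even.1 n
    obtain ⟨a1, a2, a3⟩ := H6.central_involution hz w2 n
    rcases u _ (pow_mem (mul_mem zM wM) _) (H6.mul_self_of_orderOf_two a1) a2 with e | e
    · rw [e] at a1; simp at a1
    · rw [e] at a3
      rw [(u w wM w2 a3.symm).resolve_left w1, hz] at n
      simp at n
  have c2 : ∀ g x : G, x * x = 1 → g * x * g⁻¹ * (g * x * g⁻¹) = 1 := fun g x e => by rw [conj_mul, e]; group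
  have o2 : Odd (orderOf (w * (t * w * t⁻¹))) := by
    obtain ⟨d, hd, e⟩ := H6.exists_conj_of_odd hz w2 (o1 w wM w2 w1)
    have dM : d ∈ M := (closure_le M).2 (by rintro x (rfl | rfl); exacts [zM, wM]) hd
    have := o1 (d⁻¹ * (t * w * t⁻¹) * d⁻¹⁻¹) (mul_mem (mul_mem (inv_mem dM) (tM w wM)) (inv_mem (inv_mem dM)))
      (c2 _ _ (c2 _ _ w2)) fun e => w1 (conj_eq_one_iff.1 (conj_eq_one_iff.1 e))
    rwa [← H6.orderOf_conj d, ← conj_mul, e, inv_inv,
      show d * (d⁻¹ * (t * w * t⁻¹) * d) * d⁻¹ = t * w * t⁻¹ by group] at this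
  have wi := inv_eq_of_mul_eq_one_right w2
  have ti := inv_eq_of_mul_eq_one_right ht
  have zi := inv_eq_of_mul_eq_one_right hz
  have mM := mul_mem wM (tM w wM)
  have m1 : t * w * t⁻¹ = w * (w * (t * w * t⁻¹)) := by rw [← mul_assoc, w2, one_mul]
  have m2 : t * (w * (t * w * t⁻¹)) * t⁻¹ = (w * (t * w * t⁻¹))⁻¹ := by
    simp only [mul_inv_rev, wi, ti, mul_assoc, ht, mul_one]
  have m3 : w * (w * (t * w * t⁻¹)) * w⁻¹ = (w * (t * w * t⁻¹))⁻¹ := by
    rw [← m1]; simp only [mul_inv_rev, wi, ti, mul_assoc]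
  generalize w * (t * w * t⁻¹) = μ at o2 mM m1 m2 m3
  obtain ⟨k, hk⟩ := o2
  have m4 : μ ^ (2 * k + 1) = 1 := hk ▸ pow_orderOf_eq_one μ
  have f1 : Commute (w * μ ^ (k + 1)) t := by
    rw [Commute, SemiconjBy, eq_comm, ← mul_inv_eq_iff_eq_mul, ← conj_mul, ← conj_pow, m1, m2, mul_assoc, mul_right_inj,
      inv_pow, mul_inv_eq_iff_eq_mul, ← pow_add, show k + 1 + (k + 1) = 2 * k + 1 + 1 by ring, pow_succ, m4, one_mul]
  have f2 : w * μ ^ (k + 1) * (w * μ ^ (k + 1)) = 1 := by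
    calc _ = (w * μ * w⁻¹) ^ (k + 1) * (w * w) * μ ^ (k + 1) := by rw [conj_pow]; group
      _ = 1 := by rw [m3, w2]; group
  by_cases e : w * μ ^ (k + 1) = z
  · have z1 : z * μ * z⁻¹ = μ⁻¹ := by rw [← e, ← m3]; group
    refine ⟨μ, mM, fun e' => wz (by simpa [e'] using e), ⟨k, hk⟩, z1, Or.inr ?_⟩
    rw [Commute, SemiconjBy, eq_comm, ← mul_inv_eq_iff_eq_mul]
    calc _ = t * (z * μ * z⁻¹) * t⁻¹ := by group
      _ = _ := by rw [z1, ← conj_inv, m2, inv_inv]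
  · have f3 : w * μ ^ (k + 1) ≠ 1 := fun e => w1 (by
      have e' : μ ^ (k + 1) = w := by rw [← wi]; exact eq_inv_of_mul_eq_one_right e
      have : μ = 1 := by
        rw [← e', ← pow_add, show k + 1 + (k + 1) = 2 * k + 1 + 1 by ring, pow_succ, m4, one_mul] at w2
        exact w2
      rw [← e', this, one_pow])
    have f4 := mul_mem wM (pow_mem mM (k + 1))
    generalize w * μ ^ (k + 1) = w' at f1 f2 f3 f4 e
    refine ⟨z * w', mul_mem zM f4, fun e' => e (by rw [← zi]; exact eq_inv_of_mul_eq_one_right e'), o1 _ f4 f2 f3,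
      ?_, Or.inl (zt.mul_left f1)⟩
    rw [← mul_assoc, hz, one_mul, mul_inv_rev, inv_eq_of_mul_eq_one_right f2]

theorem pow24 : ∀ k : KG, (k * k * k) * (k * k * k) * ((k * k * k) * (k * k * k)) *
    ((k * k * k) * (k * k * k) * ((k * k * k) * (k * k * k))) = 1 := by decide +kernel

theorem cube_of_odd {k : KG} (h : Odd (orderOf k)) : k * k * k = 1 := by
  have : orderOf k ∣ 3 * 8 := orderOf_dvd_of_pow_eq_one (by
    rw [← pow24 k, ← pow_three', ← pow_two, ← pow_two, ← pow_two, ← pow_mul, ← pow_mul, ← pow_mul])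
  rw [← pow_three']
  exact orderOf_dvd_iff_pow_eq_one.1 (Nat.Coprime.dvd_of_dvd_mul_right
    ((Nat.coprime_two_right.2 h).pow_right 3) this)

theorem inv_cls : ∀ u : KG, u * u = 1 → u ≠ 1 →
    u = o 16 ∨ (∃ c, c * o 15 * c⁻¹ = u) ∨ ∃ c, c * o 160 * c⁻¹ = u := by decide +kernel

namespace Am

variable {ι : KG →* G} {y : G} (h : Am ι y)
include h

theorem yi : y⁻¹ = y := inv_eq_of_mul_eq_one_right h.sq

theorem cj (c d : ℕ) (k : c < 576 ∧ G2.al c = d ∧ d < 576) : y * ι (o c) * y = ι (o d) := by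
  have := al_sound (KK.sound_of_hom ι) h.hY hal c k.1 (k.2.1 ▸ k.2.2)
  rw [k.2.1] at this
  rw [mul_assoc, this, ← mul_assoc, h.sq, one_mul]

theorem z2 : ι (o 16) * ι (o 16) = 1 := by rw [← map_mul, ← map_one ι]; exact congrArg ι (by decide +kernel)
theorem z1 : ι (o 16) ≠ 1 := fun e => absurd (h.inj (e.trans (map_one ι).symm)) (by decide +kernel)
theorem zc (k : KG) : Commute (ι k) (ι (o 16)) := Commute.map (z_comm k) ι

theorem y_nmem (k : KG) : ι k ≠ y := fun e => by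
  have := h.cj 16 15 (by decide +kernel)
  rw [← e, (h.zc k).eq, mul_assoc, e, h.sq, mul_one] at this
  exact absurd (h.inj this) (by decide +kernel)

theorem gt {c d t q : ℕ} (k : (t < 576 ∧ q < 576 ∧ G2.al q = t) ∧ o c * o 15 * o d = o q) :
    y * ι (o c) * y * ι (o 16) * (y * ι (o d) * y) = ι (o t) := by
  rw [← h.cj q t ⟨k.1.2.1, k.1.2.2, k.1.1⟩, ← k.2, map_mul, map_mul, ← h.cj 16 15 (by decide +kernel)]
  group

theorem cls {H : Subgroup G} (h1 : ∀ k, ι k ∈ H) (h2 : y ∈ H) :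
    ∀ w ∈ H, w * w = 1 → w ≠ 1 → w * ι (o 16) = ι (o 16) * w → ∃ g ∈ H, g * ι (o 16) * g⁻¹ = w := by
  intro w _ w2 w1 wz
  obtain ⟨u, rfl⟩ := h.cen w wz
  rcases inv_cls u (h.inj (by rw [map_mul, w2, map_one])) (fun e => w1 (by rw [e, map_one])) with
    rfl | ⟨c, rfl⟩ | ⟨c, rfl⟩
  · exact ⟨1, one_mem _, by simp⟩
  · refine ⟨ι c * y, mul_mem (h1 c) h2, ?_⟩
    rw [map_mul, map_mul, map_inv, ← h.cj 16 15 (by decide +kernel), mul_inv_rev, h.yi]; group
  · refine ⟨ι c * (y * ι (o 289) * y), mul_mem (h1 c) (mul_mem (mul_mem h2 (h1 _)) h2), ?_⟩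
    rw [map_mul, map_mul, map_inv, ← h.gt (c := 289) (d := 242) (q := 22) (t := 160) (by decide +kernel),
      show o 242 = (o 289)⁻¹ by decide +kernel, map_inv]
    simp only [mul_inv_rev, h.yi, mul_assoc]

theorem one {w : G} (w2 : w * w = 1) (w1 : w ≠ 1) : ∃ g, g * ι (o 16) * g⁻¹ = w :=
  let ⟨g, _, e⟩ := one_class (H := ⊤) trivial h.z2 (h.cls (fun _ => trivial) trivial) trivial w2 w1
  ⟨g, e⟩

/-- An element of odd order inverted by `z` in the centraliser of `X`. -/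
theorem mu (X : List ℕ) (k1 : ∀ x ∈ X, o 160 * o x * o 160 = (o x)⁻¹)
    (k2 : ∀ u : KG, u * u = 1 → (∀ x ∈ X, u * o x = o x * u) → u = 1 ∨ u = o 16) {w : G} (w2 : w * w = 1)
    (w1 : w ≠ 1) (wz : w ≠ ι (o 16)) (wc : ∀ x ∈ X, Commute w (ι (o x))) :
    ∃ μ : G, (∀ x ∈ X, Commute μ (ι (o x))) ∧ μ ≠ 1 ∧ Odd (orderOf μ) ∧ ι (o 16) * μ * (ι (o 16))⁻¹ = μ⁻¹ ∧
      (Commute μ (ι (o 160)) ∨ Commute μ (ι (o 176))) := by
  have m : ∀ g, g ∈ centralizer ((fun x => ι (o x)) '' {x | x ∈ X}) ↔ ∀ x ∈ X, Commute g (ι (o x)) := fun g => by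
    simp only [mem_centralizer_iff, Set.forall_mem_image, Set.mem_setOf_eq]
    exact forall₂_congr fun x _ => eq_comm
  have t2 : ι (o 160) * ι (o 160) = 1 := by rw [← map_mul, ← map_one ι]; exact congrArg ι (by decide +kernel)
  obtain ⟨μ, a1, a2, a3, a4, a5⟩ := dih (M := centralizer ((fun x => ι (o x)) '' {x | x ∈ X})) h.z2 t2 (h.zc _).symm
    ((m _).2 fun x _ => (h.zc _).symm) (fun g hg => (m _).2 fun x hx => by
      have := ((m _).1 hg x hx).inv_right.conj (ι (o 160))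
      rw [inv_eq_of_mul_eq_one_right t2] at this ⊢
      rwa [← map_inv ι (o x), ← k1 x hx, map_mul, map_mul, ← mul_assoc, ← mul_assoc, t2,
        one_mul, mul_assoc (ι (o x)), t2, mul_one] at this)
    (fun w hw w2 wz => by
      obtain ⟨u, rfl⟩ := h.cen w wz
      refine (k2 u (h.inj (by rw [map_mul, w2, map_one])) fun x hx => h.inj ?_).imp (fun e => ?_) (congrArg ι)
      · rw [map_mul, map_mul]; exact (m _).1 hw x hx
      · rw [e, map_one]) ((m _).2 wc) w2 w1 wz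
  refine ⟨μ, (m _).1 a1, a2, a3, a4, ?_⟩
  rwa [← map_mul, show o 160 * o 16 = o 176 by decide +kernel] at a5

end Am

end H3.G2
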