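import Mathlib
import Cfsg.Agent.H3.GC
import Cfsg.Agent.H4.LemT

/-! The centraliser of `⟨a, b⟩` contains a second involution. -/

set_option autoImplicit false
set_option maxRecDepth 100000
set_option linter.all false

namespace H3.G2

open H29 H7 H7.Cay H7.X32 Subgroup Cfsg H4 H4.LT H5

theorem nt {n : ℕ} {x a : ℤ} (x0 : x ≠ 0) (x1 : x ≠ 1) (h : n * (x - a) ^ 2 = 10368 * (x * (x - 1)))
    (d1 : x ∣ 576 * n) (d2 : x - 1 ∣ 576 * n) (b : 1 + a ^ 2 + (a - 1) ^ 2 ≤ 576) (m1 : 32 ∣ n + 1813)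
    (m2 : 9 ∣ n + 8) : False := by
  obtain ⟨k, hk⟩ := IsCoprime.mul_dvd (⟨1, -1, by ring⟩ : IsCoprime x (x - 1)) d1 d2
  have h1 : (x - a) ^ 2 * k = 5971968 := mul_left_cancel₀ (mul_ne_zero x0 (sub_ne_zero.2 x1)) (by
    linear_combination 576 * h - (x - a) ^ 2 * hk)
  obtain ⟨e, he⟩ : ∃ e : ℕ, x - a = e ∨ x - a = -e := ⟨_, Int.natAbs_eq _⟩
  have h2 : (x - a) ^ 2 = (e * e : ℕ) := by rcases he with he | he <;> rw [he] <;> push_cast <;> ring
  have h3 : e * e ∣ 5971968 := Int.natCast_dvd_natCast.1 ⟨k, h2 ▸ h1.symm⟩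
  have h4 : e < 2444 := by have := Nat.le_of_dvd (by decide) h3; nlinarith
  obtain ⟨c, rfl⟩ : ∃ c : ℕ, a = c - 16 := ⟨(a + 16).toNat, by rw [Int.toNat_of_nonneg (by nlinarith)]; ring⟩
  have h5 : c < 34 := by have : (c : ℤ) < 34 := by nlinarith
                         omega
  have key : ∀ e : ℕ, e < 2444 → 5971968 % (e * e) = 0 → ∀ c : ℕ, c < 34 → ∀ s ∈ [(e : ℤ), -e],
      10368 * ((c - 16 + s) * (c - 16 + s - 1)) % (e * e : ℕ) = 0 →
      10368 * ((c - 16 + s) * (c - 16 + s - 1)) / (e * e : ℕ) % 288 ≠ 235 := by decide +kernel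
  have e0 : ((e * e : ℕ) : ℤ) ≠ 0 := fun z => by rw [h2, z] at h1; simp at h1
  have := key e h4 (Nat.mod_eq_zero_of_dvd h3) c h5 (x - (c - 16)) (by rcases he with he | he <;> simp [he])
  rw [add_sub_cancel, ← h, h2, Int.mul_emod_left, Int.mul_ediv_cancel _ e0] at this
  exact this rfl (by omega)

variable {G : Type*} [Group G] [Finite G]

/-- The number of involutions that commute with `s`. -/
noncomputable def F (s : G) : ℕ := Nat.card {w : G // w * w = 1 ∧ w ≠ 1 ∧ w * s = s * w}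

theorem F_conj (g s : G) : F (g * s * g⁻¹) = F s :=
  (Nat.card_congr ((MulAut.conj g).toEquiv.subtypeEquiv fun w => by
    simp only [MulEquiv.toEquiv_eq_coe, EquivLike.coe_coe, MulAut.conj_apply, conj_mul, ne_eq, conj_eq_one_iff,
      mul_left_inj, mul_right_inj])).symm

theorem burn (ι : KG →* G) (T : Subgroup KG) [DecidablePred (· ∈ T)] (f : ℕ → ℕ)
    (hf : ∀ s ∈ T, s ≠ 1 → F (ι s) = f s.val) :
    Nat.card T ∣ F (1 : G) + ∑ c ∈ Finset.range 576, if o c ∈ T ∧ c ≠ 0 then f c else 0 := by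
  classical
  let Ω := {w : G // w * w = 1 ∧ w ≠ 1}
  let act : MulAction T Ω :=
    { smul := fun k w => ⟨ι k * w * (ι k)⁻¹, by rw [conj_mul, w.2.1]; group, fun e => w.2.2 (conj_eq_one_iff.1 e)⟩
      one_smul := fun w => Subtype.ext (by change ι 1 * _ * (ι 1)⁻¹ = _; simp)
      mul_smul := fun a b w => Subtype.ext (by
        change ι (a * b) * _ * (ι (a * b))⁻¹ = ι a * (ι b * _ * (ι b)⁻¹) * (ι a)⁻¹; rw [map_mul]; group) }
  have := Fintype.ofFinite KG
  have := Fintype.ofFinite (MulAction.orbitRel.Quotient T Ω)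
  have := fun g : T => Fintype.ofFinite (MulAction.fixedBy Ω g)
  have k := MulAction.sum_card_fixedBy_eq_card_orbits_mul_card_group T Ω
  have e : ∀ g : T, Fintype.card (MulAction.fixedBy Ω g) = F (ι g) := fun g => by
    rw [← Nat.card_eq_fintype_card]
    exact Nat.card_congr ⟨fun w => ⟨w.1.1, w.1.2.1, w.1.2.2, (mul_inv_eq_iff_eq_mul.1 (congrArg Subtype.val w.2)).symm⟩,
      fun w => ⟨⟨w.1, w.2.1, w.2.2.1⟩, Subtype.ext (mul_inv_eq_iff_eq_mul.2 w.2.2.2.symm)⟩, fun _ => rfl, fun _ => rfl⟩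
  rw [Finset.sum_congr rfl fun g _ => e g, ← Finset.sum_subtype (Finset.univ.filter (· ∈ T)) (by simp)
    fun g => F (ι g), ← Finset.add_sum_erase _ _ (a := 1) (by simp), map_one] at k
  rw [Nat.card_eq_fintype_card, ← Finset.sum_filter, ← Finset.sum_bij
    (s := (Finset.univ.filter (· ∈ T)).erase 1) (f := fun g => F (ι g)) (fun g _ => g.val)
    (fun g hg => by
      simp only [Finset.mem_erase, Finset.mem_filter, Finset.mem_univ, true_and, Finset.mem_range, o_val] at hg ⊢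
      exact ⟨g.lt, hg.2, fun e => hg.1 (KK.ext e)⟩)
    (fun a _ b _ e => KK.ext e)
    (fun c hc => by
      simp only [Finset.mem_erase, Finset.mem_filter, Finset.mem_univ, true_and, Finset.mem_range] at hc ⊢
      exact ⟨o c, ⟨fun e => hc.2.2 ((KK.val_of hc.1).symm.trans (congrArg KK.val e)), hc.2.1⟩, KK.val_of hc.1⟩)
    (fun g hg => hf g (by simpa using (Finset.mem_erase.1 hg).2) (Finset.mem_erase.1 hg).1), k]
  exact Dvd.intro_left _ rfl

/-- A subgroup given by a test on codes. -/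
def sgp (p : ℕ → Bool) (h : p 0 = true ∧ ∀ x : KG, p x.val = true → p x⁻¹.val = true ∧
    ∀ y : KG, p y.val = true → p (x * y).val = true) : Subgroup KG where
  carrier := {x | p x.val = true}
  one_mem' := h.1
  mul_mem' := fun a b => (h.2 _ a).2 _ b
  inv_mem' := fun a => (h.2 _ a).1

instance (p : ℕ → Bool) (h) : DecidablePred (· ∈ sgp p h) := fun x => inferInstanceAs (Decidable (p x.val = true))

def Al : List ℕ := [0, 32, 64, 96, 128, 192, 224, 288, 320]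
def τ (c : ℕ) : ℕ := [0, 1, 2, 0, 0, 3, 1, 1, 3, 2, 2].getD (c / 32) 3
def A0 : Subgroup KG := sgp (· ∈ Al) (by decide +kernel)
def Q0 : Subgroup KG := sgp (· < 32) (by decide +kernel)
def K0 : Subgroup KG := sgp (τ · < 3) (by decide +kernel)
instance : DecidablePred (· ∈ A0) := inferInstanceAs (DecidablePred (· ∈ sgp _ _))
instance : DecidablePred (· ∈ Q0) := inferInstanceAs (DecidablePred (· ∈ sgp _ _))
instance : DecidablePred (· ∈ K0) := inferInstanceAs (DecidablePred (· ∈ sgp _ _))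

theorem τ_mul : ∀ x ∈ K0, ∀ y ∈ K0, τ (x * y).val = (τ x.val + τ y.val) % 3 := by decide +kernel
theorem τ_t : ∀ x : KG, (x ∈ K0 ∨ x * o 160 ∈ K0) ∧ (x ∈ K0 → o 160 * x * o 160 ∈ K0 ∧
    (τ (o 160 * x * o 160).val + τ x.val) % 3 = 0 ∧ (τ x.val ≠ 0 → ∃ c, c * (x * x * (x * x)) * c⁻¹ ∈ A0 ∧
      c * (x * x * (x * x)) * c⁻¹ ≠ 1)) := by decide +kernel
theorem A_spec : ∀ x ∈ A0, x * x * x = 1 ∧ (x ≠ 1 → o 160 * x * o 160 = x⁻¹ ∧
    (∀ u : KG, u * u = 1 → u * x = x * u → u = 1 ∨ u = o 16) ∧ ∀ m ∈ A0, m ≠ 1 →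
      (∀ u, u * x * u⁻¹ = x → u * m * u⁻¹ ≠ m⁻¹) ∧ (m = x ∨ m = x⁻¹ ∨
      (o 32 ∈ [x, x⁻¹, m, m⁻¹, x * m, x * m⁻¹, x⁻¹ * m, x⁻¹ * m⁻¹] ∧
        o 96 ∈ [x, x⁻¹, m, m⁻¹, x * m, x * m⁻¹, x⁻¹ * m, x⁻¹ * m⁻¹]))) := by decide +kernel
theorem A_norm : ∀ k : KG, k * k * k = 1 → k * o 32 * k⁻¹ ∈ A0 → k * o 96 * k⁻¹ ∈ A0 → k ∈ A0 := by decide +kernel

theorem Cx.card_eq {ι : KG →* G} (h : Cx ι) (P : G → Prop) (P' : KG → Prop) (h1 : ∀ w, P w → ∃ k, ι k = w)
    (h2 : ∀ k, P (ι k) ↔ P' k) : Nat.card {w // P w} = Nat.card {k // P' k} :=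
  (Nat.card_congr (Equiv.ofBijective (fun k : {k // P' k} => (⟨ι k, (h2 _).2 k.2⟩ : {w // P w}))
    ⟨fun a b e => Subtype.ext (h.inj (congrArg Subtype.val e)), fun w =>
      let ⟨k, e⟩ := h1 w w.2; ⟨⟨k, (h2 k).1 (e ▸ w.2)⟩, Subtype.ext e⟩⟩)).symm

namespace Am

variable {ι : KG →* G} {y : G} (h : Am ι y)
include h

theorem F_eq {s : KG} (hs : s = o 16 ∨ s * s = o 16) :
    F (ι s) = Nat.card {k : KG // k * k = 1 ∧ k ≠ 1 ∧ k * s = s * k} :=
  h.card_eq _ _ (fun w ⟨_, _, w3⟩ => h.cen w (by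
    rcases hs with rfl | e
    exacts [w3, by rw [← e, map_mul]; exact Commute.mul_right w3 w3])) fun k => by
      simp only [← map_mul, ← map_one ι, ne_eq, h.inj.eq_iff]

theorem mod32 : 32 ∣ F (1 : G) + 1813 := by
  have := burn ι Q0 (fun c => if o c * o c = 1 then 91 else 7) fun s hs s1 => by
    rw [o_val]
    split_ifs with e
    · obtain ⟨g, hg⟩ := h.one (w := ι s) (by rw [← map_mul, e, map_one]) fun e => s1 (h.inj (e.trans (map_one ι).symm))
      rw [← hg, F_conj, h.F_eq (Or.inl rfl), KK.card_sub]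
      decide +kernel
    · obtain ⟨h1, h2⟩ := (by decide +kernel : ∀ s ∈ Q0, s * s ≠ 1 → s * s = o 16 ∧
        KK.cnt XG0.M.n (fun c => decide (o c * o c = 1 ∧ o c ≠ 1 ∧ o c * s = s * o c)) = 7) s hs e
      rw [h.F_eq (Or.inr h1), KK.card_sub, h2]
  rwa [show Nat.card Q0 = 32 by rw [show Nat.card Q0 = _ from KK.card_sub (· ∈ Q0)]; decide +kernel,
    show ∑ c ∈ Finset.range 576, (if o c ∈ Q0 ∧ c ≠ 0 then (if o c * o c = 1 then 91 else 7) else 0) = 1813 by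
      decide +kernel] at this

theorem cube3 {μ s : G} (s2 : s * s = 1) (s1 : s ≠ 1) (c : Commute μ s) (ho : Odd (orderOf μ)) : μ * μ * μ = 1 := by
  obtain ⟨g, rfl⟩ := h.one s2 s1
  obtain ⟨k, hk⟩ := h.cen (g⁻¹ * μ * g⁻¹⁻¹) (by simpa [mul_assoc] using (c.conj g⁻¹).eq)
  have := congrArg ι (cube_of_odd (k := k) (by rwa [← orderOf_injective ι h.inj, hk, H6.orderOf_conj]))
  rwa [map_mul, map_mul, hk, conj_mul, conj_mul, map_one, conj_eq_one_iff] at this

section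
variable (U : ∀ w : G, w * w = 1 → Commute w (ι (o 32)) → Commute w (ι (o 96)) → w = 1 ∨ w = ι (o 16))
include U

theorem nrm {g : G} (h1 : Commute (ι (o 16)) (g * ι (o 32) * g⁻¹)) (h2 : Commute (ι (o 16)) (g * ι (o 96) * g⁻¹)) :
    ∃ k, ι k = g := by
  have := (U (g⁻¹ * ι (o 16) * g⁻¹⁻¹) (by rw [conj_mul, h.z2]; group) (by simpa [mul_assoc] using h1.conj g⁻¹)
    (by simpa [mul_assoc] using h2.conj g⁻¹)).resolve_left fun e => h.z1 (conj_eq_one_iff.1 e)
  exact h.cen g (by nth_rw 1 [← this]; group)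

theorem syl {B : Subgroup G} (hB : IsPGroup 3 B) : ∃ g, ∀ x ∈ B, g * x * g⁻¹ ∈ A0.map ι := by
  have : Fact (Nat.Prime 3) := ⟨by norm_num⟩
  have hA : IsPGroup 3 (A0.map ι) := by
    rintro ⟨_, x, hx, rfl⟩
    exact ⟨1, Subtype.ext (by
      change ι x ^ 3 ^ 1 = 1; rw [pow_one, ← map_pow, pow_three', (A_spec x hx).1, map_one])⟩
  obtain ⟨P, hP⟩ := hA.exists_le_sylow
  obtain ⟨P', hP'⟩ := hB.exists_le_sylow
  obtain ⟨g, rfl⟩ := MulAction.exists_smul_eq G P' P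
  refine ⟨g, fun x hx => ?_⟩
  rcases hP.eq_or_lt with e | e
  · rw [e]; exact ⟨x, hP' hx, rfl⟩
  obtain ⟨k, k1, k2, k3⟩ := H6.exists_mem_normalizer_of_lt (g • P').2 e
  have m : ∀ c ∈ A0, k * ι c * k⁻¹ ∈ A0.map ι := fun c hc => (mem_normalizer_iff.1 k3 _).1 ⟨c, hc, rfl⟩
  have m' : ∀ c ∈ A0, Commute (ι (o 16)) (k * ι c * k⁻¹) := fun c hc =>
    let ⟨d, _, e⟩ := m c hc; e ▸ (h.zc d).symm
  obtain ⟨k, rfl⟩ := h.nrm U (m' _ (by decide +kernel)) (m' _ (by decide +kernel))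
  have m'' : ∀ c ∈ A0, k * c * k⁻¹ ∈ A0 := fun c hc =>
    (mem_map_iff_mem h.inj).1 (by simpa only [map_mul, map_inv] using m c hc)
  obtain ⟨n, hn⟩ := (g • P').2 ⟨_, k1⟩
  refine (k2 ⟨k, A_norm k (cube_of_odd (Odd.of_dvd_nat (Odd.pow (n := n) (show Odd 3 by decide)) ?_))
    (m'' _ (by decide +kernel)) (m'' _ (by decide +kernel)), rfl⟩).elim
  exact orderOf_dvd_of_pow_eq_one (h.inj (by rw [map_pow, map_one]; exact congrArg Subtype.val hn))

theorem uniq {x : KG} (hx : x ∈ A0) (x1 : x ≠ 1) {w : G} (w2 : w * w = 1) (c : Commute w (ι x)) :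
    w = 1 ∨ w = ι (o 16) := by
  by_contra n
  obtain ⟨x3, a⟩ := A_spec x hx
  obtain ⟨a1, a2, -⟩ := a x1
  obtain ⟨μ, m1, m2, m3, m4, m5⟩ := h.mu [x.val] (by simpa [o_val] using a1) (by simpa [o_val] using a2) w2
    (fun e => n (Or.inl e)) (fun e => n (Or.inr e)) (by simpa [o_val] using c)
  replace m1 : Commute μ (ι x) := by simpa [o_val] using m1
  have t : ∀ c, o c * o c = 1 ∧ o c ≠ 1 → Commute μ (ι (o c)) → μ * μ * μ = 1 := fun c k m =>
    h.cube3 (by rw [← map_mul, k.1, map_one]) (fun e => k.2 (h.inj (e.trans (map_one ι).symm))) m m3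
  have m6 := m5.elim (t _ (by decide +kernel)) (t _ (by decide +kernel))
  have : Fact (Nat.Prime 3) := ⟨by norm_num⟩
  have p3 : ∀ g : G, g * g * g = 1 → IsPGroup 3 (zpowers g) := fun g e => IsPGroup.iff_card.2 (by
    rw [Nat.card_zpowers]
    obtain ⟨n, -, e⟩ := (Nat.dvd_prime_pow (this.out)).1 (orderOf_dvd_of_pow_eq_one (x := g) (n := 3 ^ 1)
      (by rw [pow_one, pow_three', e]))
    exact ⟨n, e⟩)
  obtain ⟨g, hg⟩ := h.syl U (B := zpowers (ι x) ⊔ zpowers μ) (IsPGroup.to_sup_of_normal_right'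
    (p3 _ (by rw [← map_mul, ← map_mul, x3, map_one])) (p3 _ m6) (zpowers_le.2 (centralizer_le_normalizer _ (by
      rintro _ ⟨k, rfl⟩; exact (m1.zpow_left k).eq))))
  obtain ⟨x0, b1, b2⟩ := hg _ (mem_sup_left (mem_zpowers _))
  obtain ⟨m0, c1, c2⟩ := hg _ (mem_sup_right (mem_zpowers _))
  have e1 : g * ι (o 16) * g⁻¹ * ι x0 * (g * ι (o 16) * g⁻¹)⁻¹ = ι x0 := by
    rw [b2, conj_mul, ← (h.zc x).eq]; group
  have e2 : g * ι (o 16) * g⁻¹ * ι m0 * (g * ι (o 16) * g⁻¹)⁻¹ = (ι m0)⁻¹ := by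
    rw [c2, conj_inv, conj_inv, ← m4]; group
  have n1 : m0 ≠ 1 := fun e => m2 (conj_eq_one_iff.1 (by rw [← c2, e, map_one]))
  obtain ⟨-, -, a3⟩ := (A_spec x0 b1).2 fun e => x1 (h.inj (by
    rw [map_one]; exact conj_eq_one_iff.1 (by rw [← b2, e, map_one])))
  obtain ⟨a4, a5⟩ := a3 m0 c1 n1
  generalize g * ι (o 16) * g⁻¹ = z0 at e1 e2
  have inv : ι m0 = (ι m0)⁻¹ → False := fun e => a4 1 (by simp) (h.inj (by simpa using e))
  rcases a5 with rfl | rfl | ⟨a6, a7⟩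
  · exact inv (e1.symm.trans e2)
  · exact inv (by rw [← e2, map_inv, ← conj_inv, e1])
  have f1 := (h.zc x0).symm
  have f2 := (h.zc m0).symm
  have f3 : ∀ c ∈ [x0, x0⁻¹, m0, m0⁻¹, x0 * m0, x0 * m0⁻¹, x0⁻¹ * m0, x0⁻¹ * m0⁻¹],
      Commute (ι (o 16)) (z0 * ι c * z0⁻¹) := by
    simp only [List.forall_mem_cons, List.not_mem_nil, false_imp_iff, implies_true, and_true, map_mul, map_inv,
      ← conj_mul, ← conj_inv, e1, e2, inv_inv]
    exact ⟨f1, f1.inv_right, f2.inv_right, f2, f1.mul_right f2.inv_right, f1.mul_right f2,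
      f1.inv_right.mul_right f2.inv_right, f1.inv_right.mul_right f2⟩
  obtain ⟨u, rfl⟩ := h.nrm U (f3 _ a6) (f3 _ a7)
  exact a4 u (h.inj (by simpa using e1)) (h.inj (by simpa using e2))

theorem mod9 : 9 ∣ F (1 : G) + 8 := by
  have := burn ι A0 (fun _ => 1) fun s hs s1 => Nat.card_eq_one_iff_unique.2
    ⟨⟨fun a b => Subtype.ext (((h.uniq U hs s1 a.2.1 a.2.2.2).resolve_left a.2.2.1).trans
      ((h.uniq U hs s1 b.2.1 b.2.2.2).resolve_left b.2.2.1).symm)⟩, ⟨_, h.z2, h.z1, (h.zc s).symm⟩⟩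
  rwa [show Nat.card A0 = 9 by rw [show Nat.card A0 = _ from KK.card_sub (· ∈ A0)]; decide +kernel,
    show ∑ c ∈ Finset.range 576, (if o c ∈ A0 ∧ c ≠ 0 then 1 else 0) = 8 by decide +kernel] at this

theorem not_U : False := by
  classical
  have := Fintype.ofFinite G
  obtain ⟨ω, ω1⟩ : ∃ ω : ℂ, IsPrimitiveRoot ω 3 := ⟨_, Complex.isPrimitiveRoot_exp 3 (by decide)⟩
  let lam : G → ℂ := fun g => ω ^ τ (Function.invFun ι g).val
  have l1 : ∀ k, lam (ι k) = ω ^ τ k.val := fun k => by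
    simp only [lam, Function.leftInverse_invFun h.inj k]
  have t2 : ι (o 160) * ι (o 160) = 1 := by rw [← map_mul, ← map_one ι]; exact congrArg ι (by decide +kernel)
  have lin : Lin (K0.map ι) lam := ⟨by rw [← map_one ι, l1]; exact pow_zero ω, by
    rintro _ ⟨a, ha, rfl⟩ _ ⟨b, hb, rfl⟩
    rw [← map_mul, l1, l1, l1, τ_mul a ha b hb, ← pow_eq_pow_mod _ ω1.pow_eq_one, pow_add]⟩
  have l3 : ∀ g, lam g ^ 3 = 1 := fun g => by rw [← pow_mul, mul_comm, pow_mul, ω1.pow_eq_one, one_pow]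
  have T : THyp (K0.map ι) (ι (o 160)) lam := ⟨t2, ?_, fun e => ?_, lin, ?_, ⟨_, mem_map_of_mem ι (x := o 32) (by decide +kernel), ?_⟩,
    ?_, fun a ha c hc a2 e => ?_⟩
  rotate_left
  · rintro _ ⟨a, ha, rfl⟩
    exact ⟨_, ((τ_t a).2 ha).1, by simp⟩
  · exact absurd ((mem_map_iff_mem h.inj).1 e) (by decide +kernel)
  · rintro _ ⟨a, ha, rfl⟩
    rw [← map_mul, ← map_mul, l1, l1]
    exact eq_inv_of_mul_eq_one_left (by
      rw [← pow_add, pow_eq_pow_mod _ ω1.pow_eq_one, ((τ_t a).2 ha).2.1, pow_zero])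
  · rw [l1, show τ (o 32).val = 1 by decide +kernel, pow_one]
    exact ω1.pow_ne_one_of_pos_of_lt (by decide) (by decide)
  · rintro _ ⟨a, ha, rfl⟩ - g ⟨b, hb, e⟩ n
    rw [← e, l1] at n
    obtain ⟨c, c1, c2⟩ := ((τ_t b).2 hb).2.2 fun e => n (by rw [e, pow_zero])
    have k : Commute (g⁻¹ * ι (o 16) * g⁻¹⁻¹) (ι b) := by rw [e]; simpa using (h.zc a).symm.conj g⁻¹
    have := (h.uniq U c1 c2 (w := ι c * (g⁻¹ * ι (o 16) * g⁻¹⁻¹) * (ι c)⁻¹) (by
      rw [conj_mul, conj_mul, h.z2]; group) (by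
      simp only [map_mul, map_inv]
      exact ((k.mul_right k).mul_right (k.mul_right k)).conj _)).resolve_left fun e =>
        h.z1 (conj_eq_one_iff.1 (conj_eq_one_iff.1 e))
    rw [mul_inv_eq_iff_eq_mul, ← (h.zc c).eq, mul_right_inj] at this
    obtain ⟨u, rfl⟩ := h.cen g (by nth_rw 1 [← this]; group)
    exact (τ_t u).1.imp (mem_map_of_mem ι) fun e => by rw [← map_mul]; exact mem_map_of_mem ι e
  · have h1 := lin.conj_mem ha hc
    rw [inv_eq_of_mul_eq_one_right a2, e, lin.inv hc] at h1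
    have := l3 c
    rw [pow_three] at this
    nth_rw 3 [← h1] at this
    rwa [mul_inv_cancel₀ (lin.ne_zero hc), mul_one] at this
  have hcl : ∀ s, s ∈ cl (ι (o 16)) ↔ s * s = 1 ∧ s ≠ 1 := fun s => by
    rw [mem_cl, isConj_iff]
    exact ⟨by rintro ⟨g, rfl⟩; exact ⟨by rw [conj_mul, h.z2]; group, fun e => h.z1 (conj_eq_one_iff.1 e)⟩,
      fun e => h.one e.1 e.2⟩
  have n1 : (cl (ι (o 16))).card = F (1 : G) := by
    rw [← Nat.card_eq_finsetCard]
    exact Nat.card_congr (Equiv.subtypeEquivRight fun s => by simp [hcl])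
  have n2 : Nat.card G = 576 * F (1 : G) := by
    rw [← n1, card_cl, ← card_mul_index (centralizer {ι (o 16)}), ← KG.card, ← Nat.card_congr
      (Equiv.subtypeUnivEquiv (p := fun _ : KG => True) fun _ => trivial)]
    congr 1
    exact h.card_eq _ _ (fun w hw => h.cen w (mem_centralizer_singleton_iff.1 hw)) fun k =>
      iff_true_intro (mem_centralizer_singleton_iff.2 (h.zc k))
  have n3 : (K0.map ι).index = 2 * F (1 : G) := by
    have := card_mul_index (K0.map ι)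
    rw [card_map_of_injective h.inj, show Nat.card K0 = 288 by
      rw [show Nat.card K0 = _ from KK.card_sub (· ∈ K0)]; decide +kernel, n2] at this
    omega
  have n4 : {a | a * a = 1 ∧ a * ι (o 160) ∈ K0.map ι}.ncard = 72 := by
    rw [← Nat.card_coe_set_eq]
    refine (h.card_eq _ (fun k => k * k = 1 ∧ k * o 160 ∈ K0) (fun w ⟨_, k, _, e⟩ => ⟨k * o 160, by
      rw [map_mul, e, mul_assoc, t2, mul_one]⟩) fun k => by
      simp only [Set.mem_setOf_eq, ← map_mul, ← map_one ι, h.inj.eq_iff, mem_map_iff_mem h.inj]).trans ?_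
    rw [KK.card_sub]; decide +kernel
  obtain ⟨α, β, d⟩ := exists_dec T.gen T.inner_self T.inner_one
  obtain ⟨x, hx⟩ := d.sa.exists_int_inv (one_mul 1)
  obtain ⟨a, ha⟩ := d.sa.exists_int_inv h.z2
  obtain ⟨b, hb⟩ := d.sb.exists_int_inv h.z2
  have m32 := h.mod32
  obtain ⟨x0, x1, f⟩ := d.formula T.apply_one (x := -x) (a := -a) (b := b) (c := 10368) (by simp [hx]) (by simp [ha]) hb
    n1 (by omega) (by rw [T.sum_cl hcl, n3, n4]; push_cast; ring)
  have g1 := d.apply (ι (o 16))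
  rw [ind_eq_zero (C := K0.map ι) (g := ι (o 16)) fun g k => by
    have := lin.mul _ k _ k
    rw [show g⁻¹ * ι (o 16) * g * (g⁻¹ * ι (o 16) * g) = g⁻¹ * (ι (o 16) * ι (o 16)) * g by group, h.z2, mul_one,
      inv_mul_cancel, lin.one] at this
    have e := l3 (g⁻¹ * ι (o 16) * g)
    rw [pow_three, ← this, mul_one] at e
    rw [e, sub_self], ha, hb] at g1
  have g2 : b = -a - 1 := by have : (0 : ℤ) = 1 + a + b := by exact_mod_cast g1
                             omega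
  have g3 := d.apply 1
  rw [T.apply_one, hx] at g3
  have dv : ∀ (X : G → ℂ) (m : ℤ), SIrr X → X 1 = m → m ∣ 576 * F (1 : G) := fun X m hX e => by
    have : (576 * F (1 : G) : ℤ) = Nat.card G := by rw [n2]; push_cast; ring
    rw [this]
    rcases hX.irr_or with k | k <;> obtain ⟨c, -, hc⟩ := k.exists_nat_apply_one
    · rw [show m = c by exact_mod_cast e.symm.trans hc]; exact Int.natCast_dvd_natCast.2 (k.degree_dvd_card hc)
    · rw [← neg_dvd, show -m = c by have := hc; rw [Pi.neg_apply, e] at this; exact_mod_cast this]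
      exact Int.natCast_dvd_natCast.2 (k.degree_dvd_card hc)
  have bs := sq_le_card ![fun _ => 1, α, β] (fun i => by fin_cases i; exacts [sirr_one, d.sa, d.sb]) (fun i j n => by
    fin_cases i <;> fin_cases j <;> first | exact (n rfl).elim | exact d.a1 | exact d.b1 | exact d.ab |
      exact classInner_comm_of_eq_zero d.a1 | exact classInner_comm_of_eq_zero d.b1 |
      exact classInner_comm_of_eq_zero d.ab) (ι (o 16))
  have n5 : Nat.card (centralizer {ι (o 16)}) = 576 := by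
    have := card_mul_index (centralizer {ι (o 16)})
    rw [← card_cl, n1, n2] at this
    exact Nat.eq_of_mul_eq_mul_right (by omega) this
  simp only [Fin.sum_univ_three, Matrix.cons_val_zero, Matrix.cons_val_one, Matrix.cons_val, ha, hb, n5,
    Complex.norm_intCast, sq_abs, norm_one, one_pow] at bs
  refine nt (a := -a) x0 x1 (by rw [← f, g2]; ring) (neg_dvd.2 (dv _ _ d.sa hx)) (dv _ _ d.sb ?_) ?_ m32 (h.mod9 U)
  · push_cast; linear_combination -g3
  · have : 1 + a ^ 2 + b ^ 2 ≤ 576 := by exact_mod_cast bs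
    rw [g2] at this; linarith

end

end Am

end H3.G2
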