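import Mathlib
import Cfsg.Agent.H3.GE
import Cfsg.Agent.H3.GM
import Cfsg.Agent.H3.GD1
import Cfsg.Agent.H3.GD2
import Cfsg.Agent.H3.GD3
import Cfsg.Agent.H3.GD4
import Cfsg.Agent.H26.B71C

/-! Janko's characterisation of `G₂(3)`. -/

set_option autoImplicit false
set_option maxRecDepth 100000
set_option linter.all false

namespace H3.G2

open H29 H7 H7.Cay H7.X32 Subgroup

variable {G : Type*} [Group G] [Finite G]

theorem se_top {H : Subgroup G} {z u v : G} (hz : z ∈ H) (h2 : z * z = 1) (hC : ∀ g, g * z = z * g → g ∈ H)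
    (hc : ∀ w ∈ H, w * w = 1 → w ≠ 1 → w * z = z * w → ∃ h ∈ H, h * z * h⁻¹ = w)
    (hu : u ∈ H) (hv : v ∈ H) (hu2 : u * u = 1) (hv2 : v * v = 1) (h3 : (u * v) ^ 2 ≠ 1)
    (h4 : (u * v) ^ 4 = 1) : H = ⊤ := by
  by_contra hH
  have key : ∀ g t : G, t ∈ H → t * t = 1 → t ≠ 1 → g * t * g⁻¹ ∈ H → g ∈ H := by
    intro g t ht t2 t1 hg
    obtain ⟨h, hh, rfl⟩ := one_class hz h2 hc ht t2 t1
    obtain ⟨k, hk, e⟩ := one_class hz h2 hc hg (by rw [conj_mul, t2]; group)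
      (fun e => t1 (conj_eq_one_iff.1 e))
    have := hC (k⁻¹ * g * h) (by
      calc _ = k⁻¹ * (g * (h * z * h⁻¹) * g⁻¹) * g * h := by group
        _ = _ := by rw [← e]; group)
    have h5 := mul_mem (mul_mem hk this) (inv_mem hh)
    simpa [mul_assoc] using h5
  have u1 : u ≠ 1 := by rintro rfl; exact h3 (by rw [one_mul, sq, hv2])
  have v1 : v ≠ 1 := by rintro rfl; exact h3 (by rw [mul_one, sq, hu2])
  have ui := inv_eq_of_mul_eq_one_right hu2
  have vi := inv_eq_of_mul_eq_one_right hv2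
  have w2 : (u * v) ^ 2 * (u * v) ^ 2 = 1 := by rw [← pow_add]; exact h4
  have hse : Cfsg.IsStronglyEmbedded H := by
    refine H6.isStronglyEmbedded_iff.2 ⟨hH, ?_, fun g t ht h => key g t ht
      (by rw [← sq, ← h, pow_orderOf_eq_one]) (by rintro rfl; simp at h)⟩
    have : Fact (Nat.Prime 2) := ⟨Nat.prime_two⟩
    have h5 := orderOf_dvd_natCard (⟨u, hu⟩ : H)
    rw [← Subgroup.orderOf_coe, orderOf_eq_prime (by rw [sq]; exact hu2) u1] at h5
    exact even_iff_two_dvd.2 h5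
  have hr : H8.Suz.Rank2 G := by
    refine ⟨u, (u * v) ^ 2, u1, h3, fun e => u1 ?_, hu2, w2, ?_⟩
    · have : v * u * v = 1 := mul_left_cancel (a := u) (by rw [mul_one]; nth_rewrite 3 [e]; rw [sq]; group)
      calc u = v⁻¹ * (v * u * v) * v⁻¹ := by group
        _ = 1 := by rw [this, vi, mul_one, hv2]
    · have h5 : (u * v) ^ 2 = ((u * v) ^ 2)⁻¹ := eq_inv_of_mul_eq_one_left w2
      calc u * (u * v) ^ 2 = (u * u) * (v * u * v) := by rw [sq]; group
        _ = (v * u * v * u) * u := by rw [hu2, mul_assoc _ u u, hu2, one_mul, mul_one]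
        _ = _ := by rw [h5, sq, mul_inv_rev, mul_inv_rev, ui, vi]; group
  obtain ⟨Q, hQ⟩ := H26.BR.ls_top hse hr
  have h5 := hQ.comm u trivial ⟨u1, hu2⟩ (H26.BR.fix_one.2 hu) v
    (hQ.inv_mem v trivial ⟨v1, hv2⟩ (H26.BR.fix_one.2 hv))
  rw [ui, vi, show u * v * u * v = (u * v) ^ 2 by rw [sq]; group] at h5
  refine hH (eq_top_iff.2 fun y _ => ?_)
  have h6 := h5.2 y⁻¹ trivial
  rw [← mul_smul, ← inv_smul_eq_iff, inv_inv, ← mul_smul] at h6
  refine key y _ (pow_mem (mul_mem hu hv) 2) w2 h3 ?_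
  rw [mul_assoc]
  exact H26.BR.fix_one.1 h6

omit [Finite G] in
theorem Pr.prod {H : Type*} [Group H] {φ : ℕ → G} {ψ : ℕ → H} {σ : G} {ρ : H} {c d k : ℕ} (h : Pr φ σ c d k)
    (h' : Pr ψ ρ c d k) : Pr (fun n => (φ n, ψ n)) (σ, ρ) c d k := by
  refine ⟨⟨h.snd.pos, Prod.ext h.snd.zero h'.snd.zero, h.snd.mul_lt, h.snd.inv_lt, fun a ha b hb =>
    Prod.ext (h.snd.map_mul a ha b hb) (h'.snd.map_mul a ha b hb), fun a ha =>
    Prod.ext (h.snd.map_inv a ha) (h'.snd.map_inv a ha)⟩, Prod.ext h.sq h'.sq,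
    fun y hy => Prod.ext (h.hY y hy) (h'.hY y hy), fun R hR => ?_⟩
  have : ∀ R, evR (fun n => (φ n, ψ n)) (fun _ => (σ, ρ)) R = (evR φ (fun _ => σ) R, evR ψ (fun _ => ρ) R) :=
    fun R => by
      induction R with
      | nil => rfl
      | cons a R ih => rw [evR, ih]; rfl
  rw [this, h.hB R hR, h'.hB R hR]; rfl

namespace Am

variable {ι : KG →* G} {y : G} (h : Am ι y)
include h

theorem top {H : Subgroup G} (h1 : ∀ k, ι k ∈ H) (h2 : y ∈ H) : H = ⊤ := by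
  have e : ∀ {a b : KG}, a = b → ι a = ι b := congrArg ι
  refine se_top (h1 _) h.z2 (fun g hg => let ⟨k, e⟩ := h.cen g hg; e ▸ h1 k) (h.cls h1 h2) (h1 (o 5)) (h1 (o 6))
    ?_ ?_ (fun k => ?_) ?_
  · rw [← map_mul, ← map_one ι]; exact e (by decide +kernel)
  · rw [← map_mul, ← map_one ι]; exact e (by decide +kernel)
  · rw [← map_mul, pow_two, ← map_mul, ← map_one ι] at k; exact absurd (h.inj k) (by decide +kernel)
  · rw [← map_mul, show 4 = 2 * 2 from rfl, pow_mul, pow_two, pow_two, ← map_mul, ← map_mul, ← map_one ι]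
    exact e (by decide +kernel)

theorem pr {c d k : ℕ} {w : G} (e : y * ι (o c) * y * ι (o k) * (y * ι (o d) * y) = w) (w2 : w * w = 1)
    (wa : Commute w (ι (o 32))) (wb : Commute w (ι (o 96))) : Pr (fun n => ι (o n)) y c d k := by
  have k1 : ∀ a b : G, Commute w a → a * b = 1 → w * a * w * b = 1 := fun a b m n => by
    rw [m.eq, mul_assoc a, w2, mul_one, n]
  refine ⟨KK.sound_of_hom ι, h.yi, h.hY, ?_⟩
  simp only [BB, List.forall_mem_cons, List.not_mem_nil, false_imp_iff, implies_true, and_true, evR, mul_one]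
  refine ⟨(pow_three _).symm.trans h.cube, ?_, ?_⟩
  · rw [← k1 _ (ι (o 64)) wa (by rw [← map_mul, ← map_one ι]; exact congrArg ι (by decide +kernel)), ← e]
    simp only [mul_assoc]
  · rw [← k1 _ (ι (o 128)) wb (by rw [← map_mul, ← map_one ι]; exact congrArg ι (by decide +kernel)), ← e]
    simp only [mul_assoc]

theorem exists_pr {c d t q q' p : ℕ} {L : List ℕ}
    (k1 : ((t < 576 ∧ q < 576 ∧ G2.al q = t) ∧ o c * o 15 * o d = o q) ∧
      ((p < 576 ∧ q' < 576 ∧ G2.al q' = p) ∧ o d * o 15 * o c = o q') ∧ o d = (o c)⁻¹)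
    (k2 : ∀ m : KG, m * m * m = 1 → m ≠ 1 → o p * m * (o p)⁻¹ = m⁻¹ → (o p * m).val ∈ L ∨ (o p * m⁻¹).val ∈ L)
    {μ : G} (m1 : ∀ x ∈ [32, 96], Commute μ (ι (o x))) (m2 : μ ≠ 1) (m3 : Odd (orderOf μ))
    (m4 : ι (o 16) * μ * (ι (o 16))⁻¹ = μ⁻¹) (m5 : Commute μ (ι (o t))) :
    ∃ k ∈ L, Pr (fun n => ι (o n)) y c d k := by
  have e1 := h.gt k1.1
  have e2 := h.gt k1.2.1
  have e3 : y * ι (o d) * y = (y * ι (o c) * y)⁻¹ := by
    rw [k1.2.2, map_inv]; simp only [mul_inv_rev, h.yi, mul_assoc]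
  have P := fun k w => h.pr (c := c) (d := d) (k := k) (w := w)
  rw [e3] at e1 e2 P
  generalize y * ι (o c) * y = g at e1 e2 P
  obtain ⟨m, hm⟩ := h.cen (g⁻¹ * μ * g⁻¹⁻¹) (by rw [← e1] at m5; simpa [mul_assoc] using (m5.conj g⁻¹).eq)
  have zi := inv_eq_of_mul_eq_one_right h.z2
  have q : ∀ (m : KG) (μ : G), ι m = g⁻¹ * μ * g⁻¹⁻¹ → (∀ x ∈ [32, 96], Commute μ (ι (o x))) →
      ι (o 16) * μ * (ι (o 16))⁻¹ = μ⁻¹ → Pr (fun n => ι (o n)) y c d (o p * m).val := fun m μ hm m1 m4 =>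
    P _ (ι (o 16) * μ) (by rw [o_val, map_mul, hm, ← e2]; group) (by
      rw [← mul_assoc]; nth_rw 2 [← zi]; rw [m4, inv_mul_cancel])
      ((h.zc _).symm.mul_left (m1 _ (by simp))) ((h.zc _).symm.mul_left (m1 _ (by simp)))
  rcases k2 m (cube_of_odd (by rwa [← orderOf_injective ι h.inj, hm, H6.orderOf_conj]))
    (fun e => m2 (conj_eq_one_iff.1 (by rw [← hm, e, map_one]))) (h.inj (by
      rw [map_mul, map_mul, map_inv, map_inv, hm, ← e2, conj_inv, ← m4]; group)) with k | k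
  · exact ⟨_, k, q _ _ hm m1 m4⟩
  · exact ⟨_, k, q _ μ⁻¹ (by rw [map_inv, hm, conj_inv]) (fun x hx => (m1 x hx).inv_left)
      (by rw [← conj_inv, m4])⟩

theorem iso_of {c d k : ℕ} (p : Pr (fun n => ι (o n)) y c d k) (p0 : Pr φ0 (σ0 14) c d k)
    (b : XG0.M.Inj (fun n => (φ0 n, ι (o n))) → Bd ((p0.prod p).snd.sub ⊔
      closure ((fun _ => (σ0 14, y)) '' Set.Iio 1)) (7371 * 576)) : Nonempty (G ≃* ΓG) := by
  obtain ⟨b1, b2⟩ := b fun a ha b hb e => by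
    have := congrArg KK.val (h.inj (congrArg Prod.snd e))
    rwa [KK.val_of ha, KK.val_of hb] at this
  have m1 : ∀ n < 576, (φ0 n, ι (o n)) ∈ (p0.prod p).snd.sub ⊔ closure ((fun _ => (σ0 14, y)) '' Set.Iio 1) :=
    fun n hn => mem_sup_left ⟨n, hn, rfl⟩
  have m2 : (σ0 14, y) ∈ (p0.prod p).snd.sub ⊔ closure ((fun _ => (σ0 14, y)) '' Set.Iio 1) :=
    mem_sup_right (subset_closure ⟨0, Nat.one_pos, rfl⟩)
  generalize (p0.prod p).snd.sub ⊔ closure ((fun _ => (σ0 14, y)) '' Set.Iio 1) = D at b1 b2 m1 m2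
  let f := (MonoidHom.fst GG G).comp D.subtype
  let f' := (MonoidHom.snd GG G).comp D.subtype
  have c1 : ΓG ≤ f.range := le_sub.trans (sup_le (by rintro _ ⟨n, hn, rfl⟩; exact ⟨⟨_, m1 n hn⟩, rfl⟩)
    (zpowers_le.2 ⟨⟨_, m2⟩, rfl⟩))
  have c2 : f'.range = ⊤ := h.top (fun k => ⟨⟨_, m1 _ k.lt⟩, congrArg ι (o_val k)⟩) ⟨⟨_, m2⟩, rfl⟩
  have : Finite f.range := Finite.of_surjective _ f.rangeRestrict_surjective
  have c3 := Nat.card_le_card_of_surjective _ f.rangeRestrict_surjective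
  have c4 : ΓG = f.range := eq_of_le_of_card_ge c1 (by rw [card_ΓG]; omega)
  have c5 := f.rangeRestrict_surjective.bijective_of_nat_card_le (by rw [← c4, card_ΓG]; exact b2)
  let e := (MulEquiv.ofBijective _ c5).trans (MulEquiv.subgroupCongr c4.symm)
  have := simple_ΓG
  have : IsSimpleGroup D := e.isSimpleGroup
  refine ⟨(MulEquiv.ofBijective f' ⟨(MonoidHom.ker_eq_bot_iff _).1 ((MonoidHom.normal_ker f').eq_bot_or_eq_top.resolve_right
    fun t => h.z1 ?_), MonoidHom.range_eq_top.1 c2⟩).symm.trans e⟩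
  exact (t ▸ mem_top _ : (⟨_, m1 16 (by decide)⟩ : D) ∈ f'.ker)

theorem iso : Nonempty (G ≃* ΓG) := by
  obtain ⟨w, w2, wa, wb, w1, wz⟩ : ∃ w : G, w * w = 1 ∧ Commute w (ι (o 32)) ∧ Commute w (ι (o 96)) ∧ w ≠ 1 ∧
      w ≠ ι (o 16) := by
    by_contra n
    exact h.not_U fun w a b c => by_contra fun k => n ⟨w, a, b, c, fun e => k (Or.inl e), fun e => k (Or.inr e)⟩
  obtain ⟨μ, m1, m2, m3, m4, m5⟩ := h.mu [32, 96] (by decide +kernel) (by decide +kernel) w2 w1 wz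
    (by simpa using ⟨wa, wb⟩)
  have n : ∀ {c d k}, ∀ p : Pr (fun n => ι (o n)) y c d k, y ∉ p.snd.sub := fun p ⟨_, _, e⟩ => h.y_nmem _ e
  rcases m5 with m5 | m5
  · obtain ⟨k, hk, p⟩ := h.exists_pr (c := 289) (d := 242) (q := 22) (q' := 25) (p := 191)
      (L := [365, 270, 419, 403, 564, 561, 464, 474, 480, 484, 498, 502]) (by decide +kernel) (by decide +kernel)
      m1 m2 m3 m4 m5
    rcases List.mem_cons.1 hk with rfl | hk
    exacts [h.iso_of p prA (x365bd (prA.prod p)), (n p (col0 k hk p)).elim]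
  · obtain ⟨k, hk, p⟩ := h.exists_pr (c := 224) (d := 288) (q := 9) (q' := 6) (p := 175)
      (L := [411, 268, 286, 387, 448, 458, 466, 472, 482, 486, 496, 500]) (by decide +kernel) (by decide +kernel)
      m1 m2 m3 m4 m5
    rcases List.mem_cons.1 hk with rfl | hk
    exacts [h.iso_of p prB (x411bd (prB.prod p)), (n p (col1 k hk p)).elim]

end Am

end H3.G2
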