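import Mathlib
import Cfsg.Agent.H3.Z15D
import Cfsg.Agent.H3.Z15F
import Cfsg.Agent.S0288
import Cfsg.Agent.S0294
import Cfsg.Agent.S0297

/-! A presentation of an orthogonal group in dimension eight over the field with two elements. -/

set_option autoImplicit false
set_option maxRecDepth 100000
set_option Elab.async false
set_option linter.all false

namespace H3.Z15

open H29 H19 H7 H7.Cay H3.Z0 Matrix

noncomputable abbrev P : PM := ⟨2, 8, 4, 1, 1, 32, (nat_lit 0xf0000000f0000000f0000000f0000000f0000000f0000000f0000000f),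
  (nat_lit 0xffffffff),
  (nat_lit 0x7777777777777777777777777777777777777777777777777777777777777777),
  (nat_lit 0x1000000001000000001000000001000000001000000001000000001000000001)⟩
theorem Pok : P.OK := PM.ok_of_chk (by decide +kernel)
noncomputable def lcl : List ℕ := [(nat_lit 0x1000000001000000001000000001000000001000000011000000101000110001),
  (nat_lit 0x1000100001000000001000000001000000001000000011000000101001111001),
  (nat_lit 0x1000000001001000001000000001000000001000000001000000001010001001),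
  (nat_lit 0x1000000001000000001000000001000000001000000111000010101000110001),
  (nat_lit 0x1000000001011000001000000001000000001000000111001011001010101001),
  (nat_lit 0x1001100001000000001000000001000000001000000001000101101001011001),
  (nat_lit 0x1000100001000000001010000001000000001000000001000000101001011101),
  (nat_lit 0x1000000001011000001110000001000000001000000111001010111010110101),
  (nat_lit 0x1000000001000000001000000001000000001000000001000000101000010001),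
  (nat_lit 0x1000000001110000001000000001000000001000101101001011001000000001),
  (nat_lit 0x1011000001000000001000000001000000001000011101000111001000000001),
  (nat_lit 0x1000100001001000001010000001100000001000000001000000001011001111),
  (nat_lit 0x1000000001000000000100000010000000001000000000100000010000000001),
  (nat_lit 0x1111000010110000001000000001000000001000011101000111001000000001),
  (nat_lit 0x111000011000000001000000001000000001000111101001111001000000001),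
  (nat_lit 0x1000000011011100000011000001000000001000101101001001111000101101),
  (nat_lit 0x1000000011110000101111000001000000001000001010001011001010011101),
  (nat_lit 0x1000000001000000001010000001100000010000000101000001010100110111),
  (nat_lit 0x1000000001000000001110000000100000011000000011000011101100000110)]
noncomputable def ltl : List ℕ := [(nat_lit 0x1000000001000000001000010001000100001110000001000000001000000001),
  (nat_lit 0x1000000001000001001000010001000110001111000001000000001000000001),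
  (nat_lit 0x1000000101000000001000000001000001001001000001000000001000000001),
  (nat_lit 0x1000000001000000001000110001010100001110000001000000001000000001),
  (nat_lit 0x1000001101000000001000110101011001001101000001000000001000000001),
  (nat_lit 0x1000000001000011001000001001001110001011000001000000001000000001),
  (nat_lit 0x1000000001000001001000000001000110101011000001010000001000000001),
  (nat_lit 0x1000001101000000001000110111010101101110000001110000001000000001),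
  (nat_lit 0x1000000001000000001000000001000100001010000001000000001000000001),
  (nat_lit 0x1000011001000000011001100101011000001000000001000000001000000001),
  (nat_lit 0x1000000001000110101001101001011000001000000001000000001000000001),
  (nat_lit 0x1000000101000001001000000001000011111001000001010000001100000001),
  (nat_lit 0x1000000001000000000100000010000000001000000000100000010000000001),
  (nat_lit 0x1100000010000110111001101101011000001000000001000000001000000001),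
  (nat_lit 0x100011011000110101001101001011000001000000001000000001000000001),
  (nat_lit 0x1100011001000000000001010101011001101011011001110000001000000001),
  (nat_lit 0x1110001101000000011001100111001100101101001000010000001000000001),
  (nat_lit 0x1000000001000000001000010001111100110000000001110000000100000011),
  (nat_lit 0x1000000001000000001000100010101000111110000001010000001100000010)]
noncomputable def Bc : ℕ := (nat_lit 0x1000000011000000000000000000000000000000001000000001000000001000)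
noncomputable def lc : ℕ → ℕ := nth P.one lcl
abbrev I : Type := (Fin 3 ⊕ Fin 3) ⊕ Fin 2
def ε : I ≃ Fin P.n := ((finSumFinEquiv.sumCongr (Equiv.refl (Fin 2))).trans finSumFinEquiv : (Fin 3 ⊕ Fin 3) ⊕ Fin 2 ≃ Fin (3 + 3 + 2))
abbrev q : (I → ZMod 2) → ZMod 2 := Cfsg.quadFormMinus 3 (ZMod 2) 1 1
noncomputable def σ (c : ℕ) : GL I (ZMod 2) := P.gl ε (lc c)
theorem hl : (∀ c, P.Rep ε (σ c) (lc c)) ∧ IvOK σ (ivOf ivl) :=
  Pok.letters (w := 1) hii (by decide) (allN_true.1 (by decide +kernel))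
theorem hR : ∀ r ∈ R, ev σ r = 1 := (Pok.codes ε 1).rels hl.1 hl.2 (by decide +kernel)
theorem hX : ∀ r ∈ EX, ev σ r = 1 := (Pok.codes ε 1).rels hl.1 hl.2 (by decide +kernel)

noncomputable def dd (c : ℕ) : Matrix I I (ZMod 2) := P.dec ε c
noncomputable def de (c : ℕ) (i j : I) : ZMod 2 := P.dec ε c i j
abbrev Bm : Matrix I I (ZMod 2) := fromBlocks (fromBlocks 0 1 0 0) 0 0 !![1, 1; 0, 1]
def Be (i j : I) : ZMod 2 := Bm i j

theorem hq (v : I → ZMod 2) : q v = v ⬝ᵥ dd Bc *ᵥ v := by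
  have : dd Bc = Bm := Matrix.ext (by decide +kernel : ∀ i j, de Bc i j = Be i j)
  rw [this]
  simp [Cfsg.quadFormMinus, dotProduct, Fintype.sum_sum_type, mulVec, fromBlocks, one_apply, -ZMod.pow_card]
  ring

noncomputable def Ac (c : ℕ) : ℕ := P.mul (P.mul (nth 0 ltl c) Bc) (lc c)

theorem chkI : ∀ c ∈ LL, P.chkRed 1 (nth 0 ltl c) = true ∧ P.chkRed 1 Bc = true ∧
    (∀ i j, de (nth 0 ltl c) i j = de (lc c) j i) ∧
    (∀ i j, de (Ac c) i j + de (Ac c) j i = de Bc i j + de Bc j i) ∧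
    ∀ i, de (Ac c) i i = de Bc i i := by decide +kernel

theorem le_iso : gen σ LL ≤ Cfsg.isometryGroup (ZMod 2) q := gen_le.2 fun c hc => by
  obtain ⟨a1, a2, a3, a4, a5⟩ := chkI c hc
  have b1 := Pok.red_of_chk a1
  have b2 := Pok.red_of_chk a2
  have e : (σ c).valᵀ * dd Bc * (σ c).val = dd (Ac c) := by
    rw [dd, dd, Ac, Pok.dec_mul (Pok.red_mul b1 b2) (hl.1 c).1, Pok.dec_mul b1 b2, (hl.1 c).2,
      show P.dec ε (nth 0 ltl c) = (P.dec ε (lc c))ᵀ from Matrix.ext a3]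
  exact mem_isometry hq (by rw [e]; exact a4) (by rw [e]; exact a5)

def w0 : List (List ℕ) := [[], [18], [17], [12, 18], [12, 17], [7, 12, 17], [18, 12, 17], [18, 7, 12, 15, 12, 17], [7, 18, 12, 15, 12, 17], [4, 18, 15, 12, 15, 12, 17], [18, 7, 12, 15, 7, 12, 17], [12, 16, 12, 17], [2, 17, 12, 15, 12, 17], [12, 16, 12, 18], [17, 12, 16, 7, 12, 17], [12, 18, 16, 12, 17], [17, 12, 16, 12, 18], [12, 16, 7, 12, 17], [17, 12, 16, 12, 17], [16, 12, 17], [18, 12, 16, 12, 18], [7, 12, 15, 12, 17], [17, 7, 12, 15, 7, 12, 17], [16, 12, 18], [7, 12, 15, 12, 18], [18, 16, 12, 17], [18, 12, 16, 12, 17], [16, 7, 12, 17], [17, 7, 12, 18, 15, 12, 17], [18, 12, 16, 7, 12, 17], [17, 7, 12, 15, 12, 18], [7, 12, 15, 7, 12, 17], [17, 7, 12, 15, 12, 17], [12, 17, 12, 16, 12, 17], [7, 12, 18, 15, 12, 17], [18, 15, 12, 15, 12, 17], [17, 12, 15, 12, 17], [12, 17, 12, 15, 12, 17], [17, 7, 12, 16, 12, 18], [12, 18, 15, 12, 17], [17, 12, 15, 12, 18], [15, 12, 15,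 12, 18], [17, 7, 12, 16, 12, 17], [18, 15, 12, 15, 12, 18], [12, 15, 7, 12, 17], [18, 12, 15, 7, 12, 17], [15, 12, 15, 12, 17], [18, 15, 12, 17], [18, 12, 15, 12, 17], [7, 12, 16, 12, 18], [17, 15, 12, 15, 12, 17], [18, 7, 12, 16, 12, 18], [17, 12, 15, 7, 12, 17], [15, 7, 12, 17], [7, 12, 16, 12, 17], [12, 15, 12, 17], [0, 17, 12, 15, 12, 17], [15, 12, 17], [18, 12, 15, 12, 18], [18, 7, 12, 16, 12, 17], [12, 15, 12, 18], [15, 12, 18], [17, 15, 12, 15, 12, 18], [6, 18, 12, 16, 12, 17], [17, 12, 10, 16, 12, 17], [11, 17, 12, 15, 12, 17], [6, 17, 12, 16, 7, 12, 17], [5, 12, 16, 12, 18], [17, 12, 10, 16, 12, 18], [7, 12, 10, 15, 12, 18], [17, 15, 12, 10, 15, 12, 17], [6, 18, 12, 16, 12, 18], [5, 12, 16, 12, 17], [18, 5, 12, 16, 12, 17], [7, 12, 10, 15, 12, 17], [18, 10, 16, 12, 17], [18, 12, 10, 16, 12, 17], [15, 12, 10, 15, 12, 18], [6, 17, 12, 16, 12, 17], [11, 17, 15, 12, 15, 12, 17], [11, 18, 12, 15, 12, 17], [10, 16, 7, 12, 17], [15,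 12, 10, 15, 12, 17], [12, 10, 16, 12, 17], [11, 18, 12, 15, 12, 18], [10, 16, 12, 17], [18, 12, 10, 16, 12, 18], [6, 18, 12, 16, 7, 12, 17], [12, 10, 16, 12, 18], [10, 16, 12, 18], [6, 17, 12, 16, 12, 18], [6, 18, 12, 15, 7, 12, 17], [17, 12, 10, 15, 12, 17], [1, 18, 12, 15, 12, 18], [6, 17, 12, 15, 12, 18], [12, 18, 10, 15, 12, 17], [11, 18, 12, 16, 12, 17], [16, 12, 10, 15, 12, 18], [6, 17, 12, 15, 12, 17], [6, 12, 17, 12, 15, 12, 17], [12, 10, 15, 7, 12, 17], [1, 18, 12, 15, 12, 17], [16, 12, 10, 15, 12, 17], [18, 10, 15, 12, 17], [18, 12, 10, 15, 12, 17], [14, 15, 12, 15, 12, 18], [17, 16, 12, 10, 15, 12, 17], [6, 18, 12, 15, 12, 18], [1, 17, 12, 15, 12, 18], [10, 15, 7, 12, 17], [14, 15, 12, 15, 12, 17], [12, 10, 15, 12, 17], [1, 17, 12, 15, 12, 17], [10, 15, 12, 17], [11, 17, 12, 16, 12, 17], [6, 18, 12, 15, 12, 17], [12, 10, 15, 12, 18], [10, 15, 12, 18], [6, 17, 12, 15, 7, 12, 17]]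
theorem s0 : 119 * Nat.card (gen σ [0, 1, 2, 3, 4, 5, 6, 7, 8, 9, 10, 11, 12, 13, 14, 15, 16]) ≤ Nat.card (gen σ LL) :=
  step Pok hl.1 hl.2 (X := (nat_lit 0x1000)) (ws := w0) (by decide +kernel)
def w1 : List (List ℕ) := [[], [12], [7, 12], [12, 16, 12], [12, 16, 7, 12], [16, 12], [16, 7, 12], [7, 12, 15, 12], [7, 12, 15, 7, 12], [12, 15, 7, 12], [12, 15, 12], [15, 7, 12], [15, 12], [15, 12, 15, 12], [7, 12, 16, 12], [5, 12, 16, 12], [12, 10, 16, 12], [10, 16, 7, 12], [10, 16, 12], [7, 12, 10, 15, 12], [15, 12, 10, 15, 12], [12, 10, 15, 7, 12], [12, 10, 15, 12], [10, 15, 7, 12], [10, 15, 12], [16, 12, 10, 15, 12], [14, 15, 12, 15, 12]]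
theorem s1 : 27 * Nat.card (gen σ [0, 1, 2, 3, 4, 5, 6, 7, 8, 9, 10, 11, 13, 14, 15, 16]) ≤ Nat.card (gen σ [0, 1, 2, 3, 4, 5, 6, 7, 8, 9, 10, 11, 12, 13, 14, 15, 16]) :=
  step Pok hl.1 hl.2 (X := (nat_lit 0x1000000001000000001000000001000000001000000001000000101000010001)) (ws := w1) (by decide +kernel)
def w2 : List (List ℕ) := [[14, 16, 9, 7], [14, 16, 9, 7, 2], [14, 16, 9, 2], [14, 16, 9], [13, 15, 7], [13, 15, 7, 2], [13, 15, 2], [13, 15], [10, 15, 7], [10, 15, 7, 2], [10, 15, 2], [10, 15], [14, 16, 7, 9, 2], [14, 16, 7, 9], [14, 16, 9, 4], [14, 16, 9, 4, 2], [13, 3, 15, 2], [13, 3, 15], [13, 15, 4], [13, 15, 4, 2], [10, 3, 15, 2], [10, 3, 15], [10, 15, 4], [10, 15, 4, 2], [16, 14], [16, 14, 2], [16, 14, 7, 2], [16, 14, 7], [14, 2], [14], [14, 7], [14, 7, 2], [15, 14, 7, 2], [15, 14, 7], [15, 14], [15, 14, 2], [16, 14, 4, 2], [16, 14, 4], [16, 14, 7, 4], [16, 14, 7, 4, 2], [14, 4], [14, 4, 2], [14, 7, 4, 2], [14, 7, 4], [5, 15,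 14], [5, 15, 14, 2], [15, 14, 4, 2], [15, 14, 4], [14, 9, 4], [14, 9, 4, 2], [14, 7, 9, 2], [14, 7, 9], [14, 4, 16, 13], [14, 4, 16, 13, 2], [14, 16, 13, 4, 2], [14, 16, 13, 4], [13, 4, 16], [13, 4, 16, 2], [13, 16, 4, 2], [13, 16, 4], [14, 9, 2], [14, 9], [14, 9, 7], [14, 9, 7, 2], [14, 16, 13, 7, 2], [14, 16, 13, 7], [14, 16, 13], [14, 16, 13, 2], [13, 16, 7, 2], [13, 16, 7], [13, 16], [13, 16, 2], [16, 14, 9, 4], [16, 14, 9, 4, 2], [16, 14, 7, 9, 2], [16, 14, 7, 9], [10, 16, 7, 9, 2], [10, 16, 7, 9], [10, 16, 9, 4], [10, 16, 9, 4, 2], [10, 3, 15, 13, 2], [10, 3, 15, 13], [10, 15, 13, 4], [10, 15, 13, 4, 2], [16, 14, 9, 2], [16, 14, 9], [16, 14, 9, 7], [16, 14, 9, 7, 2], [10, 16, 9, 7], [10, 16, 9, 7, 2], [10, 16, 9, 2], [10, 16, 9], [10, 15, 13, 7], [10, 15, 13, 7, 2], [10, 15, 13, 2], [10, 15, 13], [16, 13], [16, 13, 2], [16, 13, 7, 2], [16, 13, 7], [9, 2], [9], [9, 7], [9, 7, 2], [14, 16, 7, 2], [14, 16, 7], [14, 16], [14, 16, 2],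 [16, 13, 4, 2], [16, 13, 4], [4, 16, 13], [4, 16, 13, 2], [9, 4], [9, 4, 2], [7, 9, 2], [7, 9], [14, 4, 16], [14, 4, 16, 2], [14, 16, 4, 2], [14, 16, 4], [4], [4, 2], [7, 4, 2], [7, 4], [15, 13, 7, 9], [15, 13, 7, 9, 2], [15, 13, 9, 4, 2], [15, 13, 9, 4], [14, 10, 4, 16], [14, 10, 4, 16, 2], [13, 16, 14, 4, 2], [13, 16, 14, 4], [2], [], [7], [7, 2], [15, 13, 9, 7, 2], [15, 13, 9, 7], [15, 13, 9], [15, 13, 9, 2], [13, 16, 14, 7, 2], [13, 16, 14, 7], [13, 16, 14], [13, 16, 14, 2], [16, 13, 9, 4], [16, 13, 9, 4, 2], [16, 13, 7, 9, 2], [16, 13, 7, 9], [3, 15, 2], [3, 15], [15, 4], [15, 4, 2], [13, 16, 7, 9, 2], [13, 16, 7, 9], [13, 16, 9, 4], [13, 16, 9, 4, 2], [16, 13, 9, 2], [16, 13, 9], [16, 13, 9, 7], [16, 13, 9, 7, 2], [15, 7], [15, 7, 2], [15, 2], [15], [13, 16, 9, 7], [13, 16, 9, 7, 2], [13, 16, 9, 2], [13, 16, 9], [16], [16, 2], [16, 7, 2], [16, 7], [13, 9, 2], [13, 9], [13, 9, 7], [13, 9, 7, 2], [10, 15, 9, 7, 2], [10, 15, 9, 7],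 [10, 15, 9], [10, 15, 9, 2], [16, 4, 2], [16, 4], [4, 16], [4, 16, 2], [13, 9, 4], [13, 9, 4, 2], [13, 7, 9, 2], [13, 7, 9], [10, 15, 7, 9], [10, 15, 7, 9, 2], [10, 15, 9, 4, 2], [10, 15, 9, 4], [13, 4], [13, 4, 2], [13, 7, 4, 2], [13, 7, 4], [10, 4, 16], [10, 4, 16, 2], [10, 16, 4, 2], [10, 16, 4], [15, 7, 9], [15, 7, 9, 2], [15, 9, 4, 2], [15, 9, 4], [13, 2], [13], [13, 7], [13, 7, 2], [10, 16, 7, 2], [10, 16, 7], [10, 16], [10, 16, 2], [15, 9, 7, 2], [15, 9, 7], [15, 9], [15, 9, 2], [16, 9, 4], [16, 9, 4, 2], [16, 7, 9, 2], [16, 7, 9], [13, 10, 3, 15, 2], [13, 10, 3, 15], [13, 10, 15, 4], [13, 10, 15, 4, 2], [3, 15, 13, 2], [3, 15, 13], [15, 13, 4], [15, 13, 4, 2], [16, 9, 2], [16, 9], [16, 9, 7], [16, 9, 7, 2], [13, 10, 15, 7], [13, 10, 15, 7, 2], [13, 10, 15, 2], [13, 10, 15], [15, 13, 7], [15, 13, 7, 2], [15, 13, 2], [15, 13]]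
theorem s2 : 240 * Nat.card (gen σ [0, 1, 3, 5, 6, 8, 10, 11]) ≤ Nat.card (gen σ [0, 1, 2, 3, 4, 5, 6, 7, 8, 9, 10, 11, 13, 14, 15, 16]) :=
  step Pok hl.1 hl.2 (X := (nat_lit 0x1000100001000000001000000001000000001000000011000000101000101001)) (ws := w2) (by decide +kernel)
def w3 : List (List ℕ) := [[7, 9], [7, 9, 2], [9, 4, 2], [9, 4], [9, 7, 2], [9, 7], [9], [9, 2], [7, 2], [7], [], [2], [7, 4], [7, 4, 2], [4, 2], [4]]
theorem s3 : 16 * Nat.card (gen σ [0, 1, 3, 5, 6, 8, 10, 11]) ≤ Nat.card (gen σ [0, 1, 2, 3, 4, 5, 6, 7, 8, 9, 10, 11]) :=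
  step Pok hl.1 hl.2 (X := (nat_lit 0x1000100001000000001000000001000000001000000011000000001000110001)) (ws := w3) (by decide +kernel)
def w4 : List (List ℕ) := [[11, 10], [11, 10, 8], [11, 10, 8, 5], [11, 10, 5], [11, 10, 6], [11, 10, 3, 6], [11, 10, 3, 6, 5], [11, 10, 6, 5], [10, 8], [10], [10, 8, 5], [10, 5], [10, 3, 6], [10, 6], [10, 3, 6, 5], [10, 6, 5], [11, 8, 5], [11, 5], [11], [11, 8], [3, 6, 5], [6, 5], [3, 6], [6], [11, 6, 5], [11, 3, 6, 5], [11, 3, 6], [11, 6], [5], [8, 5], [], [8]]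
theorem s4 : 32 * Nat.card (gen σ [0, 1, 3]) ≤ Nat.card (gen σ [0, 1, 3, 5, 6, 8, 10, 11]) :=
  step Pok hl.1 hl.2 (X := (nat_lit 0x1010100000001000000100000001000000001000011001000101010001011000)) (ws := w4) (by decide +kernel)
def w5 : List (List ℕ) := [[3], [0], [], [3, 0], [3, 1], [1], [1, 0], [3, 1, 0]]
theorem s5 : 8 * Nat.card (gen σ []) ≤ Nat.card (gen σ [0, 1, 3]) :=
  step Pok hl.1 hl.2 (X := (nat_lit 0x10010110000000000101000101010110001110000110011111101110001100)) (ws := w5) (by decide +kernel)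
theorem s6 : 0 < Nat.card (gen σ []) := Nat.card_pos
theorem card_ge : 48195 * 4096 ≤ Nat.card (gen σ LL) := by
  have := s0; have := s1; have := s2; have := s4; have := s5; have := s6; omega

theorem pr : Pr σ := ⟨hl.2, hR⟩

theorem inj : M.Inj (C.val σ) := pr.snd.inj_of_card (by
  have k : gen σ [0, 1, 2, 3, 4, 5, 6, 7, 8, 9, 10, 11] ≤ pr.snd.sub := gen_le.2 fun c hc =>
    have := pr.cd c ((by decide : ∀ c ∈ [0, 1, 2, 3, 4, 5, 6, 7, 8, 9, 10, 11], c < 12) c hc)
    ⟨_, this.1, this.2⟩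
  have := Subgroup.card_le_of_le k
  have := s3; have := s4; have := s5; have := s6
  change 4096 ≤ _
  omega)

theorem aniso : ∀ z₁ z₂ : ZMod 2, z₁ ^ 2 + 1 * z₁ * z₂ + 1 * z₂ ^ 2 = 0 → z₁ = 0 ∧ z₂ = 0 := by decide
theorem cardO : Nat.card (Cfsg.isometryGroup (ZMod 2) q) = 2 * (48195 * 4096) :=
  (Cfsg.Agent.S0288.result (F := ZMod 2) (q := 2) (ZMod.card 2) 4 (by norm_num) 1 1 aniso).trans (by decide)
theorem cardP : Nat.card (Cfsg.POmega (ZMod 2) q) = 48195 * 4096 := by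
  have := Cfsg.Agent.S0294.result (F := ZMod 2) (q := 2) (ZMod.card 2) 4 le_rfl 1 1 aniso
  rw [show Nat.gcd 4 (2 ^ 4 + 1) = 1 by decide, one_mul] at this
  exact this.trans (by decide)
theorem simpleP : IsSimpleGroup (Cfsg.POmega (ZMod 2) q) :=
  Cfsg.Agent.S0297.result (F := ZMod 2) 4 le_rfl 1 1 aniso

/-- The relators `R` present the orthogonal group. -/
theorem iso {G : Type*} [Group G] [Nontrivial G] {e : ℕ → G} (h1 : IvOK e (ivOf ivl))
    (h2 : ∀ r ∈ R, ev e r = 1) (top : gen e LL = ⊤) :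
    Nonempty (G ≃* Cfsg.POmega (ZMod 2) (Cfsg.quadFormMinus 3 (ZMod 2) 1 1)) := by
  have p : Pr fun c => (e c, σ c) := ⟨fun c => Prod.ext (h1 c) (hl.2 c), fun r hr => Prod.ext
    ((map_ev (MonoidHom.fst G (GL I (ZMod 2))) _ r).trans (h2 r hr))
    ((map_ev (MonoidHom.snd G (GL I (ZMod 2))) _ r).trans (hR r hr))⟩
  have := simpleP
  exact final h1 hl.2 top (bd p (fun w hw => rel_of_mem (MonoidHom.snd _ _) p.snd inj (hX w hw) (exmem p w hw))
    (inj_of_map (MonoidHom.snd _ _) inj)) card_ge (omega_equiv (by norm_num) cardO cardP le_iso)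

end H3.Z15
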