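import Mathlib
import Cfsg.Agent.H3.Z27D
import Cfsg.Agent.H3.Z27F
import Cfsg.Agent.S0287
import Cfsg.Agent.S0293
import Cfsg.Agent.S0296

/-! A presentation of an orthogonal group in dimension eight over the field with two elements. -/

set_option autoImplicit false
set_option maxRecDepth 100000
set_option Elab.async false
set_option linter.all false

namespace H3.Z27

open H29 H19 H7 H7.Cay H3.Z0 Matrix

noncomputable abbrev P : PM := ⟨2, 8, 4, 1, 1, 32, (nat_lit 0xf0000000f0000000f0000000f0000000f0000000f0000000f0000000f),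
  (nat_lit 0xffffffff),
  (nat_lit 0x7777777777777777777777777777777777777777777777777777777777777777),
  (nat_lit 0x1000000001000000001000000001000000001000000001000000001000000001)⟩
theorem Pok : P.OK := PM.ok_of_chk (by decide +kernel)
noncomputable def lcl : List ℕ := [(nat_lit 0x1000000001000000001000000001000000001000000101000001001001100001),
  (nat_lit 0x1001000001000000001000000001000000011000001101000100001011011001),
  (nat_lit 0x1001000001000000001000000001000000001000000101000001001001101001),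
  (nat_lit 0x1000000001000000001000000001000000011000000101000000001011000001),
  (nat_lit 0x1001000001010000001000000001000000011000000101000001001011101101),
  (nat_lit 0x1001000001010000001000000001000000111000001101001100001011001101),
  (nat_lit 0x1011000001010000001000000001000000011000001101000100101011001101),
  (nat_lit 0x1011000001110000001000000001000000111000001101001100111011001101),
  (nat_lit 0x1000000001000000001000000001000000001000000001000001001000100001),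
  (nat_lit 0x1001000001010000001100000001000000001000000101000001001001101111),
  (nat_lit 0x1001000001010000001100000001000001111000101101001100001011001111),
  (nat_lit 0x1110000001010000001100000001000000001000000111000001101001100111),
  (nat_lit 0x1110000000100000010000000001000000001000000010100000110000000001),
  (nat_lit 0x1111000010000000001000000001000000110100000011001111011011110101),
  (nat_lit 0x100000011110000001000000001000000111100001110001011101010111001),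
  (nat_lit 0x10000111000001000000001000001111000101101001011101010111001),
  (nat_lit 0x1011010001001000001000000001000001110000100000001111011011110101),
  (nat_lit 0x1010000001100000001100000010000000001000001001000010000101011111),
  (nat_lit 0x1001000001010000000100000011000000001000000101000110111100010010)]
noncomputable def ltl : List ℕ := [(nat_lit 0x1000000001000001001000010001011000001000000001000000001000000001),
  (nat_lit 0x1000000101000011001001001001110100001001000001000000001000000001),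
  (nat_lit 0x1000000001000001001000011001011000001001000001000000001000000001),
  (nat_lit 0x1000000101000001001000000001110000001000000001000000001000000001),
  (nat_lit 0x1000000101000001001000011101111000001001000001010000001000000001),
  (nat_lit 0x1000001101000011001011001101110000001001000001010000001000000001),
  (nat_lit 0x1000000101000011101001001101110000001011000001010000001000000001),
  (nat_lit 0x1000001101000011111011001101110000001011000001110000001000000001),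
  (nat_lit 0x1000000001000000001000010001001000001000000001000000001000000001),
  (nat_lit 0x1000000001000001001000011111011000001001000001010000001100000001),
  (nat_lit 0x1000011101001011001011001111110000001001000001010000001100000001),
  (nat_lit 0x1000000011000001101000010111011000001110000001010000001100000001),
  (nat_lit 0x1000000010100000110000000001000000001110000000100000010000000001),
  (nat_lit 0x1100001110000011101010111001101100000100000011110000001000000001),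
  (nat_lit 0x100001111000000011011110101111100001111000010000000001000000001),
  (nat_lit 0x11100001000011011110101111101001011100001000000001000000001),
  (nat_lit 0x1000011101001011101010111001101101000000100000110000001000000001),
  (nat_lit 0x1000000001000001111101100010000100001001000001010000000100000011),
  (nat_lit 0x1000000001000010000100101111010100001010000001100000001100000010)]
noncomputable def Bc : ℕ := (nat_lit 0x10000000010000000010000000010000)
noncomputable def lc : ℕ → ℕ := nth P.one lcl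
abbrev I : Type := Fin 4 ⊕ Fin 4
def ε : I ≃ Fin P.n := (finSumFinEquiv : Fin 4 ⊕ Fin 4 ≃ Fin (4 + 4))
abbrev q : (I → ZMod 2) → ZMod 2 := Cfsg.quadFormPlus 4 (ZMod 2)
noncomputable def σ (c : ℕ) : GL I (ZMod 2) := P.gl ε (lc c)
theorem hl : (∀ c, P.Rep ε (σ c) (lc c)) ∧ IvOK σ (ivOf ivl) :=
  Pok.letters (w := 1) hii (by decide) (allN_true.1 (by decide +kernel))
theorem hR : ∀ r ∈ R, ev σ r = 1 := (Pok.codes ε 1).rels hl.1 hl.2 (by decide +kernel)
theorem hX : ∀ r ∈ EX, ev σ r = 1 := (Pok.codes ε 1).rels hl.1 hl.2 (by decide +kernel)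

noncomputable def dd (c : ℕ) : Matrix I I (ZMod 2) := P.dec ε c
noncomputable def de (c : ℕ) (i j : I) : ZMod 2 := P.dec ε c i j
abbrev Bm : Matrix I I (ZMod 2) := fromBlocks 0 1 0 0
def Be (i j : I) : ZMod 2 := Bm i j

theorem hq (v : I → ZMod 2) : q v = v ⬝ᵥ dd Bc *ᵥ v := by
  have : dd Bc = Bm := Matrix.ext (by decide +kernel : ∀ i j, de Bc i j = Be i j)
  rw [this]
  simp [Cfsg.quadFormPlus, dotProduct, Fintype.sum_sum_type, fromBlocks_mulVec]

noncomputable def Ac (c : ℕ) : ℕ := P.mul (P.mul (nth 0 ltl c) Bc) (lc c)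

theorem chkI : ∀ c ∈ LL, P.chkRed 1 (nth 0 ltl c) = true ∧ P.chkRed 1 Bc = true ∧
    (∀ i j, de (nth 0 ltl c) i j = de (lc c) j i) ∧
    (∀ i j, de (Ac c) i j + de (Ac c) j i = de Bc i j + de Bc j i) ∧
    ∀ i, de (Ac c) i i = de Bc i i := by decide +kernel

theorem le_iso : gen σ LL ≤ Cfsg.isometryGroup (ZMod 2) q := gen_le.2 fun c hc => by
  obtain ⟨a1, a2, a3, a4, a5⟩ := chkI c hc
  have b1 := Pok.red_of_chk a1
  have b2 := Pok.red_of_chk a2
  have e : (σ c).valᵀ * dd Bc * (σ c).val = dd (Ac c) := by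
    rw [dd, dd, Ac, Pok.dec_mul (Pok.red_mul b1 b2) (hl.1 c).1, Pok.dec_mul b1 b2, (hl.1 c).2,
      show P.dec ε (nth 0 ltl c) = (P.dec ε (lc c))ᵀ from Matrix.ext a3]
  exact mem_isometry hq (by rw [e]; exact a4) (by rw [e]; exact a5)

def w0 : List (List ℕ) := [[], [18], [17], [12, 18], [12, 17], [7, 12, 17], [7, 12, 18], [14, 12, 18], [14, 12, 17], [14, 7, 12, 17], [14, 7, 12, 18], [6, 13, 12, 17], [13, 7, 12, 17], [13, 12, 17], [13, 12, 18], [18, 12, 16, 13, 12, 17], [18, 12, 16, 13, 12, 18], [18, 12, 16, 13, 7, 12, 17], [18, 12, 16, 6, 13, 12, 17], [18, 12, 15, 13, 7, 12, 17], [18, 12, 15, 6, 13, 12, 17], [18, 12, 15, 13, 12, 17], [18, 12, 15, 13, 12, 18], [12, 16, 13, 12, 18], [17, 7, 12, 15, 13, 7, 12, 17], [12, 16, 13, 12, 17], [5, 17, 12, 16, 13, 7, 12, 17], [12, 16, 13, 7, 12, 17], [17, 7, 12, 15, 13, 12, 17], [12, 16, 6, 13, 12, 17], [4, 17, 12, 15, 13, 12, 17], [12, 15, 13, 7, 12, 17], [5, 17, 12, 15, 13, 12, 17],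 [12, 15, 6, 13, 12, 17], [4, 17, 12, 16, 13, 12, 17], [12, 15, 13, 12, 18], [6, 17, 12, 16, 14, 12, 18], [12, 15, 13, 12, 17], [6, 17, 12, 16, 14, 12, 17], [16, 14, 12, 18], [18, 14, 12, 15, 13, 7, 12, 17], [14, 12, 15, 13, 7, 12, 17], [17, 6, 12, 16, 13, 12, 17], [16, 14, 12, 17], [14, 12, 15, 6, 13, 12, 17], [16, 14, 7, 12, 17], [18, 14, 12, 15, 6, 13, 12, 17], [16, 14, 7, 12, 18], [17, 12, 16, 14, 7, 12, 17], [18, 7, 12, 15, 14, 12, 17], [17, 12, 16, 14, 12, 17], [7, 12, 15, 14, 12, 17], [17, 12, 16, 14, 12, 18], [7, 18, 12, 15, 14, 12, 17], [7, 12, 15, 14, 12, 18], [1, 15, 14, 12, 17], [18, 14, 12, 15, 13, 12, 17], [14, 12, 15, 13, 12, 18], [17, 12, 15, 14, 7, 12, 17], [15, 14, 7, 12, 17], [14, 12, 15, 13, 12, 17], [15, 14, 12, 17], [18, 14, 12, 15, 13, 12, 18], [15, 14, 12, 18], [17, 12, 1, 15, 14, 12, 17], [6, 18, 12, 16, 14, 12, 17], [17, 12, 15, 14, 12, 18], [14, 12, 16, 13, 12, 17], [17, 12, 15, 14, 12, 17], [18, 14,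 12, 16, 13, 12, 17], [14, 12, 16, 13, 12, 18], [16, 7, 12, 18], [18, 12, 16, 14, 12, 17], [12, 16, 14, 12, 18], [6, 17, 12, 15, 13, 12, 17], [16, 13, 12, 18], [5, 18, 12, 15, 13, 12, 17], [7, 12, 15, 13, 12, 18], [17, 12, 16, 6, 13, 12, 17], [16, 7, 12, 17], [12, 16, 14, 12, 17], [16, 13, 12, 17], [7, 12, 15, 13, 12, 17], [16, 12, 17], [18, 12, 16, 14, 12, 18], [16, 13, 7, 12, 17], [18, 7, 12, 15, 13, 12, 17], [16, 12, 18], [17, 7, 12, 15, 14, 12, 17], [16, 6, 13, 12, 17], [17, 12, 16, 13, 7, 12, 17], [15, 12, 18], [18, 12, 16, 14, 7, 12, 17], [12, 16, 14, 7, 12, 17], [5, 17, 12, 16, 14, 12, 18], [15, 12, 17], [6, 12, 16, 13, 12, 17], [5, 18, 12, 15, 13, 7, 12, 17], [17, 12, 16, 13, 12, 17], [15, 7, 12, 17], [18, 6, 12, 16, 13, 12, 17], [7, 12, 15, 6, 13, 12, 17], [17, 12, 16, 13, 12, 18], [5, 15, 12, 17], [5, 17, 12, 16, 14, 12, 17], [18, 7, 12, 15, 13, 7, 12, 17], [7, 12, 15, 13, 7, 12, 17], [18, 12, 15, 14, 12, 18], [17, 14,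 12, 16, 13, 12, 18], [5, 18, 12, 16, 13, 7, 12, 17], [17, 12, 15, 13, 12, 17], [12, 15, 14, 12, 17], [17, 14, 12, 16, 13, 12, 17], [16, 12, 15, 6, 13, 12, 17], [17, 12, 15, 13, 12, 18], [18, 12, 15, 14, 12, 17], [12, 15, 14, 12, 18], [18, 16, 12, 15, 13, 7, 12, 17], [16, 12, 15, 13, 7, 12, 17], [15, 13, 12, 18], [5, 18, 12, 16, 13, 12, 17], [7, 12, 16, 13, 12, 18], [17, 12, 15, 6, 13, 12, 17], [1, 18, 12, 16, 13, 12, 17], [17, 14, 12, 15, 13, 12, 17], [15, 13, 12, 17], [7, 12, 16, 13, 12, 17], [12, 1, 15, 14, 12, 17], [6, 17, 12, 16, 13, 12, 17], [15, 13, 7, 12, 17], [18, 7, 12, 16, 13, 12, 17], [18, 12, 15, 14, 7, 12, 17], [12, 15, 14, 7, 12, 17], [15, 6, 13, 12, 17], [17, 12, 15, 13, 7, 12, 17]]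
theorem s0 : 135 * Nat.card (gen σ [0, 1, 2, 3, 4, 5, 6, 7, 8, 9, 10, 11, 12, 13, 14, 15, 16]) ≤ Nat.card (gen σ LL) :=
  step Pok hl.1 hl.2 (X := (nat_lit 0x10000)) (ws := w0) (by decide +kernel)
def w1 : List (List ℕ) := [[], [12], [7, 12], [14, 12], [14, 7, 12], [13, 7, 12], [13, 12], [12, 16, 13, 12], [12, 16, 13, 7, 12], [12, 15, 13, 7, 12], [12, 15, 13, 12], [16, 14, 12], [16, 14, 7, 12], [15, 14, 7, 12], [15, 14, 12], [14, 12, 15, 13, 7, 12], [7, 12, 15, 14, 12], [14, 12, 15, 13, 12], [14, 12, 16, 13, 12], [16, 7, 12], [16, 12], [15, 12], [15, 7, 12], [12, 16, 14, 12], [12, 16, 14, 7, 12], [12, 15, 14, 12], [12, 15, 14, 7, 12], [16, 13, 12], [16, 13, 7, 12], [15, 13, 12], [15, 13, 7, 12], [7, 12, 15, 13, 12], [7, 12, 15, 13, 7, 12], [16, 12, 15, 13, 7, 12], [7, 12, 16, 13, 12]]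
theorem s1 : 35 * Nat.card (gen σ [0, 1, 2, 3, 4, 5, 6, 7, 8, 9, 10, 11, 13, 14, 15, 16]) ≤ Nat.card (gen σ [0, 1, 2, 3, 4, 5, 6, 7, 8, 9, 10, 11, 12, 13, 14, 15, 16]) :=
  step Pok hl.1 hl.2 (X := (nat_lit 0x1000000001000000001000000001000000001000000001000001001000100001)) (ws := w1) (by decide +kernel)
def w2 : List (List ℕ) := [[7, 16], [7, 16, 4], [7, 15], [7, 15, 4], [5, 16, 13], [16, 13, 6], [15, 13, 8], [15, 13, 4], [15, 14, 6], [14, 1, 15], [15, 14, 1, 4], [15, 14, 4], [7, 15, 7, 6], [15, 13, 7, 4], [5, 1, 15], [15, 13, 0, 7], [5, 16], [16, 7, 4], [13, 1, 16, 5], [5, 16, 13, 5], [7, 16, 8], [16, 7, 5], [15, 5, 4], [15, 5], [16, 7, 13], [13, 1, 16], [15, 13], [15, 13, 1, 4], [15, 14, 6, 4], [0, 15, 14, 6], [15, 14], [15, 14, 8], [5, 15, 6, 4], [15, 13, 7], [5, 15, 6], [0, 15, 13, 7], [16, 7], [5, 16, 4], [16, 7, 13, 5], [16, 13, 6, 5], [5, 14, 6], [14, 6, 5], [14, 6, 1, 4], [14, 6, 4], [5, 14, 4], [14, 5, 4], [14, 8],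 [14], [5, 15, 14, 4], [1, 15, 14, 6], [5, 15, 14, 6], [1, 15, 14, 4], [14, 6, 5, 4], [4, 14, 6, 5], [14, 6], [14, 3, 6], [14, 2, 5], [14, 5], [14, 1, 4], [14, 4], [5, 15, 14, 8], [5, 15, 14], [1, 15, 14], [15, 6, 14, 5], [13, 2, 5], [13, 5], [13, 1, 4], [13, 4], [7, 16, 6, 4], [7, 16, 6], [1, 15, 5], [7, 15, 6], [16, 13, 7, 4], [13, 5, 16], [10, 16, 6, 13], [1, 15, 13], [13, 5, 4], [1, 13, 4], [13, 8], [13], [7, 1, 16, 4], [7, 1, 16], [15, 6, 5], [7, 1, 15], [13, 5, 16, 4], [16, 13, 7], [1, 15, 13, 4], [15, 6, 13, 5], [13, 0, 7], [13, 7], [2, 13, 7, 5], [13, 7, 5, 4], [5, 15], [7, 15, 7], [13, 1, 15, 5], [15, 7, 13, 5], [16, 7, 6, 4], [6, 16, 7], [16, 13, 7, 5], [13, 7, 16], [13, 7, 4], [13, 7, 1, 4], [1, 13, 7], [13, 7, 5], [10, 16, 7], [5, 15, 4], [13, 7, 15, 6], [15, 13, 6, 5], [5, 1, 16, 4], [16, 7, 6], [10, 15, 13, 7], [13, 7, 16, 4], [16, 14, 5, 4], [16, 14, 2, 5], [15, 7, 14], [15, 7, 14, 4], [16, 5, 14, 4], [16, 14, 5],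 [15, 7, 14, 8], [0, 15, 7, 14], [6, 4], [6, 1, 4], [6, 2, 5], [6, 5], [6], [3, 6], [6, 5, 4], [6, 5, 1, 4], [7, 2, 5], [7, 5], [7, 4], [7, 1, 4], [7, 5, 4], [15, 7, 16], [7], [0, 7], [7, 14, 4], [7, 14, 1, 4], [7, 14, 2, 5], [7, 14, 5], [7, 14, 8], [7, 14], [7, 14, 5, 4], [7, 5, 14, 4], [13, 6, 5, 4], [7, 13, 5], [13, 6], [13, 3, 6], [13, 6, 5], [7, 13, 5, 4], [7, 13, 8], [7, 13], [6, 16, 14, 4], [6, 16, 14, 8], [6, 15, 14, 6], [15, 14, 6, 5], [16, 14, 7, 5], [6, 16, 14], [5, 15, 14, 7], [14, 1, 15, 5], [14, 1, 16, 5], [16, 14, 6, 5, 4], [1, 15, 14, 5], [15, 14, 7, 4], [16, 14, 6, 5], [14, 1, 16, 5, 4], [15, 14, 7], [3, 15, 14, 7], [6, 13, 4], [6, 13, 1, 4], [6, 13, 2, 5], [6, 13, 5], [6, 13], [6, 13, 8], [6, 13, 5, 4], [6, 1, 13, 4], [14, 7, 4], [14, 7, 1, 4], [14, 7, 5], [6, 14, 5], [7, 16, 14, 4], [7, 16, 14], [6, 15, 14, 4], [7, 15, 14], [14, 7], [14, 0, 7], [14, 7, 5, 4], [6, 14, 5, 4], [16, 7, 14, 5], [7, 16, 14, 8], [15,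 14, 5], [6, 15, 14], [16, 6, 5, 4], [16, 6, 5], [15, 7, 6], [1, 15, 7, 4], [16, 6, 13], [1, 16, 13, 4], [1, 15, 13, 6], [13, 5, 15, 4], [16, 14, 7, 4], [1, 16, 14, 4], [5, 16, 14, 4], [16, 7, 14, 4], [15, 8], [15, 4], [16, 6], [6, 16, 13], [1, 16, 4], [6, 16, 13, 4], [6, 15, 13], [6, 15, 13, 4], [1, 16, 5, 4], [1, 16, 5], [5, 15, 6, 5], [15, 7, 6, 4], [1, 16, 13], [16, 6, 13, 4], [13, 5, 15], [10, 16, 13, 7], [1, 16, 14], [16, 14, 7], [16, 7, 14], [5, 16, 14], [15], [15, 1, 4], [1, 16], [1, 16, 13, 5], [16, 6, 4], [6, 16, 13, 8], [15, 13, 5], [13, 7, 15], [16, 14, 8], [16, 14], [16, 14, 6, 4], [14, 1, 16, 4], [16, 14, 4], [16, 14, 1, 4], [14, 1, 16], [16, 14, 6], [7, 6, 5, 4], [11, 7, 5, 4], [7, 3, 6], [7, 6], [16, 13, 8], [16, 13, 4], [15, 7, 13], [15, 13, 6], [16, 2, 5], [7, 16, 7], [15, 7, 4], [15, 7], [7, 6, 5], [7, 6, 2, 5], [7, 6, 4], [7, 6, 1, 4], [16, 13], [16, 13, 1, 4], [0, 15, 13, 6], [13, 1, 15], [16, 5], [16, 5, 4],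 [7, 5, 15], [15, 0, 7], [8], [], [5, 4], [5, 1, 4], [16, 1, 13, 4], [16, 13, 5], [3, 15, 6], [1, 15], [16, 1, 4], [16], [1, 15, 13, 5], [1, 13, 7, 15], [4], [1, 4], [5], [2, 5], [16, 13, 2, 5], [16, 13, 5, 4], [15, 6, 4], [15, 6], [16, 4], [16, 8], [15, 6, 13, 4], [15, 6, 13]]
theorem s2 : 288 * Nat.card (gen σ [0, 1, 2, 3, 9, 10, 11]) ≤ Nat.card (gen σ [0, 1, 2, 3, 4, 5, 6, 7, 8, 9, 10, 11, 13, 14, 15, 16]) :=
  step Pok hl.1 hl.2 (X := (nat_lit 0x1110000000100000010000000001000000001000000110100000110001000001)) (ws := w2) (by decide +kernel)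
def w3 : List (List ℕ) := [[7, 5], [7, 2, 5], [7, 1, 4], [7, 4], [7, 5, 1, 4], [7, 5, 4], [0, 7], [7], [6, 1, 4], [6, 4], [6, 5], [6, 2, 5], [3, 6], [6], [6, 5, 1, 4], [6, 5, 4], [11, 7, 5, 4], [7, 6, 5, 4], [7, 6], [7, 3, 6], [7, 6, 2, 5], [7, 6, 5], [7, 6, 1, 4], [7, 6, 4], [], [8], [5, 1, 4], [5, 4], [1, 4], [4], [2, 5], [5]]
theorem s3 : 32 * Nat.card (gen σ [0, 1, 2, 3, 9, 10, 11]) ≤ Nat.card (gen σ [0, 1, 2, 3, 4, 5, 6, 7, 8, 9, 10, 11]) :=
  step Pok hl.1 hl.2 (X := (nat_lit 0x110000001100000011000000000000000000000000011100000111001100000)) (ws := w3) (by decide +kernel)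
def w4 : List (List ℕ) := [[10, 3], [11, 10], [10], [11, 10, 3], [11, 9], [9, 3], [11, 9, 3], [9], [11, 10, 9, 3], [10, 9], [11, 10, 9], [10, 9, 3], [11], [3], [11, 3], []]
theorem s4 : 16 * Nat.card (gen σ [0, 1, 2]) ≤ Nat.card (gen σ [0, 1, 2, 3, 9, 10, 11]) :=
  step Pok hl.1 hl.2 (X := (nat_lit 0x1011000001000000001100000001000000011000000111000010001011110101)) (ws := w4) (by decide +kernel)
def w5 : List (List ℕ) := [[1, 0], [1], [2, 0], [2, 1], [2, 1, 0], [0], [], [2]]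
theorem s5 : 8 * Nat.card (gen σ []) ≤ Nat.card (gen σ [0, 1, 2]) :=
  step Pok hl.1 hl.2 (X := (nat_lit 0x1101111010101110100000000100011110000011111010101000100100000000)) (ws := w5) (by decide +kernel)
theorem s6 : 0 < Nat.card (gen σ []) := Nat.card_pos
theorem card_ge : 42525 * 4096 ≤ Nat.card (gen σ LL) := by
  have := s0; have := s1; have := s2; have := s4; have := s5; have := s6; omega

theorem pr : Pr σ := ⟨hl.2, hR⟩

theorem inj : M.Inj (C.val σ) := pr.snd.inj_of_card (by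
  have k : gen σ [0, 1, 2, 3, 4, 5, 6, 7, 8, 9, 10, 11] ≤ pr.snd.sub := gen_le.2 fun c hc =>
    have := pr.cd c ((by decide : ∀ c ∈ [0, 1, 2, 3, 4, 5, 6, 7, 8, 9, 10, 11], c < 12) c hc)
    ⟨_, this.1, this.2⟩
  have := Subgroup.card_le_of_le k
  have := s3; have := s4; have := s5; have := s6
  change 4096 ≤ _
  omega)

theorem cardO : Nat.card (Cfsg.isometryGroup (ZMod 2) q) = 2 * (42525 * 4096) :=
  (Cfsg.Agent.S0287.result (F := ZMod 2) (q := 2) (ZMod.card 2) 4 (by norm_num)).trans (by decide)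
theorem cardP : Nat.card (Cfsg.POmega (ZMod 2) q) = 42525 * 4096 := by
  have := Cfsg.Agent.S0293.result (F := ZMod 2) (q := 2) (ZMod.card 2) 4 le_rfl
  rw [show Nat.gcd 4 (2 ^ 4 - 1) = 1 by decide, one_mul] at this
  exact this.trans (by decide)
theorem simpleP : IsSimpleGroup (Cfsg.POmega (ZMod 2) q) := Cfsg.Agent.S0296.result (F := ZMod 2) 4 le_rfl

/-- The relators `R` present the orthogonal group. -/
theorem iso {G : Type*} [Group G] [Nontrivial G] {e : ℕ → G} (h1 : IvOK e (ivOf ivl))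
    (h2 : ∀ r ∈ R, ev e r = 1) (top : gen e LL = ⊤) :
    Nonempty (G ≃* Cfsg.POmega (ZMod 2) (Cfsg.quadFormPlus 4 (ZMod 2))) := by
  have p : Pr fun c => (e c, σ c) := ⟨fun c => Prod.ext (h1 c) (hl.2 c), fun r hr => Prod.ext
    ((map_ev (MonoidHom.fst G (GL I (ZMod 2))) _ r).trans (h2 r hr))
    ((map_ev (MonoidHom.snd G (GL I (ZMod 2))) _ r).trans (hR r hr))⟩
  have := simpleP
  exact final h1 hl.2 top (bd p (fun w hw => rel_of_mem (MonoidHom.snd _ _) p.snd inj (hX w hw) (exmem p w hw))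
    (inj_of_map (MonoidHom.snd _ _) inj)) card_ge (omega_equiv (by norm_num) cardO cardP le_iso)

end H3.Z27
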