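import Mathlib
import Cfsg.Agent.H3.Z81D
import Cfsg.Agent.H3.Z81F
import Cfsg.Agent.H3.Z81G
import Cfsg.Agent.S0293
import Cfsg.Agent.S0296

/-! A presentation of an orthogonal group in dimension eight over the field with three elements. -/

set_option autoImplicit false
set_option linter.all false

namespace H3.Z81

open H29 H7 H7.Cay H3.Z0 H3.Z1

variable {G K : Type*} [Group G] [Group K] {e : ℕ → G} {σ : ℕ → K}

/-- A model of the presentation. -/
structure Md (σ : ℕ → K) : Prop where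
  iv : IvOK σ (ivOf Z1.ivl)
  rel : ∀ r ∈ R, ev σ r = 1
  xt : ∀ r ∈ XT, ev σ r = 1
  aux : ∀ r ∈ AUX, ev σ r = 1
  ex : ∀ r ∈ EX, ev σ r = 1
  card : 4096 ≤ Nat.card (gen σ (List.range 12))

theorem Md.inj (m : Md σ) : M.Inj (vl σ) := by
  have p : Pr σ := ⟨m.iv, m.rel⟩
  have k : gen σ (List.range 12) ≤ p.snd.sub := gen_le.2 fun c hc =>
    have := p.cd c (List.mem_range.1 hc)
    ⟨_, this.1, this.2⟩
  have := p.snd.bd.1
  exact p.snd.inj_of_card (m.card.trans (Subgroup.card_le_of_le k))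

theorem pair {W : List (List ℕ)} (h1 : ∀ r ∈ W, ev e r = 1) (h2 : ∀ r ∈ W, ev σ r = 1) :
    ∀ r ∈ W, ev (fun c => (e c, σ c)) r = 1 := fun r hr => Prod.ext
  ((map_ev (MonoidHom.fst G K) _ r).trans (h1 r hr)) ((map_ev (MonoidHom.snd G K) _ r).trans (h2 r hr))

theorem Md.pr (m : Md σ) (h1 : IvOK e (ivOf Z1.ivl)) (h2 : ∀ r ∈ R, ev e r = 1) :
    Pr fun c => (e c, σ c) := ⟨fun c => Prod.ext (h1 c) (m.iv c), pair h2 m.rel⟩

theorem Md.braid (m : Md σ) (p : Pr fun c => (e c, σ c)) : ∀ r ∈ EX, ev (fun c => (e c, σ c)) r = 1 :=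
  fun w hw => rel_of_mem' (MonoidHom.snd _ _) p.snd m.inj (m.ex w hw) (exmem p w hw)

/-- The identities in the parabolic subgroup. -/
theorem aux (m : Md σ) (h1 : IvOK e (ivOf Z1.ivl)) (h2 : ∀ r ∈ R, ev e r = 1) :
    ∀ r ∈ AUX, ev e r = 1 := fun w hw => by
  have p := m.pr h1 h2
  have := rel_of_mem' (MonoidHom.snd _ _) p.snd m.inj (m.aux w hw) (auxmem p (m.braid p) w hw)
  exact (map_ev (MonoidHom.fst G K) _ w).symm.trans (by rw [this, map_one])

theorem cardP : Nat.card (Cfsg.POmega (ZMod 3) (Cfsg.quadFormPlus 4 (ZMod 3))) = 28431 * (42525 * 4096) := by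
  have := Cfsg.Agent.S0293.result (F := ZMod 3) (q := 3) (ZMod.card 3) 4 le_rfl
  rw [show Nat.gcd 4 (3 ^ 4 - 1) = 4 by decide] at this
  have k : (4 : ℕ) * (28431 * (42525 * 4096)) = _ := Eq.trans (by decide) this.symm
  omega

/-- The relators present the orthogonal group. -/
theorem iso [Nontrivial G] {σ : ℕ → Cfsg.POmega (ZMod 3) (Cfsg.quadFormPlus 4 (ZMod 3))} (m : Md σ)
    (top' : gen σ (List.range 21) = ⊤) (h1 : IvOK e (ivOf Z1.ivl)) (h2 : ∀ r ∈ R, ev e r = 1)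
    (h3 : ∀ r ∈ XT, ev e r = 1) (top : gen e (List.range 21) = ⊤) :
    Nonempty (G ≃* Cfsg.POmega (ZMod 3) (Cfsg.quadFormPlus 4 (ZMod 3))) := by
  have p := m.pr h1 h2
  have hi := inj_of_map' (e := fun c => (e c, σ c)) (MonoidHom.snd _ _) m.inj
  have := Cfsg.Agent.S0296.result (F := ZMod 3) 4 le_rfl
  exact final' Z1.hLL h1 m.iv top top'
    (cardP ▸ bdG p (m.braid p) (pair h3 m.xt) hi (bdH p (m.braid p) hi))

end H3.Z81
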