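import Mathlib
import Cfsg.Agent.H9.FDefs

/-! Partial homomorphisms, the wreath product with the sign group, gluing. -/

set_option autoImplicit false
set_option linter.unusedSectionVars false
set_option linter.unusedVariables false

namespace H9.FB.H3W

open H0 H29 Subgroup

variable {G F : Type*} [Group G] [Group F]

/-- `Ψ` is multiplicative on `S` -/
def Hm (Ψ : F → G) (S : Subgroup F) : Prop := ∀ a ∈ S, ∀ b ∈ S, Ψ (a * b) = Ψ a * Ψ b

namespace Hm

variable {Ψ : F → G} {S : Subgroup F} (h : Hm Ψ S)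
include h

/-- the bundled form -/
def hom : S →* G := MonoidHom.mk' (fun a => Ψ a) fun a b => h a a.2 b b.2

theorem one : Ψ 1 = 1 := h.hom.map_one

theorem inv {a : F} (ha : a ∈ S) : Ψ a⁻¹ = (Ψ a)⁻¹ := h.hom.map_inv ⟨a, ha⟩

theorem pow {a : F} (ha : a ∈ S) (n : ℕ) : Ψ (a ^ n) = Ψ a ^ n := h.hom.map_pow ⟨a, ha⟩ n

theorem zpow {a : F} (ha : a ∈ S) (n : ℤ) : Ψ (a ^ n) = Ψ a ^ n := h.hom.map_zpow ⟨a, ha⟩ n

theorem cj {a b : F} (ha : a ∈ S) (hb : b ∈ S) : Ψ (cj a b) = cj (Ψ a) (Ψ b) := by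
  rw [H0.cj, H0.cj, h _ (mul_mem ha hb) _ (inv_mem ha), h _ ha _ hb, h.inv ha]

theorem comm {a b : F} (ha : a ∈ S) (hb : b ∈ S) (c : Commute a b) : Commute (Ψ a) (Ψ b) := by
  rw [Commute, SemiconjBy, ← h _ ha _ hb, ← h _ hb _ ha, c.eq]

theorem mono {T : Subgroup F} (e : T ≤ S) : Hm Ψ T := fun a ha b hb => h a (e ha) b (e hb)

theorem closure_image {A : Set F} (hA : A ⊆ S) : (closure (Ψ '' A) : Set G) = Ψ '' closure A := by
  have e : (closure A).subgroupOf S = closure (S.subtype ⁻¹' A) := by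
    apply map_injective S.subtype_injective
    rw [subgroupOf_map_subtype, inf_of_le_left ((closure_le _).2 hA), MonoidHom.map_closure,
      Set.image_preimage_eq_of_subset (by simpa using hA)]
  have e1 : Ψ '' A = h.hom '' (S.subtype ⁻¹' A) := by
    ext x
    exact ⟨by rintro ⟨a, ha, rfl⟩; exact ⟨⟨a, hA ha⟩, ha, rfl⟩, by rintro ⟨a, ha, rfl⟩; exact ⟨a, ha, rfl⟩⟩
  rw [e1, ← MonoidHom.map_closure, ← e]
  ext x
  exact ⟨by rintro ⟨a, ha, rfl⟩; exact ⟨a, ha, rfl⟩,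
    by rintro ⟨a, ha, rfl⟩; exact ⟨⟨a, (closure_le _).2 hA ha⟩, ha, rfl⟩⟩

end Hm

theorem comm_of_inj {Ψ : F → G} {S : Subgroup F} (h : Hm Ψ S) (i : Set.InjOn Ψ S) {a b : F} (ha : a ∈ S)
    (hb : b ∈ S) (c : Commute (Ψ a) (Ψ b)) : Commute a b :=
  i (mul_mem ha hb) (mul_mem hb ha) (by rw [h _ ha _ hb, h _ hb _ ha, c.eq])

theorem mem_CC {x g : F} : g ∈ CC x ↔ Commute g x := mem_centralizer_singleton_iff

/-- the section of the sign -/
def sec (l : F) (q : ℤˣ) : F := if q = 1 then 1 else l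

/-- the induced map to the wreath product -/
def wr (χ : F →* ℤˣ) (l : F) (Ψ : F → G) (g : F) : G ≀ᵣ ℤˣ :=
  ⟨fun q => Ψ ((sec l q)⁻¹ * g * sec l ((χ g)⁻¹ * q)), χ g⟩

section

variable {χ : F →* ℤˣ} {l : F} {Ψ Ψ' : F → G} {C : Subgroup F}

theorem sec_mem (hl : l ∈ C) (q : ℤˣ) : sec l q ∈ C := by
  unfold sec; split_ifs
  exacts [one_mem _, hl]

theorem arg_mem (hl : l ∈ C) (hχ : χ l = -1) {g : F} (hg : g ∈ C) (q : ℤˣ) :
    (sec l q)⁻¹ * g * sec l ((χ g)⁻¹ * q) ∈ C ⊓ χ.ker := by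
  have e : ∀ q, χ (sec l q) = q := fun q => by
    rcases Int.units_eq_one_or q with rfl | rfl
    · simp [sec]
    · simpa [sec] using hχ
  refine mem_inf.2 ⟨mul_mem (mul_mem (inv_mem (sec_mem hl _)) hg) (sec_mem hl _), ?_⟩
  rw [MonoidHom.mem_ker, map_mul, map_mul, map_inv, e, e, mul_assoc, mul_inv_cancel_left, inv_mul_cancel]

theorem wr_hm (hl : l ∈ C) (hχ : χ l = -1) (h : Hm Ψ (C ⊓ χ.ker)) : Hm (wr χ l Ψ) C := fun a ha b hb => by
  refine RegularWreathProduct.ext (funext fun q => ?_) (map_mul χ a b)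
  change _ = Ψ _ * Ψ _
  rw [← h _ (arg_mem hl hχ ha _) _ (arg_mem hl hχ hb _)]
  simp only [wr, map_mul, mul_inv_rev, mul_assoc, mul_inv_cancel_left]

theorem wr_congr (hl : l ∈ C) (hχ : χ l = -1) (e : ∀ a ∈ C ⊓ χ.ker, Ψ a = Ψ' a) {g : F} (hg : g ∈ C) :
    wr χ l Ψ g = wr χ l Ψ' g :=
  RegularWreathProduct.ext (funext fun q => e _ (arg_mem hl hχ hg q)) rfl

theorem wr_even {g : F} (h1 : Commute g l) (h2 : χ g = 1) : wr χ l Ψ g = ⟨fun _ => Ψ g, 1⟩ := by
  refine RegularWreathProduct.ext (funext fun q => ?_) h2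
  rcases Int.units_eq_one_or q with rfl | rfl
  · simp [wr, h2, sec]
  · simp [wr, h2, sec, mul_assoc, h1.eq]

/-- an odd element of the wreath product -/
def od (a b : G) : G ≀ᵣ ℤˣ := ⟨fun q => if q = 1 then a else b, -1⟩

theorem wr_odd (hl : l * l = 1) {g : F} (h2 : χ g = -1) : wr χ l Ψ g = od (Ψ (g * l)) (Ψ (l * g)) := by
  refine RegularWreathProduct.ext (funext fun q => ?_) h2
  rcases Int.units_eq_one_or q with rfl | rfl
  · simp [wr, h2, sec, od]
  · simp [wr, h2, sec, od, inv_eq_of_sq hl]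

theorem od_swap (a b : G) : od b a = cj (od 1 1) (od a b) := by
  refine RegularWreathProduct.ext (funext fun q => ?_) (by simp [od, cj])
  rcases Int.units_eq_one_or q with rfl | rfl <;> simp [od, cj]

theorem comm_od {a b c : G} : Commute (⟨fun _ => c, 1⟩ : G ≀ᵣ ℤˣ) (od a b) ↔ Commute c a ∧ Commute c b := by
  constructor
  · intro e
    have e := congrArg RegularWreathProduct.left e.eq
    exact ⟨(commute_iff_eq _ _).2 (by simpa [od] using congrFun e 1),
      (commute_iff_eq _ _).2 (by simpa [od] using congrFun e (-1))⟩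
  · rintro ⟨h1, h2⟩
    refine RegularWreathProduct.ext (funext fun q => ?_) (by simp)
    rcases Int.units_eq_one_or q with rfl | rfl
    · simpa [od] using h1.eq
    · simpa [od] using h2.eq

theorem const_of_comm {w : G ≀ᵣ ℤˣ} (h1 : w.right = 1) (h : Commute w (od 1 1)) : w = ⟨fun _ => w.left 1, 1⟩ := by
  refine RegularWreathProduct.ext (funext fun q => ?_) h1
  rcases Int.units_eq_one_or q with rfl | rfl
  · rfl
  · simpa [od] using congrFun (congrArg RegularWreathProduct.left h.eq) (-1)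

end

/-- gluing -/
theorem glue {D : Set F} (hD : ∀ x ∈ D, ∀ g, cj g x ∈ D) {χ : F →* ℤˣ} (f : F → G ≀ᵣ ℤˣ)
    (hc : ∀ w : G ≀ᵣ ℤˣ, w.right = 1 → (∀ x ∈ D, Commute w (f x)) → w = 1)
    (ht : ∀ M : Subgroup F, (∀ g, (∃ w : G ≀ᵣ ℤˣ, w.right = χ g ∧ ∀ x ∈ D, f (cj g x) = cj w (f x)) → g ∈ M) → M = ⊤) :
    ∃ Φ : χ.ker →* G, ∀ (g : χ.ker) (w : G ≀ᵣ ℤˣ), w.right = 1 → (∀ x ∈ D, f (cj g x) = cj w (f x)) →
      Φ g = w.left 1 := by
  let P : F → G ≀ᵣ ℤˣ → Prop := fun g w => w.right = χ g ∧ ∀ x ∈ D, f (cj g x) = cj w (f x)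
  have mul : ∀ {g w g' w'}, P g w → P g' w' → P (g * g') (w * w') := fun {g w g' w'} h h' =>
    ⟨by rw [RegularWreathProduct.mul_right, h.1, h'.1, map_mul], fun x hx => by
      rw [← cj_cj, ← cj_cj, h.2 _ (hD x hx _), h'.2 x hx]⟩
  have inv : ∀ {g w}, P g w → P g⁻¹ w⁻¹ := fun {g w} h =>
    ⟨by rw [RegularWreathProduct.inv_right, h.1, map_inv], fun x hx => by
      rw [← cj_inv_cj w (f (cj g⁻¹ x)), ← h.2 _ (hD x hx _), cj_cj_inv]⟩
  have uniq : ∀ {g w w'}, P g w → P g w' → w = w' := fun {g w w'} h h' => by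
    have := mul (inv h) h'
    rw [inv_mul_cancel] at this
    exact inv_mul_eq_one.1 (hc _ (this.1.trans (map_one χ)) fun x hx =>
      cj_eq_self.1 ((this.2 x hx).symm.trans (by rw [cj_one])))
  let M : Subgroup F :=
    { carrier := {g | ∃ w, P g w}
      mul_mem' := fun h h' => h.elim fun _ h => h'.elim fun _ h' => ⟨_, mul h h'⟩
      one_mem' := ⟨1, by simp, fun x _ => by simp⟩
      inv_mem' := fun h => h.elim fun _ h => ⟨_, inv h⟩ }
  have all : ∀ g, ∃ w, P g w := fun g => (ht M fun g h => h).ge (mem_top g)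
  choose Φ hΦ using all
  refine ⟨MonoidHom.mk' (fun g => (Φ g).left 1) fun a b => ?_, fun g w h1 h2 =>
    congrArg (·.left 1) (uniq (hΦ g) ⟨h1.trans g.2.symm, h2⟩)⟩
  rw [coe_mul, uniq (hΦ _) (mul (hΦ a) (hΦ b))]
  simp [(hΦ a).1.trans a.2]

theorem comm_of_three {a κ : G} (ha : a ^ 3 = 1) (hκ : κ ^ 3 = 1) (h : cj a κ ∈ zpowers κ) : Commute a κ := by
  obtain ⟨n, hn⟩ := h
  change κ ^ n = _ at hn
  rw [zpow_eq_zpow_emod n (n := 3) (by exact_mod_cast hκ)] at hn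
  have k : n % 3 = 0 ∨ n % 3 = 1 ∨ n % 3 = 2 := by omega
  rcases k with k | k | k <;> rw [k] at hn
  · obtain rfl : κ = 1 := cj_injective a (by rw [← hn]; simp [cj])
    exact Commute.one_right a
  · exact cj_eq_self.1 (by rw [← hn, zpow_one])
  · have e : cj a κ = κ * κ := by rw [← hn, zpow_two]
    have e3 : cj (a * (a * a)) κ = κ * κ := by
      have : κ * κ * (κ * κ) = κ := by
        rw [show κ * κ * (κ * κ) = κ ^ 3 * κ by simp only [pow_succ, pow_zero, one_mul, mul_assoc], hκ, one_mul]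
      rw [← cj_cj, ← cj_cj, e, cj_mul, e, this, e]
    rw [show a * (a * a) = 1 by rw [← ha, pow_three], cj_one] at e3
    obtain rfl : κ = 1 := by simpa using e3
    exact Commute.one_right a

theorem sq_mem_of_dih {k l s : F} (hk : k * k = 1) (hl : l * l = 1) (hs : s ∈ closure ({k, l} : Set F)) :
    s * s ∈ zpowers (k * l) := by
  have i : ∀ z ∈ zpowers (k * l), k * z = z⁻¹ * k := by
    rintro _ ⟨n, rfl⟩
    have : k * (k * l) * k⁻¹ = (k * l)⁻¹ := by
      rw [← mul_assoc, hk, one_mul, mul_inv_rev, inv_eq_of_sq hl]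
    rw [← inv_zpow, ← this, conj_zpow, inv_mul_cancel_right]
  have : s ∈ zpowers (k * l) ∨ ∃ z ∈ zpowers (k * l), s = z * k := by
    have st : ∀ a ∈ ({k, l} : Set F), ∀ s, (s ∈ zpowers (k * l) ∨ ∃ z ∈ zpowers (k * l), s = z * k) →
        (a * s ∈ zpowers (k * l) ∨ ∃ z ∈ zpowers (k * l), a * s = z * k) := by
      have el : l = (k * l)⁻¹ * k := by rw [mul_inv_rev, inv_mul_cancel_right, inv_eq_of_sq hl]
      rintro a (rfl | rfl) s (h | ⟨z, h, rfl⟩)
      · exact Or.inr ⟨_, inv_mem h, i s h⟩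
      · exact Or.inl (by rw [← mul_assoc, i z h, mul_assoc, hk, mul_one]; exact inv_mem h)
      · exact Or.inr ⟨_, mul_mem (inv_mem (mem_zpowers _)) (inv_mem h), by
          rw [mul_assoc, ← i s h, ← mul_assoc, ← el]⟩
      · refine Or.inl ?_
        nth_rw 2 [el]
        rw [mul_assoc, ← mul_assoc k, i z h, mul_assoc, hk, mul_one]
        exact mul_mem (inv_mem (mem_zpowers _)) (inv_mem h)
    induction hs using closure_induction_left with
    | one => exact Or.inl (one_mem _)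
    | mul_left a ha g _ ih => exact st a ha g ih
    | inv_mul_cancel a ha g _ ih =>
      have : a⁻¹ = a := by rcases ha with rfl | rfl; exacts [inv_eq_of_sq hk, inv_eq_of_sq hl]
      rw [this]; exact st a ha g ih
  rcases this with h | ⟨z, h, rfl⟩
  · exact mul_mem h h
  · rw [mul_assoc, ← mul_assoc k, i z h, mul_assoc, hk, mul_one, mul_inv_cancel]; exact one_mem _

end H9.FB.H3W
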