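import Mathlib
import Cfsg.Agent.H3.FW1
import Cfsg.Agent.H9.FA2

/-! Residues in the big Fischer space, through parametrisations by `Fi₂₃`. -/

set_option autoImplicit false
set_option linter.unusedSectionVars false
set_option linter.unusedVariables false

namespace H9.FB.H3W

open H0 H29 Subgroup

variable {G F : Type*} [Group G] [Group F]

/-- the even part of the centraliser -/
abbrev Fx (χ : F →* ℤˣ) (x : F) : Subgroup F := CC x ⊓ χ.ker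

theorem mem_Fx {χ : F →* ℤˣ} {x g : F} : g ∈ Fx χ x ↔ Commute g x ∧ χ g = 1 := by
  rw [mem_inf, mem_CC, MonoidHom.mem_ker]

/-- the second residue, translated into the even subgroup -/
def Dl (D : Set F) (x y : F) : Set F := (· * x) '' Dx (Dx D x) y

theorem Dx_swap {D : Set F} {x y w : F} (h : w ∈ Dx (Dx D x) y) : w ∈ Dx (Dx D y) x :=
  ⟨⟨h.1.1, h.2.1, h.2.2⟩, h.1.2.1, h.1.2.2⟩

structure Par (D : Set F) (χ : F →* ℤˣ) (x : F) (φ : F23 →* F) : Prop where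
  sq : x * x = 1
  inj : Function.Injective φ
  rng : ∀ g, g ∈ φ.range ↔ Commute g x ∧ χ g = 1
  res : ∀ w, w ∈ Dx D x ↔ ∃ y ∈ D23, φ y = w * x

namespace Par

variable {D : Set F} {χ : F →* ℤˣ} {x : F} {φ : F23 →* F} (p : Par D χ x φ)
include p

theorem cm (y : F23) : Commute (φ y) x := ((p.rng _).1 ⟨y, rfl⟩).1

theorem mm (w : F) : w * x * x = w := by rw [mul_assoc, p.sq, mul_one]

theorem fiso : FIso (fun y => φ y * x) D23 :=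
  ⟨fun a _ b _ e => p.inj (mul_right_cancel e), fun a ha b hb => d23.1.conj b hb a, fun a _ b _ => by
    rw [map_cj, ← cj_cj, cj_of_commute ((p.cm b).symm.mul_right (Commute.refl x)), cj_mul, cj_of_commute (p.cm a)],
    d23.1.sq, fun a ha => by
      rw [mul_assoc, ← mul_assoc x, ← (p.cm a).eq, p.mm, ← map_mul, d23.1.sq a ha, map_one]⟩

theorem img : (fun y => φ y * x) '' D23 = Dx D x := by
  ext w
  rw [p.res]
  exact ⟨by rintro ⟨y, hy, rfl⟩; exact ⟨y, hy, (p.mm _).symm⟩, by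
    rintro ⟨y, hy, e⟩; exact ⟨y, hy, by simp only [e, p.mm]⟩⟩

theorem lq : LQ (Dx D x) ∧ F23q (Dx D x) := by
  rw [← p.img]
  refine ⟨p.fiso.lq d23.1.lq, ?_⟩
  rintro _ ⟨y, hy, rfl⟩
  rw [← p.fiso.image_Dx hy]
  exact ⟨(p.fiso.res y).lq (d23.2 y hy).1, (p.fiso.res y).f22 (d23.2 y hy).2⟩

theorem dl {y : F} {y0 : F23} (h0 : y0 ∈ D23) (e : φ y0 = y * x) : φ '' Dx D23 y0 = Dl D x y := by
  have := p.fiso.image_Dx h0
  simp only [p.img, e, p.mm] at this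
  rw [Dl, ← this, Set.image_image]
  simp only [p.mm]

theorem gen {y : F} (hy : y ∈ Dx D x) : closure (Dl D x y) = Fx χ x ⊓ CC y := by
  obtain ⟨y0, h0, e⟩ := (p.res y).1 hy
  rw [← p.dl h0 e, ← MonoidHom.map_closure, gen0 h0]
  ext g
  rw [mem_inf, mem_Fx, mem_CC, ← p.rng]
  constructor
  · rintro ⟨a, ha, rfl⟩
    refine ⟨⟨a, rfl⟩, ?_⟩
    rw [← p.mm y, ← e]
    exact ((mem_CC.1 ha).map φ).mul_right (p.cm a)
  · rintro ⟨⟨a, rfl⟩, h⟩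
    exact ⟨a, mem_CC.2 (p.inj (by rw [map_mul, map_mul, e]; exact (h.mul_right (p.cm a)).eq)), rfl⟩

theorem z0 {y z : F} (hy : y ∈ Dx D x) (hz : z ∈ Fx χ x) (h : ∀ w ∈ Dx (Dx D x) y, Commute z w) :
    z = 1 ∨ z = y * x := by
  obtain ⟨y0, h0, e⟩ := (p.res y).1 hy
  obtain ⟨a, rfl⟩ := (p.rng z).2 (mem_Fx.1 hz)
  rcases zen0 h0 (z := a) fun w hw => p.inj (by
    obtain ⟨v, hv, e'⟩ : φ w ∈ Dl D x y := p.dl h0 e ▸ ⟨w, hw, rfl⟩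
    rw [map_mul, map_mul, ← e']
    exact ((h v hv).mul_right (p.cm a)).eq) with rfl | rfl
  exacts [Or.inl (map_one φ), Or.inr e]

theorem z1 {y z n : F} (hy : y ∈ Dx D x) (hz : z ∈ Dx (Dx D x) y) (hn : n ∈ Fx χ x)
    (h : ∀ w ∈ Dx (Dx (Dx D x) y) z, Commute n w) :
    n = 1 ∨ n = y * x ∨ n = z * x ∨ n = y * x * (z * x) := by
  obtain ⟨y0, h0, e⟩ := (p.res y).1 hy
  obtain ⟨z0, h1, e1⟩ : z * x ∈ φ '' Dx D23 y0 := p.dl h0 e ▸ ⟨z, hz, rfl⟩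
  obtain ⟨a, rfl⟩ := (p.rng n).2 (mem_Fx.1 hn)
  have i := (p.fiso.res y0).image_Dx h1
  simp only [p.fiso.image_Dx h0, p.img, e, e1, p.mm] at i
  rcases zen1 h0 h1 (z := a) fun w hw => p.inj (by
    rw [map_mul, map_mul, ← p.mm (φ w)]
    exact ((h _ (i ▸ ⟨w, hw, rfl⟩)).mul_right (p.cm a)).eq) with rfl | rfl | rfl | rfl
  exacts [Or.inl (map_one φ), Or.inr (Or.inl e), Or.inr (Or.inr (Or.inl e1)),
    Or.inr (Or.inr (Or.inr (by rw [map_mul, e, e1])))]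

end Par

section

variable {D : Set F} {e : ℕ → F} {χ : F →* ℤˣ} {φ : F23 →* F} {x2 : F} {col : F → ZMod 3}
  (m : FI D e χ φ x2 col)
include m

theorem par11 : Par D χ (e 11) φ := ⟨m.tt.sq _ (m.mem 11 (by decide)), m.inj, m.rng, m.res⟩

theorem χ_cj (g x : F) : χ (cj g x) = χ x := by rw [map_cj, cj_of_commute (Commute.all _ _)]

theorem Dx_cj {g x w : F} : cj g w ∈ Dx D (cj g x) ↔ w ∈ Dx D x := by
  simp only [Dx, Set.mem_ofPred_eq, m.tt.mem_cj, ne_eq, cj_inj, commute_cj]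

theorem Dx2_cj {g x y w : F} : cj g w ∈ Dx (Dx D (cj g x)) (cj g y) ↔ w ∈ Dx (Dx D x) y := by
  simp only [Dx, Set.mem_ofPred_eq, m.tt.mem_cj, ne_eq, cj_inj, commute_cj]

theorem Dl_cj (g x y : F) : cj g '' Dl D x y = Dl D (cj g x) (cj g y) := by
  ext a
  constructor
  · rintro ⟨_, ⟨w, hw, rfl⟩, rfl⟩
    exact ⟨cj g w, (Dx2_cj m).2 hw, (cj_mul _ _ _).symm⟩
  · rintro ⟨w, hw, rfl⟩
    obtain ⟨w, rfl⟩ : ∃ v, cj g v = w := ⟨_, cj_cj_inv g w⟩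
    exact ⟨_, ⟨w, (Dx2_cj m).1 hw, rfl⟩, cj_mul _ _ _⟩

theorem par {x : F} (hx : x ∈ D) : ∃ φ', Par D χ x φ' := by
  obtain ⟨g, rfl⟩ := m.tt.trans _ (m.mem 11 (by decide)) x hx
  refine ⟨(MulAut.conj g).toMonoidHom.comp φ, m.tt.sq _ hx, (MulAut.conj g).injective.comp m.inj, fun a => ?_,
    fun w => ?_⟩
  · obtain ⟨a, rfl⟩ : ∃ v, cj g v = a := ⟨_, cj_cj_inv g a⟩
    rw [commute_cj, χ_cj m, ← m.rng]
    exact ⟨fun ⟨y, h⟩ => ⟨y, cj_injective g h⟩, fun ⟨y, h⟩ => ⟨y, congrArg (cj g) h⟩⟩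
  · obtain ⟨w, rfl⟩ : ∃ v, cj g v = w := ⟨_, cj_cj_inv g w⟩
    rw [Dx_cj m, m.res, ← cj_mul]
    exact ⟨fun ⟨y, h, e⟩ => ⟨y, h, congrArg (cj g) e⟩, fun ⟨y, h, e⟩ => ⟨y, h, cj_injective g e⟩⟩

theorem lqx {x : F} (hx : x ∈ D) : LQ (Dx D x) ∧ F23q (Dx D x) := let ⟨_, p⟩ := par m hx; p.lq

theorem cl_Dx (x : F) : closure (Dx D x) ≤ CC x := (closure_le _).2 fun _ h => mem_CC.2 h.2.2.symm

theorem even_of {x g : F} (hx : x ∈ D) : ∃ g', χ g' = 1 ∧ (g' = g ∨ g' = g * x) := by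
  rcases Int.units_eq_one_or (χ g) with h | h
  · exact ⟨g, h, Or.inl rfl⟩
  · exact ⟨g * x, by rw [map_mul, h, m.sgn x hx]; rfl, Or.inr rfl⟩

theorem trans_Fx {x y y' : F} (hx : x ∈ D) (hy : y ∈ Dx D x) (hy' : y' ∈ Dx D x) : ∃ g ∈ Fx χ x, cj g y = y' := by
  obtain ⟨g, hg, rfl⟩ := (lqx m hx).1.trans hy hy'
  have c := mem_CC.1 (cl_Dx m x hg)
  obtain ⟨g', h1, rfl | rfl⟩ := even_of m (g := g) hx
  · exact ⟨g', mem_Fx.2 ⟨c, h1⟩, rfl⟩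
  · exact ⟨_, mem_Fx.2 ⟨c.mul_left (Commute.refl x), h1⟩, by rw [← cj_cj, cj_of_commute hy.2.2]⟩

theorem swap {x y : F} (hx : x ∈ D) (hy : y ∈ Dx D x) : ∃ g, χ g = 1 ∧ cj g x = y ∧ cj g y = x := by
  obtain ⟨g, e1⟩ := m.tt.trans _ hx y hy.1
  obtain ⟨k, hk, e2⟩ := (lqx m hy.1).1.trans (x := cj g y) (y := x) (by have := (Dx_cj m (g := g)).2 hy; rwa [e1] at this)
    ⟨hx, hy.2.1.symm, hy.2.2.symm⟩
  have e3 : cj (k * g) x = y := by rw [← cj_cj, e1, cj_of_commute (mem_CC.1 (cl_Dx m y hk))]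
  rw [cj_cj] at e2
  obtain ⟨g', h1, rfl | rfl⟩ := even_of m (g := k * g) hx
  · exact ⟨_, h1, e3, e2⟩
  · exact ⟨_, h1, by rw [← cj_cj, cj_self, e3], by rw [← cj_cj, cj_of_commute hy.2.2, e2]⟩

theorem mul_mem_Fx {x y w : F} (hx : x ∈ D) (hw : w ∈ D) (h1 : Commute w y) (h2 : Commute x y) :
    w * x ∈ Fx χ y :=
  mem_Fx.2 ⟨h1.mul_left h2, by rw [map_mul, m.sgn x hx, m.sgn w hw]; rfl⟩

theorem Dl_swap {x y : F} (hx : x ∈ D) (hy : y ∈ Dx D x) : Dl D y x = (y * x * ·) '' Dl D x y := by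
  have k : ∀ w ∈ Dx (Dx D x) y, y * x * (w * x) = w * y := fun w hw => by
    rw [mul_assoc, ← mul_assoc x, hw.1.2.2.eq, mul_assoc, m.tt.sq x hx, mul_one, hw.2.2.eq]
  ext a
  exact ⟨by rintro ⟨w, hw, rfl⟩; exact ⟨_, ⟨w, Dx_swap hw, rfl⟩, k w (Dx_swap hw)⟩,
    by rintro ⟨_, ⟨w, hw, rfl⟩, rfl⟩; exact ⟨w, Dx_swap hw, (k w hw).symm⟩⟩

theorem genx {x y : F} (hx : x ∈ D) (hy : y ∈ Dx D x) : closure (Dl D x y) = Fx χ x ⊓ CC y :=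
  let ⟨_, p⟩ := par m hx; p.gen hy

end

end H9.FB.H3W
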