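import Mathlib
import Cfsg.Agent.H3.FW2
import Cfsg.Agent.H9.FA3

/-! Level-zero charts. -/

set_option autoImplicit false
set_option linter.unusedSectionVars false
set_option linter.unusedVariables false

namespace H9.FB.H3W

open H0 H29 Subgroup

variable {G F : Type*} [Group G] [Group F]

theorem ori_cj {ι : CC t23 →* G} {u : G} {Δ : Set G} (o : Ori ι u Δ) (g : G) : Ori ι (cj g u) (cj g '' Δ) :=
  let ⟨k, h1, h2⟩ := o; ⟨g * k, by rw [← cj_cj, h1], by rw [← cj_image_cj, h2]⟩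

/-- a chart at a point of the big space -/
structure C0 (ι : CC t23 →* G) (D : Set F) (χ : F →* ℤˣ) (x : F) (Ψ : F → G) : Prop where
  hm : Hm Ψ (Fx χ x)
  inj : Set.InjOn Ψ (Fx χ x)
  ori : ∀ y ∈ Dx D x, Ori ι (Ψ (y * x)) (Ψ '' Dl D x y)

variable {ι : CC t23 →* G} {D : Set F} {e : ℕ → F} {χ : F →* ℤˣ} {φ : F23 →* F} {x2 : F} {col : F → ZMod 3}

theorem C0.cjG {x : F} {Ψ : F → G} (c : C0 ι D χ x Ψ) (r : G) : C0 ι D χ x (fun a => cj r (Ψ a)) :=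
  ⟨fun a ha b hb => by simp only [c.hm a ha b hb, cj_mul], fun a ha b hb e => c.inj ha hb (cj_injective r e),
    fun y hy => by rw [← Set.image_image]; exact ori_cj (c.ori y hy) r⟩

section

variable (m : FI D e χ φ x2 col)
include m

theorem Dl_sub {x y : F} (hx : x ∈ D) (hy : y ∈ Dx D x) : Dl D x y ⊆ (Fx χ x ⊓ CC y : Subgroup F) :=
  genx m hx hy ▸ subset_closure

theorem c0_of_one {x y : F} {Ψ : F → G} (hx : x ∈ D) (hm : Hm Ψ (Fx χ x)) (inj : Set.InjOn Ψ (Fx χ x))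
    (hy : y ∈ Dx D x) (o : Ori ι (Ψ (y * x)) (Ψ '' Dl D x y)) : C0 ι D χ x Ψ := by
  refine ⟨hm, inj, fun y' hy' => ?_⟩
  obtain ⟨g, hg, rfl⟩ := trans_Fx m hx hy hy'
  have e1 := cj_of_commute (mem_Fx.1 hg).1
  have := Dl_cj m g x y
  rw [e1] at this
  rw [← this, ← e1, ← cj_mul, e1, hm.cj hg (mul_mem_Fx m hx hy.1 hy.2.2.symm (Commute.refl x)), Set.image_image,
    Set.image_congr fun a ha => hm.cj hg (Dl_sub m hx hy ha).1, ← Set.image_image]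
  exact ori_cj o _

theorem Fx_cj {g x a : F} : cj g⁻¹ a ∈ Fx χ x ↔ a ∈ Fx χ (cj g x) := by
  rw [mem_Fx, mem_Fx, χ_cj m, ← commute_cj (g := g), cj_cj_inv]

theorem C0.cjF {x : F} {Ψ : F → G} (c : C0 ι D χ x Ψ) (g : F) : C0 ι D χ (cj g x) (fun a => Ψ (cj g⁻¹ a)) := by
  refine ⟨fun a ha b hb => by simp only [cj_mul, c.hm _ ((Fx_cj m).2 ha) _ ((Fx_cj m).2 hb)],
    fun a ha b hb e => cj_injective _ (c.inj ((Fx_cj m).2 ha) ((Fx_cj m).2 hb) e), fun y hy => ?_⟩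
  obtain ⟨y, rfl⟩ : ∃ v, cj g v = y := ⟨_, cj_cj_inv g y⟩
  rw [← Dl_cj m, Set.image_image]
  simp only [← cj_mul, cj_inv_cj]
  exact c.ori y ((Dx_cj m).1 hy)

end

variable [Finite G] {t : G} (h : FB t ι)
include h

theorem aut {u : G} {A : Set F} {Ψ Ψ' : F → G} (o : Ori ι u (Ψ '' A)) (h1 : Hm Ψ (closure A))
    (i1 : Set.InjOn Ψ (closure A)) (h2 : Hm Ψ' (closure A)) (i2 : Set.InjOn Ψ' (closure A))
    (e : Ψ' '' A ⊆ Ψ '' A) : ∃ n ∈ closure A, ∀ a ∈ closure A, Ψ' a = Ψ (cj n a) := by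
  have r : h1.hom.range = closure (Ψ '' A) := by
    apply SetLike.coe_injective
    rw [h1.closure_image subset_closure]
    ext x
    exact ⟨by rintro ⟨a, rfl⟩; exact ⟨a, a.2, rfl⟩, by rintro ⟨a, ha, rfl⟩; exact ⟨⟨a, ha⟩, rfl⟩⟩
  let ε : closure A ≃* closure (Ψ '' A) :=
    (MonoidHom.ofInjective (f := h1.hom) fun a b e => Subtype.ext (i1 a.2 b.2 e)).trans (MulEquiv.subgroupCongr r)
  have hε : ∀ a, (ε a : G) = Ψ a := fun a => rfl
  obtain ⟨l, hl, k⟩ := h.aut2 o (h2.hom.comp ε.symm.toMonoidHom)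
    (fun a b e => ε.symm.injective (Subtype.ext (i2 (ε.symm a).2 (ε.symm b).2 e))) fun x hx => by
      obtain ⟨x, rfl⟩ := ε.surjective x
      obtain ⟨a, ha, e'⟩ := hx
      refine e ⟨a, ha, ?_⟩
      change _ = Ψ' (ε.symm (ε x))
      rw [ε.symm_apply_apply, i1 (subset_closure ha) x.2 e']
  obtain ⟨n, hn⟩ := ε.surjective ⟨l, hl⟩
  refine ⟨n, n.2, fun a ha => ?_⟩
  have := k (ε ⟨a, ha⟩)
  change Ψ' (ε.symm (ε _)) = _ at this
  rw [ε.symm_apply_apply] at this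
  rw [this, h1.cj n.2 ha, ← hε n, hn, hε]

variable (m : FI D e χ φ x2 col)
include m

theorem flip_img {x y : F} {Ψ : F → G} (hx : x ∈ D) (hy : y ∈ Dx D x) (c : Hm Ψ (Fx χ x ⊓ CC y)) :
    Ψ '' Dl D y x = (Ψ (y * x) * ·) '' (Ψ '' Dl D x y) := by
  rw [Dl_swap m hx hy, Set.image_image, Set.image_image]
  exact Set.image_congr fun a ha => c _ ⟨mul_mem_Fx m hx hy.1 hy.2.2.symm (Commute.refl x),
    mem_CC.2 ((Commute.refl y).mul_left hy.2.2)⟩ _ (Dl_sub m hx hy ha)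

omit h m in
theorem Fx_swap (x y : F) : Fx χ x ⊓ CC y = Fx χ y ⊓ CC x := by
  rw [inf_right_comm, inf_comm (CC x), ← inf_right_comm]

theorem ext0 {x y : F} {Ψ : F → G} (hx : x ∈ D) (c : C0 ι D χ x Ψ) (hy : y ∈ Dx D x) :
    ∃ Ψ', C0 ι D χ y Ψ' ∧ ∀ a ∈ Fx χ x ⊓ CC y, Ψ' a = Ψ a := by
  have hx' : x ∈ Dx D y := ⟨hx, hy.2.1.symm, hy.2.2.symm⟩
  obtain ⟨g, -, e1, e2⟩ := swap m hx hy
  have o := c.ori y hy
  have o' := (h.flip o).1
  rw [← flip_img h m hx hy (c.hm.mono inf_le_left)] at o'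
  obtain ⟨g1, a1, b1⟩ := o
  obtain ⟨g2, a2, b2⟩ := id o'
  have c2 := (c.cjF m g).cjG (g2 * g1⁻¹)
  rw [e1] at c2
  have K : closure (Dl D y x) = Fx χ x ⊓ CC y := (genx m hy.1 hx').trans (Fx_swap _ _)
  have K' : closure (Dl D y x) ≤ Fx χ y := (genx m hy.1 hx').le.trans inf_le_left
  obtain ⟨n, hn, k⟩ := aut h o' (c.hm.mono (K.le.trans inf_le_left)) (c.inj.mono (K.le.trans inf_le_left))
    (c2.hm.mono K') (c2.inj.mono K') (by
      have := Dl_cj m g x y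
      rw [e1, e2] at this
      rw [← b2, ← this, Set.image_image]
      simp only [cj_inv_cj]
      rw [← Set.image_image (cj (g2 * g1⁻¹)), ← b1, cj_image_cj, inv_mul_cancel_right])
  rw [K] at hn k
  exact ⟨_, c2.cjG (Ψ n)⁻¹, fun a ha => by rw [k a ha, c.hm.cj hn.1 ha.1, cj_inv_cj]⟩

theorem cmp0 {x y l : F} {Ψ Ψ' : F → G} (hx : x ∈ D) (hy : y ∈ Dx D x) (hl : l ∈ Dx (Dx D x) y)
    (c : C0 ι D χ x Ψ) (c' : C0 ι D χ y Ψ') (e : ∀ a ∈ Fx χ x ⊓ CC y, Commute a l → Ψ' a = Ψ a) :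
    (∀ a ∈ Fx χ x ⊓ CC y, Ψ' a = Ψ a) ∨ ∀ a ∈ Fx χ x ⊓ CC y, Ψ' a = Ψ (cj l a) := by
  have hx' : x ∈ Dx D y := ⟨hx, hy.2.1.symm, hy.2.2.symm⟩
  have K := genx m hx hy
  have K' : closure (Dl D x y) ≤ Fx χ y := (K.trans (Fx_swap _ _)).le.trans inf_le_left
  have hu : y * x ∈ Fx χ x ⊓ CC y := ⟨mul_mem_Fx m hx hy.1 hy.2.2.symm (Commute.refl x),
    mem_CC.2 ((Commute.refl y).mul_left hy.2.2)⟩
  have eu : Ψ' (x * y) = Ψ (y * x) := by rw [hy.2.2.eq]; exact e _ hu (hl.2.2.mul_left hl.1.2.2)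
  have o := c.ori y hy
  have o' := (h.flip (c'.ori x hx')).1
  rw [← flip_img h m hy.1 hx' (c'.hm.mono inf_le_left), eu] at o'
  have hd : l * x ∈ Dl D x y := ⟨l, hl, rfl⟩
  have ed := e _ (Dl_sub m hx hy hd) ((Commute.refl l).mul_left hl.1.2.2)
  have ee : Ψ' '' Dl D x y = Ψ '' Dl D x y := (h.cases o o').resolve_right fun k => by
    obtain ⟨d, h1, h2⟩ := k.le ⟨_, hd, rfl⟩
    exact ((h.lq o).2.2.2.2.2.1 d h1).2.1 ⟨_, hd, ed.symm.trans h2.symm⟩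
  obtain ⟨n, hn, k⟩ := aut h o (c.hm.mono (K.le.trans inf_le_left)) (c.inj.mono (K.le.trans inf_le_left))
    (c'.hm.mono K') (c'.inj.mono K') ee.le
  rw [K] at hn k
  obtain ⟨_, p⟩ := par m hx
  have cx : ∀ a ∈ Fx χ x ⊓ CC y, Commute x a := fun a ha => (mem_Fx.1 ha.1).1.symm
  have cy : ∀ a ∈ Fx χ x ⊓ CC y, Commute (y * x) a := fun a ha => (mem_CC.1 ha.2).symm.mul_left (cx a ha)
  rcases p.z1 hy hl hn.1 fun w hw => by
    have hw' := Dl_sub m hx hy ⟨w, hw.1, rfl⟩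
    have := (k _ hw').symm.trans (e _ hw' (hw.2.2.symm.mul_left hl.1.2.2))
    have := cj_eq_self.1 (c.inj (mul_mem (mul_mem hn.1 hw'.1) (inv_mem hn.1)) hw'.1 this)
    rw [← p.mm w]
    exact this.mul_right (cx n hn).symm with rfl | rfl | rfl | rfl
  · exact Or.inl fun a ha => by rw [k a ha, cj_one]
  · exact Or.inl fun a ha => by rw [k a ha, cj_of_commute (cy a ha)]
  · exact Or.inr fun a ha => by rw [k a ha, ← cj_cj, cj_of_commute (cx a ha)]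
  · exact Or.inr fun a ha => by
      rw [k a ha, ((hl.2.2.mul_right hy.2.2.symm).mul_left (hl.1.2.2.mul_right (Commute.refl x))).eq, ← cj_cj,
        cj_of_commute (cy a ha), ← cj_cj, cj_of_commute (cx a ha)]

end H9.FB.H3W
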