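import Mathlib
import Cfsg.Agent.H3.FW3
import Cfsg.Agent.H9.FA1

/-! Level zero: the triality argument and the gluing. -/

set_option autoImplicit false
set_option linter.unusedSectionVars false
set_option linter.unusedVariables false

namespace H9.FB.H3W

open H0 H29 Subgroup

variable {G F : Type*} [Group G] [Group F]

/-- elements of `C(l)` whose image commutes with `K` -/
def Tc {l : F} {Φ : F → G} (h : Hm Φ (CC l)) (K : G) : Subgroup F where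
  carrier := {g | Commute g l ∧ Commute (Φ g) K}
  mul_mem' := fun ha hb => ⟨ha.1.mul_left hb.1, by
    rw [h _ (mem_CC.2 ha.1) _ (mem_CC.2 hb.1)]; exact ha.2.mul_left hb.2⟩
  one_mem' := ⟨Commute.one_left _, by rw [h.one]; exact Commute.one_left _⟩
  inv_mem' := fun ha => ⟨ha.1.inv_left, by rw [h.inv (mem_CC.2 ha.1)]; exact ha.2.inv_left⟩

variable {ι : CC t23 →* G} {D : Set F} {e : ℕ → F} {χ : F →* ℤˣ} {φ : F23 →* F} {x2 : F} {col : F → ZMod 3}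

section

variable (m : FI D e χ φ x2 col)
include m

theorem DKL_cj {g y : F} (h1 : Commute g (e 10)) (h2 : Commute g (e 11)) (hy : y ∈ DKL D e) : cj g y ∈ DKL D e :=
  ⟨m.tt.conj y hy.1 g, (commute_cj_left h1).2 hy.2.1, (commute_cj_left h2).2 hy.2.2⟩

theorem DKL_Dx {y : F} (hy : y ∈ DKL D e) : y ∈ Dx D (e 11) :=
  ⟨hy.1, fun h => m.adj (h ▸ hy.2.1).symm, hy.2.2.symm⟩

theorem let_comm {s t : ℕ} (h : s < 12 ∧ t < 12 ∧ (s, t) ∉ A24 ∧ (t, s) ∉ A24) : Commute (e s) (e t) :=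
  (m.dg s h.1 t h.2.1).2 h.2.2.1 h.2.2.2

theorem let_DKL {c : ℕ} (hc : c ∈ L9) : e c ∈ DKL D e :=
  ⟨m.mem c (by revert c; decide), let_comm m (by revert c; decide), let_comm m (by revert c; decide)⟩

theorem col_gen {g : F} (hg : g ∈ gen e L9) : Commute g (e 10) ∧ Commute g (e 11) ∧
    ∀ z ∈ DKL D e, col (cj g z) = ((χ g : ℤ) : ZMod 3) * col z := by
  have sq : ∀ g, ((χ g : ℤ) : ZMod 3) * ((χ g : ℤ) : ZMod 3) = 1 := fun g => by
    rcases Int.units_eq_one_or (χ g) with h | h <;> simp [h]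
  induction hg using closure_induction with
  | mem x hx =>
    obtain ⟨c, hc, rfl⟩ := hx
    exact ⟨(let_DKL m hc).2.1, (let_DKL m hc).2.2, fun z hz => by
      rw [m.c1 c hc z hz, m.sgn _ (let_DKL m hc).1]; simp⟩
  | one => exact ⟨Commute.one_left _, Commute.one_left _, fun z _ => by simp⟩
  | mul a b _ _ ha hb => exact ⟨ha.1.mul_left hb.1, ha.2.1.mul_left hb.2.1, fun z hz => by
      rw [← cj_cj, ha.2.2 _ (DKL_cj m hb.1 hb.2.1 hz), hb.2.2 z hz, map_mul]; push_cast; ring⟩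
  | inv a _ ha => exact ⟨ha.1.inv_left, ha.2.1.inv_left, fun z hz => by
      have := ha.2.2 _ (DKL_cj m ha.1.inv_left ha.2.1.inv_left hz)
      rw [cj_cj_inv] at this
      rw [this, map_inv, Int.units_inv_eq_self, ← mul_assoc, sq, one_mul]⟩

theorem col_zero {y : F} (hy : y ∈ DKL D e) (hc : Commute (e 2) y) : col y = 0 := by
  have := m.c1 2 (by decide) y hy
  rw [cj_of_commute hc] at this
  revert this; generalize col y = a; revert a; decide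

theorem ne25 : e 5 ∈ Dx D (e 2) := ⟨m.mem 5 (by decide), fun h => by
  have a : Commute (e 5) (e 1) := let_comm m (by decide)
  have b := (m.dg 1 (by decide) 2 (by decide)).1 (by decide)
  rw [h] at a
  rw [cj_of_commute a, cj_of_commute a.symm] at b
  have c : Commute (e 2) (e 0) := let_comm m (by decide)
  have d := (m.dg 0 (by decide) 1 (by decide)).1 (by decide)
  rw [b] at c
  rw [cj_of_commute c, cj_of_commute c.symm] at d
  have f : Commute (e 1) (e 10) := let_comm m (by decide)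
  have g := (m.dg 0 (by decide) 10 (by decide)).1 (by decide)
  rw [d] at f
  rw [cj_of_commute f, cj_of_commute f.symm] at g
  exact m.adj (g.symm ▸ let_comm m (s := 0) (t := 11) (by decide)), let_comm m (by decide)⟩

theorem kl_res {p q : F} (hp : p ∈ DKL D e) (hq : q ∈ DKL D e) :
    e 10 ∈ Dx (Dx D p) q ∧ e 11 ∈ Dx (Dx D p) q :=
  ⟨⟨⟨m.mem 10 (by decide), fun h => m.adj (h ▸ hp.2.2), hp.2.1⟩, fun h => m.adj (h ▸ hq.2.2), hq.2.1⟩,
    ⟨m.mem 11 (by decide), (DKL_Dx m hp).2.1.symm, hp.2.2⟩, (DKL_Dx m hq).2.1.symm, hq.2.2⟩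

theorem hml {p : F} {Ψ : F → G} (c : C0 ι D χ p Ψ) (hp : Commute (e 11) p) : Hm (wr χ (e 11) Ψ) (CC p) :=
  wr_hm (mem_CC.2 hp) (m.sgn _ (m.mem 11 (by decide))) c.hm

theorem wr_eq {p g : F} {Ψ Ψ' : F → G} (hp : Commute (e 11) p) (h : ∀ a ∈ Fx χ (e 11) ⊓ CC p, Ψ' a = Ψ a)
    (h1 : Commute g (e 11)) (h2 : Commute g p) : wr χ (e 11) Ψ' g = wr χ (e 11) Ψ g :=
  wr_congr (C := CC (e 11) ⊓ CC p) ⟨mem_CC.2 (Commute.refl _), mem_CC.2 hp⟩ (m.sgn _ (m.mem 11 (by decide)))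
    (fun a ha => h a ⟨⟨ha.1.1, ha.2⟩, ha.1.2⟩) ⟨mem_CC.2 h1, mem_CC.2 h2⟩

theorem sq11 : e 11 * e 11 = 1 := m.tt.sq _ (m.mem 11 (by decide))

theorem sq10 : e 10 * e 10 = 1 := m.tt.sq _ (m.mem 10 (by decide))

end

/-- three compatible charts -/
structure Sit (ι : CC t23 →* G) (D : Set F) (e : ℕ → F) (χ : F →* ℤˣ) (Ψl Ψc Ψf : F → G) : Prop where
  cl : C0 ι D χ (e 11) Ψl
  cc : C0 ι D χ (e 2) Ψc
  cf : C0 ι D χ (e 5) Ψf
  ec : ∀ a ∈ Fx χ (e 11) ⊓ CC (e 2), Ψc a = Ψl a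
  ef : ∀ a ∈ Fx χ (e 11) ⊓ CC (e 5), Ψf a = Ψl a

variable [Finite G] [Finite F] {t : G} (h : FB t ι) (m : FI D e χ φ x2 col) {Ψl Ψc Ψf : F → G}
  (s : Sit ι D e χ Ψl Ψc Ψf)
include m s

/-- the stabiliser of the image of the letter `10` -/
abbrev T0 : Subgroup F := Tc (hml m s.cl (Commute.refl _)) (wr χ (e 11) Ψc (e 10))

theorem stepB {g : F} (h1 : Commute g (e 11)) (h2 : Commute g (e 10)) (h3 : Commute g (e 2)) : g ∈ T0 m s := by
  have c2 := let_DKL m (c := 2) (by decide)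
  refine ⟨h1, ?_⟩
  rw [← wr_eq m c2.2.2.symm s.ec h1 h3]
  exact (hml m s.cc c2.2.2.symm).comm (mem_CC.2 h3) (mem_CC.2 c2.2.1.symm) h2

include h

theorem stepF {g : F} (h1 : Commute g (e 11)) (h2 : Commute g (e 10)) (h3 : Commute g (e 5)) : g ∈ T0 m s := by
  have c2 := let_DKL m (c := 2) (by decide)
  have c5 := let_DKL m (c := 5) (by decide)
  have s10 := m.sgn _ (m.mem 10 (by decide))
  refine ⟨h1, ?_⟩
  have a := (hml m s.cf c5.2.2.symm).comm (mem_CC.2 h3) (mem_CC.2 c5.2.1.symm) h2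
  rw [wr_eq m c5.2.2.symm s.ef h1 h3, wr_odd (sq11 m) s10] at a
  have b := (hml m s.cl (Commute.refl _)).comm (mem_CC.2 h1) (mem_CC.2 (Commute.refl _)) h1
  rw [wr_odd (sq11 m) (m.sgn _ (m.mem 11 (by decide))), sq11 m, s.cl.hm.one] at b
  have k1 : e 10 * e 11 ∈ Fx χ (e 2) ⊓ CC (e 5) := ⟨mul_mem_Fx m (m.mem 11 (by decide)) (m.mem 10 (by decide))
    c2.2.1.symm c2.2.2.symm, mem_CC.2 (c5.2.1.symm.mul_left c5.2.2.symm)⟩
  have k2 : e 11 * e 10 ∈ Fx χ (e 2) ⊓ CC (e 5) := ⟨mul_mem_Fx m (m.mem 10 (by decide)) (m.mem 11 (by decide))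
    c2.2.2.symm c2.2.1.symm, mem_CC.2 (c5.2.2.symm.mul_left c5.2.1.symm)⟩
  rw [wr_odd (sq11 m) s10]
  rcases cmp0 h m c2.1 (ne25 m) (kl_res m c2 c5).2 s.cc s.cf fun a ha c =>
    (s.ef a ⟨mem_Fx.2 ⟨c, (mem_Fx.1 ha.1).2⟩, ha.2⟩).trans
      (s.ec a ⟨mem_Fx.2 ⟨c, (mem_Fx.1 ha.1).2⟩, ha.1.1⟩).symm with k | k
  · rwa [k _ k1, k _ k2] at a
  · rw [k _ k1, k _ k2, cj, cj, mul_assoc, mul_inv_cancel_right, ← mul_assoc (e 11), sq11 m, one_mul,
      inv_eq_of_sq (sq11 m), od_swap] at a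
    exact (commute_cj_right b.symm).1 a

theorem stepA : gen e L9 ≤ T0 m s := gen_le.2 fun c hc => by
  have : ∀ c ∈ L9, (c < 12 ∧ 2 < 12 ∧ (c, 2) ∉ A24 ∧ (2, c) ∉ A24) ∨
    (c < 12 ∧ 5 < 12 ∧ (c, 5) ∉ A24 ∧ (5, c) ∉ A24) := by decide
  rcases this c hc with k | k
  · exact stepB m s (let_DKL m hc).2.2 (let_DKL m hc).2.1 (let_comm m k)
  · exact stepF h m s (let_DKL m hc).2.2 (let_DKL m hc).2.1 (let_comm m k)

theorem stepB' {S : Subgroup F} (hS : S ≤ T0 m s) (hk : ∀ a ∈ S, Commute a (e 10)) {g a : F} (h1 : Commute g (e 11))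
    (h2 : Commute g (e 10)) (ha : a ∈ S) (h3 : cj a (e 2) = cj g (e 2)) : g ∈ T0 m s := by
  have := stepB m s (g := a⁻¹ * g) ((hS ha).1.inv_left.mul_left h1) ((hk a ha).inv_left.mul_left h2)
    (cj_eq_self.1 (by rw [← cj_cj, ← h3, cj_inv_cj]))
  rw [← mul_inv_cancel_left a g]
  exact mul_mem (hS ha) this

theorem stepC : x2 ∈ T0 m s := by
  have c2 := let_DKL m (c := 2) (by decide)
  have c5 := let_DKL m (c := 5) (by decide)
  have hx := m.x2m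
  have s10 := m.sgn _ (m.mem 10 (by decide))
  have nc : ¬ Commute (e 2) x2 := fun c => by
    have := col_zero m hx c
    rw [m.x2c] at this
    exact absurd this (by decide)
  obtain ⟨τ, hτ⟩ : ∃ τ, τ = x2 * e 2 := ⟨_, rfl⟩
  have τ3 : τ ^ 3 = 1 := hτ ▸ m.tt.pow_three hx.1 c2.1 (m.tt.braid hx.1 c2.1 fun c => nc c.symm)
  have τk : Commute τ (e 10) := hτ ▸ hx.2.1.mul_left c2.2.1
  have τl : τ ∈ Fx χ (e 11) := hτ ▸ mul_mem_Fx m c2.1 hx.1 hx.2.2 c2.2.2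
  have τc : ∀ z ∈ DKL D e, col (cj τ z) = col z - 1 := fun z hz => by
    rw [hτ, ← cj_cj, m.c2 _ (DKL_cj m c2.2.1 c2.2.2 hz), m.c1 2 (by decide) z hz]; ring
  have kl : e 10 * e 11 ∈ Fx χ (e 2) := mul_mem_Fx m (m.mem 11 (by decide)) (m.mem 10 (by decide))
    c2.2.1.symm c2.2.2.symm
  have lk : e 11 * e 10 = (e 10 * e 11)⁻¹ := by rw [mul_inv_rev, inv_eq_of_sq (sq10 m), inv_eq_of_sq (sq11 m)]
  obtain ⟨κ, hκ⟩ : ∃ κ, κ = Ψc (e 10 * e 11) := ⟨_, rfl⟩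
  have kl3 : (e 10 * e 11) ^ 3 = 1 := m.tt.pow_three (m.mem 10 (by decide)) (m.mem 11 (by decide))
    (m.tt.braid (m.mem 10 (by decide)) (m.mem 11 (by decide)) m.adj)
  have κ3 : κ ^ 3 = 1 := by rw [hκ, ← s.cc.hm.pow kl, kl3, s.cc.hm.one]
  have ev : ∀ g ∈ Fx χ (e 11), g ∈ T0 m s ↔ Commute (Ψl g) κ := fun g hg => by
    change _ ∧ Commute _ _ ↔ _
    rw [wr_even (mem_Fx.1 hg).1 (mem_Fx.1 hg).2, wr_odd (sq11 m) s10, comm_od, lk, s.cc.hm.inv kl, ← hκ]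
    exact ⟨fun k => k.2.1, fun k => ⟨(mem_Fx.1 hg).1, k, k.inv_right⟩⟩
  have key : ∀ y ∈ DKL D e, Commute (e 2) y → Commute (cj (Ψl τ) κ) (Ψc (y * e 2)) := fun y hy c => by
    obtain ⟨a, ha, ea⟩ := m.c0 y hy (col_zero m hy c)
    have g1 : y * e 2 ∈ gen e L9 := mul_mem (ea ▸ mul_mem (mul_mem ha (mem_gen (by decide))) (inv_mem ha))
      (mem_gen (by decide))
    have g2 : y * e 2 ∈ Fx χ (e 11) := mul_mem_Fx m c2.1 hy.1 hy.2.2 c2.2.2
    obtain ⟨g3, -, g4⟩ := col_gen m g1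
    have g5 : cj τ⁻¹ (y * e 2) ∈ Fx χ (e 11) := mul_mem (mul_mem (inv_mem τl) g2) (inv_mem (inv_mem τl))
    have g6 : Commute (cj τ⁻¹ (y * e 2)) (e 10) := (commute_cj_left τk.inv_left).2 g3
    have g7 := DKL_cj m g6 (mem_Fx.1 g5).1 c2
    have g8 : col (cj (cj τ⁻¹ (y * e 2)) (e 2)) = 0 := by
      have b1 := τc _ g7
      rw [cj_cj_conj, cj_cj_inv, g4 _ (DKL_cj m τk (mem_Fx.1 τl).1 c2), (mem_Fx.1 g2).2, τc _ c2,
        col_zero m c2 (Commute.refl _)] at b1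
      simpa using b1.symm
    obtain ⟨b, hb, eb⟩ := m.c0 _ g7 g8
    have := (ev _ g5).1 (stepB' h m s (stepA h m s) (fun a ha => (col_gen m ha).1) (mem_Fx.1 g5).1 g6 hb eb)
    rw [s.cl.hm.cj (inv_mem τl) g2, s.cl.hm.inv τl, ← commute_cj (g := Ψl τ), cj_cj_inv] at this
    rw [s.ec _ ⟨g2, mem_CC.2 (c.symm.mul_left (Commute.refl _))⟩]
    exact this.symm
  have o := s.cc.ori _ (ne25 m)
  have κ3' : cj (Ψl τ) κ ^ 3 = 1 := by rw [cj, conj_pow, κ3, mul_one, mul_inv_cancel]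
  have c25 := key _ c5 (ne25 m).2.2
  have mem : cj (Ψl τ) κ ∈ closure (Ψc '' Dl D (e 2) (e 5)) := by
    by_contra k
    have := h.idx o c25 c25 k k
    refine k ?_
    rw [← mul_one (cj _ _), ← κ3', ← pow_succ', show 3 + 1 = 2 + 2 by rfl, pow_add, pow_two]
    exact mul_mem this this
  obtain ⟨g, hg, eg⟩ := (s.cc.hm.closure_image fun a ha => (Dl_sub m c2.1 (ne25 m) ha).1).le mem
  rw [SetLike.mem_coe, genx m c2.1 (ne25 m)] at hg
  have gc := (mem_Fx.1 hg.1).1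
  have gf := mem_CC.1 hg.2
  obtain ⟨L, U⟩ := (lqx m c2.1).2 _ (ne25 m)
  obtain ⟨_, p⟩ := par m c2.1
  obtain ⟨r, hr, hz⟩ := mu22' L U (kl_res m c2 c5).1 (kl_res m c2 c5).2 m.adj (g := g) (fun x hx => by
    have := (Dx2_cj m (g := g)).2 hx
    rwa [cj_of_commute gc, cj_of_commute gf] at this) fun n hn n1 n2 => by
      have := key n ⟨hn.1.1, n1, n2⟩ hn.1.2.2
      rw [← eg] at this
      rw [← p.mm n]
      exact (comm_of_inj s.cc.hm s.cc.inj hg.1 (mul_mem_Fx m c2.1 hn.1.1 hn.1.2.2.symm (Commute.refl _))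
        this).mul_right gc
  have rc : ∀ q ∈ DKL D e, Commute r q := fun q hq => mem_CC.1 ((closure_le (CC q)).2 (by
    rintro _ (rfl | rfl); exacts [mem_CC.2 hq.2.1.symm, mem_CC.2 hq.2.2.symm]) hr)
  obtain ⟨z, ez⟩ : ∃ z, z = r⁻¹ * g := ⟨_, rfl⟩
  rw [← ez] at hz
  have zc : Commute z (e 2) := ez ▸ (rc _ c2).inv_left.mul_left gc
  have zf : Commute z (e 5) := ez ▸ (rc _ c5).inv_left.mul_left gf
  have zr : Commute r z := (mem_CC.1 ((closure_le (CC z)).2 (by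
    rintro _ (rfl | rfl); exacts [mem_CC.2 (hz _ (kl_res m c2 c5).1).symm,
      mem_CC.2 (hz _ (kl_res m c2 c5).2).symm]) hr))
  have z2 : z * z = 1 := by
    have u2 : e 5 * e 2 * (e 5 * e 2) = 1 := by
      rw [mul_assoc, ← mul_assoc (e 2), (ne25 m).2.2.eq, p.mm, m.tt.sq _ c5.1]
    obtain ⟨z', h1, rfl | rfl⟩ := even_of m (g := z) c2.1
    · rcases p.z0 (ne25 m) (mem_Fx.2 ⟨zc, h1⟩) hz with k | k <;> rw [k]
      exacts [mul_one 1, u2]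
    · rcases p.z0 (ne25 m) (mem_Fx.2 ⟨zc.mul_left (Commute.refl _), h1⟩)
        (fun w hw => (hz w hw).mul_left hw.1.2.2) with k | k
      · rw [← p.mm z, k, one_mul, p.sq]
      · rw [mul_right_cancel k, m.tt.sq _ c5.1]
  have g3 : g ^ 3 = 1 := s.cc.inj (pow_mem hg.1 3) (one_mem _) (by rw [s.cc.hm.pow hg.1, eg, κ3', s.cc.hm.one])
  have g4 : g = r * r * (r * r) := by
    have : g = r * z := by rw [ez, mul_inv_cancel_left]
    rw [← mul_one g, ← g3, ← pow_succ', this, zr.mul_pow, show 3 + 1 = 2 + 2 by rfl, pow_add, pow_add, pow_two,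
      pow_two, z2, mul_one, mul_one]
  have sr := sq_mem_of_dih (sq10 m) (sq11 m) hr
  obtain ⟨n, hn⟩ : g ∈ zpowers (e 10 * e 11) := g4 ▸ mul_mem sr sr
  have := (ev τ τl).2 (comm_of_three (by rw [← s.cl.hm.pow τl, τ3, s.cl.hm.one]) κ3
    ⟨n, by rw [← eg, ← hn, hκ]; exact (s.cc.hm.zpow kl n).symm⟩)
  have := mul_mem this (stepA h m s (mem_gen (c := 2) (by decide)))
  rwa [hτ, p.mm] at this

theorem S0_le : gen e L9 ⊔ zpowers x2 ≤ T0 m s ⊓ CC (e 10) :=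
  sup_le (le_inf (stepA h m s) fun a ha => mem_CC.2 (col_gen m ha).1)
    (zpowers_le.2 ⟨stepC h m s, mem_CC.2 m.x2m.2.1⟩)

theorem stepD {g : F} (h1 : Commute g (e 11)) (h2 : Commute g (e 10)) : g ∈ T0 m s := by
  have c2 := let_DKL m (c := 2) (by decide)
  have z : ∀ y ∈ DKL D e, col y = 0 → ∃ a ∈ gen e L9 ⊔ zpowers x2, cj a (e 2) = y := fun y hy k =>
    let ⟨a, ha, ea⟩ := m.c0 y hy k; ⟨a, mem_sup_left ha, ea⟩
  have st : ∀ b ∈ gen e L9 ⊔ zpowers x2, ∀ y, (∃ a ∈ gen e L9 ⊔ zpowers x2, cj a (e 2) = cj b y) →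
      ∃ a ∈ gen e L9 ⊔ zpowers x2, cj a (e 2) = y := fun b hb y ⟨a, ha, ea⟩ =>
    ⟨b⁻¹ * a, mul_mem (inv_mem hb) ha, by rw [← cj_cj, ea, cj_inv_cj]⟩
  have w : ∀ y ∈ DKL D e, col y = -1 → ∃ a ∈ gen e L9 ⊔ zpowers x2, cj a (e 2) = y := fun y hy k =>
    st x2 (mem_sup_right (mem_zpowers _)) y (z _ (DKL_cj m m.x2m.2.1 m.x2m.2.2 hy) (by rw [m.c2 y hy, k, sub_self]))
  have hy := DKL_cj m h2 h1 c2
  obtain ⟨a, ha, ea⟩ : ∃ a ∈ gen e L9 ⊔ zpowers x2, cj a (e 2) = cj g (e 2) := by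
    rcases (by decide : ∀ a : ZMod 3, a = 0 ∨ a = -1 ∨ a = 1) (col (cj g (e 2))) with k | k | k
    exacts [z _ hy k, w _ hy k, st (e 2) (mem_sup_left (mem_gen (by decide))) _
      (w _ (DKL_cj m c2.2.1 c2.2.2 hy) (by rw [m.c1 2 (by decide) _ hy, k]))]
  exact stepB' h m s ((S0_le h m s).trans inf_le_left) (fun a ha => mem_CC.1 (S0_le h m s ha).2) h1 h2 ha ea

theorem final (hc : ∀ a : G, (∀ x ∈ Dx D (e 11), Commute a (Ψl (x * e 11))) → a = 1) :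
    ∃ Φ : χ.ker →* G, ∀ g : χ.ker, Commute (g : F) (e 11) → Φ g = Ψl g := by
  classical
  have c2 := let_DKL m (c := 2) (by decide)
  have c5 := let_DKL m (c := 5) (by decide)
  have hl := hml m s.cl (Commute.refl _)
  have hc' := hml m s.cc c2.2.2.symm
  have r3 : ∀ x, ∃ a, x ∈ D → ¬ Commute x (e 11) → Commute a (e 11) ∧ cj a (e 10) = x := fun x => by
    by_cases k : x ∈ D ∧ ¬ Commute x (e 11)
    · exact let ⟨a, ha⟩ := m.r3 x k.1 k.2; ⟨a, fun _ _ => ha⟩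
    · exact ⟨1, fun h1 h2 => absurd ⟨h1, h2⟩ k⟩
  choose ρ hρ using r3
  obtain ⟨K, hK⟩ : ∃ K, K = wr χ (e 11) Ψc (e 10) := ⟨_, rfl⟩
  let f : F → G ≀ᵣ ℤˣ := fun x => if Commute x (e 11) then wr χ (e 11) Ψl x else cj (wr χ (e 11) Ψl (ρ x)) K
  have f1 : ∀ x, Commute x (e 11) → f x = wr χ (e 11) Ψl x := fun x k => if_pos k
  have f2 : ∀ a, Commute a (e 11) → f (cj a (e 10)) = cj (wr χ (e 11) Ψl a) K := fun a ha => by
    have n : ¬ Commute (cj a (e 10)) (e 11) := fun k => m.adj ((commute_cj_left ha).1 k)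
    obtain ⟨b1, b2⟩ := hρ _ (m.tt.conj _ (m.mem 10 (by decide)) a) n
    have := (stepD h m s (g := a⁻¹ * ρ (cj a (e 10))) (ha.inv_left.mul_left b1)
      (cj_eq_self.1 (by rw [← cj_cj, b2, cj_inv_cj]))).2
    rw [hl _ (mem_CC.2 ha.inv_left) _ (mem_CC.2 b1), hl.inv (mem_CC.2 ha), ← cj_eq_self, ← cj_cj, ← hK] at this
    rw [show f _ = _ from if_neg n, ← cj_cj_inv (wr χ (e 11) Ψl a) (cj _ K), this]
  have e1 : ∀ g, Commute g (e 11) → ∀ x ∈ D, f (cj g x) = cj (wr χ (e 11) Ψl g) (f x) := fun g hg x hx => by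
    by_cases k : Commute x (e 11)
    · rw [f1 x k, f1 _ ((commute_cj_left hg).2 k), hl.cj (mem_CC.2 hg) (mem_CC.2 k)]
    · obtain ⟨a, ha, rfl⟩ := m.r3 x hx k
      rw [cj_cj, f2 a ha, f2 _ (hg.mul_left ha), hl _ (mem_CC.2 hg) _ (mem_CC.2 ha), cj_cj]
  have f3 : ∀ x ∈ D, Commute x (e 2) → f x = wr χ (e 11) Ψc x := fun x hx c => by
    by_cases k : Commute x (e 11)
    · rw [f1 x k, wr_eq m c2.2.2.symm s.ec k c]
    · obtain ⟨g, hg, g1, g2⟩ := (lqx m c2.1).1.adj_pair_trans (kl_res m c2 c5).1.1 (kl_res m c2 c5).2.1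
        (c := x) ⟨hx, fun e => k (e ▸ c2.2.2), c.symm⟩ (kl_res m c2 c5).2.1 m.adj k
      have gc := cl_Dx m _ hg
      rw [← g1, f2 g (cj_eq_self.1 g2), hc'.cj gc (mem_CC.2 c2.2.1.symm), hK,
        wr_eq m c2.2.2.symm s.ec (cj_eq_self.1 g2) (mem_CC.1 gc)]
  have e2 : ∀ x ∈ D, f (cj (e 10) x) = cj K (f x) := fun x hx => by
    obtain ⟨a, ha, c⟩ := m.cov x hx
    obtain ⟨⟨a1, a2⟩, a3⟩ := S0_le h m s ha
    apply cj_injective (wr χ (e 11) Ψl a)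
    rw [← e1 a a1 _ (m.tt.conj x hx _), cj_cj_conj a, cj_of_commute (mem_CC.1 a3), cj_cj_conj _ K, hK, cj_of_commute a2,
      ← e1 a a1 x hx, f3 _ (m.tt.conj x hx _) c, f3 _ (m.tt.conj _ (m.tt.conj x hx _) _)
        ((commute_cj_left c2.2.1.symm).2 c), hc'.cj (mem_CC.2 c2.2.1.symm) (mem_CC.2 c)]
  obtain ⟨Φ, hΦ⟩ := glue (χ := χ) m.tt.conj f (fun w h1 h2 => by
    have a := h2 _ (m.mem 11 (by decide))
    rw [f1 _ (Commute.refl _), wr_odd (sq11 m) (m.sgn _ (m.mem 11 (by decide))), sq11 m, s.cl.hm.one] at a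
    rw [const_of_comm h1 a] at h2 ⊢
    rw [hc (w.left 1) fun x hx => by
      have := h2 x hx.1
      rw [f1 x hx.2.2.symm, wr_odd (sq11 m) (m.sgn x hx.1), comm_od] at this
      exact this.1]
    rfl) fun M hM => m.top M (fun g hg => hM g ⟨_, rfl, e1 g (mem_CC.1 hg)⟩) (hM _ ⟨K, hK ▸ rfl, e2⟩)
  exact ⟨Φ, fun g hg => by rw [hΦ g (wr χ (e 11) Ψl g) g.2 (e1 g hg), wr_even hg g.2]⟩

omit s in
theorem level0 {ψ : F23 →* G} (hψ : ∀ k : CC t23, ψ k = ι k) :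
    ∃ Φ : χ.ker →* G, ∀ (y : F23) (hy : φ y ∈ χ.ker), Φ ⟨φ y, hy⟩ = ψ y := by
  have := Fi23.simple
  have p := par11 m
  have n9 := mem23.2.2.1
  have et : ψ t23 = ι (pt t23) := hψ (pt t23)
  have i : Function.Injective ψ := inj_of_simple ψ (g := t23) fun k => n9 (by
    have : pt t23 = 1 := h.inj ((et.symm.trans k).trans ι.map_one.symm)
    have : t23 = 1 := (congrArg Subtype.val this :)
    rw [this]
    exact Commute.one_left _)
  let Ψ : F → G := fun a => ψ (Function.invFun φ a)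
  have eΨ : ∀ y, Ψ (φ y) = ψ y := fun y => congrArg ψ (Function.leftInverse_invFun m.inj y)
  have rs : ψ '' Dx D23 t23 = Rs ι := by
    ext x
    exact ⟨by rintro ⟨y, hy, rfl⟩; exact ⟨⟨y, mem_CC.2 hy.2.2.symm⟩, hy, (hψ _).symm⟩,
      by rintro ⟨y, hy, rfl⟩; exact ⟨y, hy, hψ y⟩⟩
  have o : Ori ι t (Rs ι) := ⟨1, (cj_one _).trans h.it, by simp⟩
  have cl : C0 ι D χ (e 11) Ψ := c0_of_one m (y := φ t23 * e 11) (m.mem 11 (by decide)) (fun a ha b hb => by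
      obtain ⟨a, rfl⟩ := (p.rng a).2 (mem_Fx.1 ha)
      obtain ⟨b, rfl⟩ := (p.rng b).2 (mem_Fx.1 hb)
      rw [← map_mul, eΨ, eΨ, eΨ, map_mul]) (fun a ha b hb k => by
      obtain ⟨a, rfl⟩ := (p.rng a).2 (mem_Fx.1 ha)
      obtain ⟨b, rfl⟩ := (p.rng b).2 (mem_Fx.1 hb)
      rw [eΨ, eΨ] at k
      rw [i k]) ((p.res _).2 ⟨t23, Cl.self _, (p.mm _).symm⟩) (by
      rw [← p.dl (Cl.self _) (p.mm _).symm, p.mm, eΨ, Set.image_image]
      simp only [eΨ]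
      rwa [rs, et, h.it])
  obtain ⟨Ψc, cc, ec⟩ := ext0 h m (m.mem 11 (by decide)) cl (DKL_Dx m (let_DKL m (c := 2) (by decide)))
  obtain ⟨Ψf, cf, ef⟩ := ext0 h m (m.mem 11 (by decide)) cl (DKL_Dx m (let_DKL m (c := 5) (by decide)))
  obtain ⟨Φ, hΦ⟩ := final h m ⟨cl, cc, cf, ec, ef⟩ fun a ha => by
    have k : ∀ y ∈ D23, Commute a (ψ y) := fun y hy => by
      have := ha _ ((p.res _).2 ⟨y, hy, (p.mm _).symm⟩)
      rwa [p.mm, eΨ] at this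
    refine (h.zen o (by rw [← h.it, ← et]; exact k _ (Cl.self _)) ?_).resolve_right fun e' => n9 (i ?_)
    · rw [← rs]; rintro _ ⟨y, hy, rfl⟩; exact k y hy.1
    · rw [map_mul, map_mul, et, h.it, ← e']
      exact (k _ (mem23.1 9 (by decide))).eq
  exact ⟨Φ, fun y hy => (hΦ _ (p.cm y)).trans (eΨ y)⟩

end H9.FB.H3W
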