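import Mathlib
import Cfsg.Prelude.Def_Transfer
import Cfsg.Agent.H3.Frobenius
import Cfsg.Agent.H1.CoprimeAbelian

/-!
# Abelian Hall subgroups: decomposition under the normalizer, splitting over `O^p(G)`
-/

namespace H3

open Subgroup Cfsg
open scoped Pointwise commutatorElement IsMulCommutative

variable {G : Type*} [Group G]

/-- Schur–Zassenhaus inside a subgroup `L` -/
theorem exists_complement_of_le [Finite G] {A L : Subgroup G} (hAL : A ≤ L)
    (hL : L ≤ normalizer (A : Set G)) (hc : (Nat.card A).Coprime (A.relIndex L)) :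
    ∃ K : Subgroup G, K ≤ L ∧ A ⊓ K = ⊥ ∧ A ⊔ K = L ∧ Nat.card K = A.relIndex L := by
  have : (A.subgroupOf L).Normal := (normal_subgroupOf_iff_le_normalizer hAL).mpr hL
  obtain ⟨K, hK⟩ := exists_right_complement'_of_coprime (N := A.subgroupOf L)
    (by rwa [H2.card_subgroupOf_of_le hAL])
  refine ⟨K.map L.subtype, map_subtype_le _, ?_, ?_, ?_⟩
  · rw [eq_bot_iff]
    rintro _ ⟨h1, x, hx, rfl⟩
    have := disjoint_def.mp hK.disjoint (x := x) h1 hx
    rw [this, map_one]
    exact one_mem _
  · have := congrArg (Subgroup.map L.subtype) hK.sup_eq_top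
    rwa [Subgroup.map_sup, map_subgroupOf_eq_of_le hAL, ← MonoidHom.range_eq_map,
      range_subtype] at this
  · rw [H2.card_map_subtype, ← hK.symm.index_eq_card]
    rfl

/-- Frattini argument -/
theorem sup_normalizer_inf_eq_top [Finite G] {p : ℕ} [Fact p.Prime] (P : Sylow p G)
    (N : Subgroup G) [hN : N.Normal] :
    N ⊔ normalizer (((P : Subgroup G) ⊓ N : Subgroup G) : Set G) = ⊤ := by
  rw [eq_top_iff]
  intro g _
  have h1 : MulAut.conj g • ((P : Subgroup G) ⊓ N) ≤ N :=
    conj_smul_le_iff.mpr fun x hx => hN.conj_mem x hx.2 g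
  obtain ⟨c, hc, h2⟩ := exists_conj_smul_le_of_relIndex P.2 (sylow_not_dvd_relIndex_of_normal P N)
    (isPGroup_conj_smul P.2.to_inf_left g) h1
  have h3 := le_inf h2 (conj_smul_le_of_le_of_mem h1 hc)
  rw [conj_smul_conj_smul] at h3
  simpa using mul_mem_sup (inv_mem hc) (mem_normalizer_of_conj_smul_le h3)

/-- An abelian Hall subgroup `A` normal in `L` is `[A, L] × C_A(L)`. -/
theorem abelian_hall_decomp [Finite G] {A L : Subgroup G} (hA : IsMulCommutative A) (hAL : A ≤ L)
    (hL : L ≤ normalizer (A : Set G)) (hc : (Nat.card A).Coprime (A.relIndex L)) :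
    ⁅A, L⁆ ⊓ centralizer (L : Set G) = ⊥ ∧ ⁅A, L⁆ ⊔ (A ⊓ centralizer (L : Set G)) = A := by
  obtain ⟨K, h1, -, h3, h4⟩ := exists_complement_of_le hAL hL hc
  have hcop : (Nat.card K).Coprime (Nat.card A) := h4 ▸ hc.symm
  have hle : ⁅A, L⁆ ≤ A := le_normalizer_iff_commutator_le_left.mp hL
  constructor
  · have h5 := abelian_hall_inf_commutator_inf_center (G := L) (H := A.subgroupOf L)
      inferInstance (by rwa [H2.card_subgroupOf_of_le hAL])
    rw [eq_bot_iff]
    rintro x ⟨hx1, hx2⟩
    have hxL := hAL (hle hx1)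
    have h6 : (⟨x, hxL⟩ : L) ∈ (⊥ : Subgroup L) := by
      rw [← h5]
      refine ⟨⟨hle hx1, ?_⟩, mem_center_iff.mpr fun y => Subtype.ext (hx2 y y.2)⟩
      have h7 := commutator_mono hAL (le_refl L) hx1
      rw [← map_subtype_commutator] at h7
      obtain ⟨y, hy, e⟩ := h7
      rwa [← show y = ⟨x, hxL⟩ from Subtype.ext e]
    exact congrArg Subtype.val (mem_bot.mp h6)
  · refine le_antisymm (sup_le hle inf_le_left) ?_
    conv_lhs => rw [← H1.commutator_sup_centralizer K A (h1.trans hL) hcop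
      (Or.inr (H2.isSolvable_of_isMulCommutative A))]
    refine sup_le_sup (commutator_mono le_rfl h1) (le_inf inf_le_left ?_)
    rw [le_centralizer_iff, ← h3]
    exact sup_le ((le_centralizer A).trans (centralizer_le inf_le_left))
      (le_centralizer_iff.mp inf_le_right)

/-- If the Sylow `p`-subgroups of `O^p(G)` are abelian then `G` splits over `O^p(G)`. -/
theorem exists_complement_pResidual [Finite G] {p : ℕ} [hp : Fact p.Prime] (P : Sylow p G)
    (hQ : IsMulCommutative ↥((P : Subgroup G) ⊓ pResidual p G)) :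
    ∃ K : Subgroup G, K.IsComplement' (pResidual p G) := by
  set N := pResidual p G with hN
  set Q := (P : Subgroup G) ⊓ N with hQdef
  have hPN := sylow_not_dvd_relIndex_of_normal P N
  set L' := N ⊓ normalizer (Q : Set G)
  have hQL' : Q ≤ L' := le_inf inf_le_right le_normalizer
  have hQp : IsPGroup p Q := P.2.to_inf_left
  have hcop : (Nat.card Q).Coprime (Q.relIndex L') := by
    obtain ⟨k, hk⟩ := IsPGroup.iff_card.mp hQp
    rw [hk]
    refine (hp.out.coprime_iff_not_dvd.mpr fun h => hPN ?_).pow_left k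
    rw [← inf_relIndex_right, ← relIndex_mul_relIndex Q L' N hQL' inf_le_left]
    exact h.mul_right _
  have hQQ : Q ≤ ⁅Q, L'⁆ := by
    let Q' : Sylow p N := (P.2.comap_subtype (K := N)).toSylow hPN
    have hc' : IsMulCommutative Q' := ⟨⟨fun a b => Subtype.ext (Subtype.ext
      (setLike_mul_comm (s := Q) ⟨a.2, a.1.2⟩ ⟨b.2, b.1.2⟩))⟩⟩
    have h1 := (abelian_sylow_pResidual_inf Q' hc').trans (abelian_sylow_commutator_inf Q' hc')
    rw [pResidual_pResidual, top_inf_eq] at h1
    have h2 : (Q' : Subgroup N).map N.subtype = Q := subgroupOf_map_subtype _ _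
    conv_lhs => rw [← h2, h1, map_commutator, h2]
    refine commutator_mono le_rfl (le_inf (map_subtype_le _) ?_)
    rw [← h2]
    exact le_normalizer_map _
  have hC : Q ⊓ centralizer (L' : Set G) = ⊥ :=
    le_bot_iff.mp ((inf_le_inf_right _ hQQ).trans
      (abelian_hall_decomp hQ hQL' inf_le_right hcop).1.le)
  obtain ⟨L, h1, h2, h3, h4⟩ := exists_complement_of_le hQL' inf_le_right hcop
  set X := normalizer (Q : Set G) ⊓ normalizer (L : Set G)
  have hX : normalizer (Q : Set G) ≤ Q ⊔ X := by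
    intro m hm
    have hmL' : MulAut.conj m • L ≤ L' := conj_smul_le_iff.mpr fun x hx =>
      mem_inf.mpr ⟨(pResidual_normal p G).conj_mem x (h1 hx).1 m,
        mul_mem (mul_mem hm (h1 hx).2) (inv_mem hm)⟩
    obtain ⟨n, hn, e⟩ := H1.exists_conj_eq_of_le_sup Q L (MulAut.conj m • L)
      (h1.trans inf_le_right) (hmL'.trans inf_le_right)
      (by rw [card_conj_smul, h4]; exact hcop.symm)
      (Or.inr (H2.isSolvable_of_isMulCommutative Q)) (h3 ▸ hmL') (card_conj_smul m L).ge
    have h5 : n⁻¹ * m ∈ X := mem_inf.mpr ⟨mul_mem (inv_mem (le_normalizer hn)) hm, conj_smul_eq_iff.mp (by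
      rw [← conj_smul_conj_smul, ← e, conj_inv_smul_conj_smul])⟩
    simpa using mul_mem_sup hn h5
  obtain ⟨K, -, hK1, hK2, hK3⟩ := exists_le_relSylow (p := p) (L := X) IsPGroup.of_bot bot_le
  refine ⟨K, (isComplement'_of_inf_eq_bot_of_sup_eq_top ?_ ?_).symm⟩
  · rw [eq_bot_iff, ← hC]
    have h5 : N ⊓ K ≤ Q := by
      refine le_inf (le_sup_left.trans (le_of_relSylow hPN (B := N ⊓ K ⊔ Q) ?_ le_sup_right
        (sup_le inf_le_left inf_le_right))) inf_le_left
      exact hK2.to_inf_right.to_sup_of_normal_right' hQp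
        (inf_le_right.trans (hK1.trans inf_le_left))
    refine le_inf h5 ?_
    rw [le_centralizer_iff, ← h3]
    refine sup_le ((le_centralizer Q).trans (centralizer_le h5)) ?_
    rw [← commutator_eq_bot_iff_le_centralizer, eq_bot_iff, ← h2]
    refine le_inf ((commutator_mono le_rfl h5).trans ?_) ?_
    · exact le_normalizer_iff_commutator_le_right.mp (h1.trans inf_le_right)
    · exact le_normalizer_iff_commutator_le_left.mp
        (inf_le_right.trans (hK1.trans inf_le_right))
  · rw [eq_top_iff, ← sup_normalizer_inf_eq_top P N]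
    refine sup_le le_sup_left (hX.trans (sup_le (inf_le_right.trans le_sup_left) ?_))
    rw [← map_pResidual_sup_of_relSylow hK1 (hp.out.coprime_iff_not_dvd.mpr hK3).symm]
    exact sup_le_sup_right (map_pResidual_le p _) K

end H3
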