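import Mathlib
import Cfsg.Agent.H24.S14

/-!
# Bender–Glauberman §15, first part (15.1 – 15.6)
-/

set_option autoImplicit false
set_option linter.unusedSectionVars false
set_option linter.unusedVariables false

open Subgroup H24 Cfsg H25
open scoped commutatorElement

namespace H3BG

universe u

variable {G : Type u} [Group G] [Finite G]

section General
variable {A B K L N V W : Subgroup G}

omit [Finite G] in
theorem der1_sup_le (h : B ≤ N[A]) : ⁅A ⊔ B, A ⊔ B⁆ ≤ A ⊔ ⁅B, B⁆ := by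
  rw [der1_sup h]
  exact sup_le_sup_right (sup_le (der1_le A) (comm_le_left h)) _

omit [Finite G] in
theorem sd_der1_le {M : Subgroup G} (h : SD A B M) (hB : Abl B) : ⁅M, M⁆ ≤ A := by
  have := der1_sup_le h.norm
  rwa [h.sup, der1_eq_bot.2 hB, sup_bot_eq] at this

theorem comm_eq_of_cent_eq_bot (hn : A ≤ N[K]) (hc : (♯K).Coprime ♯A) (hK : Sol K)
    (h : K ⊓ C[A] = ⊥) : ⁅K, A⁆ = K := by
  have := (H26.coprime_cent_prod hn hc hK).sup_eq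
  rwa [h, sup_bot_eq] at this

end General

variable [FT G]
variable {M Mst H K U D E E₁ E₂ E₃ R X : Subgroup G} {x a g : G} {p q r : ℕ}

theorem _root_.H24.Fcore_sub_Msigma (hM : IsCoatom M) : fittingHallOf M ≤ sigmaCore M :=
  sub_Msigma hM (fun p hp hd => by
    have h1 := (Fcore_nil M).pcore_ne_bot hp (Set.mem_singleton p) hd
    exact mmax_sigma_Sylow hp (Fcore_pcore_syl hp hd) h1
      (mmax_normal hM ((Fcore_nml M).pcore _) h1).le) (Fcore_le M)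

theorem _root_.H24.Fcore_eq_Msigma (hM : IsCoatom M) :
    fittingHallOf M = sigmaCore M ↔ Nil (sigmaCore M) :=
  ⟨fun h => h ▸ Fcore_nil M, fun h => le_antisymm (Fcore_sub_Msigma hM)
    (Fcore_max (Msigma_Hall hM).isHall (sigmaCore_norm M) h)⟩

theorem der2_sub_Msigma (hM : IsCoatom M) : ⁅⁅M, M⁆, ⁅M, M⁆⁆ ≤ sigmaCore M := by
  obtain ⟨E, hE⟩ := exists_sigma_compl hM
  have hsd := sdprod_sigma hM hE
  have h1 := der1_sup_le hsd.norm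
  rw [hsd.sup] at h1
  exact (der1_mono h1).trans (sd_der1_le (hsd.sub le_rfl (der1_le E) ((der1_le E).trans hsd.norm))
    (der_mmax_compl_abelian hM hE))

theorem kappaCompl_sigma' (h : KappaCompl M U K) : IsPi (sigma M)ᶜ U :=
  h.hallU.pi.mono (Set.compl_subset_compl.2 Set.subset_union_left)

theorem kappaCompl_kappa' (h : KappaCompl M U K) : IsPi (kappa M)ᶜ U :=
  h.hallU.pi.mono (Set.compl_subset_compl.2 Set.subset_union_right)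

/-- 15.1(a,b) -/
theorem _root_.H24.kappa_structure (hM : IsCoatom M) (h : KappaCompl M U K) :
    SD (sigmaCore M) U (sigmaCore M ⊔ U) ∧ SD (sigmaCore M ⊔ U) K M ∧ Cyc K ∧
      ⁅⁅M, M⁆, ⁅M, M⁆⁆ ≤ sigmaCore M ∧ (K ≠ ⊥ → sigmaCore M ⊔ U = ⁅M, M⁆ ∧ Abl U) := by
  obtain ⟨hE, hUK, hsd, -, hreg, hab⟩ := kappa_compl_context hM h
  have hUn : U ≤ N[sigmaCore M] := h.hallU.le.trans (sigmaCore_norm M)
  have h2 : SD (sigmaCore M ⊔ U) K M :=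
    ⟨norm_sup (h.hallK.le.trans (sigmaCore_norm M)) hUK.norm,
      (((sigmaCore_pi M).mono (sigma_sub_kappa' M)).sup (kappaCompl_kappa' h) hUn).inf_eq_bot'
        h.hallK.pi, by rw [sup_assoc, hsd.sup]⟩
  have hc := kappa_cyclic hM h.hallK
  refine ⟨SD.mk_sup hUn ((sigmaCore_pi M).inf_eq_bot (kappaCompl_sigma' h)), h2, hc,
    der2_sub_Msigma hM, fun h1 => ⟨le_antisymm (sup_le (Msigma_der1 hM) ?_) (sd_der1_le h2 hc.abl),
      hab h1⟩⟩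
  rw [← comm_eq_of_cent_eq_bot hUK.norm (hreg.coprime hUK.norm) (hab h1).sol (hreg.inf_C le_rfl h1)]
  exact commutator_mono h.hallU.le h.hallK.le

/-- 15.1(c) -/
theorem _root_.H24.kappa_structure_cent (hM : IsCoatom M) (h : KappaCompl M U K) (hX : X ≤ U)
    (h1 : X ≠ ⊥)
    (hne : sigmaCore M ⊓ C[X] ≠ ⊥) : UniqMax C[X] M ∧ Cyc X ∧ IsPi (tau2 M) X := by
  have hXM := hX.trans h.hallU.le
  obtain ⟨y, hy, hy1⟩ := exists_ne_one hne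
  have ht : IsPi (tau2 M) X := fun p hp hd => by
    obtain ⟨z, hz, ho⟩ := exists_orderOf_eq hp hd
    have hz1 : z ≠ 1 := ne_one_of_orderOf_prime (ho ▸ hp)
    rcases pi_of_cent_sigma hM hy.1 hy1 ⟨hXM hz, mem_C_iff_le_C1.1 hy.2 hz⟩ hz1
      ((kappaCompl_sigma' h).piElt (hX hz)) with h' | h'
    · exact absurd (h'.1.eq_one ((kappaCompl_kappa' h).piElt (hX hz))) hz1
    · exact h'.1 p hp ho.symm.dvd
  have hc : Cyc X := by
    obtain ⟨E, hE, hXE⟩ := ex_sigma_compl hM hXM ((kappaCompl_sigma' h).of_le hX)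
    obtain ⟨E₂, h2, hX2⟩ := H26.Hall_superset (sigma_compl_sol hM hE) hXE ht
    by_contra hc
    obtain ⟨p, hp, A, hA⟩ := abl_exists_pnElem_two ((tau2_compl_abelian hM hE h2).of_le hX2) hc
    exact hne (eq_bot_of_le (tau2_context hM (ht p hp (hA.prime_dvd_card two_pos))
      (hA.mono hXM)).2.2.1 (inf_le_inf_left _ (C_anti hA.le)))
  refine ⟨?_, hc, ht⟩
  obtain ⟨z, hz, rfl⟩ := hc.exists_gen
  rw [C_zpowers] at hne ⊢
  exact cent1_nreg_sigma_uniq hM (hXM hz) (zpowers_ne_bot.1 h1) (piElt_iff.2 ht) hne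

theorem kappa_FTtypeF (hM : IsCoatom M) (h : KappaCompl M U K) :
    (∃ A₀, A₀ ⊴ U ∧ Abl A₀ ∧ ∀ x ∈ sigmaCore M, x ≠ 1 → U ⊓ C{x} ≤ A₀) ∧
      ∃ E₀, E₀ ≤ U ∧ Monoid.exponent E₀ = Monoid.exponent U ∧ Semireg (sigmaCore M) E₀ :=
  FTtypeF_complement hM h.hallU.isHall (kappa_structure hM h).2.1.nml (kappaCompl_sigma' h)
    fun e he he1 ht => by_contra fun hne => by
      have h2 := (kappa_structure_cent hM h (zpowers_le.2 he) (zpowers_ne_bot.2 he1)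
        (by rwa [C_zpowers])).2.2
      exact he1 ((piElt_iff.2 h2).eq_one (ht.mono (Set.union_subset (tau2'1 M) (tau2'3 M))))

/-- 15.1(d) -/
theorem _root_.H24.kappa_structure_inertia (hM : IsCoatom M) (h : KappaCompl M U K) :
    ∃ U₁, U₁ ⊴ U ∧ Abl U₁ ∧ ∀ x ∈ sigmaCore M, x ≠ 1 → U ⊓ C{x} ≤ U₁ :=
  (kappa_FTtypeF hM h).1

/-- 15.1(e) -/
theorem _root_.H24.kappa_structure_compl (hM : IsCoatom M) (h : KappaCompl M U K) :
    ∃ U₀, U₀ ≤ U ∧ Monoid.exponent U₀ = Monoid.exponent U ∧ Semireg (sigmaCore M) U₀ :=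
  (kappa_FTtypeF hM h).2

theorem P1max_structure (hM : P1max M) (hK : Hall (kappa M) M K) :
    SD (sigmaCore M) K M ∧ sigmaCore M = ⁅M, M⁆ ∧ (♯(sigmaCore M ⊓ C[K])).Prime := by
  obtain ⟨U, hU⟩ := ex_kappa_compl hM.coatom hK
  obtain rfl := hM.eq_bot hU
  obtain ⟨-, h1, -, -, h2⟩ := kappa_structure hM.coatom hU
  rw [sup_bot_eq] at h1 h2
  obtain ⟨Mst, hMst⟩ := Ptype_embedding hM.pmax hK
  exact ⟨h1, (h2 (hM.pmax.ne_bot hK)).1,
    hMst.p2.elim (fun h => absurd h.1 hM.not_p2) fun h => h.2⟩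

theorem coprime_sigma_kappa (hK : Hall (kappa M) M K) : (♯(sigmaCore M)).Coprime ♯K :=
  (sigmaCore_pi M).coprime (hK.pi.mono (kappa_sub_sigma' M))

/-- the first steps of the proof of 15.2 -/
theorem Fcore_structure_base (hM : IsCoatom M) (hK : Hall (kappa M) M K)
    (hne : fittingHallOf M ≠ sigmaCore M) (hq : q = ♯(sigmaCore M ⊓ C[K])) :
    P1max M ∧ q.Prime ∧ q ∈ beta M ∧ Syl q M O[{q}, M] ∧ sigmaCore M ⊓ C[K] ≤ O[{q}, M] ∧
      Nil (quo (sigmaCore M) O[{q}, M]) := by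
  have hnn : ¬ Nil (sigmaCore M) := fun h => hne ((Fcore_eq_Msigma hM).2 h)
  have hP1 : P1max M := by_contra fun h => hnn (notP1type_Msigma_nil ((not_p1_iff hM).1 h))
  obtain ⟨hsd, hder, hqq⟩ := P1max_structure hP1 hK
  rw [← hq] at hqq
  have hK1 := hP1.pmax.ne_bot hK
  have hcop := coprime_sigma_kappa hK
  have hpr := kappa_primact hM hK
  have hKs : IsPi {q} (sigmaCore M ⊓ C[K]) := isPi_of_card_prime hqq hq.symm
  have hqs : q ∈ sigma M := sigmaCore_pi M q hqq (hq ▸ card_dvd inf_le_left)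
  have hKsF : sigmaCore M ⊓ C[K] ≤ O[{q}, M] := by
    refine le_pcore_of_le_Fitting hKs (le_trans ?_ (sigmaCore_nml M).Fitting_le)
    refine prime_le_of_inf_ne (hq ▸ hqq) fun h => hnn ((Fitting_nil (sigmaCore M)).of_le ?_)
    conv_lhs => rw [← (H26.coprime_der1_sdprod hsd hcop (Msigma_sol hM) hder.le).1]
    refine H1.odd_sdprod_primact_commg_sub_Fitting hsd (mFT_odd M) (mmax_sol hM) hcop hpr
      (eq_bot_of_le h (le_inf (inf_le_inf_right _ (Fitting_le _)) inf_le_left))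
  have hQ := pcore_nml {q} M
  have hQs : O[{q}, M] ≤ sigmaCore M := sub_Msigma hM ((pcore_pi _ _).of_mem hqs) hQ.le
  have hcQ : (♯O[{q}, M]).Coprime ♯K := hcop.coprime_dvd_left (card_dvd hQs)
  have hnil : Nil (quo (sigmaCore M) O[{q}, M]) := by
    refine H1.semiregular_sol_nil ((Msigma_sol hM).quo _) (quo_norm _ hsd.norm) (H := quo K _)
      (fun h => hK1 (eq_bot_of_le (inf_eq_bot_of_cop hcQ)
        (le_inf ((quo_eq_bot (hK.le.trans hQ.norm)).1 h) le_rfl))) ?_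
    refine (hpr.quo hsd.norm (hK.le.trans hQ.norm) ((sigmaCore_le M).trans hQ.norm) hcQ).semireg ?_
    rw [← coprime_quo_cent hQs (hK.le.trans hQ.norm) hcQ ((pcore_pi _ _).sol hqq)]
    exact quo_eq_bot_of_le hKsF
  have hSyl : Syl q M O[{q}, M] := by
    obtain ⟨S, hS⟩ := Sylow_exists hqq M
    have h1 := norm_sup_of_nil_quo hQ.norm (sigmaCore_norm M) ((sigmaCore_le M).trans hQ.norm) hnil
      (Sylow_Msigma hM hqs hS)
    rw [sup_eq_right.2 (pcore_le_Hall hS)] at h1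
    exact hS.pcore_hall h1
  refine ⟨hP1, hqq, by_contra fun hb => hnn ?_, hSyl, hKsF, hnil⟩
  have hQS := Sylow_Msigma hM hqs hSyl
  have h1 := (ncompl_iff hQS).1 (beta_max_pdiv hM hqq hb).2.1
  have h2 := hQS.sd (beta_max_pdiv hM hqq hb).2.1 ((sigmaCore_le M).trans hQ.norm)
  exact (h1.dp_of_norm h2.norm).nil (h2.nil_iff.1 hnil) ((pcore_pi _ _).nil hqq)

/-- the main part of the proof of 15.2, for a `K`-invariant complement `D` -/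
theorem Fcore_structure_main (hM : IsCoatom M) (hK : Hall (kappa M) M K)
    (hne : fittingHallOf M ≠ sigmaCore M) (hq : q = ♯(sigmaCore M ⊓ C[K]))
    (hD : Hall {q}ᶜ (sigmaCore M) D) (hKD : K ≤ N[D]) :
    (♯K).Prime ∧ Nil D ∧ O[{q}, M] ⊓ C[D] ⊴ M ∧
      (MinNml (quo O[{q}, M] (O[{q}, M] ⊓ C[D])) (quo M (O[{q}, M] ⊓ C[D])) ∧
        IsElementaryAbelian q (quo O[{q}, M] (O[{q}, M] ⊓ C[D])) ∧
        ♯(quo O[{q}, M] (O[{q}, M] ⊓ C[D])) = q ^ ♯K) ∧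
      ⁅sigmaCore M, sigmaCore M⁆ = ⁅⁅M, M⁆, ⁅M, M⁆⁆ ∧ ⁅⁅M, M⁆, ⁅M, M⁆⁆ ≤ F[M] ∧
      O[{q}, M] ⊔ M ⊓ C[O[{q}, M]] = F[M] ∧ M ⊓ centQ O[{q}, M] (O[{q}, M] ⊓ C[D]) = F[M] ∧
      sigmaCore M ⊓ centQ (sigmaCore M ⊓ C[K]) (O[{q}, M] ⊓ C[D]) = F[M] ∧
      F[M] < sigmaCore M := by
  have hnn : ¬ Nil (sigmaCore M) := fun h => hne ((Fcore_eq_Msigma hM).2 h)
  obtain ⟨hP1, hqq, hqb, hSyl, hKsQ, hnil⟩ := Fcore_structure_base hM hK hne hq
  obtain ⟨hsd, hder, -⟩ := P1max_structure hP1 hK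
  have hK1 := hP1.pmax.ne_bot hK
  have hcop := coprime_sigma_kappa hK
  have hpr := kappa_primact hM hK
  have hqs := beta_sub_sigma hM hqb
  have hQn := pcore_nml {q} M
  set Q := O[{q}, M] with hQdef
  set Ks := sigmaCore M ⊓ C[K] with hKsdef
  have hQp : IsPi {q} Q := hSyl.pi
  have hQS := Sylow_Msigma hM hqs hSyl
  have hDM : D ≤ M := hD.le.trans (sigmaCore_le M)
  have hQD : SD Q D (sigmaCore M) := hQS.sd hD ((sigmaCore_le M).trans hQn.norm)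
  have hDn : Nil D := hQD.nil_iff.1 hnil
  have hDQ : ¬ D ≤ C[Q] := fun h => hnn ((hQD.dp h).nil (hQp.nil hqq) hDn)
  have hD1 : D ≠ ⊥ := fun h => hDQ (h ▸ bot_le)
  have hKq : IsPi {q}ᶜ K := (hK.pi.mono (kappa_sub_sigma' M)).compl_of_mem hqs
  have hDKq : IsPi {q}ᶜ (D ⊔ K) := hD.pi.sup hKq hKD
  have hDK : D ⊔ K ≤ M := sup_le hDM hK.le
  have hregD : Semireg D K := (hpr.mono hD.le le_rfl).semireg (eq_bot_of_le
    (hD.pi.inf_eq_bot' hQp) (le_inf inf_le_left ((inf_le_inf_right _ hD.le).trans hKsQ)))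
  have hF : Frob (D ⊔ K) D K := Frob.mk' hKD hD1 hK1 hregD
  have hQDK : SD Q (D ⊔ K) M := ⟨hDK.trans hQn.norm, hQp.inf_eq_bot hDKq, by
    rw [← sup_assoc, hQD.sup, hsd.sup]⟩
  set Q₀ := Q ⊓ C[D] with hQ₀def
  have hQ₀n : D ⊔ K ≤ N[Q₀] := norm_inf hQDK.norm (norm_C (sup_le (norm_self D) hKD))
  -- Frobenius quotients
  have hFq : ∀ V, IsPi {q} V → D ⊔ K ≤ N[V] → Frob (quo (D ⊔ K) V) (quo D V) (quo K V) := by
    intro V hV hn
    have hDV := le_sup_left.trans hn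
    have hKV := le_sup_right.trans hn
    rw [quo_sup hDV hKV]
    exact Frob.mk' (quo_norm V hKD)
      (fun h => hD1 (eq_bot_of_le (hV.inf_eq_bot hD.pi) (le_inf ((quo_eq_bot hDV).1 h) le_rfl)))
      (fun h => hK1 (eq_bot_of_le (hV.inf_eq_bot hKq) (le_inf ((quo_eq_bot hKV).1 h) le_rfl)))
      (hregD.quo_of_coprime hKD hKV hDV (hV.coprime hKq))
  have key : ∀ V W, Q₀ ≤ V → V < W → W ≤ Q → W ≤ N[V] → D ⊔ K ≤ N[V] → D ⊔ K ≤ N[W] →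
      Ks ≤ W ∧ ¬ Ks ≤ V := by
    intro V W h0 hVW hWQ hWV hnV hnW
    have hV : IsPi {q} V := hQp.of_le (hVW.le.trans hWQ)
    have hW : IsPi {q} W := hQp.of_le hWQ
    suffices h : ¬ W ⊓ C[K] ≤ V by
      have h1 : W ⊓ C[K] ≤ Ks := inf_le_inf_right _ (hWQ.trans hQS.le)
      have h2 := prime_eq_of_le (hq ▸ hqq) h1 fun e => h (e ▸ bot_le)
      exact ⟨h2 ▸ inf_le_left, h2 ▸ h⟩
    intro h
    have h1 := H1.Frobenius_cent_compl_sol (hFq V hV hnV) ((hW.sol hqq).quo V) (quo_norm V hnW)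
      (coprime_quo (hW.coprime hDKq) V) (by
        rw [← coprime_quo_cent hVW.le (le_sup_right.trans hnV) (hV.coprime hKq) (hV.sol hqq)]
        exact quo_eq_bot_of_le h)
    have h2 := (coprime_isProd_of_quo_cent ⟨hVW.le, hWV⟩ (le_sup_left.trans hnV) (hV.coprime hD.pi)
      (Or.inl (hV.sol hqq)) h1).sup_eq
    exact hVW.not_ge (h2 ▸ sup_le le_rfl ((inf_le_inf_right _ hWQ).trans h0))
  have key2 : ∀ W, Q₀ ≤ W → W < Q → D ⊔ K ≤ N[W] → ¬ Ks ≤ W := fun W h0 hW hn =>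
    (key W (Q ⊓ N[W]) h0 ((hQp.nil hqq).proper_norm hW) inf_le_left inf_le_right hn
      (norm_inf hQDK.norm (norm_N hn))).2
  have hQ₀lt : Q₀ < Q := lt_of_le_of_ne inf_le_left fun h => hDQ (cents_symm (inf_eq_left.1 h))
  have hQQ₀ : Q ≤ N[Q₀] := by
    by_contra h
    have h1 := (hQp.nil hqq).proper_norm hQ₀lt
    have h2 : D ⊔ K ≤ N[Q ⊓ N[Q₀]] := norm_inf hQDK.norm (norm_N hQ₀n)
    exact key2 _ h1.le (lt_of_le_of_ne inf_le_left fun e => h (inf_eq_left.1 e)) h2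
      (key Q₀ _ le_rfl h1 inf_le_left inf_le_right hQ₀n h2).1
  have hQ₀M : Q₀ ⊴ M := ⟨inf_le_left.trans hQn.le, hQDK.sup ▸ sup_le hQQ₀ hQ₀n⟩
  have hQ₀Q : Q₀ ⊴ Q := ⟨inf_le_left, hQQ₀⟩
  have hKsQ₀ : ¬ Ks ≤ Q₀ := key2 _ le_rfl hQ₀lt hQ₀n
  have hmin : ∀ W, Q₀ ≤ W → W ≤ Q → D ⊔ K ≤ N[W] → W = Q₀ ∨ W = Q := by
    intro W h0 hW hn
    by_contra h
    push Not at h
    exact key2 W h0 (lt_of_le_of_ne hW h.2) hn
      (key Q₀ W le_rfl (lt_of_le_of_ne h0 h.1.symm) hW (hW.trans hQQ₀) hQ₀n hn).1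
  have hch : Chief M Q₀ Q := ⟨hQ₀lt, hQ₀M, hQn, fun W h0 hW hn => hmin W h0 hW (hDK.trans hn)⟩
  have hQ₀p : IsPi {q} Q₀ := hQp.inf_left _
  have hel : IsElementaryAbelian q (quo Q Q₀) := hch.minNml.elem_of_pi (hQp.quo _)
  have hKQ₀ : K ≤ N[Q₀] := le_sup_right.trans hQ₀n
  have hDQ₀ : D ≤ N[Q₀] := le_sup_left.trans hQ₀n
  have hCK : quo Q Q₀ ⊓ C[quo K Q₀] = quo Ks Q₀ := by
    rw [← coprime_quo_cent inf_le_left hKQ₀ (hQ₀p.coprime hKq) (hQ₀p.sol hqq),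
      le_antisymm (inf_le_inf_right _ hQS.le) (le_inf hKsQ inf_le_right)]
  have hcKs : ♯(quo Ks Q₀) = q := by
    rw [card_quo_of_inf (hKsQ.trans hQQ₀) (by
      rw [inf_comm]; exact prime_inf_of_not_le (hq ▸ hqq) hKsQ₀), hq]
  have hcK : ♯(quo K Q₀) = ♯K := card_quo_of_inf hKQ₀ (hQ₀p.inf_eq_bot hKq)
  obtain ⟨f1, f2, f3⟩ := H1.Frobenius_primact (hFq Q₀ hQ₀p hQ₀n) ((mmax_sub_sol hM hDK).quo _)
    (odd_quo (mFT_odd _) _) (quo_norm _ hQDK.norm) ((hQp.sol hqq).quo _) hch.quo_ne_bot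
    (coprime_quo (hQp.coprime hDKq) _)
    ((hpr.mono hQS.le le_rfl).quo (hK.le.trans hQn.norm) hKQ₀ hQQ₀ (hQ₀p.coprime hKq)) (by
      rw [← coprime_quo_cent inf_le_left hDQ₀ (hQ₀p.coprime hD.pi) (hQ₀p.sol hqq)]
      exact quo_self _)
  rw [hcK] at f1
  rw [hCK] at f2 f3
  rw [hcKs, hcK] at f2
  have hD' : ⁅D, D⁆ ≤ centQ Q Q₀ := by
    have h1 := (f3 (cyc_of_card_prime hqq hcKs)).trans inf_le_right
    rw [← quo_comm hDQ₀ hDQ₀] at h1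
    exact (quo_le_iff ((der1_le D).trans hDQ₀)).1 h1
  -- the centraliser of the chief factor
  have hCn : M ⊓ centQ Q Q₀ ⊴ M := nml_inf_of_norm (norm_centQ hQn.norm hQ₀M.norm)
  have hQC : Q ≤ M ⊓ centQ Q Q₀ :=
    le_inf hQn.le ((le_centQ hQQ₀).2 ⟨hQQ₀, (abl_quo hQQ₀).1 hel.abl⟩)
  have hsdC := hQDK.modl hQC inf_le_left
  set C₁ := (D ⊔ K) ⊓ (M ⊓ centQ Q Q₀) with hC₁
  have hC₁D : C₁ ≤ D := by
    refine (H1.Frobenius_normal_proper_ker hF hDn.sol (hCn.inf_left hDK) fun h => ?_).le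
    have h1 := ((le_centQ hQQ₀).1 (h.trans (inf_le_right.trans inf_le_right))).2
    rw [commC] at h1
    exact hDQ (H26.stable_factor_cent (cents_symm inf_le_right) h1 inf_le_left
      (hQ₀p.coprime hD.pi) (Or.inl (hQ₀p.sol hqq)))
  have hC₁Q : C₁ ≤ C[Q] := by
    have h1 := ((le_centQ hQQ₀).1 (inf_le_right.trans inf_le_right : C₁ ≤ _)).2
    rw [commC] at h1
    exact H26.stable_factor_cent (hC₁D.trans (cents_symm inf_le_right)) h1 inf_le_left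
      (hQ₀p.coprime (hD.pi.of_le hC₁D)) (Or.inl (hQ₀p.sol hqq))
  have hFC : M ⊓ centQ Q Q₀ = F[M] := le_antisymm
    (Fitting_max hCn ((hsdC.dp hC₁Q).nil (hQp.nil hqq) (hDn.of_le hC₁D)))
    (le_inf (Fitting_le M) ((le_centQ hQQ₀).2 ⟨(Fitting_le M).trans hQ₀M.norm,
      commC Q _ ▸ hch.comm_Fitting_le⟩))
  have hFs : F[M] ≤ sigmaCore M := by
    rw [← hFC, ← hsdC.sup]
    exact sup_le hQS.le (hC₁D.trans hD.le)
  refine ⟨f1, hDn, hQ₀M, ⟨hch.minNml, hel, f2⟩, by rw [hder], ?_, ?_, hFC, ?_,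
    lt_of_le_of_ne hFs fun h => hnn (h ▸ Fitting_nil M)⟩
  · rw [← hder, ← hFC]
    have h1 := der1_sup_le hQD.norm
    rw [hQD.sup] at h1
    exact h1.trans (sup_le hQC (le_inf ((der1_le D).trans hDM) hD'))
  · refine le_antisymm (hFC ▸ sup_le hQC (le_inf inf_le_left ((le_centQ hQQ₀).2
      ⟨inf_le_left.trans hQ₀M.norm, (comm_eq_bot.2 inf_le_right).le.trans bot_le⟩))) ?_
    · rw [← hFC, ← hsdC.sup]
      exact sup_le_sup_left (le_inf (hC₁D.trans hDM) hC₁Q) _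
  · have hKsN : Ks ≤ N[Q₀] := hKsQ.trans hQQ₀
    have hmono : centQ Q Q₀ ≤ centQ Ks Q₀ := coq_mono (C_anti (quo_mono _ hKsQ))
    refine le_antisymm ?_ (le_inf hFs (hFC ▸ inf_le_right.trans hmono))
    have hQC' : Q ≤ sigmaCore M ⊓ centQ Ks Q₀ := le_inf hQS.le ((hQC.trans inf_le_right).trans hmono)
    have hsd2 := hQD.modl hQC' inf_le_left
    rw [← hsd2.sup, ← hFC]
    refine sup_le hQC (le_inf (inf_le_left.trans hDM) ?_)
    set C₂ := D ⊓ (sigmaCore M ⊓ centQ Ks Q₀) with hC₂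
    have hC₂n : D ⊔ K ≤ N[C₂] := sup_le
      (norm_of_der1_le (le_inf (der1_le D) (le_inf ((der1_le D).trans hD.le) (hD'.trans hmono)))
        inf_le_left)
      (norm_inf hKD (norm_inf hsd.norm (norm_centQ (norm_of_cent (cents_symm inf_le_right)) hKQ₀)))
    have hC₂N : C₂ ≤ N[Q₀] := inf_le_left.trans hDQ₀
    have hW := hmin (Q ⊓ centQ C₂ Q₀) (le_inf inf_le_left (le_coq _)) inf_le_left
      (norm_inf hQDK.norm (norm_centQ hC₂n hQ₀n))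
    have hKsW : Ks ≤ Q ⊓ centQ C₂ Q₀ := le_inf hKsQ ((le_centQ hC₂N).2 ⟨hKsN, commC C₂ _ ▸
      ((le_centQ hKsN).1 (inf_le_right.trans inf_le_right : C₂ ≤ _)).2⟩)
    have hW' := hW.resolve_left fun e => hKsQ₀ (e ▸ hKsW)
    exact (le_centQ hQQ₀).2 ⟨hC₂N, commC Q _ ▸ ((le_centQ hC₂N).1 (inf_eq_left.1 hW')).2⟩

theorem exists_kappa_inv_Hall (hM : IsCoatom M) (hK : Hall (kappa M) M K) (π : Set ℕ) :
    ∃ D, Hall π (sigmaCore M) D ∧ K ≤ N[D] :=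
  H26.coprime_Hall_exists π (hK.le.trans (sigmaCore_norm M)) (coprime_sigma_kappa hK)
    (Msigma_sol hM)

/-- 15.2(a,b) -/
theorem _root_.H24.Fcore_structure_type (hM : IsCoatom M) (hK : Hall (kappa M) M K)
    (hne : fittingHallOf M ≠ sigmaCore M) :
    P1max M ∧ SD (sigmaCore M) K M ∧ sigmaCore M = ⁅M, M⁆ ∧ (♯K).Prime ∧
      (♯(sigmaCore M ⊓ C[K])).Prime ∧ ♯(sigmaCore M ⊓ C[K]) ∣ ♯(fittingHallOf M) ∧
      ♯(sigmaCore M ⊓ C[K]) ∈ beta M := by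
  obtain ⟨hP1, hqq, hqb, hSyl, hKsQ, -⟩ := Fcore_structure_base hM hK hne rfl
  obtain ⟨hsd, hder, -⟩ := P1max_structure hP1 hK
  obtain ⟨D, hD, hKD⟩ := exists_kappa_inv_Hall hM hK {♯(sigmaCore M ⊓ C[K])}ᶜ
  exact ⟨hP1, hsd, hder, (Fcore_structure_main hM hK hne rfl hD hKD).1, hqq,
    card_dvd (hKsQ.trans (syl_le_Fcore hqq hSyl (pcore_nml _ M).norm)), hqb⟩

/-- 15.2, first part -/
theorem _root_.H24.Fcore_chain (hM : IsCoatom M) :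
    fittingHallOf M ≠ ⊥ ∧ fittingHallOf M ≤ sigmaCore M ∧ sigmaCore M ≤ ⁅M, M⁆ ∧ ⁅M, M⁆ < M := by
  refine ⟨?_, Fcore_sub_Msigma hM, Msigma_der1 hM, mmax_der1_lt hM⟩
  by_cases hne : fittingHallOf M = sigmaCore M
  · rw [hne]; exact Msigma_neq1 hM
  obtain ⟨K, hK⟩ := ex_kappa_Hall hM
  obtain ⟨-, -, -, -, h1, h2, -⟩ := Fcore_structure_type hM hK hne
  exact ne_bot_of_prime_dvd h1 h2

/-- 15.2(c-g), with `q = |K*|`, `Q = O_q(M)`, `Q₀ = C_Q(D)`. -/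
theorem _root_.H24.Fcore_structure (hM : IsCoatom M) (hK : Hall (kappa M) M K)
    (hne : fittingHallOf M ≠ sigmaCore M) (hq : q = ♯(sigmaCore M ⊓ C[K]))
    (hD : Hall {q}ᶜ (sigmaCore M) D) :
    Syl q M O[{q}, M] ∧ Nil D ∧ O[{q}, M] ⊓ C[D] ⊴ M ∧
      (MinNml (quo O[{q}, M] (O[{q}, M] ⊓ C[D])) (quo M (O[{q}, M] ⊓ C[D])) ∧
        IsElementaryAbelian q (quo O[{q}, M] (O[{q}, M] ⊓ C[D])) ∧
        ♯(quo O[{q}, M] (O[{q}, M] ⊓ C[D])) = q ^ ♯K) ∧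
      ⁅sigmaCore M, sigmaCore M⁆ = ⁅⁅M, M⁆, ⁅M, M⁆⁆ ∧ ⁅⁅M, M⁆, ⁅M, M⁆⁆ ≤ F[M] ∧
      O[{q}, M] ⊔ M ⊓ C[O[{q}, M]] = F[M] ∧ M ⊓ centQ O[{q}, M] (O[{q}, M] ⊓ C[D]) = F[M] ∧
      sigmaCore M ⊓ centQ (sigmaCore M ⊓ C[K]) (O[{q}, M] ⊓ C[D]) = F[M] ∧
      F[M] < sigmaCore M := by
  obtain ⟨D₀, hD₀, hKD⟩ := exists_kappa_inv_Hall hM hK {q}ᶜ
  obtain ⟨-, h1, h2, h3⟩ := Fcore_structure_main hM hK hne hq hD₀ hKD
  obtain ⟨y, hy, rfl⟩ := H26.Hall_trans (Msigma_sol hM) hD₀ hD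
  have hyM := sigmaCore_le M hy
  have e : O[{q}, M] ⊓ C[cj y D₀] = O[{q}, M] ⊓ C[D₀] := by
    rw [← cj_of_mem_N (h2.norm hyM), cj_inf, cj_C, cj_of_mem_N ((pcore_nml _ M).norm hyM)]
  rw [e]
  exact ⟨(Fcore_structure_base hM hK hne hq).2.2.2.1, h1.cj y, h2, h3⟩

theorem exists_kappaCompl_superset (hM : IsCoatom M) (hX : IsPi (sigma M ∪ kappa M)ᶜ X)
    (hXM : X ≤ M) : ∃ U K, KappaCompl M U K ∧ X ≤ U := by
  obtain ⟨U, K, h⟩ := kappa_witness hM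
  obtain ⟨m, hm, hXU⟩ := H26.Hall_subJ (mmax_sol hM) h.hallU hXM hX
  have h' := h.cj m
  rw [cj_of_mem hm] at h'
  exact ⟨_, _, h', hXU⟩

theorem Hall_Msigma_Sylow (hM : IsCoatom M) (hH : IsHall (sigmaCore M) H) (h1 : H ≠ ⊥) :
    ∃ p P, p.Prime ∧ p ∈ sigma M ∧ p ∣ ♯H ∧ P ≤ H ∧ Syl p (sigmaCore M) P := by
  obtain ⟨p, hp, hd⟩ := H24.exists_prime_dvd_card h1
  obtain ⟨P, hP⟩ := Sylow_exists hp H
  exact ⟨p, P, hp, sigmaCore_pi M p hp (hd.trans (card_dvd hH.le)), hd, hP.le, hH.syl hP hp hd⟩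

/-- 15.3(a) -/
theorem _root_.H24.cent_Hall_sigma_sdprod (hM : IsCoatom M) (hH : IsHall (sigmaCore M) H)
    (h1 : H ≠ ⊥) :
    ∃ X, IsPi (tau2 M) X ∧ Cyc X ∧ SD (sigmaCore M ⊓ C[H]) X C[H] := by
  obtain ⟨p, P, hp, hs, hd, hPH, hP⟩ := Hall_Msigma_Sylow hM hH h1
  have hCM : C[H] ≤ M := (C_anti hPH).trans ((C_le_N P).trans
    (norm_sigma_Sylow hs (Msigma_Sylow hM hs hP)))
  obtain ⟨X, hX⟩ := H26.Hall_exists (sigma M)ᶜ (mmax_sub_sol hM hCM)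
  have hsd := ((Msigma_Hall hM).nml_inf (sigmaCore_norm M) hCM).sd hX
    (norm_inf (hCM.trans (sigmaCore_norm M)) (norm_self _))
  by_cases hX1 : X = ⊥
  · exact ⟨X, isPi_of_eq_bot hX1, hX1 ▸ H24.cyc_bot, hsd⟩
  have hXk : IsPi (kappa M)ᶜ X := fun r hr hrd hk => by
    obtain ⟨Y, hY⟩ := exists_pnElem_one hr hrd
    obtain ⟨K, hK, hYK⟩ := H26.Hall_superset (mmax_sol hM) (hY.le.trans (hX.le.trans hCM))
      ((hY.isPi hr).of_mem hk)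
    have h2 : H ≤ sigmaCore M ⊓ C[K] := by
      rw [← (kappa_primact hM hK).inf_C hYK (hY.ne_bot hr one_pos)]
      exact le_inf hH.le (cents_symm (hY.le.trans hX.le))
    exact (Ptype_Kstar_Sylow ⟨hM, r, hk⟩ hK hp (hd.trans (card_dvd h2)) hP).2 (hPH.trans h2)
  obtain ⟨U, K, hU, hXU⟩ := exists_kappaCompl_superset hM
    (by rw [Set.compl_union]; exact hX.pi.inter hXk) (hX.le.trans hCM)
  obtain ⟨-, h2, h3⟩ := kappa_structure_cent hM hU hXU hX1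
    (ne_bot_of_le h1 (le_inf hH.le (cents_symm hX.le)))
  exact ⟨X, h3, h2, hsd⟩

/-- 15.3(b) -/
theorem _root_.H24.sigma_Hall_tame (hM : IsCoatom M) (hH : IsHall (sigmaCore M) H) (hx : x ∈ H)
    (hxa : a * x * a⁻¹ ∈ H) : ∃ b ∈ M ⊓ N[H], a * x * a⁻¹ = b * x * b⁻¹ := by
  by_cases hx1 : x = 1
  · exact ⟨1, one_mem _, by simp [hx1]⟩
  obtain ⟨c, hc, e⟩ := FT_signalizer_trans hM (hH.le hx) hx1 (isCoatom_cj hM a⁻¹)
    (by rw [sigmaCore_cj, mem_cj]; simpa using hH.le hxa)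
  have hm : c⁻¹ * a⁻¹ ∈ M := (norm_mmax hM).le (cj_eq_cj_iff.1 e)
  have e1 : a * x * a⁻¹ = (a * c) * x * (a * c)⁻¹ := by
    have := mem_C1_iff_conj.1 (sigR_le_C1 x hc)
    calc a * x * a⁻¹ = a * (c * x * c⁻¹) * a⁻¹ := by rw [this]
      _ = _ := by group
  have hm' : a * c ∈ M := by simpa using inv_mem hm
  rw [e1] at hxa ⊢
  generalize a * c = m at hxa hm'
  by_cases hn : M ≤ N[H]
  · exact ⟨m, ⟨hm', hn hm'⟩, rfl⟩
  have hne : fittingHallOf M ≠ sigmaCore M := fun h =>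
    hn (((Fcore_eq_Msigma hM).1 h).norm_hall hH.hall (sigmaCore_norm M))
  obtain ⟨K, hK⟩ := ex_kappa_Hall hM
  obtain ⟨-, hq, hqb, hSyl, -, hnil⟩ := Fcore_structure_base hM hK hne rfl
  generalize ♯(sigmaCore M ⊓ C[K]) = q at hq hqb hSyl hnil
  have hQ := pcore_nml {q} M
  have hQS := Sylow_Msigma hM (beta_sub_sigma hM hqb) hSyl
  have h1 := norm_sup_of_nil_quo hQ.norm (sigmaCore_norm M) ((sigmaCore_le M).trans hQ.norm) hnil
    hH.hall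
  have hqH : q ∉ primesOf H := fun h => hn (by
    rwa [sup_eq_right.2 (hH.hall.nml_le (hSyl.pi.of_mem h) (hQ.of_le hQS.le (sigmaCore_le M)))]
      at h1)
  obtain ⟨u, hu, n, hn', rfl⟩ := (Hall_Frattini_sup (mmax_sol hM) hQ (hSyl.pi.of_mem hqH)
    (isPi_primesOf H) (hH.le.trans (sigmaCore_le M)) h1).mul m hm'
  refine ⟨n, hn', ?_⟩
  have hy : n * x * n⁻¹ ∈ H := conj_mem hn'.2 hx
  have h2 : u * (n * x * n⁻¹) * u⁻¹ * (n * x * n⁻¹)⁻¹ ∈ O[{q}, M] ⊓ H := by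
    refine mem_inf.2 ⟨?_, ?_⟩
    · have := mul_mem hu (hQ.conj_mem (sigmaCore_le M (hH.le hy)) (inv_mem hu))
      simpa only [mul_assoc] using this
    · refine mul_mem ?_ (inv_mem hy)
      simpa only [mul_assoc, mul_inv_rev] using hxa
  rw [(hSyl.pi.of_mem hqH).inf_eq_bot' (isPi_primesOf H), mem_bot, mul_inv_eq_one] at h2
  rw [← h2]; group

/-- 15.4 -/
theorem _root_.H24.nilpotent_Hall_sigma (hn : Nil H) (hH : IsHall ⊤ H) :
    ∃ M, IsCoatom M ∧ H ≤ sigmaCore M := by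
  by_cases h1 : H = ⊥
  · obtain ⟨M, hM, -⟩ := exists_coatom (mFT_top_ne_bot (G := G)).symm
    exact ⟨M, hM, h1 ▸ bot_le⟩
  obtain ⟨p, hp, hd⟩ := H24.exists_prime_dvd_card h1
  obtain ⟨S, hS⟩ := Sylow_exists hp H
  have hS1 := hS.ne_bot hp rfl hd
  obtain ⟨M, hM, hN, hSM, hs⟩ := exists_mmax_sigma_Sylow hp (hH.syl hS hp hd) hS1
  have hHM : H ≤ M := (hn.hall_nml hS).norm.trans hN
  refine ⟨M, hM, sub_Msigma hM (fun r hr hrd => by_contra fun hrs => ?_) hHM⟩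
  obtain ⟨X, hX, hXc, hsd⟩ := cent_Hall_sigma_sdprod hM (Sylow_Msigma hM hs hSM).isHall hS1
  obtain ⟨R, hR⟩ := Sylow_exists hr H
  have hRC : R ≤ C[S] := hn.cents_of_coprime hR.le hS.le
    (hR.pi.coprime_of_ne hS.pi fun e => hrs (e ▸ hs))
  have hXH : Hall (sigma M)ᶜ C[S] X := hsd.hall_compl_right
    ((Msigma_Hall hM).nml_inf (sigmaCore_norm M) ((C_le_N S).trans hN))
  have h2 := tau2_prank (hX r hr (hXH.prime_dvd hr hrs
    ((hR.prime_dvd hr rfl hrd).trans (card_dvd hRC))))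
  have h3 := prank_mono hr hRC
  rw [prank_Syl hr ((hH.syl hR hr hrd).of_le (hR.le.trans hHM) le_top), ← prank_Hall hr hXH hrs]
    at h3
  have := cyc_prank_le_one hr hXc
  omega

theorem sigma'_Fitting_tau2 (hM : IsCoatom M) : IsPi (tau2 M) O[(sigma M)ᶜ, F[M]] := by
  intro q hq hd
  have h2 := (sigma'_Fitting_cyclic hM).nil.pcore_ne_bot hq (Set.mem_singleton q) hd
  exact (prime_class_mmax_norm hM hq (pcore_pi {q} _) (mmax_normal hM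
    ((pcore_Fitting_nml _ M).pcore {q}) h2).le).resolve_left (pcore_pi _ _ q hq hd)

theorem Fitting_dprod (M : Subgroup G) : DP F[sigmaCore M] O[(sigma M)ᶜ, F[M]] F[M] := by
  rw [sigmaCore_def, Fitting_pcore]
  exact (Fitting_nil M).pcoreC _

/-- 15.5 -/
theorem _root_.H24.Fitting_structure (hM : IsCoatom M) :
    (Cyc O[(sigma M)ᶜ, F[M]] ∧ IsPi (tau2 M) O[(sigma M)ᶜ, F[M]]) ∧
      (⁅⁅M, M⁆, ⁅M, M⁆⁆ ≤ F[M] ∧ fittingHallOf M ⊔ M ⊓ C[fittingHallOf M] = F[M] ∧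
        DP F[sigmaCore M] O[(sigma M)ᶜ, F[M]] F[M]) ∧
      (fittingHallOf M ≤ ⁅M, M⁆ ∧ Nil (quo ⁅M, M⁆ (fittingHallOf M))) ∧
      (Pmax M → F[M] ≤ ⁅M, M⁆) := by
  have hFH : F[M] ≤ fittingHallOf M ⊔ M ⊓ C[fittingHallOf M] := by
    have h := (Fitting_nil M).pcoreC (primesOf (fittingHallOf M))
    rw [← (Fitting_nil M).hall_eq_pcore
      ((Fcore_hall M).of_le (Fcore_le_Fitting M) (Fitting_le M))] at h
    rw [← h.sup]
    exact sup_le_sup_left (le_inf (h.right_le.trans (Fitting_le M)) h.cent) _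
  have hn : ⁅M, M⁆ ≤ N[fittingHallOf M] := (der1_le M).trans (Fcore_nml M).norm
  suffices h : ⁅⁅M, M⁆, ⁅M, M⁆⁆ ≤ F[M] ∧ M ⊓ C[fittingHallOf M] ≤ F[M] ∧
      Nil (quo ⁅M, M⁆ (fittingHallOf M)) by
    refine ⟨⟨sigma'_Fitting_cyclic hM, sigma'_Fitting_tau2 hM⟩,
      ⟨h.1, le_antisymm (sup_le (Fcore_le_Fitting M) h.2.1) hFH, Fitting_dprod M⟩,
      ⟨(Fcore_sub_Msigma hM).trans (Msigma_der1 hM), h.2.2⟩, fun hP => ?_⟩
    obtain ⟨U, K, hU⟩ := kappa_witness hM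
    rw [← (Fitting_dprod M).sup, ← ((kappa_structure hM hU).2.2.2.2 (hP.ne_bot hU.hallK)).1]
    refine sup_le_sup (Fitting_le _) (hU.hallU.nml_le (fun r hr hd h => ?_) (pcore_Fitting_nml _ M))
    have h2 := sigma'_Fitting_tau2 hM r hr hd
    exact h.elim (tau2_not_sigma h2) fun h =>
      (kappa_tau13 h).elim (fun h => tau2'1 M h h2) fun h => tau2'3 M h h2
  by_cases hne : fittingHallOf M = sigmaCore M
  · have hnil := (Fcore_eq_Msigma hM).1 hne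
    rw [hne] at hn ⊢
    refine ⟨(der2_sub_Msigma hM).trans (Fitting_max (sigmaCore_nml M) hnil),
      Fitting_max (sigmaCore_nml M).infC (Nil.of_le ?_ inf_le_right),
      ((abl_quo hn).2 (der2_sub_Msigma hM)).nil⟩
    obtain ⟨X, -, hXc, hsd⟩ := cent_Hall_sigma_sdprod hM
      (hall_self (sigmaCore_pi M)).isHall (Msigma_neq1 hM)
    exact (hsd.dp (cents_of_le hsd.right_le inf_le_left)).nil (abl_center _).nil hXc.nil
  · obtain ⟨K, hK⟩ := ex_kappa_Hall hM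
    obtain ⟨hP1, hq, -, hSyl, -, hnil⟩ := Fcore_structure_base hM hK hne rfl
    obtain ⟨D, hD, -⟩ := exists_kappa_inv_Hall hM hK {♯(sigmaCore M ⊓ C[K])}ᶜ
    obtain ⟨-, -, -, -, -, h1, h2, -⟩ := Fcore_structure hM hK hne rfl hD
    have hQH := syl_le_Fcore hq hSyl (pcore_nml _ M).norm
    refine ⟨h1, h2 ▸ le_sup_of_le_right (inf_le_inf_left _ (C_anti hQH)), ?_⟩
    rw [← (P1max_structure hP1 hK).2.1] at hn ⊢
    exact hnil.quo_mono ((sigmaCore_le M).trans (pcore_nml _ M).norm) hn (inf_le_left.trans hQH)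

/-- 15.6 -/
theorem _root_.H24.Ptype_cyclics (hM : Pmax M) (hK : Hall (kappa M) M K) :
    sigmaCore M ⊓ C[K] ≠ ⊥ ∧ Cyc (sigmaCore M ⊓ C[K]) ∧ sigmaCore M ⊓ C[K] ≤ ⁅⁅M, M⁆, ⁅M, M⁆⁆ ∧
      sigmaCore M ⊓ C[K] ≤ fittingHallOf M ∧ ¬ Cyc (fittingHallOf M) := by
  have hMm := hM.coatom
  obtain ⟨Mst, hMst⟩ := Ptype_embedding hM hK
  have h1 := Ptype_Kstar_ne_bot hM hK
  have h2 : sigmaCore M ⊓ C[K] ≤ ⁅⁅M, M⁆, ⁅M, M⁆⁆ :=
    (inf_le_inf_right _ (Msigma_der1 hMm)).trans (H26.coprime_der1_sdprod hMst.sd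
      ((hMst.sd.isPi_left hK).coprime' hK.pi) (mmax_sub_sol hMm (der1_le M)) le_rfl).2
  refine ⟨h1, hMst.cyc.of_le le_sup_right, h2, ?_, fun hc => h1 (eq_bot_of_le ?_ h2)⟩
  · by_cases hne : fittingHallOf M = sigmaCore M
    · rw [hne]; exact inf_le_left
    obtain ⟨-, hq, -, hSyl, h3, -⟩ := Fcore_structure_base hMm hK hne rfl
    exact h3.trans (syl_le_Fcore hq hSyl (pcore_nml _ M).norm)
  obtain ⟨⟨hY, -⟩, ⟨-, h3, h4⟩, -⟩ := Fitting_structure hMm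
  have h5 : ⁅M, M⁆ ≤ F[M] := h3 ▸ le_sup_of_le_right (le_inf (der1_le M)
    (cyc_der1_norm_le_cent hc (Fcore_nml M).norm))
  have hnil := (Fitting_nil M).of_le ((Msigma_der1 hMm).trans h5)
  rw [(Fcore_eq_Msigma hMm).2 hnil] at hc
  exact der1_eq_bot.2 ((h4.cp.abl (hc.abl.of_le (Fitting_le _)) hY.abl).of_le h5)

end H3BG
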