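import Mathlib
import Cfsg.Agent.H3.S15a

/-!
# Bender–Glauberman §15, second part (15.7 – 15.9)
-/

set_option autoImplicit false
set_option linter.unusedSectionVars false
set_option linter.unusedVariables false

open Subgroup H24 Cfsg H25
open scoped commutatorElement

namespace H3BG

universe u

variable {G : Type u} [Group G] [Finite G]

omit [Finite G] in
theorem sd_pow_mem {H U M : Subgroup G} {n : ℕ} (h : SD H U M) (hU : ∀ u ∈ U, u ^ n = 1) {m : G}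
    (hm : m ∈ M) : m ^ n ∈ H := by
  obtain ⟨a, ha, u, hu, rfl⟩ := h.isProd.mul m hm
  have haN := norm_self H ha
  have huN := h.norm hu
  rw [← cs_eq_one (pow_mem (mul_mem haN huN) n), cs, ap_pow _ (mul_mem haN huN), ap_mul _ haN huN,
    show ap (coset H) a = 1 from cs_of_mem ha, one_mul, ← ap_pow _ huN, hU u hu, ap_one]

variable [FT G]
variable {M Mst H K U D E E₁ E₂ E₃ R X : Subgroup G} {x a g : G} {p q r : ℕ}

theorem nonTI_sub_Msigma (hM : IsCoatom M) (hg : g ∉ M) : F[M] ⊓ cj g F[M] ≤ sigmaCore M := by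
  refine sub_Msigma hM (fun p hp hd => by_contra fun hs => hg ?_) (inf_le_left.trans (Fitting_le M))
  obtain ⟨X, hX⟩ := exists_pnElem_one hp hd
  have hY := sigma'_Fitting_cyclic hM
  have hXp : IsPi (sigma M)ᶜ X := (hX.isPi hp).of_mem hs
  have h1 : X ≤ O[(sigma M)ᶜ, F[M]] := (Fitting_nil M).le_pcore hXp (hX.le.trans inf_le_left)
  have h2 : cj g⁻¹ X ≤ O[(sigma M)ᶜ, F[M]] :=
    (Fitting_nil M).le_pcore (hXp.cj _) (le_cj_iff.1 (hX.le.trans inf_le_right))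
  rw [← mmax_normal hM ((pcore_Fitting_nml _ M).of_cyc hY h1) (hX.ne_bot hp one_pos)]
  exact inv_mem_iff.1 (mem_N_iff_cj.2 (cyc_eq_of_card_eq hY h2 h1 (card_cj _ _)))

theorem nonTI_not_cent (hM : IsCoatom M) (hg : g ∉ M) (hp : p.Prime)
    (hX : PnElem p 1 (F[M] ⊓ cj g F[M]) X) : p ∈ sigma M ∧ p ∉ beta M ∧ ¬ C[X] ≤ M := by
  have hXs := hX.le.trans (nonTI_sub_Msigma hM hg)
  have hs : p ∈ sigma M := sigmaCore_pi M p hp ((hX.of_le hXs).prime_dvd_card one_pos)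
  have hC : ¬ C[X] ≤ M := fun h => hg (inv_mem_iff.1 (sigma_group_trans_e hM hs (hX.isPi hp)
    (hXs.trans (sigmaCore_le M)) h
    ((le_cj_iff.1 (hX.le.trans inf_le_right)).trans (Fitting_le M))))
  exact ⟨hs, fun hb => hC (cent_der_sigma_uniq hM hp (hX.of_le (hXs.trans (sigmaCore_le M)))
    (Or.inl hb)).1.le, hC⟩

theorem not_uniq_of_not_cent (hM : IsCoatom M) (h1 : X ≠ ⊥) (hC : ¬ C[X] ≤ M) (hK : K ≤ M ⊓ C[X]) :
    ¬ Uniq K := fun h =>
  hC (uniq_le_mmax h hM (hK.trans inf_le_left) (hK.trans inf_le_right) (mFT_cent_proper h1))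

theorem rank_le_of_not_cent (hM : IsCoatom M) (h1 : X ≠ ⊥) (hC : ¬ C[X] ≤ M) (hK : K ≤ M ⊓ C[X]) :
    rank K ≤ 2 := by_contra fun h => not_uniq_of_not_cent hM h1 hC hK
  (H25.rank3_Uniqueness (sub_mmax_proper hM (hK.trans inf_le_left)) (by omega))

/-- 15.7(a-d) -/
theorem _root_.H24.nonTI_Fitting_structure (hM : IsCoatom M) (hg : g ∉ M)
    (hX : F[M] ⊓ cj g F[M] ≠ ⊥) :
    ((Fmax M ∨ P1max M) ∧ fittingHallOf M = sigmaCore M) ∧
      (F[M] ⊓ cj g F[M] ≤ fittingHallOf M ∧ Cyc (F[M] ⊓ cj g F[M])) ∧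
      (⁅M, M⁆ ≤ F[M] ∧ DP (sigmaCore M) O[(sigma M)ᶜ, F[M]] F[M]) ∧
      ∀ E E₁ E₂ E₃, SigmaCompl M E E₁ E₂ E₃ → E₃ = ⊥ ∧ SD E₂ E₁ E ∧ Cyc E₁ := by
  obtain ⟨p, hp, hd⟩ := H24.exists_prime_dvd_card hX
  obtain ⟨X₁, hX₁⟩ := exists_pnElem_one hp hd
  obtain ⟨hs, hb, hC⟩ := nonTI_not_cent hM hg hp hX₁
  have hXs := nonTI_sub_Msigma hM hg
  have hder : ⁅M, M⁆ ≤ F[M] := H26.narrow_der1_sub_Fitting hp (mFT_odd M) (mmax_sol hM)
    (hX₁.le.trans inf_le_left) hX₁.elem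
    (rank_le_of_not_cent hM (hX₁.ne_bot hp one_pos) hC (inf_le_inf_right _ (Fitting_le M)))
  have hnil := (Fitting_nil M).of_le ((Msigma_der1 hM).trans hder)
  have e := (Fcore_eq_Msigma hM).2 hnil
  have hdp := Fitting_dprod M
  rw [hnil.Fitting_eq] at hdp
  refine ⟨⟨(not_p2_iff hM).1 fun h => ?_, e⟩, ⟨e ▸ hXs, (sigma_compl_embedding_cj hM hg).1.of_le
    (le_inf hXs (inf_le_right.trans (cj_mono g (Fitting_le M))))⟩, ⟨hder, hdp⟩,
    fun E E₁ E₂ E₃ h => ?_⟩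
  · obtain ⟨K, hK⟩ := ex_kappa_Hall hM
    exact hb ((P2type_structure h hK).1 ▸ hs)
  obtain ⟨⟨h3, -⟩, -, ⟨hc, -⟩, ⟨h21, h321, -⟩, -⟩ := sigma_compl_context hM h
  have e3 : E₃ = ⊥ := ((sigma'_Fitting_tau2 hM).of_le ((Fitting_nil M).le_pcore
    (h.hall3.pi.mono (tau3_sub_sigma' M)) (h3.trans ((der1_mono h.hallE.le).trans hder)))).eq_bot
      (h.hall3.pi.mono (tau2'3 M))
  rw [e3] at h321
  exact ⟨e3, h321.eq_of_left_bot ▸ h21, hc⟩

/-- 15.7(e); the exponent of `M / H` is expressed elementwise. -/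
theorem _root_.H24.nonTI_Fitting_cases (hM : IsCoatom M) (hg : g ∉ M) (hX : F[M] ⊓ cj g F[M] ≠ ⊥) :
    (Fmax M ∧ Abl (fittingHallOf M) ∧ rank (fittingHallOf M) = 2) ∨
      ∃ p, p.Prime ∧ ♯(F[M] ⊓ cj g F[M]) = p ∧ p ∈ sigma M ∧ p ∉ beta M ∧
        ¬ Abl O[{p}, fittingHallOf M] ∧ Cyc O[{p}ᶜ, fittingHallOf M] ∧
        ((∀ q, q.Prime → q ∣ ♯(fittingHallOf M) → ∀ m ∈ M, m ^ (q - 1) ∈ fittingHallOf M) ∨
          (♯O[{p}, fittingHallOf M] = p ^ 3 ∧ P1max M ∧ (fittingHallOf M).relIndex M ∣ p + 1)) := by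
  obtain ⟨⟨hty, e⟩, ⟨hXH, hXc⟩, ⟨hder, hdp⟩, -⟩ := nonTI_Fitting_structure hM hg hX
  rw [e] at hXH ⊢
  have hnil := (Fcore_eq_Msigma hM).1 e
  set H := sigmaCore M with hHdef
  set X := F[M] ⊓ cj g F[M] with hXdef
  have hHM : H ⊴ M := sigmaCore_nml M
  obtain ⟨p, hp, hd⟩ := H24.exists_prime_dvd_card hX
  obtain ⟨X₁, hX₁⟩ := exists_pnElem_one hp hd
  obtain ⟨hs, hb, hC⟩ := nonTI_not_cent hM hg hp hX₁
  have hX₁1 := hX₁.ne_bot hp one_pos
  have hX₁H := hX₁.le.trans hXH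
  by_cases hab : Abl H
  · refine Or.inl ⟨hty.resolve_right fun h => ?_, hab, le_antisymm
      (rank_le_of_not_cent hM hX₁1 hC (le_inf hHM.le (hab.cents le_rfl hX₁H)))
      (odd_nil_two_le_rank hnil (mFT_odd H) fun h => hC ((C_le_N _).trans
        (mmax_normal hM (hHM.of_cyc h hX₁H) hX₁1).le))⟩
    obtain ⟨K, hK⟩ := ex_kappa_Hall hM
    obtain ⟨h1, -, h2, -⟩ := Ptype_cyclics h.pmax hK
    exact h1 (eq_bot_of_le (der1_eq_bot.2
      ((hdp.cp.abl hab (sigma'_Fitting_cyclic hM).abl).of_le hder)) h2)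
  right
  -- the `r'`-part of `H` is abelian for each `r ∈ π(X)`
  have habC : ∀ r Y, r.Prime → PnElem r 1 X Y → Abl (H ⊓ C[Y]) := fun r Y hr hY =>
    nil_abl_of_syl (hnil.of_le inf_le_left) fun s S hs _ hS => by_contra fun h =>
      not_uniq_of_not_cent hM (hY.ne_bot hr one_pos) (nonTI_not_cent hM hg hr hY).2.2
        (hS.le.trans (inf_le_inf_right _ hHM.le)) (nonabelian_Uniqueness hs hS.pi h)
  have habO : ∀ r Y, r.Prime → PnElem r 1 X Y → Abl O[{r}ᶜ, H] := fun r Y hr hY =>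
    (habC r Y hr hY).of_le (le_inf (pcore_le _ _) (cents_symm
      (hnil.cents_of_pi (hY.le.trans hXH) (pcore_le _ _) (hY.isPi hr) (pcore_pi _ _))))
  have hdpH := hnil.pcoreC {p}
  set P := O[{p}, H] with hPdef
  have hP : IsPi {p} P := pcore_pi _ _
  have hPM : P ⊴ M := hHM.pcore _
  have hPa : ¬ Abl P := fun h => hab (hdpH.cp.abl h (habO p X₁ hp hX₁))
  have hXp : IsPi {p} X := fun r hr hrd => by_contra fun hne => by
    obtain ⟨Y, hY⟩ := exists_pnElem_one hr hrd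
    exact hPa ((habO r Y hr hY).of_le (pcore_mono H (singleton_subset_compl (Ne.symm hne))))
  have hXP : X ≤ P := hnil.le_pcore hXp hXH
  have hX₁P := hX₁.le.trans hXP
  have hPX : ¬ P ≤ C[X₁] := fun h => hPa ((habC p X₁ hp hX₁).of_le (le_inf (pcore_le _ _) h))
  have hUP : Uniq P := nonabelian_Uniqueness hp hP hPa
  have hOc : Cyc O[{p}ᶜ, H] := odd_nil_rank1_cyclic (hnil.of_le (pcore_le _ _)) (mFT_odd _)
    (by_contra fun h => not_uniq_of_not_cent hM hX₁1 hC (le_inf ((pcore_le _ _).trans hHM.le)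
      (cents_of_le hdpH.cent hX₁P)) (H25.cent_uniq_Uniqueness hUP hdpH.cent (by omega)))
  have hP1 : P ≠ ⊥ := ne_bot_of_le hX₁1 hX₁P
  obtain ⟨Z₁, hZ₁⟩ := exists_pnElem_one hp ((hP.inf_left _).dvd_card ((hP.nil hp).center_ne_bot hP1))
  have hB : PnElem p 2 P (Z₁ ⊔ X₁) := (hZ₁.mono inf_le_left).sup_one (hX₁.of_le hX₁P) hp
    (hX₁P.trans (cents_symm (hZ₁.le.trans inf_le_right)))
    fun h => hPX (cents_symm ((h.trans hZ₁.le).trans inf_le_right))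
  have hBm : PmaxElem p ⊤ (Z₁ ⊔ X₁) := by_contra fun h => not_uniq_of_not_cent hM hX₁1 hC
    (le_inf (hB.le.trans hPM.le) (hB.abl.cents le_rfl le_sup_right))
    (H25.nonmaxElem2_Uniqueness hp hB.top h)
  obtain ⟨hZ₀, ⟨Y, hY, hZY, hdpY⟩, -⟩ := basic_p2maxElem_structure hp hB.top hBm hP hB.le hPa
  set Z₀ := omegaOne p Z[P] with hZ₀def
  have hX₁Z : X₁ ≠ Z₀ := fun h => hPX (cents_symm (h ▸ (omegaOne_le _ _).trans inf_le_right))
  have hcard : ♯X = p := by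
    have h1 := (hdpY X₁ (hX₁.of_le le_sup_right) hX₁Z).modl hX₁.le (le_inf hXP (cents_sup
      (hXP.trans (cents_symm (hZ₁.le.trans inf_le_right))) (hXc.abl.cents le_rfl hX₁.le)))
    have h2 : Y ⊓ X = ⊥ := by_contra fun h => by
      have h3 := cyc_omegaOne_le hY inf_le_left hp ((hXp.inf_right Y).dvd_card h)
      rw [(hZ₀.of_le hZY).eq_omegaOne_of_cyc hp hY] at h3
      exact hX₁Z (cyc_eq_of_card_eq hXc hX₁.le (h3.trans inf_le_right)
        (hX₁.card.trans hZ₀.card.symm))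
    rw [← h1.sup, h2, sup_bot_eq, hX₁.card_one]
  refine ⟨p, hp, hcard, hs, hb, hPa, hOc, ?_⟩
  -- the normal subgroups of prime order
  have hZq : ∀ q, q.Prime → q ∣ ♯H → ∃ Z, Z ⊴ M ∧ Z ≤ H ∧ ♯Z = q ∧ (q = p → Z = Z₀) := by
    intro q hq hqd
    by_cases hqp : q = p
    · exact ⟨Z₀, hPM.center.omegaOne p, hZ₀.le.trans (hB.le.trans (pcore_le _ _)),
        hqp ▸ hZ₀.card_one, fun _ => rfl⟩
    · have h1 := cyc_omegaOne_pnElem hq hOc ((hnil.pcore_hall {p}ᶜ).prime_dvd hq hqp hqd)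
      exact ⟨_, (hHM.pcore _).omegaOne q, h1.le.trans (pcore_le _ _), h1.card_one,
        fun h => absurd h hqp⟩
  rcases hty with hF | hP1max
  · refine Or.inl fun q hq hqd m hm => ?_
    obtain ⟨E, hE⟩ := exists_sigma_compl hM
    obtain ⟨U₀, hU₀, he, hreg⟩ := kappa_structure_compl hM (hF.kappaCompl hE)
    obtain ⟨Z, hZn, hZH, hZc, -⟩ := hZq q hq hqd
    refine sd_pow_mem (sdprod_sigma hM hE) (fun u hu => ?_) hm
    have h1 := (hreg.mono hZH le_rfl).dvd_pred ((hU₀.trans hE.le).trans hZn.norm)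
    rw [hZc] at h1
    exact orderOf_dvd_iff_pow_eq_one.1 ((orderOf_dvd_iff_pow_eq_one.2 (pow_exponent hu)).trans
      (he ▸ Group.exponent_dvd_nat_card.trans h1))
  obtain ⟨K, hK⟩ := ex_kappa_Hall hM
  obtain ⟨hsd, hHder, hKs⟩ := P1max_structure hP1max hK
  have hpr := kappa_primact hM hK
  have hKc := kappa_cyclic hM hK
  by_cases h2 : ∀ q, q.Prime → q ∣ ♯H → ♯K ∣ q - 1
  · exact Or.inl fun q hq hqd m hm => sd_pow_mem hsd (fun u hu => orderOf_dvd_iff_pow_eq_one.1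
      ((orderOf_dvd_card' hu).trans (h2 q hq hqd))) hm
  right
  push Not at h2
  obtain ⟨q, hq, hqd, hnd⟩ := h2
  obtain ⟨Z, hZn, hZH, hZc, hZp⟩ := hZq q hq hqd
  have hZK : Z = H ⊓ C[K] := by
    refine prime_eq_of_le hKs (prime_le_of_inf_ne (hZc ▸ hq) fun h => hnd ?_)
      (ne_bot_of_prime (hZc ▸ hq))
    rw [← hZc]
    refine ((hpr.mono hZH le_rfl).semireg ?_).dvd_pred (hK.le.trans hZn.norm)
    rwa [← inf_assoc, inf_eq_left.2 hZH] at h
  have hKsP : H ⊓ C[K] ≤ P := by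
    have h1 := (Ptype_cyclics hP1max.pmax hK).2.2.1
    rw [← hHder, hdpH.cp.der1, der1_eq_bot.2 hOc.abl, sup_bot_eq] at h1
    exact h1.trans (der1_le P)
  obtain rfl : q = p := hP q hq (hZc ▸ card_dvd (hZK ▸ hKsP))
  obtain rfl := hZp rfl
  have hKq : IsPi {q}ᶜ K := (hK.pi.mono (kappa_sub_sigma' M)).compl_of_mem hs
  have hcent : ∀ x ∈ K, x ≠ 1 → P ⊓ C{x} = Z₀ := fun x hx hx1 => by
    rw [(hpr.mono (pcore_le _ _) le_rfl) x hx hx1, hZK]
    exact le_antisymm (inf_le_inf_right _ (pcore_le _ _)) (le_inf hKsP inf_le_right)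
  have hPS : Syl q ⊤ P := Msigma_Sylow_G hM hs (hnil.pcore_hall _)
  have hr : prank q P ≤ 2 := by
    by_contra hr
    obtain ⟨k, hk, rfl⟩ := hKc.exists_gen
    have h1 := (H26.Aut_narrow hq hP (mFT_odd P)
      (fun _ => ⟨_, hB, hBm.restrict hB.le le_top⟩) (mmax_sol hM) hPM.norm (mFT_odd M)).2.2
      (by rw [rank_pgroup hq hP]; omega) k (hK.le hk) (hKq.piElt hk)
    refine hnd (by_contra fun h => hPa ?_)
    rw [card_zpowers', orderOf_dvd_iff_pow_eq_one] at h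
    rw [← inf_eq_left.2 (mem_C_iff_le_C1.1 h1), hcent _ (pow_mem hk _) h]
    exact hZ₀.abl
  have hZP : Z[P] = Z₀ := le_antisymm (hZK ▸ le_inf (inf_le_left.trans (pcore_le _ _))
    (cents_symm (H26.coprime_odd_faithful_Ohm1 hq (hP.inf_left _) (hK.le.trans hPM.center.norm)
      ((hP.inf_left _).coprime hKq) (mFT_odd _) (cents_symm (hZK.le.trans inf_le_right)))))
    (omegaOne_le _ _)
  obtain ⟨S, C, hSa, hS, hexp, hC, hcp, hCS⟩ := mFT_rank2_Sylow_cprod hq hPS hr hPa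
  obtain rfl : S = P := by
    have h1 : C ≤ Z[P] := by rw [hcp.center, hC.abl.center_eq]; exact le_sup_right
    have h2 : Z[S] = Z[P] := eq_of_card_eq (hcp.center ▸ le_sup_left)
      (by rw [p3_card_center hq hS hSa, hZP, hZ₀.card_one])
    rw [← hcp.sup, sup_eq_left.2 ((h1.trans h2.ge).trans inf_le_left)]
  have hd3 := p3_der1_eq_center hq hS hSa
  have h1 := H1.repr_extraspecial_prime_sdprod_cycle (n := 1) hq
    ⟨hP, le_antisymm (Phi_le_of_pow hq hd3.le fun x hx => hexp x hx ▸ one_mem _)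
      (hd3 ▸ hP.der1_le_Phi hq), hd3, p3_card_center hq hS hSa⟩ (hK.le.trans hPM.norm) hKc hS
    ((piNat_compl_iff_coprime hq).1 hKq) fun x hx hx1 => (hcent x hx hx1).trans hZP.symm
  rw [pow_one] at h1
  exact ⟨hS, hP1max, hsd.relIndex_left ▸ h1.resolve_right hnd⟩

/-- 15.8 -/
theorem _root_.H24.tau2_P2type_signalizer (hM : P2max M) (h : KappaCompl M U K) (hMst : IsCoatom Mst)
    (hC : C[K] ≤ Mst) (hr : r.Prime) (hd : r ∣ ♯U) (hR : Syl r U R) (hH : IsCoatom H)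
    (hN : N[R] ≤ H) (ht : (tau2 H).Nonempty) :
    (♯K).Prime ∧ tau2 H = {♯K} ∧ tau2 M = ∅ := by
  have hMm := hM.coatom
  have hq := (P2type_structure hM h.hallK).2.1
  obtain ⟨-, hUH, hMH, -, hKF, hD⟩ := P2type_signalizer hM h hMst hC hr hd hR hH hN
  obtain ⟨L, hL⟩ := Ptype_embedding hM.pmax h.hallK
  obtain rfl : Mst = L := (hL.uniqK K le_rfl hq).uniq Mst hMst hC
  obtain ⟨hE, hUK, -, -, hreg, hUa⟩ := kappa_compl_context hMm h
  have hK1 := ne_bot_of_prime hq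
  have hKp : PnElem ♯K 1 (H ⊓ Mst) K := pnElem_one_of_card hq (hKF.trans (Fitting_le _)) rfl
  have hKs : K ≤ sigmaCore Mst := hL.dual ▸ inf_le_left
  have hqs : ♯K ∈ sigma Mst := sigmaCore_pi Mst _ hq (card_dvd hKs)
  have key : ∀ s ∈ tau2 H, ∀ A, PnElem s 2 (H ⊓ Mst) A →
      s = ♯K ∧ ∃ Q : Subgroup G, IsPi {s} Q ∧ ¬ Abl Q := by
    intro s hs A hA
    have hss := tau2_prime hs
    obtain ⟨⟨hAn, hA1⟩, -⟩ := tau2_compl_context hH hD hs hA
    have hAK : A ≤ C[K] := by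
      by_cases e : s = ♯K
      · exact hA.abl.cents le_rfl (hA1 K (e ▸ hKp))
      · exact (Fitting_nil _).cents_of_coprime (Fitting_max hAn hA.abl.nil) hKF
          ((hA.isPi hss).coprime_of_ne (hKp.isPi hq) e)
    have hAM : A ≤ Mst := hA.le.trans inf_le_right
    have hAs : A ≤ sigmaCore Mst := sub_Msigma hMst ((hA.isPi hss).of_mem (by_contra fun h' =>
      hK1 (eq_bot_of_le (tau2_context hMst (tau2_of_p2Elem hMst hss h' (hA.of_le hAM))
        (hA.of_le hAM)).2.2.1 (le_inf hKs (cents_symm hAK))))) hAM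
    obtain ⟨Q, hQ, hQF, hAF⟩ : ∃ Q, Syl ♯K (sigmaCore Mst) Q ∧ Q ≤ F[Mst] ∧ A ≤ F[Mst] := by
      by_cases hne : fittingHallOf Mst = sigmaCore Mst
      · obtain ⟨Q, hQ⟩ := Sylow_exists hq (sigmaCore Mst)
        have h1 := Fitting_max (sigmaCore_nml Mst) ((Fcore_eq_Msigma hMst).1 hne)
        exact ⟨Q, hQ, hQ.le.trans h1, hAs.trans h1⟩
      · obtain ⟨D, hD'⟩ := H26.Hall_exists {♯K}ᶜ (Msigma_sol hMst)
        obtain ⟨h1, -, h2, -, -, -, -, -, h3, -⟩ := Fcore_structure hMst hL.hall_kappa hne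
          (by rw [hL.dual]) hD'
        rw [hL.dual] at h3
        exact ⟨_, Sylow_Msigma hMst hqs h1, pcore_le_Fitting hq _, h3 ▸ le_inf hAs
          ((le_centQ ((hKs.trans (sigmaCore_le _)).trans h2.norm)).2
            ⟨hAM.trans h2.norm, (comm_eq_bot.2 hAK).le.trans bot_le⟩)⟩
    have hAQ : ¬ A ≤ C[Q] := fun h' => sigma'_not_uniq hH (hA.le.trans inf_le_left)
      (hD.pi.of_le hA.le) (H25.cent_uniq_Uniqueness (Ptype_Kstar_Sylow hL.pmax hL.hall_kappa hq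
        (by rw [hL.dual]) hQ).1.isUniq h' (by rw [hA.rank_eq hss]; exact one_lt_two))
    obtain rfl : s = ♯K := by_contra fun e => hAQ ((Fitting_nil _).cents_of_coprime hAF hQF
      ((hA.isPi hss).coprime_of_ne hQ.pi e))
    refine ⟨rfl, Q, hQ.pi, fun h' => hAQ (h'.cents ?_ le_rfl)⟩
    exact (Fitting_nil Mst).le_hall
      ((Msigma_Sylow hMst hqs hQ).of_le hQF (Fitting_le _)) (hA.isPi hss) hAF
  obtain ⟨s, hs⟩ := ht
  obtain ⟨A, hA⟩ := ex_tau2Elem hD hs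
  obtain ⟨rfl, Q, hQ, hQa⟩ := key s hs A hA
  obtain ⟨h1, ⟨h2, -⟩, -⟩ := nonabelian_tau2 hH hD hs hA hQ hQa
  refine ⟨hq, h1, Set.eq_empty_of_forall_notMem fun t ht => ?_⟩
  have htt := tau2_prime ht
  obtain ⟨B, hB⟩ := ex_tau2Elem hE ht
  have hBU : B ≤ U := (hUK.hall_compl_left (h.hallK.of_le le_sup_right hE.le)).le_of_nml
    hUK.nml.norm ((hB.isPi htt).of_mem fun h' =>
      (kappa_tau13 h').elim (fun h => tau2'1 M h ht) fun h => tau2'3 M h ht) hB.le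
  have hXU : A ⊓ C[sigmaCore H] ≤ C[U] := inf_le_right.trans (C_anti hUH)
  have hXM : A ⊓ C[sigmaCore H] ≤ M :=
    hXU.trans ((C_anti hBU).trans (p2Elem_mmax hMm htt (hB.mono hE.le)))
  have hX : PnElem ♯K 1 A (A ⊓ C[sigmaCore H]) := pnElem_one_of_card hq inf_le_left h2
  have hKA := (tau2_compl_context hH hD hs hA).1.2 K hKp
  have hne : A ⊓ C[sigmaCore H] ≠ K := fun e => hM.ne_bot h <| by
    rw [← hreg.inf_C le_rfl hK1, inf_eq_left.2 (cents_symm (e ▸ hXU))]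
  have h3 := (hA.of_le (hA.sup_eq_of_ne hq hX hKp hX.le hKA hne ▸ sup_le hXM h.hallK.le)).le_prank hq
  rw [rank_kappa (h.hallK.pi _ hq dvd_rfl)] at h3
  omega

/-- 15.9 -/
theorem _root_.H24.nonFtype_signalizer_base (hM : IsCoatom M) (hx : x ∈ sigmaCore M) (hx1 : x ≠ 1)
    (hC : ¬ C{x} ≤ M) (hN : ¬ Fmax (sigN x)) :
    Fmax M ∧ P2max (sigN x) ∧ ∃ E, Hall (sigma M)ᶜ M E ∧ Cyc E ∧ Frob M (sigmaCore M) E ∧
      ∃ r ∈ tau2 (sigN x), E ⊓ N[omegaOne r (zpowers (constt {r} x))] ≤ sigN x ∧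
        ♯(E ⊓ sigN x) = (⁅sigN x, sigN x⁆).relIndex (sigN x) := by
  obtain ⟨hU, hxt, hty, hts, -, hMN⟩ := FT_signalizer_context hM hx hx1 hC
  have hP2 := hty.resolve_left hN
  generalize sigN x = N at hU hxt hts hMN hP2 ⊢
  have hNm := hU.coatom
  obtain ⟨r, hr, hd⟩ := (orderOf x).exists_prime_and_dvd (by rwa [Ne, orderOf_eq_one_iff])
  have hrt := hxt r hr hd
  obtain ⟨U, K, h, hUK⟩ : ∃ U K, KappaCompl N U K ∧ U ⊔ K = M ⊓ N := by
    obtain ⟨U, K, h⟩ := kappa_witness hNm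
    obtain ⟨n, hn, e⟩ := H26.Hall_trans (mmax_sol hNm) (kappa_compl_context hNm h).1 hMN
    have h' := h.cj n
    rw [cj_of_mem hn] at h'
    exact ⟨_, _, h', by rw [e, cj_sup]⟩
  have hrU : r ∈ (sigma N ∪ kappa N)ᶜ := fun h' => h'.elim (tau2_not_sigma hrt) fun h' =>
    (kappa_tau13 h').elim (fun h => tau2'1 N h hrt) fun h => tau2'3 N h hrt
  have hdU : r ∣ ♯U := h.hallU.prime_dvd hr hrU (tau2_dvd hrt)
  obtain ⟨R, hR⟩ := Sylow_exists hr U
  have hNR : N[R] ≤ M := norm_noncyclic_sigma hM (hts hrt) hR.pi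
    (hR.le.trans (le_sup_left.trans (hUK.le.trans inf_le_left))) (not_cyc_of_prank hr (by
      rw [prank_Syl hr (h.hallU.trans_syl hR hrU), tau2_prank hrt]))
  have hK1 := hP2.pmax.ne_bot h.hallK
  obtain ⟨L, hL, hCL⟩ := exists_mmax_cent hK1
  obtain ⟨hF, hUs, -, -, hKF, hE⟩ := P2type_signalizer hP2 h hL hCL hr hdU hR hM hNR
  have ht : tau2 M = ∅ := by_contra fun hne => Set.notMem_empty r
    ((tau2_P2type_signalizer hP2 h hL hCL hr hdU hR hM hNR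
      (Set.nonempty_iff_ne_empty.2 hne)).2.2 ▸ hrt)
  refine ⟨hF, hP2, M ⊓ L, hE, ?_, ⟨sdprod_sigma hM hE, Msigma_neq1 hM, sigma_compl_neq1 hM hE,
    semireg_of_forall_prime fun X hX hp => by_contra fun hne => ?_⟩, r, hrt, ?_, ?_⟩
  · obtain ⟨g, hg, hgM⟩ := SetLike.not_le_iff_exists.1 hC
    have hxF : x ∈ F[M] := Fitting_max (sigmaCore_nml M) (notP1type_Msigma_nil (Or.inl hF)) hx
    obtain ⟨E₁, E₂, E₃, hc⟩ := ex_sigmaCompl hM hE
    obtain ⟨-, hsd, hc1⟩ := (nonTI_Fitting_structure hM hgM (ne_bot_of_mem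
      ⟨hxF, mem_C1_iff_conj.1 hg ▸ conj_mem_cj g hxF⟩ hx1)).2.2.2 _ _ _ _ hc
    have h2 : E₂ = ⊥ := hc.hall2.eq_bot_of_isPi (by rw [ht, Set.compl_empty]; exact isPi_univ _)
    rw [h2] at hsd
    exact hsd.eq_of_left_bot ▸ hc1
  · have h1 := (partition_pi_sigma_compl hM hE).1 ⟨hp, card_dvd hX⟩
    rw [ht] at h1
    exact Set.notMem_empty _ (hF.kappa ▸ mem_kappa_of (h1.imp_right fun h : _ ∨ _ => h.resolve_left (Set.notMem_empty _))
      (pnElem_one_of_card hp (hX.trans hE.le) rfl) hne)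
  · have h1 : omegaOne r (zpowers (constt {r} x)) ≠ ⊥ :=
      omegaOne_ne_bot_of_pgroup (piElt_constt {r} x).isPi (zpowers_ne_bot.2 fun e =>
        constt_eq_one_iff.1 e r hr hd rfl)
    refine inf_le_right.trans ((N_le_NC _).trans (uniqMax_norm_le
      (hU.mono' ?_ (mFT_cent_proper h1))))
    exact (C1_le_C1_constt {r} x).trans (C_zpowers (constt {r} x) ▸ C_anti (omegaOne_le _ _))
  · obtain ⟨Nst, hNst⟩ := Ptype_embedding hP2.pmax h.hallK
    rw [hNst.sd.relIndex_left]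
    congr 2
    have hKE : K ≤ M ⊓ L := hKF.trans (Fitting_le _)
    refine le_antisymm ?_ (le_inf hKE h.hallK.le)
    have h1 := group_modr (kappa_compl_context hNm h).2.1.norm hKE
    rw [eq_bot_of_le (sdprod_sigma hM hE).inf (inf_le_inf_right _ hUs), bot_sup_eq, hUK] at h1
    rw [h1]
    exact le_inf (inf_le_inf_right _ inf_le_left) inf_le_left

end H3BG
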