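import Mathlib
import Cfsg.Agent.H24.Su1
import Cfsg.Agent.S1173

/-! Standard `L₃(4)`: an inner pair exists, and `L` has no involution conjugate into `K`. -/

set_option autoImplicit false
set_option linter.unusedSectionVars false
set_option linter.unusedVariables false

namespace H3.SC

open H24 H24.Sz H24.Sz.Dat H26 H26.Gold Subgroup
open H9 (F4)
open H7.SJ (p2)

variable {G : Type*} [Group G] [Finite G] {X Y : Dat G} {g u v : G}

theorem cj_cj (X : Dat G) (g k : G) : (X.cj g).cj k = X.cj (k * g) := by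
  simp only [Dat.cj, H24.cj_mul, mul_assoc, mul_inv_rev]

/-- a conjugate frame -/
def Fm (X Y : Dat G) : Prop := ∃ g, Y = X.cj g

theorem Fm.refl (X : Dat G) : Fm X X := ⟨1, by simp [Dat.cj]⟩
theorem Fm.cj (h : Fm X Y) (g : G) : Fm X (Y.cj g) := let ⟨k, e⟩ := h; ⟨g * k, by rw [e, cj_cj]⟩
theorem Fm.trans {Y' : Dat G} (h : Fm X Y) (h' : Fm Y Y') : Fm X Y' := let ⟨k, e⟩ := h'; e ▸ h.cj k
theorem Fm.symm (h : Fm X Y) : Fm Y X := let ⟨k, e⟩ := h; ⟨k⁻¹, by rw [e, cj_cj, inv_mul_cancel]; simp [Dat.cj]⟩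
theorem Fm.st (h : Fm X Y) (s : X.St) : Y.St := let ⟨k, e⟩ := h; e ▸ s.cj k
theorem Fm.I (h : Fm X Y) : Y.I u ↔ X.I u := let ⟨k, e⟩ := h; e ▸ cj_I

theorem fm_of_I (h : X.I u) : ∃ Y, Fm X Y ∧ u ∈ Y.K :=
  let ⟨_, _, g, e⟩ := h; ⟨_, ⟨g⁻¹, rfl⟩, by rw [cj_K, mem_cj]; simpa using e⟩

theorem Fm.I_of (h : Fm X Y) (hu : u ∈ Y.K) (u1 : u ≠ 1) (u2 : u * u = 1) : X.I u :=
  h.I.1 ⟨u1, u2, 1, by simpa using hu⟩

theorem Fm.eq (h : Fm X Y) (s : X.St) (h1 : u ∈ X.K) (h2 : u ∈ Y.K) (u1 : u ≠ 1) (u2 : u * u = 1) :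
    Y.K = X.K := by
  obtain ⟨g, rfl⟩ := h
  rw [cj_K] at h2 ⊢
  exact cj_of_mem_N (s.N_K ▸ s.ti h1 u1 u2 h2)

theorem K_CL : X.K ≤ C[X.L] := le_rfl
theorem L_CK : X.L ≤ C[X.K] := cents_symm K_CL
theorem K_NL : X.K ≤ N[X.L] := C_le_N _

/-- an inner pair -/
def IP (X : Dat G) : Prop := ∃ Y, Fm X Y ∧ ∃ u, X.I u ∧ u ∈ Y.L ⊔ Y.K ∧ u ∉ Y.K

theorem IP.of (h : Fm X Y) (p : IP Y) : IP X :=
  let ⟨Y', h1, u, h2, h3⟩ := p; ⟨Y', h.trans h1, u, h.I.1 h2, h3⟩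

theorem key (s : X.St) (h : Fm X Y) (hu : u ∈ Y.K) (h1 : v ∈ X.L) (v1 : v ≠ 1) (v2 : v * v = 1)
    (h2 : X.I (u * v)) (h3 : v ∈ Y.L ⊔ Y.K) : IP X := by
  by_cases k : v ∈ Y.K
  · exact ⟨X, Fm.refl X, v, h.I_of k v1 v2, mem_sup_left h1, s.not_K h1 v1⟩
  · exact ⟨Y, h, _, h2, mul_mem (mem_sup_right hu) h3, fun e => k ((mul_mem_cancel_left hu).1 e)⟩

/-- the common end of the two cases with a nontrivial action on `Z` -/
theorem key2 (s : X.St) (hu : X.I u) (hZ : u ∈ N[X.Z]) (nZ : u ∉ C[X.Z]) {c0 : F4} (h0 : c0 ≠ 0) {t : G}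
    (ht : t * t = X.z c0) (h1 : u * X.z c0 = X.z c0 * u)
    (h2 : u * t = t * u ∨ u * t = t * X.z c0 * u ∧ t ∈ C[X.Z]) : IP X := by
  have f := s.toFr
  have ui := inv_eq_of_mul_eq_one_right hu.2.1
  obtain ⟨c, hc⟩ : ∃ c, u * X.z c * u⁻¹ = X.z c0 * X.z c := by
    by_contra k
    push Not at k
    refine nZ (cents_symm (Z_le fun c => mem_C_iff_le_C1.2 (zpowers_le.2 ?_)) (mem_zpowers u))
    rw [mem_C1_iff_conj]
    obtain ⟨e, he⟩ := f.mem_Z.1 (conj_mem hZ (z_Z c))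
    have a1 : u * X.z (c + e) * u⁻¹ = X.z (c + e) := by
      have : u * X.z e * u⁻¹ = X.z c := by rw [← he, ui]; simp only [← mul_assoc, hu.2.1, one_mul]; rw [mul_assoc, hu.2.1, mul_one]
      rw [f.z_add, ← conj_mul, he, this, ← f.z_add, ← f.z_add, add_comm]
    have a2 : u * X.z c0 * u⁻¹ = X.z c0 := by rw [h1, mul_inv_cancel_right]
    have a3 : c + e ≠ c0 := fun e' => k c (by rw [he, ← f.z_add, ← e', add_right_comm, f4_add_self, zero_add])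
    have : c + e = 0 ∨ c = c + e ∨ c = c0 ∨ c = c + e + c0 ∨ c = 0 := by clear he a1 a2 k h1 h2 ht; revert c e c0; decide
    rcases this with k | k | k | k | k
    · rw [he, show e = c by clear he a1 a3; revert c e; decide]
    · rw [k, a1]
    · rw [k, a2]
    · rw [k, f.z_add, ← conj_mul, a1, a2]
    · rw [k, f.z0, mul_one, mul_inv_cancel]
  rw [mul_inv_eq_iff_eq_mul] at hc
  obtain ⟨Y, hY, hK⟩ := fm_of_I hu
  have sY := hY.st s
  have sq : ∀ t : G, t * t = X.z c0 → u * t = t * u → X.z c0 ∈ Y.L ⊔ Y.K := fun t h1 h2 =>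
    h1 ▸ sY.sq_mem (sY.C_N hK hu.1 hu.2.1 (mem_C1.2 h2.symm)) (piElt_of_pow_eq_one (piNat_self_pow p2 2)
      (by rw [show 2 ^ 2 = 2 + 2 by rfl, pow_add, pow_two, h1, f.zz]))
  refine key s hY hK (f.zL c0) (fun e => h0 (f.z_inj _ e)) (f.zz _) ?_ ?_
  · have := hu.conj (X.z c)
    rwa [f.zi, mul_assoc, hc, ← f.z_add, ← mul_assoc, ← f.z_add, ← add_assoc, add_right_comm, f4_add_self, zero_add,
      ← h1] at this
  · rcases h2 with h2 | ⟨h2, h3⟩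
    · exact sq t ht h2
    · have := mem_C'.1 h3 _ (z_Z c)
      refine sq (t * X.z c) (by rw [mul_assoc, ← mul_assoc (X.z c), ← this, mul_assoc, f.zz, mul_one, ht]) ?_
      rw [← mul_assoc, h2, mul_assoc _ u, hc, mul_assoc t, ← mul_assoc (X.z c0), ← mul_assoc (X.z c0), f.zz, one_mul,
        mul_assoc]

theorem fix_a (f : X.Fr) (u2 : u * u = 1) (hA : u ∈ N[X.A]) (h : ¬ ∀ x, u * X.a x * u⁻¹ * X.a x ∈ X.Z) :
    ∃ x c, x ≠ 0 ∧ u * (X.a x * X.z c) = X.a x * X.z c * u := by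
  push Not at h
  obtain ⟨y, hy⟩ := h
  have m := conj_mem hA (a_A y)
  obtain ⟨x, c, e⟩ := f.mem_A.1 (mul_mem m (a_A y))
  refine ⟨x, c, fun k => hy (by rw [e, k, f.a0, one_mul]; exact z_Z c), ?_⟩
  rw [← e, ← mul_inv_eq_iff_eq_mul, ← conj_mul, f.eaA.comm m (a_A y), mul_left_inj, inv_eq_of_mul_eq_one_right u2]
  simp only [← mul_assoc, u2, one_mul]
  rw [mul_assoc, u2, mul_one]

theorem nonswap (s : X.St) (hu : X.I u) (hL : u ∈ N[X.L]) (hA : u ∈ N[X.A]) (hB : u ∈ N[X.B])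
    (h : u ∉ X.S ⊔ X.K) : IP X := by
  have f := s.toFr
  have k := fun e => h (f.two_lin hL hA hB (twoE_of_sq hu.2.1) e)
  obtain ⟨x, c, h1, h2⟩ := fix_a f hu.2.1 hA fun e => k (Or.inr (Or.inl e))
  obtain ⟨y, d, h3, h4⟩ := fix_a f.symm hu.2.1 hB fun e => k (Or.inr (Or.inr e))
  change u * (X.b y * X.z d) = X.b y * X.z d * u at h4
  have e : X.a x * X.z c * (X.b y * X.z d) = X.a x * X.b y * X.z (c + d) := by
    rw [mul_assoc, ← mul_assoc (X.z c), f.bz, f.z_add]; simp only [mul_assoc]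
  have c1 : u * (X.a x * X.b y * X.z (c + d)) = X.a x * X.b y * X.z (c + d) * u := by
    rw [← e, ← mul_assoc, h2, mul_assoc, h4, ← mul_assoc]
  refine key2 s hu (f.A_inf_B ▸ norm_inf (zpowers_le.2 hA) (zpowers_le.2 hB) (mem_zpowers u))
    (fun e => k (Or.inl e)) (mul_ne_zero h1 h3) (f.sq_S x y (c + d)) ?_ (Or.inl c1)
  rw [← f.sq_S x y (c + d), ← mul_assoc, c1, mul_assoc, c1, ← mul_assoc]

theorem swapc (s : X.St) (hu : X.I u) (hL : u ∈ N[X.L]) (hS : u ∈ N[X.S]) (hA : H24.cj u X.A = X.B)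
    (hB : H24.cj u X.B = X.A) : IP X := by
  have f := s.toFr
  have ui := inv_eq_of_mul_eq_one_right hu.2.1
  have uu : ∀ v, u * (u * v * u⁻¹) * u⁻¹ = v := fun v => by
    rw [ui]; simp only [← mul_assoc, hu.2.1, one_mul]; rw [mul_assoc, hu.2.1, mul_one]
  choose p p' hp using fun x => f.mem_B.1 (hA ▸ conj_mem_cj u (a_A (X := X) x))
  have e1 : ∀ x, X.a x * (u * X.a x * u⁻¹) = X.a x * X.b (p x) * X.z (p' x) := fun x => by rw [hp, mul_assoc]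
  have e2 : ∀ x, u * (X.a x * X.b (p x) * X.z (p' x)) = X.a x * X.b (p x) * X.z (p' x) * X.z (x * p x) * u :=
    fun x => by
      rw [← mul_inv_eq_iff_eq_mul, ← e1, ← conj_mul, uu, hp, mul_assoc, f.az, ← mul_assoc, f.ba, mul_assoc,
        ← f.z_add, add_comm, f.z_add, ← mul_assoc, ← mul_assoc]
  by_cases nZ : u ∈ C[X.Z]
  · choose q q' hq using fun x => f.mem_A.1 (hB ▸ conj_mem_cj u (b_B (X := X) x))
    have r : ∀ x, q 1 * p x = x := fun x => by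
      have := congrArg (fun v => u * v * u⁻¹) (f.ba x 1)
      simp only [← conj_mul, hp, hq, conj_eq_of_mem_C nZ (z_Z _)] at this
      have k1 := f.mul_S (q 1) 0 (q' 1) 0 (p x) (p' x)
      have k2 := f.mul_S 0 (p x) (p' x) (q 1) 0 (q' 1)
      simp only [f.a0, f.b0, mul_one, one_mul] at k1 k2
      rw [k1, k2, mul_assoc (_ * _), ← f.z_add] at this
      have := (f.inj_S this).2.2
      exact (by decide : ∀ x m a b : F4, b + a + 0 * 0 = a + b + m + x * 1 → m = x) _ _ _ _ this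
    have I : ∀ c, X.I (u * X.z c) := fun c => by
      obtain ⟨x, hx⟩ : ∃ x, x * p x = c := by
        have : ∀ l c : F4, l ≠ 0 → ∃ x, ∀ y, l * y = x → x * y = c := by decide
        obtain ⟨x, hx⟩ := this (q 1) c fun e => one_ne_zero ((r 1).symm.trans (by rw [e, zero_mul]))
        exact ⟨x, hx _ (r x)⟩
      have := hu.conj (X.a x * X.b (p x) * X.z (p' x))⁻¹
      rwa [inv_inv, mul_assoc, e2, mul_assoc _ (X.z _) u, inv_mul_cancel_left, hx, ← mem_C'.1 nZ _ (z_Z c)] at this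
    obtain ⟨Y, hY, hK⟩ := fm_of_I hu
    have sY := hY.st s
    have ZN : X.Z ≤ N[Y.L] := (cents_symm (zpowers_le.2 nZ)).trans ((C_zpowers u).le.trans (sY.C_N hK hu.1 hu.2.1))
    by_cases k : X.Z ⊓ (Y.L ⊔ Y.K) = ⊥
    · obtain ⟨l, hl, h1⟩ := sY.ex_conj f.eaZ.two ZN
      have eL : (Y.cj l⁻¹).L = Y.L := cj_of_mem (inv_mem hl)
      have eK : (Y.cj l⁻¹).K = Y.K := by rw [Dat.K, eL]; rfl
      have hY' := hY.cj l⁻¹
      have sY' := hY'.st s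
      obtain ⟨v, hv, v1, v2, v3⟩ := sY'.four f.eaZ.two (eL ▸ ZN) (by rw [cj_S, ← cj_N, ← cj_le_iff]; exact h1)
        (eq_bot_of_le k (inf_le_inf_left _ (sup_le_sup (eL ▸ sY'.S_L) eK.le))) f.card_Z.ge
      obtain ⟨c, rfl⟩ := f.mem_Z.1 hv
      have uC : u ∈ C[(Y.cj l⁻¹).S] := C_anti sY'.S_L (show u ∈ (Y.cj l⁻¹).K from eK ▸ hK)
      refine IP.of hY' (nonswap sY' (hY'.I.2 (I c)) (mul_mem (K_NL (eK ▸ hK)) (eL ▸ ZN hv))
        (mul_mem (C_le_N _ (C_anti A_S uC)) v1) (mul_mem (C_le_N _ (C_anti B_S uC)) v2) fun e => v3 ?_)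
      exact (mul_mem_cancel_left (C_anti Z_S uC)).1
        (sup_le sY'.S_CZ (K_CL.trans (C_anti (Z_S.trans sY'.S_L))) e)
    · obtain ⟨v, hv, v1⟩ := exists_ne_one k
      obtain ⟨c, rfl⟩ := f.mem_Z.1 hv.1
      exact key s hY hK (f.zL c) v1 (f.zz c) (I c) hv.2
  · have p1 : p 1 ≠ 0 := fun e => one_ne_zero (f.a_mem_Z (x := 1) (c := 0) (by
      rw [f.z0, mul_one, ← conj_mem_iff (f.N_Z hS), hp, e, f.b0, one_mul]; exact z_Z _))
    have tS : X.a 1 * X.b (p 1) * X.z (p' 1) ∈ X.S := f.mem_S.2 ⟨_, _, _, rfl⟩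
    refine key2 s hu (f.N_Z hS) nZ (mul_ne_zero one_ne_zero p1) (f.sq_S 1 (p 1) (p' 1)) ?_
      (Or.inr ⟨e2 1, f.S_CZ tS⟩)
    nth_rw 1 [← f.sq_S 1 (p 1) (p' 1)]
    have c : Commute (X.z (1 * p 1)) _ := (f.S_z tS (1 * p 1)).symm
    rw [← mul_assoc, e2, mul_assoc _ u, e2, ← mul_assoc, mul_left_inj, c.mul_mul_mul_comm, f.sq_S, f.zz, mul_one]

end H3.SC
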