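import Mathlib
import Cfsg.Agent.H3.SC1

/-! Standard `L₃(4)`: an inner pair exists, and `L` has no involution conjugate into `K`. -/

set_option autoImplicit false
set_option linter.unusedSectionVars false
set_option linter.unusedVariables false

namespace H3.SC

open H24 H24.Sz H24.Sz.Dat H26 H26.Gold Subgroup
open H9 (F4)
open H7.SJ (p2)

variable {G : Type*} [Group G] [Finite G] {X Y : Dat G} {g u v l k : G}

theorem z_comm (f : X.Fr) (x y : F4) : X.z (x * y) = (X.b y)⁻¹ * ((X.a x)⁻¹ * X.b y * X.a x) := by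
  rw [mul_assoc, f.ba]; group

theorem L_perf (f : X.Fr) : ⁅X.L, X.L⁆ = X.L :=
  (f.simple _ (Nml.refl _).der1).resolve_left fun e => f.z1 (by
    have := z_comm f 1 1
    rw [mul_one, mul_assoc, comm_of_cent (comm_eq_bot.1 e) (f.bL 1) (f.aL 1)] at this
    rw [this]; group)

theorem N_ne [IsSimpleGroup G] (s : X.St) : N[X.L] ≠ ⊤ := fun e => by
  obtain ⟨u, hu, u1, -⟩ := s.ev
  rcases (nml_top_iff.1 ⟨le_top, e.ge⟩).eq_bot_or_eq_top with k | k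
  · exact s.toFr.z1 (k.le (s.toFr.zL 1))
  · exact s.toFr.not_K (k.ge (mem_top u)) u1 hu

theorem exists_IP [IsSimpleGroup G] (s : X.St) : IP X := by
  have f := s.toFr
  obtain ⟨T, hT, ST⟩ := Sylow_superset p2 f.twoS (f.S_L.trans (norm_self _))
  have KN : X.K ⊴ N[X.L] := C_nml_N _
  have hR := hT.inf_nml KN
  obtain ⟨u0, hu0, u1, u2⟩ := s.ev
  have R1 : T ⊓ X.K ≠ ⊥ := fun e => u1 ((twoE_of_sq u2).eq_one ((hR.isPi_compl_of_eq_bot e).piElt hu0))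
  by_cases hS : Syl 2 ⊤ T
  · obtain ⟨r, hr, g, h1, h2⟩ : ∃ r ∈ T ⊓ X.K, ∃ g : G, g * r * g⁻¹ ∈ T ∧ g * r * g⁻¹ ∉ T ⊓ X.K := by
      by_contra k
      push Not at k
      obtain ⟨P, hP⟩ := hS.exists_sylow_top p2
      have hO : Cfsg.oddCore G = ⊥ := (Normal.eq_bot_or_eq_top inferInstance).resolve_right fun e => by
        have h1 : IsPi {2}ᶜ O[{2}ᶜ, (⊤ : Subgroup G)] := pcore_pi _ _
        rw [pcore_compl_singleton_top p2, show Cfsg.pPrimeCore 2 G = ⊤ from e] at h1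
        exact u1 ((twoE_of_sq u2).eq_one (h1.piElt (mem_top _)))
      have LC : X.L ≤ C[T ⊓ X.K] := L_CK.trans (C_anti inf_le_right)
      have LD : ∀ n, X.L ≤ der n C[T ⊓ X.K] := fun n => by
        induction n with
        | zero => exact LC
        | succ n ih => rw [der_succ, ← L_perf f]; exact der1_mono ih
      rcases (Cfsg.Agent.S1173.result hO P (T ⊓ X.K) (by rw [hP]; exact ⟨inf_le_left, k⟩)).eq_bot_or_eq_top with e | e
      · refine f.z1 (e.le ⟨⟨_, LC (f.zL 1)⟩, mem_iInf.2 fun n => ?_, rfl⟩)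
        have := LD n (f.zL 1)
        rw [der_eq_map] at this
        obtain ⟨y, hy, e⟩ := this
        exact (Subtype.ext e : y = ⟨_, LC (f.zL 1)⟩) ▸ hy
      · obtain ⟨v, hv, v1, v2⟩ := TwoG.exists_inv hR.pi R1
        exact N_ne s (top_le_iff.1 ((e.ge.trans (map_subtype_le _)).trans ((C_le_C1 hv).trans (s.C_N hv.2 v1 v2))))
    obtain ⟨n, n1, n2⟩ := exists_pow_inv (hR.pi.piElt hr) fun e => h2 (by simp [e])
    have uT : g * r ^ n * g⁻¹ ∈ T := by rw [← conj_pow]; exact pow_mem h1 n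
    have uI : X.I (g * r ^ n * g⁻¹) := ((Fm.refl X).I_of (pow_mem hr.2 n) n1 n2).conj g
    have uK : g * r ^ n * g⁻¹ ∉ X.K := fun e =>
      h2 ⟨h1, KN.conj_mem (s.tight g _ (pow_mem hr.2 n) n1 n2 e) hr.2⟩
    have eS : T ⊓ X.L = X.S := f.syl.eq_of_le (hT.pi.inf_left _) (le_inf ST f.S_L) inf_le_right
    have uS : g * r ^ n * g⁻¹ ∈ N[X.S] := eS ▸ norm_inf (norm_self T) hT.le uT
    by_cases k : g * r ^ n * g⁻¹ ∈ X.S ⊔ X.K
    · exact ⟨X, Fm.refl X, _, uI, sup_le_sup_right f.S_L _ k, uK⟩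
    · rcases f.swap uS with ⟨a1, a2⟩ | ⟨a1, a2⟩
      · exact nonswap s uI (hT.le uT) (mem_N_iff_cj.2 a1) (mem_N_iff_cj.2 a2) k
      · exact swapc s uI (hT.le uT) uS a1 a2
  · obtain ⟨Q, hQ, h1, -, h2⟩ := exists_lt_norm_of_not_syl p2 hT.pi le_top hS
    obtain ⟨x, hx, hx'⟩ : ∃ x ∈ Q, x ∉ N[X.L] := by
      by_contra k
      push Not at k
      exact h1.ne' (hT.eq_of_le hQ h1.le k)
    have n : H24.cj x (T ⊓ X.K) ⊴ T := by
      have := (KN.inf_left hT.le).cj x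
      rwa [cj_of_mem_N (h2 hx)] at this
    obtain ⟨u, hu, u1, u2⟩ := TwoG.exists_inv ((hT.pi.of_le n.le).inf_left _)
      (meet_center_nil (IsPi.nil p2 hT.pi) n (by simpa using R1))
    have uK : u ∈ H24.cj x X.K := cj_mono x inf_le_right hu.1
    exact ⟨X, Fm.refl X, u, ((Fm.refl X).cj x).I_of (by rwa [cj_K]) u1 u2,
      sup_le_sup_right (Z_S.trans f.S_L) _ (f.cent_S (hT.le hu.2.1) (C_anti ST hu.2.2)),
      fun e => hx' (s.ti e u1 u2 uK)⟩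

theorem LK_comm (hl : l ∈ X.L) (hk : k ∈ X.K) : l * k = k * l := mem_C.1 hk l hl

theorem sq_of (f : X.Fr) (hl : l ∈ X.L) (hk : k ∈ X.K) (h : l * k * (l * k) = 1) : l * l = 1 ∧ k * k = 1 := by
  have c : Commute k l := (LK_comm hl hk).symm
  rw [c.mul_mul_mul_comm, ← mul_one 1] at h
  exact mul_eq_mul_of_inf f.LK (mul_mem hl hl) (one_mem _) (mul_mem hk hk) (one_mem _) h

theorem split (f : Y.Fr) {E : Subgroup G} (hE : EA E) (h1 : E ≤ N[Y.L])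
    (h2 : ∀ F, EA F → F ≤ Y.K → 16 * ♯F ≤ ♯E) (he : u ∈ E) : ∃ l ∈ Y.L, ∃ k ∈ Y.K, k ∈ E ∧ u = l * k := by
  obtain ⟨k1, k2⟩ := f.elem hE h1
  obtain ⟨l, hl, k, hk, rfl⟩ := f.mem_LK.1
    (k2 (le_antisymm k1 (h2 _ (hE.of_le inf_le_left) inf_le_right)) he)
  have k3 := h2 ((Y.L ⊔ E) ⊓ Y.K) (ea_of_sq fun v hv => by
    obtain ⟨m, hm, e, he, rfl⟩ := (mem_sup_of_norm h1).1 hv.1
    exact (sq_of f (inv_mem hm) hv.2 (by rw [inv_mul_cancel_left, hE.sq he])).2) inf_le_right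
  have k4 : E ⊓ Y.K = (Y.L ⊔ E) ⊓ Y.K := eq_of_card_ge (inf_le_inf_right _ le_sup_right) (by omega)
  exact ⟨l, hl, k, hk, (k4.ge ⟨(mul_mem_cancel_left (mem_sup_left hl)).1 (mem_sup_right he), hk⟩).1, rfl⟩

theorem conj_K (hk : k ∈ X.K) (hl : l ∈ X.L) (v : G) : l * (k * v) * l⁻¹ = k * (l * v * l⁻¹) := by
  rw [← mul_assoc, LK_comm hl hk]; group

theorem mem_KA (f : X.Fr) {B : Subgroup G} (hB : B ≤ X.K) (h : u ∈ B ⊔ X.A) :
    ∃ k ∈ B, ∃ x c, u = k * (X.a x * X.z c) := by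
  obtain ⟨k, hk, v, hv, rfl⟩ := (mem_sup_of_norm (norm_of_cent
    ((A_S.trans f.S_L).trans (L_CK.trans (C_anti hB))))).1 h
  obtain ⟨x, c, rfl⟩ := f.mem_A.1 hv
  exact ⟨k, hk, x, c, rfl⟩

theorem cm_KA (f : X.Fr) (hk : k ∈ X.K) (x c y : F4) :
    (k * (X.a x * X.z c))⁻¹ * (X.b y * (k * (X.a x * X.z c)) * (X.b y)⁻¹) = X.z (x * y) := by
  rw [conj_K hk (f.bL y), ← conj_mul, f.bab, ← f.bz, mul_inv_cancel_right, mul_assoc (X.a x), ← f.z_add, add_comm,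
    f.z_add]
  group

theorem A_K (f : X.Fr) (s : Y.St) (h : Fm X Y) (hz : X.z 1 ∈ Y.K) : X.A ≤ Y.K := by
  obtain ⟨B, ⟨hB, BK⟩, mx⟩ := Set.exists_max_image {B : Subgroup G | EA B ∧ B ≤ X.K} (fun B => ♯B) (Set.toFinite _)
    ⟨⊥, ea_of_sq fun v hv => by rw [mem_bot.1 hv, mul_one], bot_le⟩
  have AL := A_S.trans f.S_L
  have AB : X.A ≤ C[B] := AL.trans (L_CK.trans (C_anti BK))
  have SN : X.S ≤ N[Y.L] := fun v hv => s.C_N hz f.z1 (f.zz 1) (mem_C1.2 (f.S_z hv 1))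
  have k1 : ∀ x, ∃ k ∈ X.K, ∃ c, k * (X.a x * X.z c) ∈ Y.K := fun x => by
    obtain ⟨l, hl, k, hk, kE, e⟩ := split s.toFr (E := B ⊔ X.A)
      (ea_of_sq fun v hv => by
        obtain ⟨k, hk, w, hw, rfl⟩ := (mem_sup_of_norm (norm_of_cent AB)).1 hv
        have c : Commute w k := comm_of_cent AB hw hk
        rw [c.mul_mul_mul_comm, hB.sq hk, f.eaA.sq hw, mul_one])
      (sup_le (fun v hv => s.C_N hz f.z1 (f.zz 1) (mem_C1.2 (LK_comm (f.zL 1) (BK hv)).symm)) (A_S.trans SN))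
      (fun F hF FK => by
        obtain ⟨g, rfl⟩ := h
        have := mx (H24.cj g⁻¹ F) ⟨ea_of_sq fun v hv => by
          obtain ⟨w, hw, rfl⟩ := mem_cj'.1 hv
          exact conj_sq (hF.sq hw) _, by rwa [cj_K, le_cj_iff] at FK⟩
        rw [card_cj] at this
        rw [card_sup_of_inf (norm_of_cent AB) (eq_bot_of_le f.LK fun v hv => ⟨AL hv.2, BK hv.1⟩), f.card_A]
        omega) (mem_sup_right (a_A x))
    obtain ⟨β, hβ, y, c, rfl⟩ := mem_KA f BK ((mul_mem_cancel_right kE).1 (e ▸ mem_sup_right (a_A x)))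
    obtain rfl : y = 0 := by
      by_contra y0
      have := cm_KA f (BK hβ) y c y⁻¹
      rw [mul_inv_cancel₀ y0] at this
      exact s.toFr.not_K (this ▸ mul_mem (inv_mem hl) (conj_mem (SN (b_S _)) hl)) f.z1 hz
    refine ⟨β⁻¹, inv_mem (BK hβ), c, ?_⟩
    rwa [← f.az, e, f.a0, one_mul, ← mul_assoc (X.z c), ← mul_assoc (X.z c), LK_comm (f.zL c) (BK hβ), mul_assoc β,
      f.zz, mul_one, inv_mul_cancel_left]
  have k2 : ∀ y, X.z y ∈ Y.K := fun y => by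
    obtain ⟨k, hk, c, e⟩ := k1 1
    have := cm_KA f hk 1 c y
    rw [one_mul] at this
    exact this ▸ mul_mem (inv_mem e) (conj_mem (N_le_NC _ (SN (b_S _))) e)
  have k3 : X.h ∈ N[Y.K] := N_le_NC _ (s.tight _ _ hz f.z1 (f.zz 1) (f.hz 1 ▸ k2 _))
  refine A_le (fun x => ?_) k2
  obtain ⟨k, hk, c, e⟩ := k1 (om * om * x)
  have := mul_mem (inv_mem e) (conj_mem k3 e)
  rwa [conj_K hk f.hL, mul_inv_rev, mul_assoc, inv_mul_cancel_left, f.eaA.inv (mul_mem (a_A _) (z_A _)), ← conj_mul,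
    f.ha, f.hz, f.mul_A, mul_mem_cancel_right (k2 _),
    (by decide : ∀ x : F4, om * om * x + om * om * (om * om * x) = x)] at this

theorem IL (s : X.St) (hl : l ∈ X.L) : ¬ X.I l := fun h => by
  have f := s.toFr
  obtain ⟨m, hm, e⟩ := f.inv l hl h.1 h.2.1
  obtain ⟨Y, hY, hz⟩ := fm_of_I (e ▸ h.conj m)
  have sY := hY.st s
  have hA := A_K f sY hY hz
  have hB : X.B ≤ Y.K := by
    obtain ⟨g, rfl⟩ := hY
    exact A_K (Y := (X.cj g).symm) f.symm sY.symm ⟨g, rfl⟩ hz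
  have w : ∀ {X : Dat G}, X.Fr → X.A ≤ Y.K → X.w ∈ N[Y.K] := fun f h =>
    N_le_NC _ (sY.tight _ _ (h (z_A 1)) f.z1 (f.zz 1) (f.wz 1 ▸ h (a_A 1)))
  have := f.gen N[Y.K] (fun x => norm_self _ (hA (a_A x))) (fun x => norm_self _ (hB (b_B x))) (w f hA) (w f.symm hB)
  rcases f.simple _ (nml_inf_of_norm this) with k | k
  · exact f.z1 (k.le ⟨f.zL 1, hz⟩)
  · obtain ⟨g, rfl⟩ := hY
    exact s.nc g⁻¹ (by rw [← le_cj_iff, ← cj_K]; exact k.ge.trans inf_le_right)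

end H3.SC
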