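import Mathlib
import Cfsg.Agent.H3.SC2

/-! Standard `L₃(4)`: the Sylow subgroup of `K` and the translation. -/

set_option autoImplicit false
set_option linter.unusedSectionVars false
set_option linter.unusedVariables false

namespace H3.SC

open H24 H24.Sz H24.Sz.Dat H26 H26.Gold Subgroup
open H9 (F4)
open H7.SJ (p2)

variable {G : Type*} [Group G] [Finite G] {X Y : Dat G} {g g' u v l k : G}

theorem reframe (f : Y.Fr) {P : Subgroup G} (h1 : P ≤ Y.L) (h2 : ♯P = 64) :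
    ∃ l, (Y.cj l).S = P ∧ (Y.cj l).L = Y.L ∧ (Y.cj l).K = Y.K := by
  obtain ⟨l, hl, e⟩ := Sylow_trans p2 f.syl
    (f.syl.of_card_le h1 (isPi_of_card p2 (n := 6) h2) (by rw [h2, f.card_S]))
  have eL : (Y.cj l).L = Y.L := cj_of_mem hl
  exact ⟨l, by rw [cj_S, e], eL, by rw [Dat.K, eL]; rfl⟩

theorem two_K (s : X.St) (h : Fm X Y) {P : Subgroup G} (hP : TwoG P) (h1 : P ≤ X.L) : P ⊓ Y.K = ⊥ := by
  by_contra k
  obtain ⟨v, hv, v1, v2⟩ := TwoG.exists_inv (hP.inf_left _) k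
  exact IL s (h1 hv.1) (h.I_of hv.2 v1 v2)

theorem centS (s : X.St) (h : Fm X Y) (h1 : X.S ≤ Y.L ⊔ Y.K) (hg : g ∈ N[Y.L]) (h2 : g ∈ C[X.S]) :
    g ∈ X.Z ⊔ Y.K := by
  have f := s.toFr
  have fY := (h.st s).toFr
  have KN : Y.L ⊔ Y.K ≤ N[Y.K] := sup_le (norm_of_cent L_CK) (norm_self _)
  have cd : ∀ P, TwoG P → P ≤ X.S → ♯(Y.K ⊔ P) = ♯Y.K * ♯P := fun P hP k =>
    card_sup_of_inf (k.trans (h1.trans KN)) (by rw [inf_comm]; exact two_K s h hP (k.trans f.S_L))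
  have cd' : ∀ P, P ≤ Y.L → ♯(Y.K ⊔ P) = ♯Y.K * ♯P := fun P k =>
    card_sup_of_inf (k.trans (norm_of_cent L_CK)) (eq_bot_of_le fY.LK fun v hv => ⟨k hv.2, hv.1⟩)
  have m : Y.K ⊔ Y.L ⊓ (Y.K ⊔ X.S) = Y.K ⊔ X.S := by
    rw [group_modl (norm_of_cent L_CK) le_sup_left, inf_eq_right]
    exact sup_le le_sup_left (h1.trans (sup_comm _ _).le)
  obtain ⟨l, e1, e2, e3⟩ := reframe fY (P := Y.L ⊓ (Y.K ⊔ X.S)) inf_le_left (by
    have := cd' _ (inf_le_left (b := Y.K ⊔ X.S))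
    rw [m, cd _ f.twoS le_rfl, f.card_S] at this
    exact (Nat.eq_of_mul_eq_mul_left (card_pos _) this).symm)
  have key : ∀ g ∈ N[Y.L], g ∈ C[X.S] → g ∈ (Y.cj l).Z ⊔ Y.K := fun g hg h2 => by
    refine e3 ▸ (fY.cj l).cent_S (e2 ▸ hg) (e1 ▸ mem_C'.2 fun v hv => ?_)
    obtain ⟨k, hk, t, ht, rfl⟩ := (mem_sup_of_norm (h1.trans KN)).1 hv.2
    have : g * (k * t) * g⁻¹ * (k * t)⁻¹ = 1 := mem_bot.1 (fY.LK.le (mem_inf.2
      ⟨mul_mem (conj_mem hg hv.1) (inv_mem hv.1), by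
        rw [← conj_mul, conj_eq_of_mem_C h2 ht, mul_inv_rev, mul_assoc, mul_inv_cancel_left]
        exact mul_mem (conj_mem (N_le_NC _ hg) hk) (inv_mem hk)⟩))
    rwa [mul_inv_eq_one, mul_inv_eq_iff_eq_mul] at this
  have : Y.K ⊔ X.Z = Y.K ⊔ (Y.cj l).Z := eq_of_card_ge (sup_le le_sup_left fun v hv => (sup_comm (Y.cj l).Z Y.K).le
    (key v (sup_le (norm_self _) K_NL (h1 (Z_S hv))) (cents_symm f.S_CZ hv))) (by
      rw [cd _ f.eaZ.two Z_S, cd' _ (e2 ▸ Z_S.trans (fY.cj l).S_L), f.card_Z, (fY.cj l).card_Z])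
  rw [sup_comm, this, sup_comm]
  exact key g hg h2

theorem step3 (s : X.St) (p : IP X) : ∃ X Y : Dat G, X.S1 ∧ Fm X Y ∧ ∀ x ∈ X.Λ, X.r x * X.z x ∈ Y.K := by
  classical
  obtain ⟨X, s, r0, hr, hI⟩ : ∃ X : Dat G, X.St ∧ ∃ r0 ∈ X.K, X.I (r0 * X.z 1) := by
    obtain ⟨Y, hY, u, h1, h2, h3⟩ := p
    have sY := hY.st s
    obtain ⟨l, hl, k, hk, rfl⟩ := sY.toFr.mem_LK.1 h2
    obtain ⟨m, hm, e⟩ := sY.inv l hl (fun e => h3 (by rwa [e, one_mul])) (sq_of sY.toFr hl hk h1.2.1).1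
    refine ⟨Y, sY, k, hk, ?_⟩
    have := (hY.I.2 h1).conj m
    rwa [LK_comm hl hk, conj_K hk hm, e] at this
  have f := s.toFr
  obtain ⟨Y, hY, hu⟩ := fm_of_I hI
  have sY := hY.st s
  have r2 := (sq_of f (f.zL 1) hr (LK_comm (f.zL 1) hr ▸ hI.2.1)).2
  obtain ⟨R, hR, rR⟩ := Sylow_superset p2 (twoE_of_sq r2).isPi (zpowers_le.2 hr)
  replace rR := rR (mem_zpowers r0)
  have CN := sY.C_N hu hI.1 hI.2.1
  have SN : X.S ≤ N[Y.L] := fun v hv => CN (mem_C1.2 (by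
    rw [← mul_assoc, LK_comm (f.S_L hv) hr, mul_assoc, f.S_z hv, mul_assoc]))
  have AL : ∀ A, EA A → A ≤ X.S → ♯A = 16 → A ≤ Y.L ⊔ Y.K := fun A h1 h2 h3 =>
    (sY.elem h1 (h2.trans SN)).2 (by rw [two_K s hY h1.two (h2.trans f.S_L), h3, card_bot])
  have k1 : ∀ r ∈ X.K, r ∈ N[Y.L] → ∃ c, r * X.z c ∈ Y.K := fun r h1 h2 => by
    obtain ⟨v, hv, k, hk, rfl⟩ := (mem_sup_of_norm' ((Z_S.trans SN).trans (N_le_NC _))).1
      (centS s hY (sup_le (AL _ f.eaA A_S f.card_A) (AL _ f.eaB B_S f.card_B)) h2 (C_anti f.S_L h1))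
    obtain ⟨c, rfl⟩ := f.mem_Z.1 hv
    exact ⟨c, by rwa [← LK_comm (f.zL c) h1, ← mul_assoc, f.zz, one_mul]⟩
  have k2 : ∀ r ∈ R, r ∈ Y.K → r = 1 := fun r h1 h2 => by
    by_contra k
    obtain ⟨v, hv, v1, v2⟩ := TwoG.exists_inv (hR.pi.inf_left Y.K) (ne_bot_of_mem ⟨h1, h2⟩ k)
    rw [hY.eq s (hR.le hv.1) hv.2 v1 v2, mul_mem_cancel_left hr] at hu
    exact f.not_K (f.zL 1) f.z1 hu
  have k3 : ∀ r ∈ R, ∃ c, r * X.z c ∈ Y.K := fun r h1 => by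
    obtain ⟨v, hv, v1, v2⟩ := TwoG.exists_inv (hR.pi.of_le (center_nml R).le)
      ((IsPi.nil p2 hR.pi).center_ne_bot (ne_bot_of_mem rR fun e => IL s (f.zL 1) (by rwa [e, one_mul] at hI)))
    have vK := hR.le hv.1
    obtain ⟨c, hc⟩ := k1 v vK (CN (mem_C1.2 (by
      rw [← mul_assoc, ← mem_C.1 hv.2 r0 rR, mul_assoc, mul_assoc, LK_comm (f.zL 1) vK])))
    have cm : Commute (X.z c) v := LK_comm (f.zL c) vK
    refine k1 r (hR.le h1) (sY.C_N hc (fun e => f.not_K ?_ v1 vK) (by rw [cm.mul_mul_mul_comm, v2, f.zz, mul_one])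
      (mem_C1.2 (by rw [← mul_assoc, mem_C.1 hv.2 r h1, mul_assoc, mul_assoc, LK_comm (f.zL c) (hR.le h1)])))
    rw [eq_inv_of_mul_eq_one_left e]; exact inv_mem (f.zL c)
  have k4 : ∀ r ∈ R, ∀ r' ∈ R, ∀ c c', r * X.z c ∈ Y.K → r' * X.z c' ∈ Y.K → r * r' * X.z (c + c') ∈ Y.K :=
    fun r h1 r' h2 c c' h3 h4 => by
      have cm : Commute (X.z c) r' := LK_comm (f.zL c) (hR.le h2)
      rw [f.z_add, ← cm.mul_mul_mul_comm]; exact mul_mem h3 h4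
  have k5 : ∀ r ∈ R, ∀ r' ∈ R, ∀ c, r * X.z c ∈ Y.K → r' * X.z c ∈ Y.K → r = r' := fun r h1 r' h2 c h3 h4 => by
    have := mul_mem h3 (inv_mem h4)
    rw [mul_inv_rev, mul_assoc, mul_inv_cancel_left] at this
    exact mul_inv_eq_one.1 (k2 _ (mul_mem h1 (inv_mem h2)) this)
  let Λ : AddSubgroup F4 := ⟨⟨⟨{c | ∃ r ∈ R, r * X.z c ∈ Y.K}, fun ⟨r, h1, h2⟩ ⟨r', h3, h4⟩ =>
    ⟨_, mul_mem h1 h3, k4 r h1 r' h3 _ _ h2 h4⟩⟩, 1, one_mem _, by simp [f.z0]⟩, fun {x} hx => by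
      rwa [neg_eq_of_add_eq_zero_left (f4_add_self x)]⟩
  have : ∀ c, ∃ r, c ∈ Λ → r ∈ R ∧ r * X.z c ∈ Y.K := fun c => by
    by_cases h : c ∈ Λ
    · exact let ⟨r, hr⟩ := h; ⟨r, fun _ => hr⟩
    · exact ⟨1, fun e => (h e).elim⟩
  choose r hr using this
  obtain ⟨g, e⟩ := id hY
  refine ⟨{ X with Λ := Λ, r := r }, _, ⟨⟨{ f with }, s.tight, s.nc, s.ev⟩, ⟨r0, rR, hu⟩, fun x hx y hy => ?_,
    fun x hx => hR.le (hr x hx).1, fun x hx e => ?_, ?_, fun l => IL (X := X) s⟩, ⟨g, rfl⟩,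
    fun x hx => show _ ∈ (X.cj g).K from e ▸ (hr x hx).2⟩
  · exact k5 _ (hr _ (add_mem hx hy)).1 _ (mul_mem (hr x hx).1 (hr y hy).1) _ (hr _ (add_mem hx hy)).2
      (k4 _ (hr x hx).1 _ (hr y hy).1 _ _ (hr x hx).2 (hr y hy).2)
  · have := (hr x hx).2
    rw [show r x = 1 from e, one_mul] at this
    exact f.z_inj x (mem_bot.1 ((two_K s hY f.eaZ.two (Z_S.trans f.S_L)).le ⟨z_Z x, this⟩))
  · suffices ({ X with Λ := Λ, r := r } : Dat G).R = R from this ▸ hR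
    refine le_antisymm (R_le fun x hx => (hr x hx).1) fun v hv => ?_
    obtain ⟨c, hc⟩ := k3 v hv
    have h : c ∈ Λ := ⟨v, hv, hc⟩
    rw [k5 v hv _ (hr c h).1 c hc (hr c h).2]
    exact r_R (X := { X with Λ := Λ, r := r }) h

theorem I_rl (s : X.S1) (h : Fm X Y) (hr : ∀ x ∈ X.Λ, X.r x * X.z x ∈ Y.K) {c : F4} (hc : c ∈ X.Λ) (c0 : c ≠ 0)
    (hl : l ∈ X.L) (l2 : l * l = 1) : X.I (X.r c * l) := by
  have f := s.toFr
  by_cases l1 : l = 1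
  · rw [l1, mul_one]; exact s.I_r hc c0
  obtain ⟨m, hm, e⟩ := f.inv l hl l1 l2
  obtain ⟨m', hm', e'⟩ := f.inv _ (f.zL c) (fun e => c0 (f.z_inj c e)) (f.zz c)
  have cm : Commute (X.z c) (X.r c) := LK_comm (f.zL c) (s.rK c hc)
  have := (h.I_of (hr c hc) (fun e => f.not_K (f.zL c) (fun e => c0 (f.z_inj c e))
    (by rw [eq_inv_of_mul_eq_one_right e]; exact inv_mem (s.rK c hc)))
    (by rw [cm.mul_mul_mul_comm, s.rr hc, f.zz, mul_one])).conj m'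
  rwa [conj_K (s.rK c hc) hm', e', ← e, ← conj_K (s.rK c hc) hm, I_conj] at this

theorem a_L (s : X.S1) (h : Fm X Y) (hr : ∀ x ∈ X.Λ, X.r x * X.z x ∈ Y.K) (x : F4) : X.a x ∈ Y.L := by
  have f := s.toFr
  have sY := h.st s.toSt
  have RK := s.sylR.le
  have AL := A_S.trans f.S_L
  have hI := I_rl s h hr s.one one_ne_zero (f.zL 1) (f.zz 1)
  obtain ⟨l, hl, k, hk, kE, e⟩ := split sY.toFr s.eaE
    (fun v hv => sY.C_N (hr 1 s.one) hI.1 hI.2.1 (mem_C1.2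
      (s.eaE.comm hv (mul_mem (mem_sup_left (r_R s.one)) (mem_sup_right (z_A 1))))))
    (fun F hF FK => by
      obtain ⟨g, rfl⟩ := h
      have := Nat.le_of_dvd (card_pos _) ((s.cj g).sylR.card_dvd hF.two FK)
      rw [cj_R, card_cj] at this
      rw [card_sup_of_inf (norm_of_cent (AL.trans (L_CK.trans (C_anti RK))))
        (eq_bot_of_le f.LK fun v hv => ⟨AL hv.2, RK hv.1⟩), f.card_A]
      omega) (mem_sup_right (a_A x))
  obtain ⟨c, hc, y, d, rfl⟩ := s.mem_E.1 ((mul_mem_cancel_right kE).1 (e ▸ mem_sup_right (a_A x)))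
  obtain rfl : c = 0 := by
    by_contra c0
    rw [mul_assoc] at hl
    exact IL sY hl (h.I.2 (I_rl s h hr hc c0 (AL (mul_mem (a_A _) (z_A _))) (f.eaA.sq (mul_mem (a_A _) (z_A _)))))
  rw [s.r0, one_mul] at e hl
  have : k = 1 := mem_bot.1 ((two_K s.toSt h f.eaA.two AL).le
    ⟨(mul_mem_cancel_left (mul_mem (a_A _) (z_A _))).1 (e ▸ a_A x), hk⟩)
  rwa [e, this, mul_one]

/-- the action on `S R` of an element centralising `Z` and `S / Z` -/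
structure Ac (X : Dat G) (g : G) (θ η : F4 → F4) (κ : F4) : Prop where
  a : ∀ x, g * X.a x * g⁻¹ = X.a x * X.z (θ x)
  b : ∀ x, g * X.b x * g⁻¹ = X.b x * X.z (η x)
  z : ∀ x, g * X.z x * g⁻¹ = X.z x
  r : ∀ x ∈ X.Λ, g * X.r x * g⁻¹ = X.r x * X.z (κ * x)

variable {θ η θ' η' : F4 → F4} {κ κ' : F4}

theorem cj_mul' (g g' u : G) : g * g' * u * (g * g')⁻¹ = g * (g' * u * g'⁻¹) * g⁻¹ := by group

theorem Ac.symm (h : Ac X g θ η κ) : Ac X.symm g η θ κ := ⟨h.b, h.a, h.z, h.r⟩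

theorem Ac.mul (f : X.Fr) (h : Ac X g θ η κ) (h' : Ac X g' θ' η' κ') :
    Ac X (g * g') (fun x => θ x + θ' x) (fun x => η x + η' x) (κ + κ') :=
  ⟨fun x => by rw [cj_mul', h'.a, ← conj_mul, h.a, h.z, mul_assoc, f.z_add],
    fun x => by rw [cj_mul', h'.b, ← conj_mul, h.b, h.z, mul_assoc, f.z_add],
    fun x => by rw [cj_mul', h'.z, h.z],
    fun x hx => by rw [cj_mul', h'.r x hx, ← conj_mul, h.r x hx, h.z, mul_assoc, add_mul, f.z_add]⟩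

theorem cj_cj' {j u u' w : G} (e : j * u * j⁻¹ = u') (h : g * u * g⁻¹ = u * w) :
    j * g * j⁻¹ * u' * (j * g * j⁻¹)⁻¹ = u' * (j * w * j⁻¹) := by
  rw [← e, @conj_mul _ _ u j w, ← h]; group

theorem Ac.hcj (s : X.S1) (h : Ac X g θ η κ) :
    Ac X (X.h * g * X.h⁻¹) (fun x => om * θ (om * x)) (fun x => om * η (om * x)) (om * κ) := by
  have f := s.toFr
  have o : ∀ x : F4, om * om * (om * x) = x := by decide
  have o' : ∀ x : F4, om * (om * om * x) = x := by decide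
  refine ⟨fun x => ?_, fun x => ?_, fun x => ?_, fun x hx => ?_⟩
  · rw [cj_cj' (o x ▸ f.ha (om * x)) (h.a _), f.hz]
  · rw [cj_cj' (o x ▸ f.hb (om * x)) (h.b _), f.hz]
  · rw [cj_cj' (w := 1) (o' x ▸ f.hz (om * om * x)) (by rw [h.z, mul_one])]; simp
  · rw [cj_cj' (conj_eq_of_mem_C (L_CK f.hL) (s.rK x hx)) (h.r x hx), f.hz, mul_assoc]

theorem Ac.bb (s : X.S1) (y : F4) : Ac X (X.b y) (fun x => x * y) (fun _ => 0) 0 := by
  have f := s.toFr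
  refine ⟨fun x => f.bab x y, fun x => ?_, fun x => ?_, fun x hx => ?_⟩
  · rw [f.z0, mul_one, f.eaB.comm (b_B y) (b_B x), mul_inv_cancel_right]
  · rw [← f.bz, mul_inv_cancel_right]
  · rw [zero_mul, f.z0, mul_one, conj_eq_of_mem_C (L_CK (f.bL y)) (s.rK x hx)]

theorem Ac.lin (f : X.Fr) (h : Ac X g θ η κ) : ∃ y, ∀ x, θ x + om * θ (om * x) + x * y = 0 := by
  have a : ∀ x y, θ (x + y) = θ x + θ y := fun x y => by
    have := h.a (x + y)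
    rw [f.a_add, ← conj_mul, h.a, h.a, f.mul_A, ← f.a_add] at this
    exact (f.inj_A this).2.symm
  have a0 : θ 0 = 0 := by simpa using a 0 0
  have a1 := a 1 om
  have : ∀ p q : F4, ∃ y, p + om * q + 1 * y = 0 ∧ q + om * (p + q) + om * y = 0 ∧
    p + q + om * p + (1 + om) * y = 0 := by decide
  obtain ⟨y, h1, h2, h3⟩ := this (θ 1) (θ om)
  refine ⟨y, fun x => ?_⟩
  rcases (by decide : ∀ x : F4, x = 0 ∨ x = 1 ∨ x = om ∨ x = 1 + om) x with rfl | rfl | rfl | rfl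
  · simp [a0]
  · rwa [mul_one]
  · rwa [show om * om = 1 + om by decide, a1]
  · rwa [show om * (1 + om) = 1 by decide, a1]

theorem Ac.fin (s : X.S1) (h : Ac X g θ η κ) (h0 : κ ≠ 0) : X.S2 := by
  have f := s.toFr
  obtain ⟨y, hy⟩ := h.lin f
  obtain ⟨x, hx⟩ := h.symm.lin f.symm
  have k := ((h.mul f (h.hcj s)).mul f (Ac.bb s y)).mul f (Ac.bb s.symm x).symm
  simp only [hx, hy, add_zero] at k
  have fin : ∀ {g : G}, Ac X g (fun _ => 0) (fun _ => 0) 1 → X.S2 := fun {g} h =>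
    ⟨s, g, mem_C_iff_le_C1.2 (S_le (fun x => mem_C1_comm.1 (mem_C1_iff_conj.2 (by rw [h.a, f.z0, mul_one])))
      (fun x => mem_C1_comm.1 (mem_C1_iff_conj.2 (by rw [h.b, f.z0, mul_one])))
      fun x => mem_C1_comm.1 (mem_C1_iff_conj.2 (h.z x))), fun x hx => by rw [h.r x hx, one_mul]⟩
  have k1 := k.hcj s
  simp only [mul_zero] at k1
  have k2 := k1.hcj s
  simp only [mul_zero] at k2
  rcases (by decide : ∀ κ : F4, κ ≠ 0 → κ + om * κ = 1 ∨ om * (κ + om * κ) = 1 ∨ om * (om * (κ + om * κ)) = 1) κ h0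
    with e | e | e
  exacts [fin (e ▸ k), fin (e ▸ k1), fin (e ▸ k2)]

theorem fpf (f : Y.Fr) (hv : v ∈ Y.A) (h : Y.h * v * Y.h⁻¹ * v ∈ Y.Z) : v ∈ Y.Z := by
  obtain ⟨x, c, rfl⟩ := f.mem_A.1 hv
  rw [← conj_mul, f.ha, f.hz, f.mul_A] at h
  rw [(by decide : ∀ x : F4, om * om * x + x = 0 → x = 0) x (f.a_mem_Z h), f.a0, one_mul]
  exact z_Z c

theorem h_NA (f : Y.Fr) : Y.h ∈ N[Y.A] := mem_N_of_finite fun v hv => by
  obtain ⟨x, c, rfl⟩ := f.mem_A.1 hv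
  rw [← conj_mul, f.ha, f.hz]; exact mul_mem (a_A _) (z_A _)

theorem step4 (s : X.S1) (f' : Y.Fr) (hA : Y.A = X.A) (hB : Y.B = X.B)
    (hr : ∀ x ∈ X.Λ, X.r x * X.z x ∈ Y.K) : X.S2 := by
  have f := s.toFr
  have hZ : Y.Z = X.Z := by rw [← f.A_inf_B, ← f'.A_inf_B, hA, hB]
  have n1 : Y.h ∈ N[X.A] := hA ▸ h_NA f'
  have n2 : Y.h ∈ N[X.B] := hB ▸ h_NA f'.symm
  have n3 : Y.h ∈ N[X.Z] := f.A_inf_B ▸ norm_inf (zpowers_le.2 n1) (zpowers_le.2 n2) (mem_zpowers _)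
  choose p p' hp using fun x => f.mem_A.1 (conj_mem n1 (a_A x))
  choose q q' hq using fun x => f.mem_B.1 (conj_mem n2 (b_B x))
  choose φ hφ using fun x => f.mem_Z.1 (conj_mem n3 (z_Z x))
  have r : ∀ x y, p x * q y = φ (x * y) := fun x y => by
    have := congrArg (fun v => Y.h * v * Y.h⁻¹) (f.ba x y)
    simp only [← conj_mul, hp, hq, hφ] at this
    have k1 := f.mul_S (p x) 0 (p' x) 0 (q y) (q' y)
    have k2 := f.mul_S 0 (q y) (q' y) (p x) 0 (p' x)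
    simp only [f.a0, f.b0, mul_one, one_mul] at k1 k2
    rw [k1, k2, mul_assoc (_ * _), ← f.z_add] at this
    exact (by decide : ∀ x m a b : F4, b + a + m = a + b + 0 * 0 + x → m = x) _ _ _ _ (f.inj_S this).2.2
  have p1 : p 1 ≠ 1 := fun e => one_ne_zero (f.a_mem_Z (x := 1) (c := 0) (by
    rw [f.z0, mul_one, ← hZ]
    refine fpf f' (hA ▸ a_A 1) ?_
    rw [hp, e, mul_assoc, f.az, ← mul_assoc, f.aa, one_mul, hZ]; exact z_Z _))
  have q1 : q 1 ≠ 1 := fun e => one_ne_zero (f.symm.a_mem_Z (x := 1) (c := 0) (by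
    change X.b 1 * X.z 0 ∈ X.Z
    rw [f.z0, mul_one, ← hZ]
    refine fpf (Y := Y.symm) f'.symm (hB.ge (b_B 1)) (show Y.h * _ * Y.h⁻¹ * _ ∈ Y.Z from ?_)
    rw [hq, e, mul_assoc, f.bz, ← mul_assoc, f.bb, one_mul, hZ]; exact z_Z _))
  have φ1 : ∀ c, φ c = c → c = 0 := fun c e => by
    obtain ⟨x, hx⟩ := f'.mem_Z.1 (hZ.ge (z_Z c))
    have := hφ c
    rw [e, hx, f'.hz] at this
    rw [(by decide : ∀ x : F4, om * x = x → x = 0) x (f'.z_eq this), f'.z0] at hx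
    exact f.z_inj c hx
  have φ0 : ∀ c, φ c = 0 → c = 0 := fun c e => f.z_inj c (conj_eq_one_iff'.1 (by rw [hφ, e, f.z0]))
  have φa : ∀ x y, φ (x + y) = φ x + φ y := fun x y => f.z_eq (by rw [← hφ, f.z_add, ← conj_mul, hφ, hφ, f.z_add])
  obtain ⟨ε, hε, e1⟩ : ∃ ε, (ε = om ∨ ε = om * om) ∧ ∀ c, φ c = ε * c := by
    have a0 : φ 0 = 0 := by simpa using φa 0 0
    have : ∀ p q : F4, p ≠ 0 → p ≠ 1 → q ≠ 0 → q ≠ om → p + q ≠ 0 → p + q ≠ 1 + om →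
      (p = om ∨ p = om * om) ∧ q = p * om ∧ p + q = p * (1 + om) := by decide
    obtain ⟨h1, h2, h3⟩ := this (φ 1) (φ om) (fun e => one_ne_zero (φ0 _ e)) (fun e => one_ne_zero (φ1 _ e))
      (fun e => absurd (φ0 _ e) (by decide)) (fun e => absurd (φ1 _ e) (by decide))
      (fun e => absurd (φ0 _ ((φa _ _).trans e)) (by decide)) (fun e => absurd (φ1 _ ((φa _ _).trans e)) (by decide))
    refine ⟨φ 1, h1, fun x => ?_⟩
    rcases (by decide : ∀ x : F4, x = 0 ∨ x = 1 ∨ x = om ∨ x = 1 + om) x with rfl | rfl | rfl | rfl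
    · rw [a0, mul_zero]
    · rw [mul_one]
    · exact h2
    · rw [φa, h3]
  simp only [e1] at r hφ
  obtain ⟨e2, e3⟩ := (by decide : ∀ ε p q : F4, (ε = om ∨ ε = om * om) → p ≠ 1 → q ≠ 1 → p * q = ε * (1 * 1) →
    p = ε * ε ∧ q = ε * ε) ε _ _ hε p1 q1 (r 1 1)
  have e4 : ∀ x, ε * p x = x := fun x => (by decide : ∀ ε p x : F4, (ε = om ∨ ε = om * om) →
    p * (ε * ε) = ε * (x * 1) → ε * p = x) ε _ _ hε (e3 ▸ r x 1)
  have e5 : ∀ x, ε * q x = x := fun x => (by decide : ∀ ε p x : F4, (ε = om ∨ ε = om * om) →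
    ε * ε * p = ε * (1 * x) → ε * p = x) ε _ _ hε (e2 ▸ r 1 x)
  obtain ⟨j, jL, j1, j2, j3⟩ : ∃ j ∈ X.L, (∀ x, j * X.a x * j⁻¹ = X.a (ε * x)) ∧ (∀ x, j * X.b x * j⁻¹ = X.b (ε * x)) ∧
      ∀ x, j * X.z x * j⁻¹ = X.z (ε * ε * x) := by
    have o : ∀ x : F4, om * om * (om * om * x) = om * x := by decide
    rcases hε with rfl | rfl
    · exact ⟨X.h * X.h, mul_mem f.hL f.hL, fun x => by rw [cj_mul', f.ha, f.ha, o],
        fun x => by rw [cj_mul', f.hb, f.hb, o], fun x => by rw [cj_mul', f.hz, f.hz, mul_assoc]⟩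
    · exact ⟨X.h, f.hL, f.ha, f.hb, fun x => by rw [f.hz, mul_assoc, o]⟩
  refine Ac.fin (g := j * Y.h) (θ := fun x => ε * ε * p' x) (η := fun x => ε * ε * q' x) (κ := ε) s
    ⟨fun x => ?_, fun x => ?_, fun x => ?_, fun x hx => ?_⟩ (by rcases hε with rfl | rfl <;> decide)
  · rw [cj_mul', hp, ← conj_mul, j1, j3, e4]
  · rw [cj_mul', hq, ← conj_mul, j2, j3, e5]
  · rw [cj_mul', hφ, j3, (by decide : ∀ ε x : F4, (ε = om ∨ ε = om * om) → ε * ε * (ε * x) = x) ε x hε]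
  · have : Y.h * X.r x * Y.h⁻¹ = X.r x * X.z (x + ε * x) := by
      rw [f.z_add, ← mul_assoc, ← hφ, ← conj_eq_of_mem_C (L_CK f'.hL) (hr x hx), conj_mul, mul_assoc (X.r x), f.zz,
        mul_one]
    rw [cj_mul', this, conj_K (s.rK x hx) jL, j3,
      (by decide : ∀ ε x : F4, (ε = om ∨ ε = om * om) → ε * ε * (x + ε * x) = ε * x) ε x hε]

theorem main [IsSimpleGroup G] (s : X.St) : ∃ X' : Dat G, X'.S2 := by
  obtain ⟨X, Y, s, h, hr⟩ := step3 s (exists_IP s)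
  have f := s.toFr
  have ha := a_L s h hr
  have hb : ∀ x, X.b x ∈ Y.L := by
    obtain ⟨g, rfl⟩ := h
    exact a_L (Y := (X.cj g).symm) s.symm ⟨g, rfl⟩ hr
  obtain ⟨l, e1, -, e3⟩ := reframe (h.st s.toSt).toFr (P := X.S) (S_le ha hb fun c => by
    rw [← mul_one c, z_comm f]
    exact mul_mem (inv_mem (hb _)) (mul_mem (mul_mem (inv_mem (ha _)) (hb _)) (ha _))) f.card_S
  have f' := (h.st s.toSt).toFr.cj l
  have eq : ∀ {A B : Subgroup G}, ♯A = 16 → ♯B = 16 → A ≤ B → A = B := fun h1 h2 h3 =>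
    eq_of_card_eq h3 (h1.trans h2.symm)
  refine ⟨X, ?_⟩
  rcases f.ea_le f'.eaA (e1 ▸ A_S) with k | k <;> rcases f.ea_le f'.eaB (e1 ▸ B_S) with k' | k'
  · exact (f'.A_ne_B ((eq f'.card_A f.card_A k).trans (eq f'.card_B f.card_A k').symm)).elim
  · exact step4 s f' (eq f'.card_A f.card_A k) (eq f'.card_B f.card_B k') (e3 ▸ hr)
  · exact step4 s f'.symm (eq f'.card_B f.card_A k') (eq f'.card_A f.card_B k) (e3 ▸ hr)
  · exact (f'.A_ne_B ((eq f'.card_A f.card_B k).trans (eq f'.card_B f.card_B k').symm)).elim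

end H3.SC
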