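import Mathlib
import Cfsg.Agent.H22.Alperin

/-!
# Alperin's fusion theorem with tame intersections
-/

namespace H3

open Subgroup H22

variable {G : Type*} [Group G] {p : ℕ}

/-- `P ∩ Q` is a tame intersection of Sylow subgroups. -/
def Tame (P Q : Sylow p G) : Prop :=
  SylIn p ((P : Subgroup G) ⊓ normalizer (((P : Subgroup G) ⊓ Q : Subgroup G) : Set G))
      (normalizer (((P : Subgroup G) ⊓ Q : Subgroup G) : Set G)) ∧
    SylIn p ((Q : Subgroup G) ⊓ normalizer (((P : Subgroup G) ⊓ Q : Subgroup G) : Set G))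
      (normalizer (((P : Subgroup G) ⊓ Q : Subgroup G) : Set G))

/-- The conjugation `A → g⁻¹ A g` is a composite of conjugations in normalizers of tame
intersections. -/
inductive TameChain (P : Sylow p G) : Subgroup G → G → Prop
  | nil (A : Subgroup G) : TameChain P A 1
  | cons {A : Subgroup G} {g : G} (Q : Sylow p G) (x : G) : Tame P Q →
      x ∈ normalizer (((P : Subgroup G) ⊓ Q : Subgroup G) : Set G) → A ≤ (P : Subgroup G) ⊓ Q →
      TameChain P (cj x⁻¹ A) g → TameChain P A (x * g)

namespace TameChain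

variable {P : Sylow p G}

theorem single {A : Subgroup G} (Q : Sylow p G) {x : G} (h : Tame P Q)
    (hx : x ∈ normalizer (((P : Subgroup G) ⊓ Q : Subgroup G) : Set G))
    (hA : A ≤ (P : Subgroup G) ⊓ Q) : TameChain P A x := by
  simpa using cons Q x h hx hA (nil _)

theorem mono {A : Subgroup G} {g : G} (h : TameChain P A g) :
    ∀ {B : Subgroup G}, B ≤ A → TameChain P B g := by
  induction h with
  | nil A => exact fun _ => nil _
  | cons Q x ht hx hA _ ih => exact fun hB => cons Q x ht hx (hB.trans hA) (ih (cj_mono hB))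

theorem trans {A : Subgroup G} {g : G} (h : TameChain P A g) :
    ∀ {k : G}, TameChain P (cj g⁻¹ A) k → TameChain P A (g * k) := by
  induction h with
  | nil A => intro k hk; simpa [cj_one] using hk
  | cons Q x ht hx hA _ ih =>
    intro k hk
    rw [mul_assoc]
    refine cons Q x ht hx hA (ih ?_)
    rwa [mul_inv_rev, cj_mul] at hk

theorem symm {A : Subgroup G} {g : G} (h : TameChain P A g) : TameChain P (cj g⁻¹ A) g⁻¹ := by
  induction h with
  | nil A => simpa using nil _
  | cons Q x ht hx hA _ ih =>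
    rw [mul_inv_rev, cj_mul]
    refine ih.trans ?_
    rw [inv_inv, cj_cj_inv]
    refine single Q ht (inv_mem hx) ?_
    rw [← cj_eq_iff.2 (inv_mem hx)]
    exact cj_mono hA

theorem exists_fin {A : Subgroup G} {g : G} (h : TameChain P A g) :
    ∃ (n : ℕ) (Q : Fin n → Sylow p G) (x : Fin n → G), (List.ofFn x).prod = g ∧
      (∀ i, x i ∈ normalizer (((P : Subgroup G) ⊓ Q i : Subgroup G) : Set G) ∧ Tame P (Q i)) ∧
      ∀ i : Fin n, cj ((List.ofFn x).take i).prod⁻¹ A ≤ (P : Subgroup G) ⊓ Q i := by
  induction h with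
  | nil A => exact ⟨0, Fin.elim0, Fin.elim0, by simp, fun i => i.elim0, fun i => i.elim0⟩
  | cons Q x ht hx hA _ ih =>
    obtain ⟨n, Qs, xs, h1, h2, h3⟩ := ih
    refine ⟨n + 1, Fin.cons Q Qs, Fin.cons x xs, by simp [h1], fun i => ?_, fun i => ?_⟩
    · refine Fin.cases ?_ (fun i => ?_) i
      · exact ⟨hx, ht⟩
      · exact h2 i
    · refine Fin.cases ?_ (fun i => ?_) i
      · simpa [cj_one] using hA
      · have := h3 i
        rw [← cj_mul, ← mul_inv_rev] at this
        simpa using this

end TameChain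

variable [Fact p.Prime] [Finite G]

/-- **Alperin's fusion theorem.** -/
theorem tameChain_of_le (P : Sylow p G) (A : Subgroup G) (hA : A ≤ P) (g : G)
    (hg : cj g⁻¹ A ≤ P) : TameChain P A g := by
  induction hn : Nat.card P - Nat.card A using Nat.strong_induction_on generalizing A g with
  | _ n ih =>
    have IH : ∀ B : Subgroup G, B ≤ P → Nat.card A < Nat.card B → ∀ k : G, cj k⁻¹ B ≤ P →
        TameChain P B k := fun B hB hlt k hk =>
      ih _ (by have := card_le_of_le hB; omega) B hB k hk rfl
    have card_lt : ∀ {X Y : Subgroup G}, X < Y → Nat.card X < Nat.card Y := fun h =>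
      lt_of_not_ge fun h' => h.ne (eq_of_le_of_card_ge h.le h')
    rcases hA.eq_or_lt with rfl | hlt
    · refine TameChain.single P ?_ ?_ (le_inf le_rfl le_rfl)
      · have : SylIn p ((P : Subgroup G) ⊓ normalizer (((P : Subgroup G) ⊓ P : Subgroup G) : Set G))
            (normalizer (((P : Subgroup G) ⊓ P : Subgroup G) : Set G)) := by
          rw [inf_idem, inf_eq_left.2 le_normalizer]
          exact sylIn_of_sylow_le P le_normalizer
        exact ⟨this, this⟩
      · rw [inf_idem]
        exact inv_mem_iff.1 (cj_eq_iff.1 (cj_eq_of_le hg))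
    obtain ⟨h, hh1, hh2⟩ := exists_cj_fullyNormalized P A
    have c1 : TameChain P A h⁻¹ :=
      (IH _ inf_le_left (card_lt (lt_inf_normalizer P.isPGroup' hlt)) h⁻¹
        (by rwa [inv_inv])).mono (le_inf hA le_normalizer)
    have hBlt : cj g⁻¹ A < P := lt_of_le_of_ne hg fun he => by
      have := card_lt hlt
      rw [← he, card_cj] at this
      exact lt_irrefl _ this
    obtain ⟨h', hh3, hh4⟩ := exists_cj_onto_fullyNormalized P hh2 (B := cj g⁻¹ A) (g := h * g)
      (by rw [← cj_mul, mul_inv_cancel_right])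
    have c2 : TameChain P (cj g⁻¹ A) h'⁻¹ :=
      (IH _ inf_le_left (by
        rw [← card_cj g⁻¹ A]; exact card_lt (lt_inf_normalizer P.isPGroup' hBlt)) h'⁻¹
        (by rwa [inv_inv])).mono (le_inf hg le_normalizer)
    have c3 := c2.symm
    rw [inv_inv, hh3] at c3
    have hA0 : cj h A ≤ P := (cj_mono (le_inf hA le_normalizer)).trans hh1
    have hn1 : cj (h * g * h'⁻¹)⁻¹ (cj h A) = cj h A := by
      rw [← cj_mul, show (h * g * h'⁻¹)⁻¹ * h = h' * g⁻¹ by group, cj_mul, hh3]
    have hn2 : h * g * h'⁻¹ ∈ normalizer ((cj h A : Subgroup G) : Set G) :=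
      inv_mem_iff.1 (cj_eq_iff.1 hn1)
    set m := h * g * h'⁻¹ with hm
    have c4 : TameChain P (cj h A) m := by
      have hle : cj h A ≤ (P : Subgroup G) ⊓ cj m P := by
        refine le_inf hA0 ?_
        rw [← cj_eq_iff.2 hn2]
        exact cj_mono hA0
      rcases hle.eq_or_lt with he | hlt'
      · have he' : (P : Subgroup G) ⊓ (m • P : Sylow p G) = cj h A := by
          rw [coe_smul_sylow, he]
        refine TameChain.single (m • P) ⟨?_, ?_⟩ ?_ he'.ge
        · rw [he']; exact hh2
        · have := hh2.cj m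
          rw [cj_inf, cj_eq_of_mem hn2] at this
          rw [he', coe_smul_sylow]
          exact this
        · rw [he']; exact hn2
      · refine (IH _ inf_le_left (by rw [← card_cj h A]; exact card_lt hlt') m ?_).mono hle
        exact (cj_mono inf_le_right).trans (cj_inv_cj m _).le
    have c5 := c4.trans (k := h') (by rwa [hn1])
    have c6 := c1.trans (k := m * h') (by rwa [inv_inv])
    rwa [hm, show h⁻¹ * (h * g * h'⁻¹ * h') = g by group] at c6

end H3
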