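import Mathlib
import Cfsg.Agent.H29.YB.L9

/-!
# Certificates for the BN-pair of the subgroup generated by the nodes of `Y333`
-/

set_option autoImplicit false
set_option maxRecDepth 100000
set_option Elab.async false
set_option linter.all false

namespace H3.BN1
open H19 H29 H29.BE H29.BP H29.BP.Dat H29.BM H29.YB

def ids4 : List (List ℕ × List ℕ) := [([12, 13, 4, 13, 12], [5, 4, 6, 4, 5, 4, 6, 4]),
 ([13, 12, 5, 12, 13], [6, 4, 5, 4, 7]), ([13, 12, 6, 12, 13], [5, 4, 7, 4, 6]),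
 ([13, 12, 7, 12, 13], [5, 4, 6, 4, 7]),
 ([0, 0], []), ([1, 2], []), ([2, 1], []), ([1, 1], [2]), ([2, 2], [1]),
 ([3, 3], []), ([4, 4], []), ([5, 5], []), ([6, 6], []), ([7, 7], []), ([8, 8], []), ([9, 9], []),
 ([10, 10], []),
 ([5, 6], [7]), ([5, 7], [6]), ([6, 5], [7]), ([6, 7], [5]), ([7, 5], [6]), ([7, 6], [5]),
 ([8, 9], [10]), ([8, 10], [9]), ([9, 8], [10]), ([9, 10], [8]), ([10, 8], [9]), ([10, 9], [8]),
 ([1, 3, 2], [3]), ([1, 4, 2], [4]), ([1, 5, 2], [6]), ([1, 6, 2], [7]), ([1, 7, 2], [5]),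
 ([1, 8, 2], [10]), ([1, 9, 2], [8]), ([1, 10, 2], [9]),
 ([2, 3, 1], [3]), ([2, 4, 1], [4]), ([2, 5, 1], [7]), ([2, 6, 1], [5]), ([2, 7, 1], [6]),
 ([2, 8, 1], [9]), ([2, 9, 1], [10]), ([2, 10, 1], [8]),
 ([0, 1, 0], [1]), ([0, 2, 0], [2]), ([0, 3, 0], [3]), ([0, 4, 0], [4]), ([0, 5, 0], [5]),
 ([0, 6, 0], [6]), ([0, 7, 0], [7]), ([0, 8, 0], [8]), ([0, 9, 0], [9]), ([0, 10, 0], [10]),
 ([5, 8, 6, 10, 7, 9], [0])]
theorem cId4 : allL ids4 (fun p => idc p.1 p.2) = true := by decide +kernel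

/-- All identities between the letters. -/
def IDS : List (List ℕ × List ℕ) := ids0 ++ (ids1 ++ (ids2 ++ (ids3 ++ ids4)))

theorem idT : ∀ p ∈ IDS, ev eT p.1 = ev eT p.2 := fun p hp => idc_sound (by
  simp only [IDS, List.mem_append] at hp
  rcases hp with h | h | h | h | h
  exacts [allL_true.1 cId0 p h, allL_true.1 cId1 p h, allL_true.1 cId2 p h, allL_true.1 cId3 p h,
    allL_true.1 cId4 p h])

theorem idT' {v w : List ℕ} (h : (v, w) ∈ IDS := by decide +kernel) : ev eT v = ev eT w := idT _ h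

theorem hasT : Br.Has IDS := by decide +kernel

/-- All alternating words for the rank two condition. -/
def CJ' : List (ℕ × ℕ × List ℕ) :=
  Br.CJ ++ [(1, 2, [2]), (1, 2, [2, 1]), (2, 1, [1, 2]), (2, 3, [3]), (3, 2, [2])]

theorem rk2 : ∀ x ∈ CJ', ∀ c ∈ Br.Ul x.1,
    ev eT ((Br.up x.2.2).reverse ++ c :: Br.up x.2.2) ∈ gen eT (Br.Ml x.1 x.2.1) := fun x hx c hc => by
  obtain ⟨p, hp, e1, e2⟩ := (show ∀ x ∈ CJ', ∀ c ∈ Br.Ul x.1, ∃ p ∈ IDS,
    p.1 = (Br.up x.2.2).reverse ++ c :: Br.up x.2.2 ∧ ∀ a ∈ p.2, a ∈ Br.Ml x.1 x.2.1 by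
      decide +kernel) x hx c hc
  rw [← e1, idT p hp]
  exact ev_mem_gen e2

/-! ### The action on classes -/

theorem eT_eq {c : ℕ} (h : c ≠ 11) : eT c = ev eA (nth [] tW c) := by
  rw [eT, wE]
  by_cases hc : c < 15
  · exact ee_eq (by revert h; revert c; decide +kernel)
  · rw [nth_default _ (by simp [tW]; omega)]; rfl

theorem eT_E {c : ℕ} (h : c ≠ 11) : eT c ∈ gen σ EL := by
  rw [eT_eq h]; exact ev_mem fun c _ => eA_mem c

theorem EL_K {x : Γ} (h : x ∈ gen σ EL) : π x ∈ D.KK := sm_K (by decide +kernel) (π_mem h)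

noncomputable def act (c x : ℕ) : ℕ := cw cB (lev (nth [] tW c)) x

theorem eT_crel {c : ℕ} (h : c ≠ 11) (hc : c < 15) (x : ℕ) : CRel D (π (eT c)) x (act c x) := by
  have m : ∀ a ∈ lev (nth [] tW c), Tab D (mA a) (cB a) := fun a ha =>
    (mA_tab a (by revert a; revert h; revert c; decide +kernel)).2
  rw [eT_eq h, map_ev]
  change CRel D (ev mA _) _ _
  rw [px_sound _ m]
  exact (CRel.of_eq (cw_sound _ m x) (ceq_iff.2 (ce.refl _))).mul (D_ok.P_mem _).comm (CRel.P _ _)

noncomputable def chkS (S : List ℕ) : Bool :=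
  allL Br.BL fun c => allL S fun x => S.any fun y => ceq (act c x) y

theorem B_E : gen eT Br.BL ≤ gen σ EL := gen_le.2 fun c hc => eT_E (by rintro rfl; revert hc; decide)

theorem B_inv {S : List ℕ} (h : chkS S = true) :
    ∀ b ∈ gen eT Br.BL, b ∈ gen σ EL ∧ ∀ x ∈ S, ∃ y ∈ S, CRel D (π b) x y :=
  Br.gen_ind eT_iv (by decide +kernel)
    (p := fun b => b ∈ gen σ EL ∧ ∀ x ∈ S, ∃ y ∈ S, CRel D (π b) x y)
    ⟨Subgroup.one_mem _, fun x hx => ⟨x, hx, by rw [map_one]; exact CRel.one x⟩⟩ (by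
      rintro c hc b ⟨b1, b2⟩
      have c1 : c ≠ 11 := by rintro rfl; revert hc; decide
      refine ⟨Subgroup.mul_mem _ (eT_E c1) b1, fun x hx => ?_⟩
      obtain ⟨y, hy, e⟩ := List.any_eq_true.1 (allL_true.1 (allL_true.1 h c hc) x hx)
      obtain ⟨w, hw, e'⟩ := b2 y hy
      refine ⟨w, hw, ?_⟩
      rw [map_mul]
      exact ((eT_crel c1 ((show ∀ c ∈ Br.BL, c < 15 by decide) c hc) x).right (ceq_iff.1 e)).mul (EL_K b1).comm e')

theorem not_B {S : List ℕ} (h : chkS S = true) {c x : ℕ} (h1 : c ≠ 11) (h2 : c < 15) (hx : x ∈ S)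
    (h3 : S.any (fun y => ceq (act c x) y) = false) : eT c ∉ gen eT Br.BL := fun hc => by
  obtain ⟨y, hy, e⟩ := (B_inv h _ hc).2 x hx
  have := List.any_eq_true.2 ⟨y, hy, ceq_iff.2 ((eT_crel h1 h2 x).uniq e)⟩
  rw [h3] at this
  cases this

theorem s0_not_E : eT 11 ∉ gen σ EL := fun h => by
  have h1 : π (ev eT [12, 3, 12]) = D.P 2335740 := by
    rw [eT, ev_fm, ee_eq (by decide +kernel)]
    exact chkP_sound (and2_true.1 cA1).1
  have h2 : ev eT [11, 12, 3, 12, 11] = ev eT [4] := idT'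
  have h3 : ev eT [11, 11] = ev eT [] := idT'
  obtain ⟨y, hy⟩ := D_ok.norm (EL_K h) 2335740
  have h4 : π (eT 4) = D.P y := by
    simp only [ev_cons, ev_nil, mul_one] at h1 h2 h3
    rw [← h2, show eT 11 * (eT 12 * (eT 3 * (eT 12 * eT 11))) =
      eT 11 * (eT 12 * (eT 3 * eT 12)) * eT 11 by group, map_mul, map_mul, h1, hy, mul_assoc, ← map_mul,
      h3, map_one, mul_one]
  have h5 := (eT_crel (c := 4) (by decide) (by decide) 1).uniq (h4 ▸ CRel.P 1 y)
  exact absurd (ceq_iff.2 h5) (by decide +kernel)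

theorem s_not_B : ∀ i < 4, eT (11 + i) ∉ gen eT Br.BL := fun i hi => by
  interval_cases i
  · exact fun h => s0_not_E (B_E h)
  · exact not_B (S := [3854032]) (by decide +kernel) (x := 3854032) (by decide) (by decide) (by decide)
      (by decide +kernel)
  · exact not_B (S := [1109452, 2761500]) (by decide +kernel) (x := 2761500) (by decide) (by decide) (by decide)
      (by decide +kernel)
  · exact not_B (S := [295790, 1451174, 1683834, 1833854, 2176430, 2326442, 2943606, 4083134]) (by decide +kernel) (x := 2326442) (by decide) (by decide) (by decide)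
      (by decide +kernel)

/-! ### The group generated by the letters -/

theorem T_eq : gen eT TL = gen σ (2 :: EL) := le_antisymm (gen_le.2 fun c _ => by
  have a : gen σ EL ≤ gen σ (2 :: EL) := gen_mono fun c hc => by simp [hc]
  have n : nn ∈ gen σ (2 :: EL) := ev_mem_gen (by decide)
  rw [eT, wE]
  refine ev_mem fun c _ => ?_
  rw [ee]
  split_ifs
  exacts [Subgroup.mul_mem _ (Subgroup.mul_mem _ n (a (eA_mem _))) (Subgroup.inv_mem _ n), a (eA_mem _)])
  L0_T

theorem eT_mem (c : ℕ) : eT c ∈ gen σ (2 :: EL) := by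
  by_cases h : c < 15
  · exact T_eq ▸ mem_gen (by revert c; decide)
  · rw [eT, wE, nth_default _ (by simp [tW]; omega)]; exact Subgroup.one_mem _

theorem L0_bd : Bd (gen σ (2 :: EL)) (3968055 * (2 ^ 20 * 36787322880)) := T_bd.of_le L0_T

theorem card_L0 : Nat.card (gen σ (2 :: EL)) = 3968055 * (2 ^ 20 * 36787322880) := by
  refine le_antisymm L0_bd.2 ?_
  have a := (τ_cv (L := 2 :: EL) (L' := 2 :: KL) (by decide +kernel) (by decide)).bd
    (⟨L0_bd.1, le_rfl⟩ : Bd (gen σ (2 :: EL)) _)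
  have b := card_le_of_bd a
  rw [π_gen, gen_LL, card_LL] at b
  have := a.2
  omega

theorem eT0 : eT 0 = σ 11 := by
  rw [eT_eq (by decide)]
  change eA 0 * 1 = _
  rw [mul_one, eA_L rfl]
  exact mul_one _

theorem σ11_ne : σ 11 ≠ 1 := fun h => by
  have a : sm 11 = 1 := by rw [← π_σ, h, map_one]
  have b := sm11.symm.trans a
  rw [d, cl0, Dat.P, ← Pu_zero D.cl] at b
  exact absurd (Pu_inj _ b).2.1 (by decide +kernel)

theorem σ11_comm {x : Γ} (h : x ∈ gen σ (2 :: EL)) : σ 11 * x = x * σ 11 := by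
  rw [← T_eq] at h
  rw [← eT0]
  refine (comm_gen (fun c hc => ?_) x h).symm
  have s : eT 0 * eT 0 = 1 := by simpa using idT' (v := [0, 0]) (w := [])
  rcases (show ∀ c ∈ TL, c = 0 ∨ (([0, c, 0], [c]) ∈ IDS) ∨ (([c, 0, c], [0]) ∈ IDS ∧ ([c, c], []) ∈ IDS) by
    decide +kernel) c hc with rfl | a | ⟨a, b⟩
  · rfl
  · have := idT _ a
    simp only [ev_cons, ev_nil, mul_one] at this
    calc _ = eT 0 * (eT 0 * (eT c * eT 0)) := by rw [← mul_assoc, s, one_mul]
      _ = _ := by rw [this]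
  · have a := idT _ a
    have b := idT _ b
    simp only [ev_cons, ev_nil, mul_one] at a b
    calc _ = eT c * (eT 0 * eT c) * eT c := by rw [mul_assoc, mul_assoc, b, mul_one]
      _ = _ := by rw [a]

/-- The group is perfect. -/
theorem hom_triv {A : Type*} [CommGroup A] (f : gen σ (2 :: EL) →* A) (x : gen σ (2 :: EL)) : f x = 1 := by
  let e : ℕ → gen σ (2 :: EL) := fun c => ⟨eT c, eT_mem c⟩
  have ev_e : ∀ w, ((ev e w : gen σ (2 :: EL)) : Γ) = ev eT w := fun w =>
    map_ev (gen σ (2 :: EL)).subtype e w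
  have k : ∀ {v w : List ℕ}, (v, w) ∈ IDS → ev (fun c => f (e c)) v = ev (fun c => f (e c)) w :=
    fun {v w} h => by
      rw [← map_ev, ← map_ev]
      exact congrArg f (Subtype.ext ((ev_e v).trans ((idT _ h).trans (ev_e w).symm)))
  generalize ha : (fun c => f (e c)) = a at k
  have q : ∀ {v w : List ℕ}, (v, w) ∈ IDS → ev a v = ev a w := k
  have r1 := q (v := [1, 2]) (w := []) (by decide +kernel)
  have r2 := q (v := [1, 5, 2]) (w := [6]) (by decide +kernel)
  have r3 := q (v := [1, 6, 2]) (w := [7]) (by decide +kernel)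
  have r4 := q (v := [5, 6]) (w := [7]) (by decide +kernel)
  have r5 := q (v := [1, 8, 2]) (w := [10]) (by decide +kernel)
  have r6 := q (v := [1, 10, 2]) (w := [9]) (by decide +kernel)
  have r7 := q (v := [8, 9]) (w := [10]) (by decide +kernel)
  have r8 := q (v := [5, 8, 6, 10, 7, 9]) (w := [0]) (by decide +kernel)
  have r9 := q (v := [13, 4, 13]) (w := [5, 4, 6, 4, 5, 4, 6, 4]) (by decide +kernel)
  have r10 := q (v := [4, 4]) (w := []) (by decide +kernel)
  have r11 := q (v := [11, 12, 3, 12, 11]) (w := [4]) (by decide +kernel)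
  have s1 := q (v := [11, 11]) (w := []) (by decide +kernel)
  have s2 := q (v := [12, 12]) (w := []) (by decide +kernel)
  have s3 := q (v := [13, 13]) (w := []) (by decide +kernel)
  have s4 := q (v := [14, 14]) (w := []) (by decide +kernel)
  have t1 := q (v := [11, 3, 11, 3, 11]) (w := [3]) (by decide +kernel)
  have t2 := q (v := [12, 4, 12, 4, 12]) (w := [4]) (by decide +kernel)
  have t3 := q (v := [13, 5, 13, 5, 13]) (w := [5]) (by decide +kernel)
  have t4 := q (v := [14, 8, 14, 8, 14]) (w := [8]) (by decide +kernel)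
  have t5 := q (v := [13, 6, 13, 7, 13]) (w := [1, 6]) (by decide +kernel)
  simp only [ev_cons, ev_nil, mul_one] at r1 r2 r3 r4 r5 r6 r7 r8 r9 r10 r11 s1 s2 s3 s4 t1 t2 t3 t4 t5
  have cj : ∀ b : A, a 1 * (b * a 2) = b := fun b => by rw [mul_left_comm, r1, mul_one]
  rw [cj] at r2 r3 r5 r6
  have a5 : a 5 = 1 := by rw [← r3] at r4; exact mul_eq_right.1 r4
  have a6 : a 6 = 1 := r2 ▸ a5
  have a7 : a 7 = 1 := r3 ▸ a6
  have a9 : a 9 = 1 := by rw [← r5] at r7; exact mul_eq_left.1 r7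
  have a10 : a 10 = 1 := r6.trans a9
  have a8 : a 8 = 1 := r5.trans a10
  have a0 : a 0 = 1 := by rw [← r8, a5, a6, a7, a8, a9, a10]; simp
  have a4 : a 4 = 1 := by
    rw [mul_left_comm, s3, a5, a6] at r9
    simp only [mul_one, one_mul] at r9
    rw [r10, mul_one, r10] at r9
    exact r9
  have a3 : a 3 = 1 := by
    rw [a4, mul_left_comm (a 12), ← mul_assoc (a 12), s2, one_mul, mul_left_comm, s1, mul_one] at r11
    exact r11
  have a11 : a 11 = 1 := by simpa [a3, s1] using t1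
  have a12 : a 12 = 1 := by simpa [a4, s2] using t2
  have a13 : a 13 = 1 := by simpa [a5, s3] using t3
  have a14 : a 14 = 1 := by simpa [a8, s4] using t4
  have a1 : a 1 = 1 := by simpa [a13, a6, a7] using t5.symm
  have a2 : a 2 = 1 := by simpa [a1] using r1
  have key : gen eT TL ≤ f.ker.map (gen σ (2 :: EL)).subtype := gen_le.2 fun c hc =>
    ⟨e c, by
      change (fun c => f (e c)) c = 1
      rw [ha]
      simp only [TL, Br.BL, List.mem_cons, List.not_mem_nil, or_false] at hc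
      rcases hc with rfl | rfl | rfl | rfl | rfl | rfl | rfl | rfl | rfl | rfl | rfl | rfl | rfl | rfl | rfl <;>
        assumption, rfl⟩
  obtain ⟨y, hy, e1⟩ := key (T_eq.ge x.2)
  obtain rfl : y = x := Subtype.ext e1
  exact hy

theorem perfect : commutator (gen σ (2 :: EL)) = ⊤ := by
  rw [← Abelianization.ker_of, eq_top_iff]
  exact fun x _ => hom_triv Abelianization.of x

end H3.BN1
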