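import Mathlib
import Cfsg.Agent.H3.BN1
import Cfsg.Agent.H13.BN0
import Cfsg.Agent.H29.TB0
import Cfsg.Agent.S1066

/-!
# The nodes of `Y333` generate a double cover of `²E₆(2)`
-/

set_option autoImplicit false
set_option maxRecDepth 100000
set_option linter.all false

namespace H3.BN3
open H19 H29 H29.YB H3.BN1 H13.BN0 H8.GenSys

/-- The group generated by the nodes of `Y333`. -/
noncomputable abbrev L0 : Subgroup Γ := gen σ (2 :: EL)

noncomputable def e (c : ℕ) : L0 := ⟨eT c, eT_mem c⟩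

theorem ev_e (w : List ℕ) : ((ev e w : L0) : Γ) = ev eT w := map_ev L0.subtype e w
theorem idE : ∀ p ∈ IDS, ev e p.1 = ev e p.2 := fun p h =>
  Subtype.ext ((ev_e _).trans ((idT _ h).trans (ev_e _).symm))
theorem e_iv : IvOK e (ivOf [0, 2, 1]) := fun c => Subtype.ext (eT_iv c)
theorem mem_e {L : List ℕ} {x : L0} : x ∈ gen e L ↔ (x : Γ) ∈ gen eT L := by
  rw [← (map_gen L0.subtype e L).trans (gen_congr (e' := eT) fun _ _ => rfl)]
  exact (Subgroup.mem_map_iff_mem L0.subtype_injective).symm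

def U (i : Fin 4) : Set L0 := e '' {c | c ∈ Br.Ul i}

theorem gen_M (i k : Fin 4) : gen e (Br.Ml i k) ≤ gen e [0, 1, 2] ⊔ Subgroup.closure (U i ∪ U k) :=
  gen_le.2 fun c hc => by
    simp only [Br.Ml, List.mem_cons, List.mem_append] at hc
    rcases hc with rfl | rfl | rfl | hc | hc
    exacts [Subgroup.mem_sup_left (mem_gen (by decide)), Subgroup.mem_sup_left (mem_gen (by decide)),
      Subgroup.mem_sup_left (mem_gen (by decide)),
      Subgroup.mem_sup_right (Subgroup.subset_closure (.inl ⟨c, hc, rfl⟩)),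
      Subgroup.mem_sup_right (Subgroup.subset_closure (.inr ⟨c, hc, rfl⟩))]

theorem ss (i : Fin 4) : e (11 + i) * e (11 + i) = 1 := by
  simpa using idE ([11 + i, 11 + i], []) (by revert i; decide +kernel)
theorem si (i : Fin 4) : (e (11 + i))⁻¹ = e (11 + i) := inv_eq_of_mul_eq_one_right (ss i)

theorem rinv (i : Fin 4) : ∀ r ∈ Br.Rl i, (ev e r)⁻¹ = ev e r := fun r hr => by
  rw [← ev_invW e_iv]; exact congrArg _ (by revert r; revert i; decide +kernel)

theorem dec (i : Fin 4) : ∀ b ∈ gen e Br.BL, ∃ r ∈ Br.Rl i,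
    e (11 + i) * (ev e r * b) * e (11 + i) ∈ gen e Br.BL :=
  Br.gen_ind e_iv (by decide +kernel) ⟨[], by simp [Br.Rl], by simp [ss]⟩ (by
    rintro c hc b ⟨r, hr, a⟩
    obtain ⟨r', hr', p, hp, e1, e2⟩ := hasT.2.1 i i.2 c hc r hr
    have := idE p hp ▸ ev_mem_gen e2
    rw [e1, ev_cons, ev_append, ev_append, ev_cons, ev_cons, ev_nil] at this
    refine ⟨r', hr', ?_⟩
    convert Subgroup.mul_mem _ this a using 1
    calc _ = e (11 + i) * (ev e r' * (e c * ev e r)) * (e (11 + i))⁻¹ * e (11 + i) * ((ev e r)⁻¹ * b) *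
        e (11 + i) := by group
      _ = _ := by rw [si, rinv i r hr]; group)

theorem cox (i j : Fin 4) : (e (11 + i) * e (11 + j)) ^ mF i j = 1 := by
  have k : ∀ i j : Fin 4, (powW (mF i j) [11 + i, 11 + j], []) ∈ IDS ∨
      (powW (mF i j) [11 + j, 11 + i], []) ∈ IDS := by decide +kernel
  rcases k i j with h | h <;> have := idE _ h <;>
    simp only [ev_powW, ev_cons, ev_nil, mul_one] at this
  · exact this
  · rw [← inv_eq_one, ← inv_pow, mul_inv_rev, si, si, this]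

noncomputable def dat : Dat (Fin 4) L0 mF where
  s i := e (11 + i)
  H := gen e [0, 1, 2]
  B := gen e Br.BL
  U := U
  cox := cox
  H_le := gen_mono (by decide)
  U_le := by
    rintro i _ ⟨c, hc, rfl⟩
    exact mem_gen ((show ∀ i : Fin 4, ∀ c ∈ Br.Ul i, c ∈ Br.BL by decide) i c hc)
  nH i h hh := by
    have : gen e [0, 1, 2] ≤ (gen e [0, 1, 2]).comap (MulAut.conj (e (11 + i))).toMonoidHom :=
      gen_le.2 fun c hc => by
        obtain ⟨p, hp, e1, e2⟩ := hasT.2.2.2.2 i i.2 c (by revert c; decide)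
        have := idE p hp ▸ ev_mem_gen e2
        rw [e1, ev_cons, ev_cons, ev_cons, ev_nil, mul_one, ← mul_assoc] at this
        rw [Subgroup.mem_comap, MulEquiv.coe_toMonoidHom, MulAut.conj_apply]
        rwa [si]
    have h1 : e (11 + i) * h * (e (11 + i))⁻¹ ∈ gen e [0, 1, 2] := this hh
    rwa [si] at h1
  ne i := by
    obtain ⟨c, hc⟩ := (show ∀ i : Fin 4, ∃ c, c ∈ Br.Ul i by
      intro i; fin_cases i; exacts [⟨3, by decide⟩, ⟨4, by decide⟩, ⟨5, by decide⟩, ⟨8, by decide⟩]) i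
    exact ⟨_, c, hc, rfl⟩
  hA i b hb := by
    obtain ⟨r, hr, a⟩ := dec i b hb
    refine ⟨_, ?_, a⟩
    rcases List.mem_cons.1 hr with rfl | hr
    · exact .inl rfl
    · obtain ⟨c, hc, rfl⟩ := List.mem_map.1 hr
      exact .inr ⟨c, hc, (mul_one _).symm⟩
  hB := by
    rintro i _ ⟨c, hc, rfl⟩
    obtain ⟨p, hp, f1, f2, f3⟩ := hasT.2.2.1 i i.2 c hc
    have f4 := idE p hp ▸ ev_mem_gen f3
    have f5 := gen_M i i (ev_mem_gen f2)
    rw [f1] at f4
    rw [Set.union_self] at f5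
    generalize (p.1.drop 3).dropLast = w at f4 f5
    simp only [ev_append, ev_cons, ev_nil, mul_one, ← mul_assoc] at f4
    exact ⟨_, f5, f4⟩
  hC := by
    rintro i k h n h1 h2 _ ⟨c, hc, rfl⟩
    have a : ∀ i k : Fin 4, ∀ n < mF i k, i = k ∨ n = 0 ∨
      CJ'.contains (i.1, k.1, (alt k i n).map Fin.val) = true := by decide +kernel
    have b := rk2 _ (List.contains_iff_mem.1 (((a i k n h2).resolve_left h).resolve_left (by omega))) c hc
    rw [← ev_e, ← mem_e] at b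
    have c : ∀ v : List (Fin 4), ev e (Br.up (v.map Fin.val)) = (v.map fun i : Fin 4 => e (11 + i.1)).prod ∧
        ev e (Br.up (v.map Fin.val)).reverse = (v.map fun i : Fin 4 => e (11 + i.1)).prod⁻¹ := fun v => by
      induction v with
      | nil => simp [Br.up]
      | cons j v ih =>
        simp only [Br.up, List.map_cons, List.reverse_cons, ev_cons, ev_append, ev_nil, mul_one,
          List.prod_cons, mul_inv_rev, si] at ih ⊢
        rw [ih.1, ih.2]; exact ⟨rfl, rfl⟩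
    rw [ev_append, ev_cons, (c _).1, (c _).2, ← mul_assoc] at b
    exact gen_M i k b
  hD i h := s_not_B i i.2 (mem_e.1 h)
  top := by
    refine top_unique fun x _ => ?_
    refine (gen_le.2 fun c hc => ?_ : gen e TL ≤ _) (mem_e.2 (T_eq.ge x.2))
    rcases (show ∀ c ∈ TL, c ∈ Br.BL ∨ ∃ i : Fin 4, c = 11 + i by decide) c hc with h | ⟨i, rfl⟩
    exacts [Subgroup.mem_sup_left (mem_gen h), Subgroup.mem_sup_right (Subgroup.subset_closure ⟨i, rfl⟩)]

theorem mulU (i : Fin 4) : ∀ a ∈ Br.Ul i, ∀ b ∈ Br.Ul i, a ≠ b → ∃ c ∈ Br.Ul i, e a * (e b)⁻¹ = e c :=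
  fun a ha b hb h => by
    obtain ⟨c, hc, k1, k2⟩ := (show ∀ i : Fin 4, ∀ a ∈ Br.Ul i, ∀ b ∈ Br.Ul i, a ≠ b → ∃ c ∈ Br.Ul i,
      ([a, b], [c]) ∈ IDS ∧ ([b, b], []) ∈ IDS by decide +kernel) i a ha b hb h
    have a1 := idE _ k1
    have a2 := idE _ k2
    simp only [ev_cons, ev_nil, mul_one] at a1 a2
    exact ⟨c, hc, by rw [inv_eq_of_mul_eq_one_right a2, a1]⟩

theorem hE (i : Fin 4) : ∀ r ∈ dat.U i, ∀ r' ∈ dat.U i, r ≠ r' →
    ∃ h ∈ dat.H, ∃ c ∈ dat.U i, r * r'⁻¹ = h * c := by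
  rintro _ ⟨a, ha, rfl⟩ _ ⟨b, hb, rfl⟩ h
  obtain ⟨c, hc, k⟩ := mulU i a ha b hb fun e => h (e ▸ rfl)
  exact ⟨1, Subgroup.one_mem _, _, ⟨c, hc, rfl⟩, k.trans (one_mul _).symm⟩

theorem cardU (i : Fin 4) :
    (dat.U i).ncard = (Br.Ul i).length := by
  have inj : Set.InjOn e {c | c ∈ Br.Ul i} := fun a ha b hb h => by_contra fun ab => by
    obtain ⟨c, hc, k⟩ := mulU i a ha b hb ab
    rw [h, mul_inv_cancel] at k
    refine dat.not_conj (i := i) ⟨c, hc, rfl⟩ ?_
    rw [← k, mul_one]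
    exact (ss i).symm ▸ Subgroup.one_mem _
  rw [show dat.U i = e '' _ from rfl, inj.ncard_image, ← List.coe_toFinset, Set.ncard_coe_finset,
    List.toFinset_card_of_nodup (by clear inj; revert i; decide)]

theorem L3_eq : gen σ L3 = L0 := le_antisymm (gen_mono (by decide)) (gen_le.2 fun c hc => by
  rcases (show ∀ c ∈ 2 :: EL, c ∈ L3 ∨ c = 11 ∨ c = 12 by decide) c hc with h | rfl | rfl
  · exact mem_gen h
  all_goals rw [σ_def]; exact ev_mem_gen (by decide +kernel))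

theorem ev_ι {w : List ℕ} (h : ∀ c ∈ w, c ∈ L3) : ev σ w = ι (ev PY.e w) := by
  rw [map_ev]
  exact ev_congr fun c hc => σ_lt ((show ∀ c ∈ L3, c < 11 by decide) c (h c hc))

theorem σ11_ι : σ 11 = ι (ev PY.e [6, 5, 0, 1, 2, 3, 8] ^ 9) := by
  rw [σ_def, ← ev_powW]; exact ev_ι (by decide +kernel)

theorem fin_of {E : Type*} [Group E] (φ : L0 →* E) (hs : Function.Surjective φ)
    (hk : φ.ker = (gen e Br.BL).normalCore)
    (hE : 2 * Nat.card E = 3968055 * (2 ^ 20 * 36787322880)) :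
    ∀ x, φ x = 1 ↔ x = 1 ∨ x = e 0 := by
  have := L0_bd.1
  have c : Nat.card φ.ker = 2 := by
    have a := Subgroup.card_mul_index φ.ker
    rw [Subgroup.index_ker, MonoidHom.range_eq_top.2 hs, Subgroup.card_top, card_L0, ← hE] at a
    exact Nat.eq_of_mul_eq_mul_right (by omega) a
  have m : e 0 ∈ φ.ker := hk ▸ fun g => by
    have : g * e 0 = e 0 * g := Subtype.ext (by
      change g.1 * eT 0 = eT 0 * g.1
      rw [eT0, σ11_comm g.2])
    rw [this, mul_inv_cancel_right]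
    exact mem_gen (by decide)
  have n : e 0 ≠ 1 := fun h => σ11_ne (eT0.symm.trans (congrArg Subtype.val h))
  refine fun x => ⟨fun h => ?_, by rintro (rfl | rfl); exacts [map_one φ, m]⟩
  obtain ⟨y, -, hy⟩ := (Nat.card_eq_two_iff' (1 : φ.ker)).1 c
  by_contra! k
  exact k.2 (congrArg Subtype.val ((hy ⟨x, h⟩ fun a => k.1 (congrArg Subtype.val a)).trans
    (hy ⟨_, m⟩ fun a => n (congrArg Subtype.val a)).symm))

theorem dict_of {E : Type*} [Group E] (φ : L0 →* E) (hs : Function.Surjective φ)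
    (hk : ∀ x, φ x = 1 ↔ x = 1 ∨ x = e 0) :
    ∃ n : ℕ → E, gen n L3 = ⊤ ∧ ∀ w, (∀ c ∈ w, c ∈ L3) →
      (ev n w = 1 ↔ ev PY.e w = 1 ∨ ev PY.e w = ev PY.e [6, 5, 0, 1, 2, 3, 8] ^ 9) := by
  let s : ℕ → L0 := fun c => if h : c ∈ L3 then ⟨σ c, L3_eq.le (mem_gen h)⟩ else 1
  have s1 : ∀ c ∈ L3, L0.subtype (s c) = σ c := fun c hc => by simp [s, hc]
  refine ⟨fun c => φ (s c), ?_, fun w hw => ?_⟩
  · have : gen s L3 = ⊤ := Subgroup.map_injective L0.subtype_injective (by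
      rw [map_gen, gen_congr s1, L3_eq, ← MonoidHom.range_eq_map, Subgroup.range_subtype])
    rw [← map_gen, this, ← MonoidHom.range_eq_map, MonoidHom.range_eq_top.2 hs]
  · have a : L0.subtype (ev s w) = ι (ev PY.e w) := by
      rw [map_ev, ev_congr fun c hc => s1 c (hw c hc), ev_ι hw]
    rw [← map_ev, hk, ← L0.subtype_injective.eq_iff, ← L0.subtype_injective.eq_iff (b := e 0), a, map_one,
      show L0.subtype (e 0) = _ from eT0.trans σ11_ι, ι_inj.eq_iff, map_eq_one_iff _ ι_inj]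

/-- The group is a double cover of `²E₆(2)`. -/
theorem cover (K : Type) [Field K] [Fintype K] (hK : Fintype.card K = 4) :
    ∃ φ : L0 →* Cfsg.Lie.twistedE6 K 2, Function.Surjective φ ∧ ∀ x, φ x = 1 ↔ x = 1 ∨ x = e 0 := by
  have := L0_bd.1
  obtain ⟨φ, hs, hk⟩ := dat.hom perfect hE (cardU 0) (cardU 1) (cardU 2) (cardU 3) K hK
  refine ⟨φ, hs, fin_of φ hs hk ?_⟩
  have := Cfsg.Agent.S1066.result Nat.prime_two.isPrimePow hK
  norm_num at this
  omega

theorem dict (K : Type) [Field K] [Fintype K] (hK : Fintype.card K = 4) :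
    ∃ n : ℕ → Cfsg.Lie.twistedE6 K 2, gen n L3 = ⊤ ∧ ∀ w, (∀ c ∈ w, c ∈ L3) →
      (ev n w = 1 ↔ ev PY.e w = 1 ∨ ev PY.e w = ev PY.e [6, 5, 0, 1, 2, 3, 8] ^ 9) := by
  obtain ⟨φ, hs, hk⟩ := cover K hK
  exact dict_of φ hs hk

end H3.BN3
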