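import Mathlib
import Cfsg.Agent.H3.TA0

/-! Abelian TI subgroups: the setting, and pairs of points. -/

set_option autoImplicit false
set_option linter.unusedSectionVars false
set_option linter.unusedVariables false

namespace H3
namespace TA

open H24 H26 Subgroup MulAction Cfsg

universe u

variable {G : Type u} [Group G] [Finite G] {Δ : Set (Subgroup G)}
  {A B D E F K X Y : Subgroup G} {a b c d e g s t u v w x y z : G}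

/-- the class of an abelian TI subgroup, normal in a maximal `2`-local of characteristic two,
neither cyclic nor elementary -/
structure St (Δ : Set (Subgroup G)) : Prop where
  cjm : ∀ A ∈ Δ, ∀ g, cj g A ∈ Δ
  tr : ∀ A ∈ Δ, ∀ B ∈ Δ, ∃ g, cj g A = B
  ti : ∀ A ∈ Δ, ∀ B ∈ Δ, ∀ x ∈ A, x ∈ B → x ≠ 1 → A = B
  abl : ∀ A ∈ Δ, Abl A
  two : ∀ A ∈ Δ, IsPi {2} A
  four : ∀ A ∈ Δ, ∃ u ∈ Om A, ∃ w ∈ Om A, u ≠ 1 ∧ w ≠ 1 ∧ u ≠ w
  nel : ∀ A ∈ Δ, ∃ a ∈ A, a * a ≠ 1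
  max : ∀ A ∈ Δ, ∀ X : Subgroup G, IsPi {2} X → X ≠ ⊥ → N[A] ≤ N[X] → N[X] ≤ N[A]
  ch2 : ∀ A ∈ Δ, N[A] ⊓ C[O[{2}, N[A]]] ≤ O[{2}, N[A]]
  o2 : O[{2}, (⊤ : Subgroup G)] = ⊥

theorem act_eq (hx : x ∈ N[E]) (hy : y ∈ N[E]) (h : cs C[E] x = cs C[E] y) (he : e ∈ E) :
    x * e * x⁻¹ = y * e * y⁻¹ := by
  have h1 := (cs_eq_cs (N_le_NC E hx) (N_le_NC E hy)).1 h
  have h2 := conj_eq_of_mem_C h1 he
  calc x * e * x⁻¹ = x * (x⁻¹ * y * e * (x⁻¹ * y)⁻¹) * x⁻¹ := by rw [h2]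
    _ = _ := by group

theorem csm (hx : x ∈ N[K]) (hy : y ∈ N[K]) : cs K (x * y) = cs K x * cs K y := ap_mul _ hx hy

theorem csc (hx : x ∈ N[K]) (hy : y ∈ N[K]) : cs K (x * y * x⁻¹) = cs K x * cs K y * (cs K x)⁻¹ :=
  ap_conj _ hx hy

theorem csp (hx : x ∈ N[K]) (n : ℕ) : cs K (x ^ n) = cs K x ^ n := ap_pow _ hx n

theorem mem_C_cj (hx : x ∈ N[E]) (hc : c ∈ C[E]) : x * c * x⁻¹ ∈ C[E] :=
  conj_mem (N_le_NC E hx) hc

namespace St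

variable (h : St Δ)
include h

theorem comm (hA : A ∈ Δ) (hx : x ∈ A) (hy : y ∈ A) : x * y = y * x := (h.abl A hA).comm hx hy

theorem sq (hA : A ∈ Δ) (hx : x ∈ Om A) : x * x = 1 := sq_of_Om (h.abl A hA) hx

theorem inv (hA : A ∈ Δ) (hx : x ∈ Om A) : x⁻¹ = x := inv_of_sq (h.sq hA hx)

theorem cj_eq (hA : A ∈ Δ) (hB : B ∈ Δ) (ha : a ∈ A) (h1 : a ≠ 1) (hg : g * a * g⁻¹ ∈ B) :
    cj g A = B :=
  h.ti _ (h.cjm A hA g) _ hB _ (conj_mem_cj g ha) hg (cj_ne g h1)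

theorem N_of_comm (hA : A ∈ Δ) (ha : a ∈ A) (h1 : a ≠ 1) (hg : g * a = a * g) : g ∈ N[A] :=
  mem_N_iff_cj.2 (h.cj_eq hA hA ha h1 (by rw [cj_of_comm hg]; exact ha))

theorem eq_one (hA : A ∈ Δ) (hB : B ∈ Δ) (hne : A ≠ B) (ha : x ∈ A) (hb : x ∈ B) : x = 1 := by
  by_contra h1
  exact hne (h.ti A hA B hB x ha hb h1)

theorem inf_bot (hA : A ∈ Δ) (hB : B ∈ Δ) (hne : A ≠ B) : A ⊓ B = ⊥ :=
  eq_bot_iff.2 fun _ hx => h.eq_one hA hB hne hx.1 hx.2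

theorem ex1 (hA : A ∈ Δ) : ∃ u ∈ Om A, u ≠ 1 := by
  obtain ⟨u, hu, -, -, h1, -⟩ := h.four A hA
  exact ⟨u, hu, h1⟩

theorem ex_ne (hA : A ∈ Δ) (x : G) : ∃ u ∈ Om A, u ≠ 1 ∧ u ≠ x := by
  obtain ⟨u, hu, w, hw, h1, h2, h3⟩ := h.four A hA
  by_cases e : u = x
  · exact ⟨w, hw, h2, fun e' => h3 (e.trans e'.symm)⟩
  · exact ⟨u, hu, h1, e⟩

theorem C_Om_le (hA : A ∈ Δ) : C[Om A] ≤ N[A] := fun g hg => by
  obtain ⟨u, hu, h1⟩ := h.ex1 hA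
  exact h.N_of_comm hA (Om_le A hu) h1 (mem_C'.1 hg u hu)

theorem le_C_Om (hA : A ∈ Δ) : A ≤ C[Om A] := (h.abl A hA).cents le_rfl (Om_le A)

theorem Om_C (hA : A ∈ Δ) : Om A ≤ C[Om A] := (Om_le A).trans (h.le_C_Om hA)

theorem Om_C' (hA : A ∈ Δ) : Om A ≤ C[A] := cents_symm (h.le_C_Om hA)

theorem ne_bot (hA : A ∈ Δ) : A ≠ ⊥ := by
  obtain ⟨u, hu, h1⟩ := h.ex1 hA
  exact ne_bot_of_mem (Om_le A hu) h1

theorem Om_ne_bot (hA : A ∈ Δ) : Om A ≠ ⊥ := by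
  obtain ⟨u, hu, h1⟩ := h.ex1 hA
  exact ne_bot_of_mem hu h1

theorem Om_two (hA : A ∈ Δ) : IsPi {2} (Om A) := (h.two A hA).of_le (Om_le A)

theorem card_eq (hA : A ∈ Δ) (hB : B ∈ Δ) : ♯A = ♯B := by
  obtain ⟨g, rfl⟩ := h.tr A hA B hB
  rw [card_cj]

theorem card_Om (hA : A ∈ Δ) (hB : B ∈ Δ) : ♯(Om A) = ♯(Om B) := by
  obtain ⟨g, rfl⟩ := h.tr A hA B hB
  rw [← cj_Om, card_cj]

theorem isTI (hA : A ∈ Δ) : H6.IsTI A := fun g => by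
  by_cases e : cj g A = A
  · exact Or.inl e
  · exact Or.inr (h.inf_bot (h.cjm A hA g) hA e)

theorem le_O2 (hA : A ∈ Δ) : A ≤ O[{2}, N[A]] := pcore_max (h.two A hA) (nml_N A)

theorem eq_of_N (hA : A ∈ Δ) (hB : B ∈ Δ) (e : N[A] = N[B]) : A = B := by
  obtain ⟨g, rfl⟩ := h.tr A hA B hB
  have h1 : g ∈ N[N[A]] := by rw [mem_N_iff_cj, cj_N, ← e]
  have h2 := h.max A hA _ (pcore_pi {2} N[A]) (ne_bot_of_le (h.ne_bot hA) (h.le_O2 hA))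
    (pcore_nml _ _).norm (N_le_N_pcore _ _ h1)
  exact (cj_of_mem_N h2).symm

theorem eq_of_norm (hA : A ∈ Δ) (hB : B ∈ Δ) (hX : IsPi {2} X) (h1 : X ≠ ⊥) (h2 : N[A] ≤ N[X])
    (h3 : N[B] ≤ N[X]) : A = B :=
  h.eq_of_N hA hB (le_antisymm (h2.trans (h.max B hB X hX h1 h3)) (h3.trans (h.max A hA X hX h1 h2)))

/-- normal subgroups of `N(A)` meet `O₂` -/
theorem O2_ne_bot (hA : A ∈ Δ) (hK : K ⊴ N[A]) (h1 : K ≠ ⊥) : O[{2}, K] ≠ ⊥ := fun e => by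
  have h2 : O[{2}, N[A]] ⊓ K = ⊥ := by rw [pcore_inf_nml _ hK, e]
  have h3 : K ≤ C[O[{2}, N[A]]] := cents_symm (cents_of_inf_eq_bot
    ((pcore_le _ _).trans hK.norm) (hK.le.trans (pcore_nml _ _).norm) h2)
  exact h1 (eq_bot_of_le h2 (le_inf ((le_inf hK.le h3).trans (h.ch2 A hA)) le_rfl))

/-- squares of a point normalising another one -/
theorem sq_mem_O2 (hA : A ∈ Δ) (hB : B ∈ Δ) (hle : B ≤ N[A]) (hb : b ∈ B) :
    b * b ∈ O[{2}, N[A]] := by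
  have hC : centralizer (pCore 2 ↥N[A] : Set ↥N[A]) ≤ pCore 2 ↥N[A] := fun x hx => by
    have h1 : (x : G) ∈ O[{2}, N[A]] := h.ch2 A hA ⟨x.2, by
      rw [pcore_singleton Nat.prime_two]
      rintro _ ⟨y, hy, rfl⟩
      exact congrArg Subtype.val (hx y hy)⟩
    rw [pcore_singleton Nat.prime_two] at h1
    obtain ⟨y, hy, e⟩ := h1
    exact (Subtype.ext e : y = x) ▸ hy
  have hti : H6.IsTI (B.subgroupOf N[A]) := fun g => by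
    by_cases e : cj (g : G) B = B
    · left
      refine mem_N_iff_cj.1 (mem_N_of_finite fun x hx => ?_)
      exact conj_mem (mem_N_iff_cj.2 e) (x := (x : G)) hx
    · right
      refine eq_bot_iff.2 fun x hx => Subtype.ext (h.eq_one (h.cjm B hB g) hB e ?_ hx.2)
      obtain ⟨y, hy, rfl⟩ := mem_cj'.1 hx.1
      exact conj_mem_cj (g : G) (x := (y : G)) hy
  have := H6.sq_mem_pCore_of_ti hC ((isPi_subgroupOf (h.two B hB) _).isPGroup Nat.prime_two)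
    ((h.abl B hB).subgroupOf _) hti (a := ⟨b, hle hb⟩) hb
  rw [pcore_singleton Nat.prime_two]
  exact ⟨_, this, by simp [pow_two]⟩

theorem dih_key (hA : A ∈ Δ) (hB : B ∈ Δ) (hE : Abl E) (h2 : ∀ x ∈ E, x * x = 1)
    (hs : s ∈ N[E]) (ht : t ∈ N[E]) (hs2 : s * s ∈ C[E]) (ht2 : t * t ∈ C[E])
    (hsA : ∀ e ∈ E, s * e = e * s ↔ e ∈ A) (htB : ∀ e ∈ E, t * e = e * t ↔ e ∈ B)
    (ha : a ∈ E) (haA : a ∈ A) (h1 : a ≠ 1) {m : ℕ} (hz : (s * t) ^ m * (s * t) ^ m ∈ C[E])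
    (he : e ∈ E) (heA : e ∈ A) : (s * t) ^ m * e = e * (s * t) ^ m := by
  have hN := N_le_NC E
  have ks : cs C[E] s * cs C[E] s = 1 := by rw [← csm (hN hs) (hN hs)]; exact cs_of_mem hs2
  have kt : cs C[E] t * cs C[E] t = 1 := by rw [← csm (hN ht) (hN ht)]; exact cs_of_mem ht2
  have hp : ∀ k : ℕ, (s * t) ^ k ∈ N[E] := fun k => pow_mem (mul_mem hs ht) k
  have kp : ∀ k : ℕ, cs C[E] ((s * t) ^ k) = (cs C[E] s * cs C[E] t) ^ k := fun k => by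
    rw [← csm (hN hs) (hN ht), ← csp (hN (mul_mem hs ht))]
  set z := (s * t) ^ m with hzd
  have hzN : z ∈ N[E] := hp m
  have hr : z * s ∈ N[E] := mul_mem hzN hs
  have kz : cs C[E] z * cs C[E] z = 1 := by
    rw [← csm (hN hzN) (hN hzN)]; exact cs_of_mem hz
  have k1 : cs C[E] (s * z * s⁻¹) = cs C[E] z := by
    rw [csc (hN hs) (hN hzN), kp, dih_refl ks kt, ← kp, inv_of_sq kz]
  obtain ⟨D, hD, x, hx, r, hrN, hr2, hrD, k2⟩ : ∃ D ∈ Δ, ∃ x ∈ N[E], ∃ r ∈ N[E],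
      cs C[E] r * cs C[E] r = 1 ∧ (∀ e ∈ E, r * e = e * r ↔ e ∈ D) ∧
        cs C[E] (z * s) = cs C[E] (x * r * x⁻¹) := by
    obtain ⟨k, hk | hk⟩ := dih_conj ks kt m
    · exact ⟨A, hA, _, hp k, s, hs, ks, hsA, by
        rw [csc (hN (hp k)) (hN hs), csm (hN hzN) (hN hs), kp, kp, hk]⟩
    · exact ⟨B, hB, _, hp k, t, ht, kt, htB, by
        rw [csc (hN (hp k)) (hN ht), csm (hN hzN) (hN hs), kp, kp, hk]⟩
  have hxr : x * r * x⁻¹ ∈ N[E] := mul_mem (mul_mem hx hrN) (inv_mem hx)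
  have k3 : ∀ e ∈ E, z * s * e = e * (z * s) ↔ e ∈ cj x D := fun e he => by
    rw [mem_cj, ← hrD _ (conj_mem' hx he)]
    have := act_eq hr hxr k2 he
    constructor
    · intro h0
      rw [cj_of_comm h0] at this
      calc r * (x⁻¹ * e * x) = x⁻¹ * (x * r * x⁻¹ * e * (x * r * x⁻¹)⁻¹) * x * r := by group
        _ = _ := by rw [← this]
    · intro h0
      refine comm_of_cj (this.trans ?_)
      calc x * r * x⁻¹ * e * (x * r * x⁻¹)⁻¹ = x * (r * (x⁻¹ * e * x)) * r⁻¹ * x⁻¹ := by group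
        _ = e := by rw [h0]; group
  have k4 : z * s ∈ N[E ⊓ A] := mem_N_of_finite fun e he => ⟨conj_mem hr he.1, by
    have h3 : s * e * s⁻¹ = e := cj_of_comm ((hsA e he.1).2 he.2)
    have h4 : z * s * e * (z * s)⁻¹ = z * e * z⁻¹ := by
      conv_rhs => rw [← h3]
      group
    rw [h4]
    refine (hsA _ (conj_mem hzN he.1)).1 (comm_of_cj ?_)
    calc _ = s * z * s⁻¹ * (s * e * s⁻¹) * (s * z * s⁻¹)⁻¹ := by group
      _ = _ := by rw [h3, act_eq (mul_mem (mul_mem hs hzN) (inv_mem hs)) hzN k1 he.1]⟩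
  have k5 : z * s * (z * s) ∈ C[E] := by
    rw [← cs_eq_one (hN (mul_mem hr hr)), csm (hN hr) (hN hr), k2, csc (hN hx) (hN hrN)]
    exact cj_sq _ hr2
  obtain ⟨y, hy, hy1, hyc⟩ := exists_fix (hE.of_le inf_le_left) (fun x hx => h2 x hx.1) k4
    (C_anti inf_le_left k5) (x := a) ⟨ha, haA⟩ h1
  have k6 : cj x D = A := h.ti _ (h.cjm D hD x) _ hA y ((k3 y hy.1).1 hyc) hy.2 hy1
  have k7 := (k3 e he).2 (k6 ▸ heA)
  rw [mul_assoc, (hsA e he).2 heA, ← mul_assoc, ← mul_assoc] at k7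
  exact mul_right_cancel k7

/-- the dihedral lemma -/
theorem dihE (hA : A ∈ Δ) (hB : B ∈ Δ) (hE : Abl E) (h2 : ∀ x ∈ E, x * x = 1)
    (hg : ∀ e ∈ E, ∃ a ∈ E, ∃ b ∈ E, a ∈ A ∧ b ∈ B ∧ e = a * b)
    (hs : s ∈ N[E]) (ht : t ∈ N[E]) (hs2 : s * s ∈ C[E]) (ht2 : t * t ∈ C[E])
    (hsA : ∀ e ∈ E, s * e = e * s ↔ e ∈ A) (htB : ∀ e ∈ E, t * e = e * t ↔ e ∈ B)
    (ha : a ∈ E) (haA : a ∈ A) (ha1 : a ≠ 1) (hb : b ∈ E) (hbB : b ∈ B) (hb1 : b ≠ 1) :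
    ∃ k : ℕ, cj ((s * t) ^ k) B = A ∧ ((s * t) ^ k * t * ((s * t) ^ k)⁻¹)⁻¹ * s ∈ C[E] := by
  have hN := N_le_NC E
  have ks : cs C[E] s * cs C[E] s = 1 := by rw [← csm (hN hs) (hN hs)]; exact cs_of_mem hs2
  have kt : cs C[E] t * cs C[E] t = 1 := by rw [← csm (hN ht) (hN ht)]; exact cs_of_mem ht2
  have hp : ∀ {s t : G}, s ∈ N[E] → t ∈ N[E] → ∀ k : ℕ, (s * t) ^ k ∈ N[E] :=
    fun hs ht k => pow_mem (mul_mem hs ht) k
  have kp : ∀ {s t : G}, s ∈ N[E] → t ∈ N[E] → ∀ k : ℕ,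
      cs C[E] ((s * t) ^ k) = (cs C[E] s * cs C[E] t) ^ k := fun hs ht k => by
    rw [← csm (hN hs) (hN ht), ← csp (hN (mul_mem hs ht))]
  rcases dih_abs ks kt with ⟨k, hk⟩ | ⟨m, hm1, hm⟩
  · have hx := hp hs ht k
    have hxt : (s * t) ^ k * t * ((s * t) ^ k)⁻¹ ∈ N[E] := mul_mem (mul_mem hx ht) (inv_mem hx)
    have k1 : cs C[E] ((s * t) ^ k * t * ((s * t) ^ k)⁻¹) = cs C[E] s := by
      rw [csc (hN hx) (hN ht), kp hs ht, hk]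
    refine ⟨k, h.cj_eq hB hA hbB hb1 ?_, (cs_eq_cs (hN hxt) (hN hs)).1 k1⟩
    refine (hsA _ (conj_mem hx hb)).1 (comm_of_cj ?_)
    rw [← act_eq hxt hs k1 (conj_mem hx hb)]
    calc _ = (s * t) ^ k * (t * b * t⁻¹) * ((s * t) ^ k)⁻¹ := by group
      _ = _ := by rw [cj_of_comm ((htB b hb).2 hbB)]
  · exfalso
    have e1 : (cs C[E] t * cs C[E] s) ^ m = (cs C[E] s * cs C[E] t) ^ m := by
      rw [← inv_of_sq hm, ← inv_pow, mul_inv_rev, inv_of_sq ks, inv_of_sq kt]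
    have z1 : (s * t) ^ m * (s * t) ^ m ∈ C[E] := by
      rw [← cs_eq_one (hN (mul_mem (hp hs ht m) (hp hs ht m))),
        csm (hN (hp hs ht m)) (hN (hp hs ht m)), kp hs ht, hm]
    have z2 : (t * s) ^ m * (t * s) ^ m ∈ C[E] := by
      rw [← cs_eq_one (hN (mul_mem (hp ht hs m) (hp ht hs m))),
        csm (hN (hp ht hs m)) (hN (hp ht hs m)), kp ht hs, e1, hm]
    apply hm1
    rw [← kp hs ht]
    refine cs_of_mem (mem_C'.2 fun e he => ?_)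
    obtain ⟨x, hx, y, hy, hxA, hyB, rfl⟩ := hg e he
    have c1 := h.dih_key hA hB hE h2 hs ht hs2 ht2 hsA htB ha haA ha1 z1 hx hxA
    have c2 := h.dih_key hB hA hE h2 ht hs ht2 hs2 htB hsA hb hbB hb1 z2 hy hyB
    have c3 : (s * t) ^ m * y = y * (s * t) ^ m := comm_of_cj (by
      rw [act_eq (hp hs ht m) (hp ht hs m) (by rw [kp hs ht, kp ht hs, e1]) hy, cj_of_comm c2])
    rw [← mul_assoc, c1, mul_assoc, c3, mul_assoc]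

end St

end TA
end H3
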