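import Mathlib
import Cfsg.Agent.H3.TA1

/-! Abelian TI subgroups: special pairs of points. -/

set_option autoImplicit false
set_option linter.unusedSectionVars false
set_option linter.unusedVariables false

namespace H3
namespace TA

open H24 H26 Subgroup MulAction Cfsg

universe u

variable {G : Type u} [Group G] [Finite G] {Δ : Set (Subgroup G)}
  {A B D E F K X Y : Subgroup G} {a b c d e g s t u v w x y z : G}

/-- non-commuting points, one meeting the normaliser of the other -/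
structure NC (Δ : Set (Subgroup G)) (A B : Subgroup G) : Prop where
  st : St Δ
  mA : A ∈ Δ
  mB : B ∈ Δ
  nc : ¬ A ≤ C[B]
  ex : ∃ a ∈ A, a ≠ 1 ∧ a ∈ N[B]

namespace NC

variable (h : NC Δ A B)
include h

theorem ne : A ≠ B := fun e => h.nc (e ▸ (h.st.abl A h.mA).le_C)

theorem cm (hu : u ∈ A) (hu' : u ∈ N[B]) (hw : w ∈ B) (hw' : w ∈ N[A]) : u * w = w * u :=
  H6.mul_comm_of_normalizes (h.st.inf_bot h.mA h.mB h.ne) hu hw hu' hw'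

theorem symm : NC Δ B A := by
  refine ⟨h.st, h.mB, h.mA, fun e => h.nc (cents_symm e), ?_⟩
  obtain ⟨a, ha, h1, hN⟩ := h.ex
  obtain ⟨w, hw, hw1⟩ := exists_ne_one (IsPi.inf_C_ne_bot Nat.prime_two
    ((h.st.two A h.mA).of_le (zpowers_le.2 ha)) (h.st.two B h.mB) (zpowers_le.2 hN)
    (h.st.ne_bot h.mB))
  exact ⟨w, hw.1, hw1, h.st.N_of_comm h.mA ha h1 (mem_C'.1 hw.2 a (mem_zpowers a))⟩

theorem el (hu : u ∈ A) (hu' : u ∈ N[B]) : u * u = 1 := by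
  rcases H6.elementary_or_commute_of_ti ((h.st.two A h.mA).isPGroup Nat.prime_two)
    ((h.st.two B h.mB).isPGroup Nat.prime_two) (h.st.abl A h.mA) (h.st.abl B h.mB)
    (h.st.isTI h.mA) (h.st.isTI h.mB) (h.st.inf_bot h.mA h.mB h.ne)
    (h.st.card_eq h.mA h.mB).le with e | e
  · rw [← pow_two]; exact e.2 u ⟨hu, hu'⟩
  · exact absurd (comm_eq_bot.1 e) h.nc

/-- the norm of `x ∈ A` under `w` -/
theorem nrm (hw : w ∈ B) (hw' : w ∈ N[A]) (h1 : w ≠ 1) (hx : x ∈ A) :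
    x * (w * x * w⁻¹) ∈ N[B] := by
  refine h.st.N_of_comm h.mB hw h1 (comm_of_cj ?_).symm
  calc w * (x * (w * x * w⁻¹)) * w⁻¹ = w * x * w⁻¹ * (w * w * x * (w * w)⁻¹) := by group
    _ = _ := by
      rw [h.symm.el hw hw', h.st.comm h.mA hx (conj_mem hw' hx)]; group

theorem sq_inv (hw : w ∈ B) (hw' : w ∈ N[A]) (h1 : w ≠ 1) (hx : x ∈ A) :
    w * (x * x) * w⁻¹ = (x * x)⁻¹ := by
  have h2 := h.el (mul_mem hx (conj_mem hw' hx)) (h.nrm hw hw' h1 hx)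
  have h3 := h.st.comm h.mA hx (conj_mem hw' hx)
  refine eq_inv_of_mul_eq_one_right ?_
  calc x * x * (w * (x * x) * w⁻¹) = x * (x * (w * x * w⁻¹)) * (w * x * w⁻¹) := by group
    _ = 1 := by rw [h3, ← h2]; group

theorem ex2 : ∃ u ∈ A, ∃ v ∈ A, u ∈ N[B] ∧ v ∈ N[B] ∧ u ≠ 1 ∧ v ≠ 1 ∧ u ≠ v := by
  obtain ⟨u, hu, hu1, huN⟩ := h.ex
  by_contra hn
  have key : ∀ v ∈ A, v ∈ N[B] → v ≠ 1 → v = u := fun v hv hv' h1 => by
    by_contra e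
    exact hn ⟨v, hv, u, hu, hv', huN, h1, hu1, e⟩
  obtain ⟨w, hw, hw1, hwN⟩ := h.symm.ex
  have fx : ∀ x ∈ A, w * x * w⁻¹ = x → x ∈ N[B] := fun x hx e =>
    h.st.N_of_comm h.mB hw hw1 (comm_of_cj e).symm
  obtain ⟨v, hv, hv1, hvu⟩ := h.st.ex_ne h.mA u
  have hvA := Om_le A hv
  have hv2 := h.st.sq h.mA hv
  have e1 : v * (w * v * w⁻¹) = u := key _ (mul_mem hvA (conj_mem hwN hvA)) (h.nrm hw hwN hw1 hvA)
    fun e => hvu (key v hvA (fx v hvA (by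
      rw [← inv_eq_of_mul_eq_one_right e, inv_of_sq hv2])) hv1)
  obtain ⟨x, hx, hx2⟩ := h.st.nel A h.mA
  obtain ⟨k, hk⟩ := exists_pow_two (h.st.two A h.mA) hx
  obtain ⟨j, hj1, hj2⟩ := H6.exists_orderFour hk (by rwa [pow_two])
  set a := x ^ 2 ^ j
  have ha : a ∈ A := pow_mem hx _
  rw [pow_two] at hj1
  have ha4 : a * a * (a * a) = 1 := by rw [← hj2]; simp only [pow_succ, pow_zero, one_mul, mul_assoc]
  have e2 : a * a = u := key _ (mul_mem ha ha)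
    (fx _ (mul_mem ha ha) (by rw [h.sq_inv hw hwN hw1 ha, inv_of_sq ha4])) hj1
  have e3 : ∀ b ∈ A, b * b = u → b * (w * b * w⁻¹) ≠ u := fun b hb e e' => by
    have := h.el hb (fx b hb (mul_left_cancel (e'.trans e.symm)))
    exact hu1 (e.symm.trans this)
  have e4 : a * (w * a * w⁻¹) = 1 := by
    by_contra e
    exact e3 a ha e2 (key _ (mul_mem ha (conj_mem hwN ha)) (h.nrm hw hwN hw1 ha) e)
  refine e3 (a * v) (mul_mem ha hvA) ?_ ?_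
  · calc a * v * (a * v) = a * (v * a) * v := by group
      _ = a * a * (v * v) := by rw [h.st.comm h.mA hvA ha]; group
      _ = u := by rw [hv2, e2, mul_one]
  · calc a * v * (w * (a * v) * w⁻¹) = a * (v * (w * a * w⁻¹)) * (w * v * w⁻¹) := by group
      _ = a * (w * a * w⁻¹) * (v * (w * v * w⁻¹)) := by
        rw [h.st.comm h.mA hvA (conj_mem hwN ha)]; group
      _ = u := by rw [e4, e1, one_mul]

theorem ex4 (hx : x ∈ A) : x * x * (x * x) = 1 := by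
  obtain ⟨u, hu, v, hv, huN, hvN, hu1, hv1, huv⟩ := h.symm.ex2
  have h1 : u * v ≠ 1 := fun e => huv (by
    rw [← inv_eq_of_mul_eq_one_right e, inv_of_sq (h.symm.el hu huN)])
  have h2 := h.sq_inv (mul_mem hu hv) (mul_mem huN hvN) h1 hx
  have h3 : u * v * (x * x) * (u * v)⁻¹ = x * x := by
    calc _ = u * (v * (x * x) * v⁻¹) * u⁻¹ := by group
      _ = (u * (x * x) * u⁻¹)⁻¹ := by rw [h.sq_inv hv hvN hv1 hx]; group
      _ = _ := by rw [h.sq_inv hu huN hu1 hx, inv_inv]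
  exact mul_eq_one_iff_eq_inv.2 (h3.symm.trans h2)

theorem comm_mem (hw : w ∈ B) (hw' : w ∈ N[A]) (hx : x ∈ A) : x * w * x⁻¹ * w⁻¹ ∈ N[B] := by
  by_cases h1 : w = 1
  · simp [h1]
  have h2 : x * x ∈ N[B] := h.st.N_of_comm h.mB hw h1 (comm_of_cj (by
    rw [h.sq_inv hw hw' h1 hx, inv_of_sq (h.ex4 hx)])).symm
  have h3 := h.nrm hw hw' h1 (inv_mem hx)
  have : x * w * x⁻¹ * w⁻¹ = x * x * (x⁻¹ * (w * x⁻¹ * w⁻¹)) := by group
  rw [this]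
  exact mul_mem h2 h3

theorem memE : e ∈ (A ⊓ N[B]) ⊔ (B ⊓ N[A]) ↔
    ∃ u ∈ A ⊓ N[B], ∃ w ∈ B ⊓ N[A], e = u * w :=
  mem_sup_of_norm (norm_of_cent (le_C_iff.2 fun w hw u hu => (h.cm hu.1 hu.2 hw.1 hw.2).symm))

theorem normE : A ≤ N[(A ⊓ N[B]) ⊔ (B ⊓ N[A])] := le_N_iff.2 fun x hx e he => by
  obtain ⟨u, hu, w, hw, rfl⟩ := h.memE.1 he
  have : x * (u * w) * x⁻¹ = u * (x * w * x⁻¹ * w⁻¹) * w := by
    rw [cj_mul', cj_of_comm (h.st.comm h.mA hx hu.1)]; group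
  rw [this]
  refine mul_mem (mem_sup_left (mul_mem hu ⟨?_, h.comm_mem hw.1 hw.2 hx⟩)) (mem_sup_right hw)
  have := mul_mem hx (conj_mem hw.2 (inv_mem hx))
  show _ ∈ A
  simpa only [mul_assoc] using this

theorem centE (hx : x ∈ A) (hn : x ∉ N[B]) (he : e ∈ (A ⊓ N[B]) ⊔ (B ⊓ N[A])) :
    x * e = e * x ↔ e ∈ A := by
  refine ⟨fun hc => ?_, fun hA => h.st.comm h.mA hx hA⟩
  obtain ⟨u, hu, w, hw, rfl⟩ := h.memE.1 he
  rw [← mul_assoc, h.st.comm h.mA hx hu.1, mul_assoc, mul_assoc] at hc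
  by_cases h1 : w = 1
  · rw [h1, mul_one]; exact hu.1
  · exact absurd (h.st.N_of_comm h.mB hw.1 h1 (mul_left_cancel hc)) hn

theorem sqE (hx : x ∈ A) : x * x ∈ C[(A ⊓ N[B]) ⊔ (B ⊓ N[A])] := by
  obtain ⟨w, hw, h1, hw'⟩ := h.symm.ex
  have h2 : x * x ∈ N[B] := h.st.N_of_comm h.mB hw h1 (comm_of_cj (by
    rw [h.sq_inv hw hw' h1 hx, inv_of_sq (h.ex4 hx)])).symm
  rw [C_sup]
  exact ⟨mem_C'.2 fun u hu => h.st.comm h.mA (mul_mem hx hx) hu.1,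
    mem_C'.2 fun w hw => h.cm (mul_mem hx hx) h2 hw.1 hw.2⟩

theorem Om_le_N : Om A ≤ N[B] := fun v hv => by
  by_contra hn
  obtain ⟨b, hb, hb2⟩ := h.st.nel B h.mB
  have hbN : b ∉ N[A] := fun e => hb2 (h.symm.el hb e)
  obtain ⟨u, hu, hu1, huN⟩ := h.ex
  obtain ⟨w, hw, hw1, hwN⟩ := h.symm.ex
  have hE : Abl ((A ⊓ N[B]) ⊔ (B ⊓ N[A])) := ((h.st.abl A h.mA).of_le inf_le_left).sup
    ((h.st.abl B h.mB).of_le inf_le_left) (le_C_iff.2 fun u hu w hw => h.cm hu.1 hu.2 hw.1 hw.2)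
  have h2 : ∀ x ∈ (A ⊓ N[B]) ⊔ (B ⊓ N[A]), x * x = 1 := fun x hx => by
    obtain ⟨u, hu, w, hw, rfl⟩ := h.memE.1 hx
    calc u * w * (u * w) = u * (w * u) * w := by group
      _ = u * u * (w * w) := by rw [← h.cm hu.1 hu.2 hw.1 hw.2]; group
      _ = 1 := by rw [h.el hu.1 hu.2, h.symm.el hw.1 hw.2, mul_one]
  obtain ⟨k, hk, hc⟩ := h.st.dihE h.mA h.mB hE h2 (fun e he => by
      obtain ⟨u, hu, w, hw, rfl⟩ := h.memE.1 he
      exact ⟨u, mem_sup_left hu, w, mem_sup_right hw, hu.1, hw.1, rfl⟩)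
    (h.normE (Om_le A hv)) (by rw [sup_comm]; exact h.symm.normE hb) (h.sqE (Om_le A hv))
    (by rw [sup_comm]; exact h.symm.sqE hb) (fun e he => h.centE (Om_le A hv) hn he)
    (fun e he => h.symm.centE hb hbN (by rwa [sup_comm])) (mem_sup_left ⟨hu, huN⟩) hu hu1
    (mem_sup_right ⟨hw, hwN⟩) hw hw1
  set x := (v * b) ^ k
  have h3 : x * b * x⁻¹ ∈ A := hk ▸ conj_mem_cj x hb
  have h4 := h.el (mul_mem (inv_mem h3) (Om_le A hv))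
    (h.st.N_of_comm h.mB hw hw1 (mem_C'.1 hc w (mem_sup_right ⟨hw, hwN⟩)))
  have h5 : (x * b * x⁻¹)⁻¹ * v * ((x * b * x⁻¹)⁻¹ * v) = (x * (b * b) * x⁻¹)⁻¹ * (v * v) := by
    calc _ = (x * b * x⁻¹)⁻¹ * (v * (x * b * x⁻¹)⁻¹) * v := by group
      _ = _ := by rw [h.st.comm h.mA (Om_le A hv) (inv_mem h3)]; group
  rw [h5, h.st.sq h.mA hv, mul_one, inv_eq_one] at h4
  exact hb2 (conj_eq_one_iff'.1 h4)

theorem cV : Om A ≤ C[Om B] := le_C_iff.2 fun u hu w hw =>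
  h.cm (Om_le A hu) (h.Om_le_N hu) (Om_le B hw) (h.symm.Om_le_N hw)

end NC

/-- special pairs -/
structure Sp (Δ : Set (Subgroup G)) (A B : Subgroup G) : Prop where
  st : St Δ
  mA : A ∈ Δ
  mB : B ∈ Δ
  nc : ¬ A ≤ C[B]
  cV : Om A ≤ C[Om B]

theorem St.sp_or (h : St Δ) (hA : A ∈ Δ) (hB : B ∈ Δ) (ha : a ∈ A) (h1 : a ≠ 1) (hN : a ∈ N[B]) :
    A ≤ C[B] ∨ Sp Δ A B := by
  by_cases e : A ≤ C[B]
  · exact Or.inl e
  · exact Or.inr ⟨h, hA, hB, e, NC.cV ⟨h, hA, hB, e, a, ha, h1, hN⟩⟩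

theorem St.rel (h : St Δ) (hA : A ∈ Δ) (hB : B ∈ Δ) (ha : a ∈ A) (h1 : a ≠ 1) (hN : a ∈ N[B]) :
    Om A ≤ C[Om B] := by
  rcases h.sp_or hA hB ha h1 hN with e | e
  · exact cents_of_le ((Om_le A).trans e) (Om_le B)
  · exact e.cV

theorem St.rel' (h : St Δ) (hA : A ∈ Δ) (hB : B ∈ Δ) (ha : a ∈ A) (h1 : a ≠ 1) (hb : b ∈ B)
    (h2 : b ≠ 1) (hc : a * b = b * a) : Om A ≤ C[Om B] :=
  h.rel hA hB ha h1 (h.N_of_comm hB hb h2 hc)

theorem St.C_of_le_N (h : St Δ) (hA : A ∈ Δ) (hB : B ∈ Δ) (hN : A ≤ N[B]) : A ≤ C[B] := by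
  by_contra e
  obtain ⟨a, ha, h2⟩ := h.nel A hA
  exact h2 (NC.el ⟨h, hA, hB, e, a, ha, fun e => h2 (by simp [e]), hN ha⟩ ha (hN ha))

theorem St.C_of_cent (h : St Δ) (hA : A ∈ Δ) (hB : B ∈ Δ) (hb : b ∈ B) (h1 : b ≠ 1)
    (hc : b ∈ C[A]) : A ≤ C[B] :=
  h.C_of_le_N hA hB fun a ha => h.N_of_comm hB hb h1 (mem_C.1 hc a ha)

/-- the line through two related points -/
abbrev Ln (A B : Subgroup G) : Subgroup G := Om A ⊔ Om B

theorem Ln_comm (A B : Subgroup G) : Ln A B = Ln B A := sup_comm _ _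

theorem cj_Ln (g : G) (A B : Subgroup G) : cj g (Ln A B) = Ln (cj g A) (cj g B) := by
  rw [cj_sup, cj_Om, cj_Om]

/-- all points have exponent four -/
def Ex4 (Δ : Set (Subgroup G)) : Prop := ∀ D ∈ Δ, ∀ x ∈ D, x * x ∈ Om D

theorem Ex4.cv (h4 : Ex4 Δ) (h : St Δ) (hA : A ∈ Δ) (hc : c ∈ C[Om A]) (ha : a ∈ A) :
    c * a * c⁻¹ * a⁻¹ ∈ Om A := by
  have h1 := conj_mem (h.C_Om_le hA hc) ha
  refine mem_Om' (mul_mem h1 (inv_mem ha)) ?_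
  calc _ = c * a * c⁻¹ * (a⁻¹ * (c * a * c⁻¹)) * a⁻¹ := by group
    _ = c * (a * a) * c⁻¹ * (a * a)⁻¹ := by rw [h.comm hA (inv_mem ha) h1]; group
    _ = 1 := by rw [conj_eq_of_mem_C hc (h4 A hA a ha), mul_inv_cancel]

theorem Ex4.cv' (h4 : Ex4 Δ) (h : St Δ) (hA : A ∈ Δ) (hc : c ∈ C[Om A]) (ha : a ∈ A) :
    a * c * a⁻¹ * c⁻¹ ∈ Om A := by
  have := inv_mem (h4.cv h hA hc ha)
  simpa only [mul_inv_rev, inv_inv, mul_assoc] using this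

theorem Ex4.norm (h4 : Ex4 Δ) (h : St Δ) (hA : A ∈ Δ) (h1 : Om A ≤ F) (h2 : F ≤ C[Om A]) :
    A ≤ N[F] := le_N_iff.2 fun a ha x hx => by
  have := mul_mem (h1 (h4.cv' h hA (h2 hx) ha)) hx
  rwa [inv_mul_cancel_right] at this

theorem Ex4.comm (h4 : Ex4 Δ) (h : St Δ) (hA : A ∈ Δ) (hc : c ∈ C[Om A]) (hd : d ∈ C[Om A]) :
    c * d * c⁻¹ * d⁻¹ ∈ C[A] := by
  have key : ∀ c ∈ C[Om A], ∀ d ∈ C[Om A], ∀ a ∈ A, c * d * a * (c * d)⁻¹ =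
      (d * a * d⁻¹ * a⁻¹) * (c * a * c⁻¹ * a⁻¹) * a := fun c hc d hd a ha => by
    conv_rhs => rw [← conj_eq_of_mem_C hc (h4.cv h hA hd ha)]
    group
  refine mem_C'.2 fun a ha => comm_of_cj ?_
  have ha' := conj_mem' (h.C_Om_le hA (mul_mem hd hc)) ha
  calc _ = c * d * ((d * c)⁻¹ * a * (d * c)) * (c * d)⁻¹ := by group
    _ = d * c * ((d * c)⁻¹ * a * (d * c)) * (d * c)⁻¹ := by
      rw [key c hc d hd _ ha', key d hd c hc _ ha',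
        h.comm hA (Om_le A (h4.cv h hA hd ha')) (Om_le A (h4.cv h hA hc ha'))]
    _ = a := by group

theorem Ex4.sq (h4 : Ex4 Δ) (h : St Δ) (hA : A ∈ Δ) (hc : c ∈ C[Om A]) : c * c ∈ C[A] := by
  refine mem_C'.2 fun a ha => comm_of_cj ?_
  have h1 := h4.cv h hA hc ha
  calc _ = c * (c * a * c⁻¹ * a⁻¹) * c⁻¹ * (c * a * c⁻¹ * a⁻¹) * a := by group
    _ = a := by rw [conj_eq_of_mem_C hc h1, h.sq hA h1, one_mul]

end TA
end H3
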