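import Mathlib
import Cfsg.Agent.H3.TA2

/-! Abelian TI subgroups: lines, and the basic configuration. -/

set_option autoImplicit false
set_option linter.unusedSectionVars false
set_option linter.unusedVariables false

namespace H3
namespace TA

open H24 H26 Subgroup MulAction Cfsg

universe u

variable {G : Type u} [Group G] [Finite G] {Δ : Set (Subgroup G)}
  {A B D E F K P X Y : Subgroup G} {a b c d e g s t u v w x y z : G}

namespace Sp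

variable (h : Sp Δ A B)
include h

theorem symm : Sp Δ B A := ⟨h.st, h.mB, h.mA, fun e => h.nc (cents_symm e), cents_symm h.cV⟩

theorem toNC : NC Δ A B := by
  obtain ⟨u, hu, h1⟩ := h.st.ex1 h.mA
  exact ⟨h.st, h.mA, h.mB, h.nc, u, Om_le A hu, h1, h.st.C_Om_le h.mB (h.cV hu)⟩

theorem ne : A ≠ B := h.toNC.ne

theorem cj (g : G) : Sp Δ (cj g A) (cj g B) :=
  ⟨h.st, h.st.cjm A h.mA g, h.st.cjm B h.mB g, fun e => h.nc (by rwa [← cj_C, cj_le_cj] at e), by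
    rw [← cj_Om, ← cj_Om]; exact cent_cj h.cV g⟩

theorem cjN (hg : g ∈ N[A]) : Sp Δ A (H24.cj g B) := by
  have := h.cj g
  rwa [cj_of_mem_N hg] at this

theorem ex4 : Ex4 Δ := fun D hD x hx => by
  obtain ⟨g, rfl⟩ := h.st.tr A h.mA D hD
  exact mem_Om' (mul_mem hx hx) ((h.cj g).toNC.ex4 hx)

theorem Om_of_N (ha : a ∈ A) (hN : a ∈ N[B]) : a ∈ Om A := mem_Om' ha (h.toNC.el ha hN)

theorem Om_of_comm (ha : a ∈ A) (hu : u ∈ B) (h1 : u ≠ 1) (hc : a * u = u * a) : a ∈ Om A :=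
  h.Om_of_N ha (h.st.N_of_comm h.mB hu h1 hc)

theorem one_of_C (hu : u ∈ B) (hc : u ∈ C[A]) : u = 1 := by
  by_contra h1
  exact h.nc (h.st.C_of_cent h.mA h.mB hu h1 hc)

theorem one (ha : x ∈ A) (hb : x ∈ B) : x = 1 := h.st.eq_one h.mA h.mB h.ne ha hb

theorem memE : e ∈ Ln A B ↔ ∃ v ∈ Om A, ∃ u ∈ Om B, e = v * u :=
  mem_sup_of_norm (norm_of_cent (cents_symm h.cV))

theorem ablE : Abl (Ln A B) :=
  ((h.st.abl A h.mA).of_le (Om_le A)).sup ((h.st.abl B h.mB).of_le (Om_le B)) h.cV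

theorem EC : Ln A B ≤ C[Ln A B] := h.ablE.le_C

theorem EA : Ln A B ≤ C[Om A] := cents_of_le h.EC le_sup_left

theorem EB : Ln A B ≤ C[Om B] := cents_of_le h.EC le_sup_right

theorem sqE (he : e ∈ Ln A B) : e * e = 1 := by
  obtain ⟨v, hv, u, hu, rfl⟩ := h.memE.1 he
  calc v * u * (v * u) = v * (u * v) * u := by group
    _ = v * v * (u * u) := by rw [← comm_of_cent h.cV hv hu]; group
    _ = 1 := by rw [h.st.sq h.mA hv, h.st.sq h.mB hu, mul_one]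

theorem twoE : IsPi {2} (Ln A B) := two_of_sq fun _ => h.sqE

theorem normA : A ≤ N[Ln A B] := h.ex4.norm h.st h.mA le_sup_left h.EA

theorem normB : B ≤ N[Ln A B] := h.ex4.norm h.st h.mB le_sup_right h.EB

theorem normX : A ⊔ B ≤ N[Ln A B] := sup_le h.normA h.normB

theorem mem_N_E (h1 : g ∈ N[A]) (h2 : g ∈ N[B]) : g ∈ N[Ln A B] := by
  rw [mem_N_iff_cj, cj_Ln, cj_of_mem_N h1, cj_of_mem_N h2]

theorem Om_of_E (he : e ∈ Ln A B) (hA : e ∈ A) : e ∈ Om A := mem_Om' hA (h.sqE he)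

theorem Om_of_EC (he : e ∈ Ln A B) (hc : e ∈ C[A]) : e ∈ Om A := by
  obtain ⟨v, hv, u, hu, rfl⟩ := h.memE.1 he
  rw [h.one_of_C (Om_le B hu) ((mul_mem_cancel_left (h.st.Om_C' h.mA hv)).1 hc), mul_one]
  exact hv

theorem centE (ha : a ∈ A) (hn : a ∉ Om A) (he : e ∈ Ln A B) : a * e = e * a ↔ e ∈ A := by
  refine ⟨fun hc => ?_, fun hA => h.st.comm h.mA ha hA⟩
  obtain ⟨v, hv, u, hu, rfl⟩ := h.memE.1 he
  rw [← mul_assoc, h.st.comm h.mA ha (Om_le A hv), mul_assoc, mul_assoc] at hc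
  by_cases h1 : u = 1
  · rw [h1, mul_one]; exact Om_le A hv
  · exact absurd (h.Om_of_comm ha (Om_le B hu) h1 (mul_left_cancel hc)) hn

theorem Om_of_CE (ha : a ∈ A) (hc : a ∈ C[Ln A B]) : a ∈ Om A :=
  h.Om_of_N ha (h.st.C_Om_le h.mB (C_anti le_sup_right hc))

theorem ex_nOm : ∃ a ∈ A, a ∉ Om A := by
  obtain ⟨a, ha, h2⟩ := h.st.nel A h.mA
  exact ⟨a, ha, fun e => h2 (h.st.sq h.mA e)⟩

theorem t3 (hc : c ∈ N[Ln A B]) (hc' : c ∈ C[Om A]) (he : e ∈ Ln A B) :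
    c * e * c⁻¹ * e⁻¹ ∈ Om A := by
  obtain ⟨a, ha, hn⟩ := h.ex_nOm
  have he' := conj_mem hc he
  have hm := mul_mem he' (inv_mem he)
  refine h.Om_of_E hm ((h.centE ha hn hm).1 (comm_of_cj ?_))
  have h1 := h.ex4.cv h.st h.mA (inv_mem hc') ha
  have h2 := h.ex4.cv' h.st h.mA (h.EA he) ha
  have h3 : a * (c * e * c⁻¹) * a⁻¹ = a * e * a⁻¹ * e⁻¹ * (c * e * c⁻¹) := by
    calc _ = c * ((c⁻¹ * a * c⁻¹⁻¹ * a⁻¹) * (a * e * a⁻¹) * (c⁻¹ * a * c⁻¹⁻¹ * a⁻¹)⁻¹) * c⁻¹ := by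
          group
      _ = c * (a * e * a⁻¹ * e⁻¹) * c⁻¹ * (c * e * c⁻¹) := by
          rw [conj_eq_of_mem_C (h.EC (mem_sup_left h1)) (conj_mem (h.normA ha) he)]; group
      _ = _ := by rw [conj_eq_of_mem_C hc' h2]
  calc _ = a * (c * e * c⁻¹) * a⁻¹ * (a * e * a⁻¹ * e⁻¹ * e)⁻¹ := by group
    _ = (a * e * a⁻¹ * e⁻¹) * (c * e * c⁻¹ * e⁻¹) * (a * e * a⁻¹ * e⁻¹)⁻¹ := by rw [h3]; group
    _ = _ := conj_eq_of_mem_C (h.EC (mem_sup_left h2)) hm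

theorem ce (hc : c ∈ C[Om A]) (hN : c ∈ N[B]) : c ∈ C[Ln A B] := by
  rw [C_sup]
  refine ⟨hc, mem_C'.2 fun u hu => comm_of_cj (mul_inv_eq_one.1 (h.one
    (Om_le A (h.t3 (h.mem_N_E (h.st.C_Om_le h.mA hc) hN) hc (mem_sup_right hu))) ?_))⟩
  exact mul_mem (conj_mem hN (Om_le B hu)) (inv_mem (Om_le B hu))

theorem sq_C (hc : c ∈ N[Ln A B]) (hc' : c ∈ C[Om A]) : c * c ∈ C[Ln A B] :=
  mem_C'.2 fun e he => comm_of_cj (by
    have h1 := h.t3 hc hc' he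
    calc _ = c * (c * e * c⁻¹ * e⁻¹) * c⁻¹ * (c * e * c⁻¹ * e⁻¹) * e := by group
      _ = e := by rw [conj_eq_of_mem_C hc' h1, h.st.sq h.mA h1, one_mul])

theorem dih (hc : c ∈ N[Ln A B]) (hc' : c ∈ C[Om A]) (hn : c ∉ C[Ln A B]) (hb : b ∈ B)
    (hb' : b ∉ Om B) :
    ∃ k : ℕ, H24.cj ((c * b) ^ k) B = A ∧ ((c * b) ^ k * b * ((c * b) ^ k)⁻¹)⁻¹ * c ∈ C[Ln A B] := by
  obtain ⟨v, hv, hv1⟩ := h.st.ex1 h.mA
  obtain ⟨u, hu, hu1⟩ := h.st.ex1 h.mB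
  refine h.st.dihE h.mA h.mB h.ablE (fun _ => h.sqE) (fun e he => ?_) hc (h.normB hb)
    (h.sq_C hc hc') (h.EC (mem_sup_right (h.ex4 B h.mB b hb))) (fun e he => ⟨fun hh => ?_, fun hh =>
      mem_C'.1 hc' e (h.Om_of_E he hh)⟩) (fun e he => h.symm.centE hb hb' (by rwa [Ln_comm]))
    (mem_sup_left hv) (Om_le A hv) hv1 (mem_sup_right hu) (Om_le B hu) hu1
  · obtain ⟨v, hv, u, hu, rfl⟩ := h.memE.1 he
    exact ⟨v, mem_sup_left hv, u, mem_sup_right hu, Om_le A hv, Om_le B hu, rfl⟩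
  · obtain ⟨v, hv, u, hu, rfl⟩ := h.memE.1 he
    rw [← mul_assoc, mem_C'.1 hc' v hv, mul_assoc, mul_assoc] at hh
    by_cases h1 : u = 1
    · rw [h1, mul_one]; exact Om_le A hv
    · exact absurd (h.ce hc' (h.st.N_of_comm h.mB (Om_le B hu) h1 (mul_left_cancel hh))) hn

theorem sig (hc : c ∈ N[Ln A B]) (hc' : c ∈ C[Om A]) : ∃ a ∈ A, a⁻¹ * c ∈ C[Ln A B] := by
  by_cases hn : c ∈ C[Ln A B]
  · exact ⟨1, one_mem _, by simpa using hn⟩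
  obtain ⟨b, hb, hb'⟩ := h.symm.ex_nOm
  obtain ⟨k, hk, h1⟩ := h.dih hc hc' hn hb hb'
  exact ⟨_, hk ▸ conj_mem_cj _ hb, h1⟩

theorem tau' (ha : a ∈ A) (ha' : a ∉ Om A) (hb : b ∈ B) (hb' : b ∉ Om B) :
    ∃ x ∈ A ⊔ B, H24.cj x B = A ∧ (x * b * x⁻¹)⁻¹ * a ∈ Om A := by
  obtain ⟨k, hk, h1⟩ := h.dih (h.normA ha) (h.st.le_C_Om h.mA ha)
    (fun e => ha' (h.Om_of_CE ha e)) hb hb'
  exact ⟨_, pow_mem (mul_mem (mem_sup_left ha) (mem_sup_right hb)) k, hk,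
    h.Om_of_CE (mul_mem (inv_mem (hk ▸ conj_mem_cj _ hb)) ha) h1⟩

theorem tau : ∃ x ∈ A ⊔ B, H24.cj x B = A := by
  obtain ⟨a, ha, ha'⟩ := h.ex_nOm
  obtain ⟨b, hb, hb'⟩ := h.symm.ex_nOm
  obtain ⟨x, hx, e, -⟩ := h.tau' ha ha' hb hb'
  exact ⟨x, hx, e⟩

theorem line (hD : D ∈ Δ) (hle : Om D ≤ Ln A B) (hne : D ≠ A) : Sp Δ A D ∧ Ln A D = Ln A B := by
  have h1 : Om D ≤ C[Om A] := hle.trans h.EA
  have key : ∀ P ∈ Δ, P ≠ A → Om P ≤ C[Om A] → ♯(Ln A P) = ♯(Om A) * ♯(Om A) :=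
    fun P hP hne hc => by
      rw [card_sup_of_inf (norm_of_cent hc) (eq_bot_iff.2 fun x hx =>
        h.st.eq_one h.mA hP hne.symm (Om_le A hx.1) (Om_le P hx.2)), h.st.card_Om hP h.mA]
  have h2 : Ln A D = Ln A B := eq_of_card_eq (sup_le le_sup_left hle)
    (by rw [key D hD hne h1, key B h.mB h.ne.symm (cents_symm h.cV)])
  refine ⟨⟨h.st, h.mA, hD, fun e => ?_, cents_symm h1⟩, h2⟩
  obtain ⟨a, ha, hn⟩ := h.ex_nOm
  refine hn (h.Om_of_CE ha ?_)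
  rw [← h2, C_sup]
  exact ⟨h.st.le_C_Om h.mA ha, C_anti (Om_le D) (e ha)⟩

theorem line' (hD : D ∈ Δ) (hle : Om D ≤ Ln A B) (hne : D ≠ B) : Sp Δ D B ∧ Ln D B = Ln A B := by
  have := h.symm.line hD (by rwa [Ln_comm]) hne
  exact ⟨this.1.symm, by rw [Ln_comm, this.2, Ln_comm]⟩

theorem commX (hx : x ∈ A ⊔ B) (hd : d ∈ C[Ln A B]) : x * d * x⁻¹ * d⁻¹ ∈ Ln A B := by
  let S : Subgroup G :=
    { carrier := {x | x ∈ N[Ln A B] ∧ ∀ d ∈ C[Ln A B], x * d * x⁻¹ * d⁻¹ ∈ Ln A B}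
      one_mem' := ⟨one_mem _, fun d _ => by simp⟩
      mul_mem' := fun {x y} hx hy => ⟨mul_mem hx.1 hy.1, fun d hd => by
        have := mul_mem (conj_mem hx.1 (hy.2 d hd)) (hx.2 d hd)
        convert this using 1
        group⟩
      inv_mem' := fun {x} hx => ⟨inv_mem hx.1, fun d hd => by
        have := inv_mem (conj_mem' hx.1 (hx.2 d hd))
        convert this using 1
        group⟩ }
  have : A ⊔ B ≤ S := sup_le
    (fun a ha => ⟨h.normA ha, fun d hd =>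
      mem_sup_left (h.ex4.cv' h.st h.mA (C_anti le_sup_left hd) ha)⟩)
    fun b hb => ⟨h.normB hb, fun d hd =>
      mem_sup_right (h.ex4.cv' h.st h.mB (C_anti le_sup_right hd) hb)⟩
  exact (this hx).2 d hd

theorem ax (hd : d ∈ C[Ln A B]) (hA : d ∈ C[A]) : ∃ v ∈ Om A, v * d ∈ C[A ⊔ B] := by
  obtain ⟨x, hx, e⟩ := h.symm.tau
  rw [sup_comm] at hx
  have h1 : x * d * x⁻¹ ∈ C[B] := by rw [← e, ← cj_C]; exact conj_mem_cj x hA
  obtain ⟨v, hv, u, hu, e'⟩ := h.memE.1 (h.commX hx hd)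
  refine ⟨v, hv, ?_⟩
  rw [C_sup]
  refine ⟨mul_mem (h.st.Om_C' h.mA hv) hA, ?_⟩
  have : x * d * x⁻¹ = u * (v * d) := by
    rw [← mul_assoc, ← comm_of_cent h.cV hv hu, ← e']; group
  rw [this] at h1
  exact (mul_mem_cancel_left (h.st.Om_C' h.mB hu)).1 h1

theorem inverts (ha : a ∈ A) (hd : a⁻¹ * u ∈ C[Ln A B]) (hu : u * u = 1) : u * a * u⁻¹ = a⁻¹ := by
  obtain ⟨d, rfl⟩ : ∃ d, u = a * d := ⟨a⁻¹ * u, by group⟩
  rw [inv_mul_cancel_left] at hd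
  have h1 := conj_mem (h.st.C_Om_le h.mA (C_anti le_sup_left hd)) ha
  have h2 : d * d = (a * (d * a * d⁻¹))⁻¹ := by
    refine eq_inv_of_mul_eq_one_right ?_
    rw [← hu]; group
  have h3 : d * d = 1 := h.symm.one_of_C (h2 ▸ inv_mem (mul_mem ha h1))
    (h.ex4.sq h.st h.mB (C_anti le_sup_right hd))
  rw [h3, eq_comm, inv_eq_one] at h2
  calc _ = a * (d * a * d⁻¹) * a⁻¹ := by group
    _ = _ := by rw [h2, one_mul]

theorem fixpt (hy : y ∈ N[Ln A B]) (h2 : y * y = 1) : ∃ D ∈ Δ, Om D ≤ Ln A B ∧ y ∈ N[D] := by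
  obtain ⟨a, ha, hn⟩ := h.ex_nOm
  have key : ∀ x ∈ N[Ln A B], ∀ D ∈ {D | D ∈ Δ ∧ Om D ≤ Ln A B},
      H24.cj x D ∈ {D | D ∈ Δ ∧ Om D ≤ Ln A B} := fun x hx D hD =>
    ⟨h.st.cjm D hD.1 x, by rw [← cj_Om]; exact cj_le_of_mem_N hD.2 hx⟩
  obtain ⟨D, hD, h3⟩ := exists_fix_of_unique (h.st.two A h.mA) (zp_two h2)
    (fun x hx => key x (h.normA hx)) (fun x hx => key x (zpowers_le.2 hy hx))
    (A := A) ⟨h.mA, le_sup_left⟩ (norm_self A) fun D hD hN => by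
      by_contra e
      exact hn ((h.line hD.1 hD.2 e).1.Om_of_N ha (hN ha))
  exact ⟨D, hD.1, hD.2, h3 (mem_zpowers y)⟩

end Sp

/-- the basic configuration -/
structure Cfg (Δ : Set (Subgroup G)) (A B D : Subgroup G) : Prop where
  s1 : Sp Δ A B
  s2 : Sp Δ A D
  ur : ¬ Om B ≤ C[Om D]
  cm : ∀ a ∈ Om B, ∀ u ∈ Om D, a * u * a⁻¹ * u⁻¹ ∈ Om A

namespace St

variable (h : St Δ)
include h

theorem cl0 (hB : B ∈ Δ) (hD : D ∈ Δ) (hw : w ∈ Om D) (h1 : w ≠ 1)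
    (hc : Om (cj w B) ≤ C[Om B]) (ha : a ∈ Om B) : Om (cj a D) ≤ C[Om D] := by
  refine cents_symm (h.rel' hD (h.cjm D hD a) (Om_le D hw) h1 (conj_mem_cj a (Om_le D hw))
    (cj_ne a h1) ?_)
  have := comm_of_cent hc (cj_mem_Om w ha) ha
  rw [h.inv hD hw] at this
  rw [h.inv hB ha]
  calc w * (a * w * a) = w * a * w * a := by group
    _ = a * w * a * w := by rw [this]; group

theorem cl1 (hB : B ∈ Δ) (hD : D ∈ Δ) (ur : ¬ Om B ≤ C[Om D]) (hw : w ∈ Om D) (h1 : w ≠ 1)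
    (hc : Om (cj w B) ≤ C[Om B]) (hg : ¬ B ≤ C[cj w B]) :
    ∃ A, Sp Δ A B ∧ Sp Δ A D ∧ ∀ a ∈ Om B, w * a * w⁻¹ * a⁻¹ ∈ Om A := by
  have s : Sp Δ B (cj w B) := ⟨h, hB, h.cjm B hB w, hg, cents_symm hc⟩
  have hw2 := h.sq hD hw
  have hN : w ∈ N[Ln B (cj w B)] := by
    rw [mem_N_iff_cj, cj_Ln, ← cj_mul, hw2, cj_one, Ln_comm]
  obtain ⟨A, hA, hle, hwA⟩ := s.fixpt hN hw2
  have h2 := h.rel hD hA (Om_le D hw) h1 hwA
  have h3 : w ∉ N[B] := fun e => ur (cents_symm (h.rel hD hB (Om_le D hw) h1 e))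
  obtain ⟨s1, e1⟩ := s.line hA hle fun e => h3 (e ▸ hwA)
  rw [← e1, Ln_comm] at hN
  refine ⟨A, s1.symm, ⟨h, hA, hD, fun e => ?_, cents_symm h2⟩,
    fun a ha => s1.symm.t3 hN (h2 hw) (mem_sup_right ha)⟩
  obtain ⟨a, ha, h4⟩ := s1.symm.sig hN (h2 hw)
  have h5 := s1.symm.inverts ha h4 hw2
  rw [cj_of_comm (comm_of_cent e ha (Om_le D hw)).symm] at h5
  have h6 : a ∈ Om A := mem_Om' ha (mul_eq_one_iff_eq_inv.2 h5)
  exact h3 (h.C_Om_le hB (C_anti le_sup_right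
    ((mul_mem_cancel_left (inv_mem (s1.symm.EC (mem_sup_left h6)))).1 h4)))

theorem fg (hB : B ∈ Δ) (hD : D ∈ Δ) (ur : ¬ Om B ≤ C[Om D]) :
    ∃ w ∈ Om D, w ≠ 1 ∧ ¬ B ≤ C[cj w B] := by
  by_contra hn
  have hc : ∀ w ∈ Om D, ∀ x ∈ B, w * x * w⁻¹ ∈ C[B] := fun w hw x hx => by
    by_cases h1 : w = 1
    · rw [h1]; simpa using (h.abl B hB).le_C hx
    · by_contra e
      exact hn ⟨w, hw, h1, fun e' => e (cents_symm e' (conj_mem_cj w hx))⟩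
  obtain ⟨u, hu, v, hv, hu1, hv1, huv⟩ := h.four D hD
  obtain ⟨b, hb, hb2⟩ := h.nel B hB
  have key : ∀ u ∈ Om D, ∀ v ∈ Om D, u ≠ 1 → v * (b * (u * b * u⁻¹)) * v⁻¹ = b * (u * b * u⁻¹) :=
    fun u hu v hv hu1 => by
    have h1 : b * (u * b * u⁻¹) ∈ N[D] := h.N_of_comm hD (Om_le D hu) hu1 (comm_of_cj (by
      calc u * (b * (u * b * u⁻¹)) * u⁻¹ = u * b * u⁻¹ * (u * u * b * (u * u)⁻¹) := by group
        _ = _ := by rw [h.sq hD hu, mem_C.1 (hc u hu b hb) b hb]; group)).symm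
    rw [← mul_inv_eq_one]
    by_contra e
    refine ur (cents_of_le ((Om_le B).trans (h.C_of_cent hB hD ?_ e ?_)) (Om_le D))
    · have := mul_mem (Om_le D hv) (conj_mem h1 (inv_mem (Om_le D hv)))
      convert this using 1
      group
    · refine mul_mem ?_ (inv_mem (mul_mem ((h.abl B hB).le_C hb) (hc u hu b hb)))
      have := mul_mem (hc v hv b hb) (hc (v * u) (mul_mem hv hu) b hb)
      convert this using 1
      group
  have h1 : u * v ≠ 1 := fun e => huv (by rw [← inv_eq_of_mul_eq_one_right e, h.inv hD hu])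
  refine ur (cents_symm (h.rel' hD hB (Om_le D (mul_mem hu hv)) h1 (mul_mem hb hb) hb2
    (comm_of_cj ?_)))
  have e1 := key u hu v hv hu1
  have e2 := key v hv u hu hv1
  have c0 := h.comm hD (Om_le D hu) (Om_le D hv)
  set p := u * b * u⁻¹ with hp
  set q := v * b * v⁻¹ with hq
  set r := u * v * b * (u * v)⁻¹ with hr
  have f1 : q * r = b * p := by rw [← e1, hr, c0, hp, hq]; group
  have f2 : p * r = b * q := by rw [← e2, hr, hp, hq]; group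
  have c1 : b * p = p * b := mem_C.1 (hc u hu b hb) b hb
  calc u * v * (b * b) * (u * v)⁻¹ = r * r := by rw [hr]; group
    _ = p⁻¹ * (p * r) * q⁻¹ * (q * r) := by group
    _ = p⁻¹ * (b * b) * p := by rw [f1, f2]; group
    _ = b * b := by rw [mul_assoc, mul_assoc, c1, ← mul_assoc b, c1]; group

theorem cl (hB : B ∈ Δ) (hD : D ∈ Δ) (ur : ¬ Om B ≤ C[Om D]) (hw : w ∈ Om D) (h1 : w ≠ 1)
    (hc : Om (cj w B) ≤ C[Om B]) : ∃ A, Cfg Δ A B D := by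
  have ur' : ¬ Om D ≤ C[Om B] := fun e => ur (cents_symm e)
  obtain ⟨a, ha, ha1, hg⟩ := h.fg hD hB ur'
  have H1 := h.cl0 hB hD hw h1 hc ha
  obtain ⟨A, s2, s1, hA⟩ := h.cl1 hD hB ur' ha ha1 H1 hg
  refine ⟨A, s1, s2, ur, fun b hb u hu => ?_⟩
  by_cases hu1 : u = 1
  · simp [hu1]
  have h2 : a * u * a⁻¹ * u⁻¹ ≠ 1 := fun e => ur
    (h.rel' hB hD (Om_le B ha) ha1 (Om_le D hu) hu1 (comm_of_cj (mul_inv_eq_one.1 e)))
  obtain ⟨A', s3, -, hA'⟩ := h.cl1 hB hD ur hu hu1 (h.cl0 hD hB ha ha1 H1 hu) fun e => by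
    refine s1.nc (cents_symm (h.C_of_cent hB s1.mA (Om_le A (hA u hu)) h2 ?_))
    have := mul_mem (h.Om_C' hB ha) (cents_symm e (conj_mem_cj u (inv_mem (Om_le B ha))))
    simpa only [mul_assoc] using this
  have e : A' = A := h.ti _ s3.mA _ s1.mA _ (Om_le _ (inv_mem (hA' a ha)))
    (by simpa only [mul_inv_rev, inv_inv, mul_assoc] using Om_le A (hA u hu))
    (by simpa only [mul_inv_rev, inv_inv, mul_assoc] using h2)
  simpa only [mul_inv_rev, inv_inv, mul_assoc, e] using inv_mem (hA' b hb)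

theorem cf {Ω : Set (Subgroup G)} (h1 : Ω ⊆ Δ) (h2 : ∀ B ∈ Ω, ∀ D ∈ Ω, ∀ w ∈ Om D, cj w B ∈ Ω)
    (k : ℕ) : ∀ B ∈ Ω, ∀ D ∈ Ω, ∀ a ∈ Om B, ∀ w ∈ Om D, (a * w) ^ 2 ^ k = 1 → a * w ≠ w * a →
      ∃ B ∈ Ω, ∃ D ∈ Ω, ∃ A, Cfg Δ A B D := by
  induction k with
  | zero =>
    intro B hB D hD a ha w hw e hn
    rw [pow_zero, pow_one] at e
    exact absurd (e.trans (mul_eq_one_comm.1 e).symm) hn
  | succ k ih =>
    intro B hB D hD a ha w hw e hn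
    have ha1 : a ≠ 1 := fun e => hn (by simp [e])
    have hw1 : w ≠ 1 := fun e => hn (by simp [e])
    by_cases hc : a * (w * a * w⁻¹) = w * a * w⁻¹ * a
    · obtain ⟨A, hA⟩ := h.cl (h1 hB) (h1 hD) (fun e => hn (comm_of_cent e ha hw)) hw hw1
        (cents_symm (h.rel' (h1 hB) (h.cjm B (h1 hB) w) (Om_le B ha) ha1
          (conj_mem_cj w (Om_le B ha)) (cj_ne w ha1) hc))
      exact ⟨B, hB, D, hD, A, hA⟩
    · refine ih B hB _ (h2 B hB D hD w hw) a ha _ (cj_mem_Om w ha) ?_ hc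
      rw [← e, pow_succ', pow_mul, h.inv (h1 hD) hw, pow_two]
      simp only [mul_assoc]

end St

end TA
end H3
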