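import Mathlib
import Cfsg.Agent.H3.TA3

/-! Abelian TI subgroups: without the basic configuration no two points are related. -/

set_option autoImplicit false
set_option linter.unusedSectionVars false
set_option linter.unusedVariables false

namespace H3
namespace TA

open H24 H26 Subgroup MulAction Cfsg

universe u

variable {G : Type u} [Group G] [Finite G] {Δ : Set (Subgroup G)}
  {A B D E F J K P X Y : Subgroup G} {a b c d e g s t u v w x y z : G}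

theorem two_mul' (hX : IsPi {2} X) (hu : u ∈ N[X]) (h2 : u * u = 1) (hw : w ∈ X) :
    ∃ k : ℕ, (u * w) ^ 2 ^ k = 1 :=
  exists_pow_two (hX.sup (zp_two h2) (zpowers_le.2 hu))
    (mul_mem (mem_sup_right (mem_zpowers u)) (mem_sup_left hw))

/-- elements of `H` which centralise the set `S` modulo `Z` -/
def stabz (H Z : Subgroup G) (S : Set G) (hZ : H ≤ N[Z]) : Subgroup G where
  carrier := {r | r ∈ H ∧ ∀ q ∈ S, r * q * r⁻¹ * q⁻¹ ∈ Z}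
  one_mem' := ⟨one_mem _, fun d _ => by simp⟩
  mul_mem' := fun {x y} hx hy => ⟨mul_mem hx.1 hy.1, fun d hd => by
    have := mul_mem (conj_mem (hZ hx.1) (hy.2 d hd)) (hx.2 d hd)
    convert this using 1
    group⟩
  inv_mem' := fun {x} hx => ⟨inv_mem hx.1, fun d hd => by
    have := inv_mem (conj_mem' (hZ hx.1) (hx.2 d hd))
    convert this using 1
    group⟩

/-- the join of the `Om D` for `D` in a set of points -/
def JO (Ω : Set (Subgroup G)) : Subgroup G := ⨆ D ∈ Ω, Om D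

theorem le_JO {Ω : Set (Subgroup G)} (hD : D ∈ Ω) : Om D ≤ JO Ω := le_iSup₂_of_le D hD le_rfl

theorem JO_le {Ω : Set (Subgroup G)} (h : ∀ D ∈ Ω, Om D ≤ X) : JO Ω ≤ X := iSup₂_le h

theorem mem_N_JO {Ω : Set (Subgroup G)} (h : ∀ D ∈ Ω, cj g D ∈ Ω) : g ∈ N[JO Ω] :=
  mem_N_of_cj_le (cj_le_iff.2 (JO_le fun D hD => cj_le_iff.1 (by
    rw [cj_Om]; exact le_JO (h D hD))))

theorem abl_JO {Ω : Set (Subgroup G)} (h : ∀ D ∈ Ω, ∀ D' ∈ Ω, Om D ≤ C[Om D']) : Abl (JO Ω) :=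
  abl_iff.2 (JO_le fun D hD => cents_symm (JO_le fun D' hD' => h D' hD' D hD))

theorem St.two_JO (h : St Δ) {Ω : Set (Subgroup G)} (h1 : Ω ⊆ Δ) (h2 : Abl (JO Ω)) :
    IsPi {2} (JO Ω) := by
  refine two_of_sq fun x hx => sq_of_Om h2 ?_
  exact (JO_le fun D hD y hy => mem_Om' (le_JO hD hy) (h.sq (h1 hD) hy) : _ ≤ Om (JO Ω)) hx

theorem St.odd_eq_one (h : St Δ) (hA : A ∈ Δ) (hP : IsPi {2} P) (hPA : P ≤ N[A]) {r : G}
    (hr : Odd (orderOf r)) (hrA : r ∈ N[A]) (hrP : r ∈ C[P])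
    (hc : ∀ q ∈ O[{2}, N[A]], q ∈ C[P] → r * q = q * r) : r = 1 := by
  have h1 : IsPi {2}ᶜ (zpowers r) := by
    rw [← B71.odd_iff_isPi, card_zpowers']; exact hr
  have h2 := Thompson_PxQ Nat.prime_two hP h1 (pcore_pi {2} N[A]) (cents_symm (zpowers_le.2 hrP))
    (hPA.trans (pcore_nml _ _).norm) (zpowers_le.2 ((pcore_nml _ _).norm hrA))
    fun q hq => by rw [C_zpowers, mem_C1]; exact (hc q hq.1 hq.2).symm
  exact eq_one_of_odd (pcore_pi {2} N[A]) (h.ch2 A hA ⟨hrA, h2 (mem_zpowers r)⟩) hr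

/-- no basic configuration -/
structure NoC (Δ : Set (Subgroup G)) : Prop where
  st : St Δ
  no : ∀ A B D, ¬ Cfg Δ A B D

namespace NoC

variable (h : NoC Δ)
include h

theorem rel (hB : B ∈ Δ) (hD : D ∈ Δ) (ha : a ∈ Om B) (hw : w ∈ Om D) {k : ℕ}
    (e : (a * w) ^ 2 ^ k = 1) : a * w = w * a := by
  by_contra hn
  obtain ⟨B, -, D, -, A, hA⟩ := h.st.cf (Ω := Δ) le_rfl (fun B hB D hD w _ => h.st.cjm B hB w) k
    B hB D hD a ha w hw e hn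
  exact h.no A B D hA

theorem rel_cj (hD : D ∈ Δ) (hX : IsPi {2} X) (hN : Om D ≤ N[X]) (hy : y ∈ X) :
    Om D ≤ C[Om (cj y D)] := by
  obtain ⟨u, hu, h1⟩ := h.st.ex1 hD
  have h2 : u * (y * u * y⁻¹) ∈ X := by
    have := mul_mem (conj_mem (hN hu) hy) (inv_mem hy)
    rw [h.st.inv hD hu] at this
    simpa only [mul_assoc] using this
  obtain ⟨k, hk⟩ := exists_pow_two hX h2
  exact h.st.rel' hD (h.st.cjm D hD y) (Om_le D hu) h1 (conj_mem_cj y (Om_le D hu)) (cj_ne y h1)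
    (h.rel hD (h.st.cjm D hD y) hu (cj_mem_Om y hu) hk)

end NoC

/-- a maximal clique with a neighbourhood which is not a clique -/
structure MJ (Δ : Set (Subgroup G)) (A J : Subgroup G) : Prop where
  nc : NoC Δ
  mA : A ∈ Δ
  le : Om A ≤ J
  abl : Abl J
  two : IsPi {2} J
  ex : ∃ D ∈ Δ, ∃ D' ∈ Δ, Om D ≤ C[J] ∧ Om D' ≤ C[J] ∧ ¬ Om D ≤ C[Om D']
  max : ∀ D ∈ Δ, Om D ≤ C[J] → (∀ D' ∈ Δ, Om D' ≤ C[J] → Om D' ≤ C[Om D]) → Om D ≤ J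

namespace MJ

variable (h : MJ Δ A J)
include h

theorem CN : C[J] ≤ N[A] := (C_anti h.le).trans (h.nc.st.C_Om_le h.mA)

theorem CQ : C[J] ≤ N[O[{2}, N[A]]] := h.CN.trans (pcore_nml _ _).norm

theorem k1 (hD : D ∈ Δ) (hc : Om D ≤ C[J]) (hw : w ∈ Om D) (h1 : w ≠ 1)
    (hQ : w ∈ O[{2}, N[A]]) : Om D ≤ J := by
  refine h.max D hD hc fun D' hD' hc' => ?_
  obtain ⟨u, hu, h2⟩ := h.nc.st.ex1 hD'
  obtain ⟨k, hk⟩ := two_mul' (pcore_pi {2} N[A]) (h.CQ (hc' hu)) (h.nc.st.sq hD' hu) hQ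
  exact h.nc.st.rel' hD' hD (Om_le _ hu) h2 (Om_le _ hw) h1 (h.nc.rel hD' hD hu hw hk)

theorem k2 (hD : D ∈ Δ) (hc : Om D ≤ C[J]) (hA : D ≤ C[A]) : Om D ≤ J := by
  obtain ⟨b, hb, h2⟩ := h.nc.st.nel D hD
  obtain ⟨m, h3, h4⟩ := exists_inv_pow (h.nc.st.two D hD) (mul_mem hb hb) h2
  exact h.k1 hD hc (mem_Om' (pow_mem (mul_mem hb hb) m) h4) h3
    (pow_mem (h.nc.st.sq_mem_O2 h.mA hD (hA.trans (C_le_N A)) hb) m)

theorem k3 (hD : D ∈ Δ) (hc : Om D ≤ C[J]) (hu : u ∈ Om D) (hy : y ∈ O[{2}, N[A]]) :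
    u * y * u⁻¹ * y⁻¹ * (u * y * u⁻¹ * y⁻¹) = 1 := by
  have h1 := comm_of_cent (h.nc.rel_cj hD (pcore_pi {2} N[A]) (hc.trans h.CQ) hy) hu (cj_mem_Om y hu)
  have h2 := h.nc.st.sq hD hu
  rw [inv_of_sq h2]
  calc _ = u * (y * u * y⁻¹ * u) * (y * u * y⁻¹) := by group
    _ = u * u * (y * (u * u) * y⁻¹) := by rw [← h1]; group
    _ = 1 := by rw [h2]; group

theorem k4 (hD : D ∈ Δ) (hc : Om D ≤ C[J]) (hu : u ∈ Om D) (hy : y ∈ O[{2}, N[A]])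
    (hyJ : y ∈ C[J]) (h2 : y * y = 1) : u * y * u⁻¹ * y⁻¹ ∈ J := by
  have st := h.nc.st
  by_cases hJ : Om D ≤ J
  · rw [← mem_C'.1 hyJ u (hJ hu)]; simp
  have hQ : ∀ u ∈ Om D, u * (y * u * y⁻¹) ∈ O[{2}, N[A]] := fun u hu => by
    have := mul_mem (conj_mem (h.CQ (hc hu)) hy) (inv_mem hy)
    rw [st.inv hD hu] at this
    simpa only [mul_assoc] using this
  have hC : ∀ u ∈ Om D, y * u * y⁻¹ ∈ C[J] := fun u hu =>
    mul_mem (mul_mem hyJ (hc hu)) (inv_mem hyJ)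
  have e0 : u * y * u⁻¹ * y⁻¹ = u * (y * u * y⁻¹) := by rw [st.inv hD hu]; group
  rw [e0]
  have s : Sp Δ A D := ⟨st, h.mA, hD, fun e => hJ (h.k2 hD hc (cents_symm e)),
    cents_symm (cents_of_le hc h.le)⟩
  have hD' := st.cjm D hD y
  have r := h.nc.rel_cj hD (pcore_pi {2} N[A]) (hc.trans h.CQ) hy
  by_cases hcm : D ≤ C[cj y D]
  · obtain ⟨x, hx, e⟩ := s.tau
    have k : ∀ u ∈ Om D, x * (y * u * y⁻¹) * x⁻¹ = x * u * x⁻¹ * (u * (y * u * y⁻¹)) :=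
      fun u hu => by
      have h3 : u * (y * u * y⁻¹) ∈ C[A ⊔ D] := by
        rw [C_sup]
        refine mem_inf.2 ⟨?_, mul_mem (st.Om_C' hD hu)
          (cents_symm hcm (conj_mem_cj y (Om_le D hu)))⟩
        have := s.ex4.comm st h.mA (cents_symm s.cV hu) (C_anti h.le hyJ)
        rw [st.inv hD hu] at this
        simpa only [mul_assoc] using this
      rw [← cj_of_comm (mem_C.1 h3 x hx), ← cj_mul', mm (st.sq hD hu)]
    have hx' : ∀ u ∈ Om D, x * u * x⁻¹ ∈ J := fun u hu => h.le (e ▸ cj_mem_Om x hu)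
    have h4 : Om (cj x (cj y D)) ≤ J := h.k2 (st.cjm _ hD' x) (fun z2 hz2 => by
      obtain ⟨z1, hz1, rfl⟩ := mem_Om_cj.1 hz2
      obtain ⟨z, hz, rfl⟩ := mem_Om_cj.1 hz1
      rw [k z hz]
      exact mul_mem (h.abl.le_C (hx' z hz)) (mul_mem (hc hz) (hC z hz)))
      (by rw [← e]; exact cent_cj (cents_symm hcm) x)
    have h5 := h4 (cj_mem_Om x (cj_mem_Om y hu))
    rw [k u hu] at h5
    exact (mul_mem_cancel_left (hx' u hu)).1 h5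
  · have s' : Sp Δ D (cj y D) := ⟨st, hD, hD', hcm, r⟩
    have hN : y ∈ N[Ln D (cj y D)] := by
      rw [mem_N_iff_cj, cj_Ln, ← cj_mul, h2, cj_one, Ln_comm]
    obtain ⟨P, hP, hle, hyP⟩ := s'.fixpt hN h2
    obtain ⟨w, hw, hw1⟩ := st.ex1 hP
    obtain ⟨w, hw, hw1, hwc⟩ := exists_fix ((st.abl P hP).of_le (Om_le P)) (fun x => st.sq hP)
      (N_le_N_Om P hyP) (h2 ▸ one_mem _) hw hw1
    have hEJ : Ln D (cj y D) ≤ C[J] := sup_le hc fun z1 hz1 => by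
      obtain ⟨z, hz, rfl⟩ := mem_Om_cj.1 hz1
      exact hC z hz
    have hPJ : Om P ≤ J := h.k1 hP (hle.trans hEJ) hw hw1 (by
      obtain ⟨p, hp, q1, hq1, rfl⟩ := s'.memE.1 (hle hw)
      obtain ⟨q, hq, rfl⟩ := mem_Om_cj.1 hq1
      have e1 : y * p * y⁻¹ * q = p * (y * q * y⁻¹) := by
        rw [← cj_of_comm hwc]
        calc _ = y * p * y⁻¹ * (y * y * q * (y * y)⁻¹) := by rw [h2]; group
          _ = _ := by group
      have e2 : p⁻¹ * q = y * (q * p⁻¹) * y⁻¹ := by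
        have c := comm_of_cent r hq (cj_mem_Om y hp)
        calc p⁻¹ * q = p⁻¹ * (q * (y * p * y⁻¹)) * (y * p⁻¹ * y⁻¹) := by group
          _ = _ := by rw [c, e1]; group
      have e3 : p⁻¹ * q = 1 := s'.one (mul_mem (inv_mem (Om_le D hp)) (Om_le D hq))
        (e2 ▸ conj_mem_cj y (mul_mem (Om_le D hq) (inv_mem (Om_le D hp))))
      rw [inv_mul_eq_one.1 e3]
      exact hQ q hq)
    obtain ⟨s1, e1⟩ := s'.line hP hle fun e => hJ (e ▸ hPJ)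
    rw [← e1, Ln_comm] at hN
    have := hPJ (inv_mem (s1.symm.t3 hN (C_anti hPJ hyJ) (mem_sup_right hu)))
    rw [← e0]
    simpa only [mul_inv_rev, inv_inv, mul_assoc] using this

theorem false : False := by
  have st := h.nc.st
  have hQ := pcore_pi {2} N[A]
  have hW : C[J] ≤ N[Om (O[{2}, N[A]] ⊓ C[J])] :=
    (norm_inf h.CQ (norm_self _)).trans (N_le_N_Om _)
  have hZ : C[J] ≤ N[J] := C_le_N J
  have R1 : JO {D | D ∈ Δ ∧ Om D ≤ C[J]} ≤ stabz C[J] _ (O[{2}, N[A]] ⊓ C[J] : Subgroup G) hW :=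
    JO_le fun D hD u hu => ⟨hD.2 hu, fun q hq => mem_Om' (mem_inf.2
      ⟨mul_mem (conj_mem (h.CQ (hD.2 hu)) hq.1) (inv_mem (mem_inf.1 hq).1),
        mul_mem (mul_mem (mul_mem (hD.2 hu) (mem_inf.1 hq).2) (inv_mem (hD.2 hu)))
          (inv_mem (mem_inf.1 hq).2)⟩) (h.k3 hD.1 hD.2 hu hq.1)⟩
  have R2 : JO {D | D ∈ Δ ∧ Om D ≤ C[J]} ≤
      stabz C[J] _ {x | x ∈ O[{2}, N[A]] ⊓ C[J] ∧ x * x = 1} hZ :=
    JO_le fun D hD u hu => ⟨hD.2 hu, fun q hq => h.k4 hD.1 hD.2 hu hq.1.1 hq.1.2 hq.2⟩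
  have R3 : IsPi {2} (JO {D | D ∈ Δ ∧ Om D ≤ C[J]}) := two_of_odd fun r hr ho => by
    have hrJ := (R1 hr).1
    have c1 : Om (O[{2}, N[A]] ⊓ C[J]) ≤ C{r} := (closure_le _).2 fun q hq =>
      mem_C1.2 (fix_of_odd ho h.two ((R2 hr).2 q hq) (mem_C'.1 hrJ _ ((R2 hr).2 q hq))
        (by group)).symm
    exact st.odd_eq_one h.mA h.two (h.abl.le_C.trans h.CN) ho (h.CN hrJ) hrJ fun q hq hq' =>
      fix_of_odd ho hQ (Om_le _ ((R1 hr).2 q ⟨hq, hq'⟩)).1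
        (mem_C1.1 (c1 ((R1 hr).2 q ⟨hq, hq'⟩))).symm (by group)
  obtain ⟨D, hD, D', hD', h1, h2, h3⟩ := h.ex
  refine h3 (le_C_iff.2 fun a ha b hb => ?_)
  obtain ⟨k, hk⟩ := exists_pow_two R3 
    (mul_mem (le_JO (by exact ⟨hD, h1⟩) ha) (le_JO (by exact ⟨hD', h2⟩) hb))
  exact h.nc.rel hD hD' ha hb hk

end MJ

namespace NoC

variable (h : NoC Δ)
include h

theorem clique (hA : A ∈ Δ) (hB : B ∈ Δ) (hD : D ∈ Δ) (h1 : Om B ≤ C[Om A]) (h2 : Om D ≤ C[Om A]) :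
    Om B ≤ C[Om D] := by
  by_contra hn
  obtain ⟨J, -, ⟨k1, k2, k3, k4⟩, hm⟩ := exists_max (P := fun J => Om A ≤ J ∧ Abl J ∧ IsPi {2} J ∧
      ∃ D ∈ Δ, ∃ D' ∈ Δ, Om D ≤ C[J] ∧ Om D' ≤ C[J] ∧ ¬ Om D ≤ C[Om D']) (H := Om A)
    ⟨le_rfl, (h.st.abl A hA).of_le (Om_le A), h.st.Om_two hA, B, hB, D, hD, h1, h2, hn⟩
  refine MJ.false ⟨h, hA, k1, k2, k3, k4, fun P hP hc hr => ?_⟩
  obtain ⟨D, hD, D', hD', c1, c2, c3⟩ := k4
  rw [← hm (J ⊔ Om P) ⟨k1.trans le_sup_left,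
    k2.sup ((h.st.abl P hP).of_le (Om_le P)) (cents_symm hc),
    k3.sup (h.st.Om_two hP) (norm_of_cent hc), D, hD, D', hD', cents_sup c1 (hr D hD c1),
    cents_sup c2 (hr D' hD' c2), c3⟩ le_sup_left]
  exact le_sup_right

theorem eq (hA : A ∈ Δ) (hB : B ∈ Δ) (ha : a ∈ A) (h1 : a ≠ 1) (hN : a ∈ N[B]) : A = B := by
  have r := h.st.rel hA hB ha h1 hN
  have k : ∀ A ∈ Δ, N[A] ≤ N[JO {D | D ∈ Δ ∧ Om D ≤ C[Om A]}] := fun A hA g hg =>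
    mem_N_JO fun D hD => ⟨h.st.cjm D hD.1 g, by
      rw [← cj_Om, ← cj_of_mem_N (N_le_N_Om A hg)]; exact cent_cj hD.2 g⟩
  have e : {D | D ∈ Δ ∧ Om D ≤ C[Om B]} = {D | D ∈ Δ ∧ Om D ≤ C[Om A]} :=
    Set.ext fun D => ⟨fun hD => ⟨hD.1, h.clique hB hD.1 hA hD.2 r⟩,
      fun hD => ⟨hD.1, h.clique hA hD.1 hB hD.2 (cents_symm r)⟩⟩
  refine h.st.eq_of_norm hA hB (h.st.two_JO (fun D hD => hD.1)
    (abl_JO fun D hD D' hD' => h.clique hA hD.1 hD'.1 hD.2 hD'.2))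
    (ne_bot_of_le (h.st.Om_ne_bot hA) (le_JO (by exact ⟨hA, h.st.Om_C hA⟩))) (k A hA) (e ▸ k B hB)

end NoC

end TA
end H3
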