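import Mathlib
import Cfsg.Agent.H3.TA4
import Cfsg.Agent.H3.B71Red
import Cfsg.Agent.H26.GBen0
import Cfsg.Agent.H26.GAlm
import Cfsg.Agent.H6.OneFix
import Cfsg.Agent.S1251
import Cfsg.Agent.S1174

/-! Abelian TI subgroups: the strongly closed case. -/

set_option autoImplicit false
set_option linter.unusedSectionVars false
set_option linter.unusedVariables false

namespace H3
namespace TA

open H24 H26 Subgroup MulAction Cfsg H8.Suz

universe u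

variable {G : Type u} [Group G] [Finite G] {Δ : Set (Subgroup G)}
  {A B D E F J K L P Q S X Y : Subgroup G} {a b c d e g k r s t u v w x y z : G}

section

variable {Ω : Type*} [MulAction G Ω] {o : Ω} (h : Hyp G Ω o t Q s r)
include h

theorem hyp_el (h1 : B ⊴ stabilizer G o) (h2 : Abl B) (h3 : IsPi {2} B) (hb : b ∈ B) :
    b * b = 1 := by
  by_contra hn
  have tz := Gold.tz_of_hyp h
  have hN := Gold.N_eq_stab h
  have hQ : B ≤ Q := tz.syl.le_of_norm h3 le_top (hN ▸ h1.le)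
  have hK : ∀ k ∈ KK o t, ∀ x ∈ B, k⁻¹ * x * k ∈ B := fun k hk x hx =>
    conj_mem' (h1.norm (KK_le hk).1) hx
  have hb0 : ∀ b, b * b ≠ 1 → b ∉ Q0 Q := fun b hn e => hn (h.mem_Q0.1 e).2
  rcases h.cases with e | ⟨⟨x, hx, y, hy, e⟩, hc⟩ | ⟨hC, -⟩
  · exact hn (e b (hQ hb))
  · obtain ⟨m, m1, m2⟩ := exists_inv_pow h3 hb fun e => hn (by rw [e, mul_one])
    obtain ⟨k, hk, e1⟩ := h.exists_K_conj_s (h.mem_Q0.2 ⟨hQ (pow_mem hb m), m2⟩) m1
    have hs : s ∈ B := by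
      have := hK _ (inv_mem hk) _ (pow_mem hb m)
      rw [← e1] at this
      simpa only [inv_inv, ← mul_assoc, mul_inv_cancel, one_mul, mul_inv_cancel_right] using this
    have h0 : Q0 Q ≤ B := fun z hz => by
      by_cases z1 : z = 1
      · exact z1 ▸ one_mem _
      obtain ⟨k, hk, rfl⟩ := h.exists_K_conj_s hz z1
      exact hK k hk s hs
    have h4 : Q ≤ B := fun y hy => by
      by_cases y0 : y ∈ Q0 Q
      · exact h0 y0
      obtain ⟨k, hk, z, hz, rfl⟩ := h.exists_K_conj_of_sq le_rfl Q0_le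
        (fun k hk x hx => h.conj_Q (KK_le hk) hx) hc (hQ hb) (hb0 b hn) hy y0
      exact hK k hk _ (mul_mem hb (h0 hz))
    exact e (h2.comm (h4 hx) (h4 hy))
  · obtain ⟨w, hw, w1⟩ := exists_ne_one hC.W_ne
    have h4 := conj_mem' (h1.norm (WW_le hw).1) hb
    refine hb0 b hn (h.W_fpf hC hw w1 (hQ hb) (h.mem_Q0.2 ⟨hQ (mul_mem (inv_mem hb) h4), ?_⟩))
    have h5 := (mem_WW.1 hw).2 _ (h.sq_mem hC (hQ hb))
    calc _ = b⁻¹ * (w⁻¹ * b * w * b⁻¹) * (w⁻¹ * b * w) := by group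
      _ = (b * b)⁻¹ * (w⁻¹ * (b * b * w)) := by rw [h2.comm h4 (inv_mem hb)]; group
      _ = 1 := by rw [h5]; group

theorem hyp_two : ∃ k : G, k • o = o ∧ k • t • o = t • o ∧
    ∀ y : G, y • o ≠ o → k • y • o = y • o → y • o = t • o := by
  obtain ⟨k, hk, k1⟩ := h.exists_KK_ne_one
  have h1 := KK_le hk
  refine ⟨k, h1.1, h1.2, fun y y1 y2 => ?_⟩
  obtain ⟨q, hq, e⟩ := H21.RankOne.exists_Q_smul_b h.setup y1
  have h2 : q⁻¹ * (k⁻¹ * q * k) = 1 := by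
    refine mem_bot.1 (h.setup.inf_eq_bot ▸ mem_inf.2
      ⟨mul_mem (inv_mem hq) (h.conj_Q h1 hq), mem_stabilizer_iff.2 ?_⟩)
    rw [mul_smul, mul_smul, mul_smul, (mem_DD.1 h1).2, e, inv_smul_eq_iff, e, inv_smul_eq_iff, y2]
  have h3 : k * q = q * k := by
    calc _ = k * q * (q⁻¹ * (k⁻¹ * q * k)) := by rw [h2, mul_one]
      _ = k * (q * q⁻¹) * k⁻¹ * q * k := by group
      _ = _ := by group
  rw [← e, h.K_fpf hk k1 hq h3, one_smul]

end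

theorem se_end [IsSimpleGroup G] {H : Subgroup G} (hH : IsStronglyEmbedded H) :
    (∀ B, B ⊴ H → Abl B → IsPi {2} B → ∀ b ∈ B, b * b = 1) ∧ ∃ t ∉ H, ∃ k ∈ H, t⁻¹ * k * t ∈ H ∧
      ∀ y ∉ H, y⁻¹ * k * y ∈ H → t⁻¹ * y ∈ H := by
  obtain ⟨t, Q, s, r, h⟩ := B71.bender_simple hH
  have e0 : ∀ g : G, g • ((1 : G) : G ⧸ H) = ((1 : G) : G ⧸ H) ↔ g ∈ H := fun g => by
    rw [← mem_stabilizer_iff, stabilizer_quotient]
  refine ⟨fun B h1 h2 h3 b => hyp_el h (by rwa [stabilizer_quotient]) h2 h3, t,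
    fun e => h.setup.not_mem ((e0 t).2 e), ?_⟩
  obtain ⟨k, k1, k2, k3⟩ := hyp_two h
  refine ⟨k, (e0 k).1 k1, (e0 _).1 (by rw [mul_smul, mul_smul, k2, inv_smul_smul]), fun y y1 y2 =>
    (e0 _).1 ?_⟩
  rw [mul_smul, k3 y (fun e => y1 ((e0 y).1 e)), inv_smul_smul]
  rw [← e0, mul_smul, mul_smul, inv_smul_eq_iff] at y2
  exact y2

theorem St.nml_bot (h : St Δ) (hA : A ∈ Δ) (hL : L ⊴ ⊤) (hK : K ⊴ L) (hle : K ≤ N[A]) : K = ⊥ := by
  have h1 : sSup {K | K ⊴ L ∧ K ≤ N[A]} ⊴ L := nml_sSup fun _ h => h.1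
  have h2 : sSup {K | K ⊴ L ∧ K ≤ N[A]} ⊴ N[A] := ⟨sSup_le fun _ h => h.2, fun g hg =>
    mem_N_of_cj_le (cj_le_iff.2 (sSup_le fun K hK => cj_le_iff.1 (le_sSup ⟨by
      have := hK.1.cj g
      rwa [cj_of_mem_N (hL.norm (mem_top g))] at this, cj_le_of_mem hK.2 hg⟩)))⟩
  by_contra hn
  exact h.O2_ne_bot hA h2 (ne_bot_of_le hn (le_sSup ⟨hK, hle⟩))
    (eq_bot_of_le h.o2 ((h1.pcore_le _).trans (hL.pcore_le _)))

theorem St.odd_bot (h : St Δ) (hA : A ∈ Δ) : O[{2}ᶜ, (⊤ : Subgroup G)] = ⊥ := by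
  obtain ⟨u, hu, w, hw, u1, w1, hne⟩ := h.four A hA
  have hn := pcore_nml {2}ᶜ (⊤ : Subgroup G)
  exact h.nml_bot hA (Nml.refl ⊤) hn (B71.gen_four ⟨u1, h.sq hA hu⟩ ⟨w1, h.sq hA hw⟩ hne
    (h.comm hA (Om_le A hu) (Om_le A hw)) (B71.odd_iff_isPi.2 (pcore_pi _ _)) (hn.norm (mem_top u))
    (hn.norm (mem_top w)) fun x hx hx' y hy => h.N_of_comm hA (Om_le A
      ((sup_le (zpowers_le.2 hu) (zpowers_le.2 hw) : _ ≤ Om A) hx)) hx'.1 (mem_C1.1 hy.2))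

namespace NoC

variable (h : NoC Δ)
include h

theorem cj_eq (hA : A ∈ Δ) (ha : a ∈ A) (h1 : a ≠ 1) (hg : g * a * g⁻¹ ∈ N[A]) : g ∈ N[A] :=
  mem_N_iff_cj.2 (h.eq (h.st.cjm A hA g) hA (conj_mem_cj g ha) (cj_ne g h1) hg)

theorem syl (hA : A ∈ Δ) : ∃ S, Syl 2 ⊤ S ∧ S ≤ N[A] ∧ IsStronglyClosed A S := by
  obtain ⟨S, hS, hAS⟩ := Sylow_superset Nat.prime_two (h.st.two A hA) (norm_self A)
  obtain ⟨u, hu, u1⟩ := h.st.ex1 hA
  refine ⟨S, hS.of_norm_le Nat.prime_two le_top fun g hg => h.cj_eq hA (Om_le A hu) u1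
    (hS.le (conj_mem hg.2 (hAS (Om_le A hu)))), hS.le, hAS, fun x hx g hg => ?_⟩
  by_cases x1 : x = 1
  · simp [x1]
  · exact conj_mem (h.cj_eq hA hx x1 (hS.le hg)) hx

theorem meet (hA : A ∈ Δ) (hL : L ⊴ ⊤) (h1 : A ⊓ L ≠ ⊥) (hK : K ⊴ L) (h2 : K ≠ ⊥) :
    A ⊓ K ≠ ⊥ := fun e => by
  obtain ⟨S, hS, -, hc⟩ := h.syl hA
  obtain ⟨P, rfl⟩ := hS.exists_sylow_top Nat.prime_two
  have h3 := Cfsg.Agent.S1251.result P (A ⊓ L) ⟨inf_le_left.trans hc.1, fun x hx g hg =>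
    ⟨hc.2 x hx.1 g hg, conj_mem (hL.norm (mem_top g)) hx.2⟩⟩ K (inf_le_right.trans hK.norm) (by
      rw [← map_eq_bot_iff_of_injective _ K.subtype_injective, ← pcore_compl_singleton Nat.prime_two]
      exact eq_bot_of_le (h.st.odd_bot hA) ((hK.pcore_le _).trans (hL.pcore_le _)))
    (eq_bot_of_le e (inf_le_inf_right K inf_le_left))
  obtain ⟨x, hx, x1⟩ := exists_ne_one h1
  exact h2 (h.st.nml_bot hA hL hK fun g hg => h.st.N_of_comm hA hx.1 x1 (mem_C.1 (h3 hx) g hg))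

theorem simple (hA : A ∈ Δ) : ∃ L : Subgroup G, L ⊴ ⊤ ∧ L ≠ ⊥ ∧ ∀ K, K ⊴ L → K = ⊥ ∨ K = L := by
  obtain ⟨L, -, ⟨hL, L1⟩, hm⟩ := exists_min (P := fun L : Subgroup G => L ⊴ ⊤ ∧ L ≠ ⊥) (H := ⊤)
    ⟨Nml.refl ⊤, ne_bot_of_le (h.st.ne_bot hA) le_top⟩
  have h1 := h.meet hA (Nml.refl ⊤) (by simpa using h.st.ne_bot hA) hL L1
  refine ⟨L, hL, L1, fun K hK => or_iff_not_imp_left.2 fun K1 => ?_⟩
  obtain ⟨J, hJK, ⟨hJ, J1⟩, hm'⟩ := exists_min (P := fun J : Subgroup G => J ⊴ L ∧ J ≠ ⊥) ⟨hK, K1⟩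
  obtain ⟨x, hx, x1⟩ := exists_ne_one (h.meet hA hL h1 hJ J1)
  have h2 : L ⊓ C[J] = ⊥ := h.st.nml_bot hA hL hJ.infC fun g hg =>
    h.st.N_of_comm hA hx.1 x1 (mem_C'.1 hg.2 x hx.2)
  refine le_antisymm hK.le ((hm J ⟨⟨le_top, fun g _ => mem_N_of_le_cj ?_⟩, J1⟩ hJ.le).ge.trans hJK)
  have h3 : cj g J ⊴ L := by
    have := hJ.cj g
    rwa [cj_of_mem_N (hL.norm (mem_top g))] at this
  by_cases e : J ⊓ cj g J = ⊥
  · exact absurd (eq_bot_of_le h2 (le_inf h3.le (cents_symm (cents_of_inf_eq_bot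
      (hJ.le.trans h3.norm) (h3.le.trans hJ.norm) e)))) (by simpa using J1)
  · exact (hm' _ ⟨hJ.inf h3, e⟩ inf_le_left).ge.trans inf_le_right

theorem false (hA : A ∈ Δ) : False := by
  have st := h.st
  obtain ⟨L, hL, L1, hs⟩ := h.simple hA
  have hN : ∀ g, g ∈ N[L] := fun g => hL.norm (mem_top g)
  have h1 := h.meet hA (Nml.refl ⊤) (by simpa using st.ne_bot hA) hL L1
  have h2 : ¬ L ≤ N[A] := fun e => L1 (st.nml_bot hA hL (Nml.refl L) e)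
  have h3 : N[A].subgroupOf L ≠ ⊤ := fun e => h2 (subgroupOf_eq_top.1 e)
  have : IsSimpleGroup L := by
    have : Nontrivial L := (nontrivial_iff_ne_bot L).2 L1
    refine ⟨fun M hM => ?_⟩
    rcases hs _ (nml_map_subtype M) with e | e
    · exact Or.inl ((map_eq_bot_iff_of_injective _ L.subtype_injective).1 e)
    · exact Or.inr (map_injective L.subtype_injective (e.trans (map_subtype_top L).symm))
  obtain ⟨z, hz, z1, z2⟩ := Gold.TwoG.exists_inv ((st.two A hA).inf_left L) h1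
  have z3 : orderOf (⟨z, hz.2⟩ : L) = 2 :=
    H6.orderOf_eq_two_of (Subtype.ext z2) fun e => z1 (congrArg Subtype.val e)
  obtain ⟨S, hS, -, hc⟩ := h.syl hA
  obtain ⟨P, hP⟩ := Syl.exists_sylow Nat.prime_two (hS.inf_nml hL)
  have hP' : ∀ x : L, x ∈ (P : Subgroup L) ↔ (x : G) ∈ S := fun x => by
    rw [← mem_map_iff_mem L.subtype_injective, hP]; simp
  obtain ⟨H, hH⟩ := Cfsg.Agent.S1174.result P (A.subgroupOf L)
    (ne_bot_of_mem (x := ⟨z, hz.2⟩) hz.1 fun e => z1 (congrArg Subtype.val e))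
    ⟨fun x hx => (hP' x).2 (hc.1 hx), fun x hx g hg => hc.2 x hx g ((hP' _).1 hg)⟩ fun e =>
      h3 (top_le_iff.1 (e ▸ iSup_le fun t g hg => st.N_of_comm hA t.2.1 (fun e => by
        have := t.2.2
        rw [(Subtype.ext e : t.1 = 1), orderOf_one] at this
        omega) (congrArg Subtype.val (mem_C1.1 hg))))
  have hse : IsStronglyEmbedded (N[A].subgroupOf L) := by
    refine ⟨h3, even_iff_two_dvd.2 (z3 ▸ orderOf_dvd_card' (norm_self A hz.1)), fun g hg => ?_⟩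
    by_contra ho
    obtain ⟨x, hx, x2⟩ := exists_orderOf_eq Nat.prime_two
      (even_iff_two_dvd.1 (Nat.not_odd_iff_even.1 ho))
    obtain ⟨c, e⟩ := isConj_iff.1 (H6.isConj_of_isStronglyEmbedded hH z3 x2)
    have e1 : (c : G) * z * (c : G)⁻¹ = x := congrArg Subtype.val e
    have h4 := h.cj_eq hA hz.1 z1 (g := (c : G)) (by rw [e1]; exact hx.1)
    have h5 : (g : G)⁻¹ * c ∈ N[A] := h.cj_eq hA hz.1 z1 (by
      have : (g : G)⁻¹ * x * g ∈ N[A] := (mem_cj (G := L)).1 hx.2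
      rw [← e1] at this
      simpa only [mul_inv_rev, inv_inv, mul_assoc] using this)
    exact hg (inv_mem_iff.1 ((mul_mem_cancel_right h4).1 h5))
  obtain ⟨k1, t, t1, k, k2, k3, k4⟩ := se_end hse
  have hk : (k : G) ∈ N[A] := k2
  have h6 : ∀ b ∈ A, k * b = b * k → b = 1 := fun b hb e => by
    by_contra b1
    have hb' := norm_self A hb
    have h7 := k4 ⟨b * t * b⁻¹, conj_mem (hN b) t.2⟩
      (fun e => t1 ((conj_mem_iff (norm_self _ hb')).1 e)) (by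
        have k3' : (t : G)⁻¹ * k * t ∈ N[A] := k3
        have := conj_mem (norm_self _ hb') k3'
        show _ ∈ N[A]
        convert this using 1
        calc _ = b * (t : G)⁻¹ * b⁻¹ * (k * b) * t * b⁻¹ := by simp [mul_assoc]
          _ = _ := by rw [e]; group)
    have h8 : (t : G)⁻¹ * (b * t * b⁻¹) ∈ N[A] := h7
    refine t1 (inv_mem_iff.1 (h.cj_eq hA hb b1 (g := (t : G)⁻¹) ?_) : (t : G) ∈ N[A])
    have := mul_mem h8 hb'
    simpa only [inv_inv, mul_assoc, inv_mul_cancel, mul_one] using this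
  obtain ⟨b, hb, b2⟩ := st.nel A hA
  obtain ⟨x, hx, e⟩ := surj_of_inj (f := fun x => x⁻¹ * (k * x * (k : G)⁻¹)) (le_refl ♯A)
    (fun x hx => mul_mem (inv_mem hx) (conj_mem hk hx)) (fun x hx y hy e => by
      refine mul_inv_eq_one.1 (h6 _ (mul_mem hx (inv_mem hy)) (comm_of_cj ?_))
      calc _ = x * (x⁻¹ * (k * x * (k : G)⁻¹)) * (y⁻¹ * (k * y * (k : G)⁻¹))⁻¹ * y⁻¹ := by group
        _ = _ := by rw [e]; group) hb
  have h9 : b ∈ L := by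
    have := mul_mem (conj_mem' (hN x) k.2) (inv_mem k.2)
    rw [← e]
    simpa only [mul_assoc] using this
  exact b2 (congrArg Subtype.val (k1 (A.subgroupOf L) ⟨fun y hy => norm_self A hy,
    le_N_iff.2 fun g hg y hy => conj_mem (g := (g : G)) hg hy⟩ ((st.abl A hA).subgroupOf L)
    (isPi_subgroupOf (st.two A hA) L) ⟨b, h9⟩ hb))

end NoC

end TA
end H3
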