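import Mathlib
import Cfsg.Agent.H3.TA4

/-! Abelian TI subgroups: the basic configuration forces `ℤ₄ × ℤ₄`. -/

set_option autoImplicit false
set_option linter.unusedSectionVars false
set_option linter.unusedVariables false

namespace H3
namespace TA

open H24 H26 Subgroup MulAction Cfsg

universe u

variable {G : Type u} [Group G] [Finite G] {Δ : Set (Subgroup G)}
  {A B D E F J K P X Y : Subgroup G} {a b c d e g p r s t u v w x y z : G}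

/-- squaring is onto the involutions -/
def Sq (Δ : Set (Subgroup G)) : Prop := ∀ D ∈ Δ, ∀ v ∈ Om D, ∃ b ∈ D, b * b = v

theorem St.mul_sq (h : St Δ) (hA : A ∈ Δ) (ha : a ∈ A) (hb : b ∈ A) :
    a * b * (a * b) = a * a * (b * b) := by
  calc _ = a * (b * a) * b := by group
    _ = _ := by rw [← h.comm hA ha hb]; group

theorem St.sq_iff (h : St Δ) (hA : A ∈ Δ) (ha : a ∈ A) (hb : b ∈ A) :
    a⁻¹ * b ∈ Om A ↔ a * a = b * b := by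
  have := h.mul_sq hA (inv_mem ha) hb
  rw [← mul_inv_rev] at this
  refine ⟨fun e => inv_mul_eq_one.1 (this ▸ h.sq hA e), fun e =>
    mem_Om' (mul_mem (inv_mem ha) hb) (by rw [this, e, inv_mul_cancel])⟩

theorem St.nOm (h : St Δ) (hA : A ∈ Δ) (h2 : a * a ≠ 1) : a ∉ Om A := fun e => h2 (h.sq hA e)

theorem comm_of_cm (h : s * u * s⁻¹ * u⁻¹ = t * u * t⁻¹ * u⁻¹) : s⁻¹ * t * u = u * (s⁻¹ * t) := by
  calc _ = s⁻¹ * (t * u * t⁻¹ * u⁻¹) * u * t := by group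
    _ = _ := by rw [← h]; group

theorem cm_of_inv (h : u * s * u⁻¹ = s⁻¹) : s * u * s⁻¹ * u⁻¹ = s * s := by
  calc _ = s * (u * s * u⁻¹)⁻¹ := by group
    _ = _ := by rw [h, inv_inv]

namespace Sp

variable (h : Sp Δ A B)
include h

theorem sq_of_comm (ha : a ∈ A) (hb : b ∈ A) (hu : u ∈ B) (h1 : u ≠ 1)
    (hc : a⁻¹ * b * u = u * (a⁻¹ * b)) : a * a = b * b :=
  (h.st.sq_iff h.mA ha hb).1 (h.Om_of_comm (mul_mem (inv_mem ha) hb) hu h1 hc)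

theorem cm_inj (ha : a ∈ A) (h2 : a * a ≠ 1) (hu : u ∈ Om B) (hw : w ∈ Om B)
    (e : a * u * a⁻¹ * u⁻¹ = a * w * a⁻¹ * w⁻¹) : u = w := by
  by_contra hn
  refine h.st.nOm h.mA h2 (h.Om_of_comm ha (Om_le B (mul_mem (inv_mem hw) hu))
    (fun e => hn (inv_mul_eq_one.1 e).symm) (comm_of_cj ?_))
  calc _ = (a * w * a⁻¹)⁻¹ * (a * u * a⁻¹ * u⁻¹) * u := by group
    _ = _ := by rw [e]; group

theorem f5 (ha : a ∈ A) (h2 : a * a ≠ 1) (hv : v ∈ Om A) : ∃ u ∈ Om B, a * u * a⁻¹ * u⁻¹ = v :=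
  surj_of_inj (f := fun u => a * u * a⁻¹ * u⁻¹) (h.st.card_Om h.mA h.mB).le
    (fun u hu => h.ex4.cv' h.st h.mA (cents_symm h.cV hu) ha)
    (fun u hu w hw e => h.cm_inj ha h2 hu hw e) hv

theorem ex_inv (ha : a ∈ A) (h2 : a * a ≠ 1) : ∃ u ∈ Om B, u ≠ 1 ∧ u * a * u⁻¹ = a⁻¹ := by
  obtain ⟨u, hu, e⟩ := h.f5 ha h2 (h.ex4 A h.mA a ha)
  refine ⟨u, hu, fun e' => h2 (by rw [← e, e']; group), ?_⟩
  calc _ = (a⁻¹ * (a * u * a⁻¹ * u⁻¹))⁻¹ := by group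
    _ = _ := by rw [e]; group

theorem inv_uniq (ha : a ∈ A) (h2 : a * a ≠ 1) (hu : u ∈ Om B) (hw : w ∈ Om B)
    (e1 : u * a * u⁻¹ = a⁻¹) (e2 : w * a * w⁻¹ = a⁻¹) : u = w :=
  h.cm_inj ha h2 hu hw (by rw [cm_of_inv e1, cm_of_inv e2])

theorem cm_mul (hs : s ∈ A) (ht : t ∈ A) (hc : c ∈ C[Om A]) :
    s * t * c * (s * t)⁻¹ * c⁻¹ = s * c * s⁻¹ * c⁻¹ * (t * c * t⁻¹ * c⁻¹) := by
  have h1 := Om_le A (h.ex4.cv' h.st h.mA hc ht)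
  rw [h.st.comm h.mA (Om_le A (h.ex4.cv' h.st h.mA hc hs)) h1]
  conv_rhs => rw [← cj_of_comm (h.st.comm h.mA hs h1)]
  group

variable (hq : Sq Δ)
include hq

theorem f1 (hu : u ∈ Om B) (h1 : u ≠ 1) (hv : v ∈ Om A) : ∃ a ∈ A, a * u * a⁻¹ * u⁻¹ = v := by
  choose! f hf1 hf2 using hq A h.mA
  obtain ⟨x, hx, e⟩ := surj_of_inj (f := fun v => f v * u * (f v)⁻¹ * u⁻¹) (le_refl ♯(Om A))
    (fun v hv => h.ex4.cv' h.st h.mA (cents_symm h.cV hu) (hf1 v hv))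
    (fun v hv w hw e => by
      rw [← hf2 v hv, ← hf2 w hw]
      exact h.sq_of_comm (hf1 v hv) (hf1 w hw) (Om_le B hu) h1 (comm_of_cm e)) hv
  exact ⟨f x, hf1 x hx, e⟩

theorem f3 (hD : D ∈ Δ) (hle : Om D ≤ Ln A B) (hne : D ≠ A) : ∃ a ∈ A, H24.cj a B = D := by
  obtain ⟨s, e⟩ := h.line hD hle hne
  obtain ⟨u, hu, h1⟩ := h.st.ex1 h.mB
  obtain ⟨v, hv, w, hw, e'⟩ := (s.memE (e := u)).1 (by rw [e]; exact mem_sup_right hu)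
  obtain ⟨a, ha, e2⟩ := h.f1 hq hu h1 (inv_mem hv)
  refine ⟨a, ha, h.st.cj_eq h.mB hD (Om_le B hu) h1 ?_⟩
  rw [mul_inv_eq_iff_eq_mul.1 e2, e', inv_mul_cancel_left]
  exact Om_le D hw

theorem spread (he : e ∈ Ln A B) (h1 : e ≠ 1) : ∃ D ∈ Δ, Om D ≤ Ln A B ∧ e ∈ Om D := by
  obtain ⟨v, hv, u, hu, rfl⟩ := h.memE.1 he
  by_cases h2 : u = 1
  · exact ⟨A, h.mA, le_sup_left, by rwa [h2, mul_one]⟩
  obtain ⟨a, ha, e⟩ := h.f1 hq hu h2 hv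
  refine ⟨_, h.st.cjm B h.mB a, ?_, mul_inv_eq_iff_eq_mul.1 e ▸ cj_mem_Om a hu⟩
  rw [← cj_Om]
  exact cj_le_of_mem_N le_sup_right (h.normA ha)

theorem on_line (hD : D ∈ Δ) (hx : x ∈ D) (h1 : x ≠ 1) (he : x ∈ Ln A B) : Om D ≤ Ln A B := by
  obtain ⟨P, hP, hle, hx'⟩ := h.spread hq he h1
  rwa [h.st.ti D hD P hP x hx (Om_le P hx') h1]

theorem sup_eq (hD : D ∈ Δ) (hle : Om D ≤ Ln A B) (hne : D ≠ A) : A ⊔ D = A ⊔ B := by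
  obtain ⟨a, ha, rfl⟩ := h.f3 hq hD hle hne
  conv_lhs => rw [← cj_of_mem ha, ← cj_sup, cj_of_mem (mem_sup_left ha)]

theorem le_X (hD : D ∈ Δ) (hle : Om D ≤ Ln A B) : D ≤ A ⊔ B := by
  by_cases e : D = A
  · exact e ▸ le_sup_left
  · exact h.sup_eq hq hD hle e ▸ le_sup_right

theorem trX (hD : D ∈ Δ) (hle : Om D ≤ Ln A B) : ∃ x ∈ A ⊔ B, H24.cj x A = D := by
  by_cases e : D = A
  · exact ⟨1, one_mem _, by rw [cj_one, e]⟩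
  obtain ⟨a, ha, rfl⟩ := h.f3 hq hD hle e
  obtain ⟨x, hx, e'⟩ := h.symm.tau
  exact ⟨a * x, mul_mem (mem_sup_left ha) (by rwa [sup_comm]), by rw [cj_mul, e']⟩

theorem f4 (hv : v ∈ Om A) (hv1 : v ≠ 1) (hw : w ∈ Om A) (hw1 : w ≠ 1) :
    ∃ g ∈ A ⊔ B, g ∈ N[A] ∧ g ∈ N[B] ∧ g * v * g⁻¹ = w := by
  obtain ⟨s, hs, rfl⟩ := hq A h.mA v hv
  obtain ⟨t, ht, rfl⟩ := hq A h.mA w hw
  obtain ⟨b, hb, hb'⟩ := h.symm.ex_nOm
  obtain ⟨x, hx, e1, e2⟩ := h.tau' hs (h.st.nOm h.mA hv1) hb hb'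
  obtain ⟨y, hy, e3, e4⟩ := h.tau' ht (h.st.nOm h.mA hw1) hb hb'
  rw [h.st.sq_iff h.mA (e1 ▸ conj_mem_cj x hb) hs] at e2
  rw [h.st.sq_iff h.mA (e3 ▸ conj_mem_cj y hb) ht] at e4
  have hg : y * x⁻¹ ∈ A ⊔ B := mul_mem hy (inv_mem hx)
  have hN : y * x⁻¹ ∈ N[A] := by rw [mem_N_iff_cj, cj_mul, ← e1, cj_inv_cj, e3, e1]
  obtain ⟨a, ha, e5⟩ := h.f3 hq (h.cjN hN).mB
    (by rw [← cj_Om]; exact cj_le_of_mem_N le_sup_right (h.normX hg)) (h.cjN hN).ne.symm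
  refine ⟨a⁻¹ * (y * x⁻¹), mul_mem (mem_sup_left (inv_mem ha)) hg,
    mul_mem (norm_self A (inv_mem ha)) hN, by rw [mem_N_iff_cj, cj_mul, ← e5, cj_inv_cj], ?_⟩
  calc _ = a⁻¹ * (y * x⁻¹ * (s * s) * (y * x⁻¹)⁻¹) * a⁻¹⁻¹ := by group
    _ = a⁻¹ * (t * t) * a⁻¹⁻¹ := by rw [← e2, ← e4]; group
    _ = _ := cj_of_comm (h.st.comm h.mA (inv_mem ha) (mul_mem ht ht))

theorem swap (ht : t ∈ A) (h2 : t * t ≠ 1) : ∃ w, H24.cj w A = B ∧ H24.cj w B = A ∧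
    ∀ a ∈ Om B, w * a * w⁻¹ = t * a * t⁻¹ * a⁻¹ ∧ w * (t * a * t⁻¹ * a⁻¹) * w⁻¹ = a := by
  have s1 := h.cjN (norm_self A ht)
  have hle : Om (H24.cj t B) ≤ Ln A B := by
    rw [← cj_Om]; exact cj_le_of_mem_N le_sup_right (h.normA ht)
  have e1 := (h.line s1.mB hle s1.ne.symm).2
  obtain ⟨w, hw, e2⟩ := s1.symm.f3 hq h.mB (by rw [Ln_comm, e1]; exact le_sup_right)
    fun e => h.st.nOm h.mA h2 (h.Om_of_N ht (mem_N_iff_cj.2 e.symm))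
  have hw2 := hle (h.ex4 _ s1.mB w hw)
  have e3 : H24.cj w B = A := by
    rw [← e2, ← cj_mul, cj_of_mem_N (h.st.C_Om_le h.mA (h.EA hw2))]
  refine ⟨w, e2, e3, fun a ha => ?_⟩
  have k : w * a * w⁻¹ = t * a * t⁻¹ * a⁻¹ := by
    have h3 : w * a * w⁻¹ ∈ A := e3 ▸ conj_mem_cj w (Om_le B ha)
    obtain ⟨b, hb, e4⟩ := mem_Om_cj.1 (h.ex4.cv' h.st s1.mB
      (cents_of_le h.EC hle (mem_sup_right ha)) hw)
    have h4 := Om_le A (h.ex4.cv' h.st h.mA (cents_symm h.cV hb) ht)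
    have e5 : (t * b * t⁻¹ * b⁻¹)⁻¹ * (w * a * w⁻¹) = b * a := by
      rw [mul_inv_eq_iff_eq_mul.1 e4]; group
    have e6 : b * a = 1 := h.one (e5 ▸ mul_mem (inv_mem h4) h3) (Om_le B (mul_mem hb ha))
    have e7 : b = a := by rw [← h.st.inv h.mB ha]; exact eq_inv_of_mul_eq_one_left e6
    rw [e6, inv_mul_eq_one, e7] at e5
    exact e5.symm
  refine ⟨k, ?_⟩
  rw [← k]
  calc _ = w * w * a * (w * w)⁻¹ := by group
    _ = a := conj_eq_of_mem_C (h.EB hw2) ha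

end Sp

namespace Cfg

variable (h : Cfg Δ A B D)
include h

theorem symm : Cfg Δ A D B := ⟨h.s2, h.s1, fun e => h.ur (cents_symm e), fun u hu a ha => by
  simpa only [mul_inv_rev, inv_inv, mul_assoc] using inv_mem (h.cm a ha u hu)⟩

theorem cj (g : G) : Cfg Δ (cj g A) (cj g B) (cj g D) :=
  ⟨h.s1.cj g, h.s2.cj g, fun e => h.ur (by rwa [← cj_Om, ← cj_Om, ← cj_C, cj_le_cj] at e),
    fun a1 ha1 u1 hu1 => by
      obtain ⟨a, ha, rfl⟩ := mem_Om_cj.1 ha1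
      obtain ⟨u, hu, rfl⟩ := mem_Om_cj.1 hu1
      convert cj_mem_Om g (h.cm a ha u hu) using 1
      group⟩

theorem normB : Om B ≤ N[Ln A D] := le_N_iff.2 fun a ha e he => by
  obtain ⟨v, hv, u, hu, rfl⟩ := h.s2.memE.1 he
  have : a * (v * u) * a⁻¹ = v * (a * u * a⁻¹ * u⁻¹) * u := by
    rw [cj_mul', cj_of_comm (comm_of_cent h.s1.cV hv ha).symm]; group
  rw [this]
  exact mul_mem (mem_sup_left (mul_mem hv (h.cm a ha u hu))) (mem_sup_right hu)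

theorem one_of_C (ha : a ∈ Om B) (hc : a ∈ C[Ln A D]) : a = 1 := by
  by_contra h1
  exact h.ur (h.s1.st.rel h.s1.mB h.s2.mB (Om_le B ha) h1
    (h.s1.st.C_Om_le h.s2.mB (C_anti le_sup_right hc)))

theorem exs (ha : a ∈ Om B) : ∃ s ∈ A, s⁻¹ * a ∈ C[Ln A D] :=
  h.s2.sig (h.normB ha) (cents_symm h.s1.cV ha)

theorem mul (hs : s ∈ A) (ht : t ∈ A) (h1 : s⁻¹ * a ∈ C[Ln A D]) (h2 : t⁻¹ * b ∈ C[Ln A D]) :
    (s * t)⁻¹ * (a * b) ∈ C[Ln A D] := by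
  convert mul_mem (mem_C_cj (inv_mem (h.s2.normA ht)) h1) h2 using 1
  group

theorem sq_eq (hs : s ∈ A) (ht : t ∈ A) (h1 : s⁻¹ * a ∈ C[Ln A D]) (h2 : t⁻¹ * a ∈ C[Ln A D]) :
    s * s = t * t := by
  rw [← h.s1.st.sq_iff h.s1.mA hs ht]
  refine h.s2.Om_of_CE (mul_mem (inv_mem hs) ht) ?_
  convert mul_mem h1 (inv_mem h2) using 1
  group

theorem exa' (hv : v ∈ Om A) : ∃ a ∈ Om B, ∃ s ∈ A, s⁻¹ * a ∈ C[Ln A D] ∧ s * s = v := by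
  choose! f hf1 hf2 using fun a (ha : a ∈ Om B) => h.exs ha
  obtain ⟨a, ha, e⟩ := surj_of_inj (f := fun a => f a * f a) (h.s1.st.card_Om h.s1.mA h.s1.mB).le
    (fun a ha => h.s1.ex4 A h.s1.mA _ (hf1 a ha)) (fun a ha b hb e => by
      have h1 := (h.s1.st.sq_iff h.s1.mA (hf1 a ha) (hf1 b hb)).2 e
      refine inv_mul_eq_one.1 (h.one_of_C (mul_mem (inv_mem ha) hb) ?_)
      convert mul_mem (mul_mem (inv_mem (hf2 a ha)) (h.s2.EC (mem_sup_left h1))) (hf2 b hb) using 1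
      group) hv
  exact ⟨a, ha, f a, hf1 a ha, hf2 a ha, e⟩

theorem sq : Sq Δ := fun P hP v hv => by
  obtain ⟨g, rfl⟩ := h.s1.st.tr A h.s1.mA P hP
  obtain ⟨-, -, s, hs, -, e⟩ := (h.cj g).exa' hv
  exact ⟨s, hs, e⟩

theorem exa (hs : s ∈ A) : ∃ a ∈ Om B, s⁻¹ * a ∈ C[Ln A D] := by
  obtain ⟨a, ha, t, ht, h1, e⟩ := h.exa' (h.s1.ex4 A h.s1.mA s hs)
  refine ⟨a, ha, ?_⟩
  convert mul_mem (h.s2.EC (mem_sup_left ((h.s1.st.sq_iff h.s1.mA hs ht).2 e.symm))) h1 using 1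
  group

theorem inv (hs : s ∈ A) (ha : a ∈ Om B) (h1 : s⁻¹ * a ∈ C[Ln A D]) : a * s * a⁻¹ = s⁻¹ :=
  h.s2.inverts hs h1 (h.s1.st.sq h.s1.mB ha)

theorem of_inv (hs : s ∈ A) (h2 : s * s ≠ 1) (ha : a ∈ Om B) (h1 : a * s * a⁻¹ = s⁻¹) :
    s⁻¹ * a ∈ C[Ln A D] := by
  obtain ⟨b, hb, e⟩ := h.exa hs
  rwa [h.s1.inv_uniq hs h2 ha hb h1 (h.inv hs hb e)]

theorem q1 (ht : t ∈ A) (ht2 : t * t ≠ 1) (hr : r ∈ A) (hr2 : r * r ≠ 1) (hs : s ∈ A)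
    (ha : a ∈ Om B) (hb : b ∈ Om B) (h1 : r⁻¹ * a ∈ C[Ln A D]) (h2 : s⁻¹ * b ∈ C[Ln A D])
    (e : t * b * t⁻¹ * b⁻¹ = r * r) : t * a * t⁻¹ * a⁻¹ = s * s := by
  obtain ⟨w, w1, w2, w3⟩ := h.s1.swap h.sq ht ht2
  obtain ⟨x, x1, x2, x3⟩ := h.s1.swap h.sq hr hr2
  have i1 := h.inv hr ha h1
  have hN : w * x ∈ N[A] := by rw [mem_N_iff_cj, cj_mul, x1, w2]
  have e1 : w * x * a * (w * x)⁻¹ = b := by
    rw [← (w3 b hb).2, e, ← cm_of_inv i1, ← (x3 a ha).1]; group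
  have e2 : w * x * (r * r) * (w * x)⁻¹ = t * a * t⁻¹ * a⁻¹ := by
    rw [← (w3 a ha).1, ← cm_of_inv i1]
    conv_rhs => rw [← (x3 a ha).2]
    group
  have hr' := conj_mem hN hr
  rw [← e2, cj_mul']
  refine h.sq_eq hr' hs (h.of_inv hr' (by rw [← cj_mul']; exact cj_ne _ hr2) hb ?_) h2
  rw [← e1]
  calc _ = w * x * (a * r * a⁻¹) * (w * x)⁻¹ := by group
    _ = _ := by rw [i1]; group

theorem q2 (ht : t ∈ A) (ht2 : t * t ≠ 1) (hr : r ∈ A) (hr2 : r * r ≠ 1) (hne : r * r ≠ t * t)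
    (ha : a ∈ Om B) (h1 : r⁻¹ * a ∈ C[Ln A D]) : t * a * t⁻¹ * a⁻¹ = r * r * (t * t) := by
  have st := h.s1.st
  obtain ⟨b, hb, e⟩ := h.s1.f5 ht ht2 (h.s1.ex4 A h.s1.mA r hr)
  obtain ⟨s, hs, h2⟩ := h.exs hb
  have e1 := h.q1 ht ht2 hr hr2 hs ha hb h1 h2 e
  have i1 := h.inv hr ha h1
  have ha1 : a ≠ 1 := fun e => hr2 (by rw [← cm_of_inv i1, e]; group)
  have i2 := h.inv (mul_mem hr hs) (mul_mem ha hb) (h.mul hr hs h1 h2)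
  have e2 : t * (a * b) * t⁻¹ * (a * b)⁻¹ = r * s * (r * s) := by
    calc _ = t * a * t⁻¹ * a⁻¹ * (a * (t * b * t⁻¹ * b⁻¹) * a⁻¹) := by group
      _ = _ := by
        rw [e, e1, conj_eq_of_mem_C (cents_symm h.s1.cV ha) (h.s1.ex4 A h.s1.mA r hr),
          st.mul_sq h.s1.mA hr hs, st.comm h.s1.mA (mul_mem hs hs) (mul_mem hr hr)]
  by_cases h3 : a * b = 1
  · exfalso
    have e3 : b = a := by rw [← st.inv h.s1.mB ha]; exact eq_inv_of_mul_eq_one_right h3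
    exact hne (h.s1.sq_of_comm hr ht (Om_le B ha) ha1
      (comm_of_cm (by rw [cm_of_inv i1, ← e, e3])))
  · have e3 := h.s1.sq_of_comm (mul_mem hr hs) ht (Om_le B (mul_mem ha hb)) h3
      (comm_of_cm (by rw [cm_of_inv i2, e2]))
    rw [e1, ← e3, st.mul_sq h.s1.mA hr hs, mm (st.sq h.s1.mA (h.s1.ex4 A h.s1.mA r hr))]

theorem q3 (hv : v ∈ Om A) (hw : w ∈ Om A) (hx : x ∈ Om A) (hv1 : v ≠ 1) (hw1 : w ≠ 1)
    (hne : v ≠ w) : x = 1 ∨ x = v ∨ x = w ∨ x = v * w := by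
  have st := h.s1.st
  by_contra hn
  simp only [not_or] at hn
  obtain ⟨n1, n2, n3, n4⟩ := hn
  obtain ⟨r, hr, rfl⟩ := h.sq A h.s1.mA v hv
  obtain ⟨t, ht, rfl⟩ := h.sq A h.s1.mA w hw
  obtain ⟨p, hp, rfl⟩ := h.sq A h.s1.mA x hx
  obtain ⟨a, ha, h1⟩ := h.exa hr
  have e1 := h.q2 ht hw1 hr hv1 hne ha h1
  have e2 := h.q2 hp n1 hr hv1 (Ne.symm n2) ha h1
  have e0 := st.mul_sq h.s1.mA ht hp
  have e3 := h.q2 (mul_mem ht hp) (fun e => n3 (by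
      rw [e0] at e
      rw [← inv_eq_of_mul_eq_one_right e, st.inv h.s1.mA hw])) hr hv1
    (fun e => n4 (by
      rw [e, e0, st.comm h.s1.mA (mul_mem ht ht) (mul_mem hp hp), mm' (st.sq h.s1.mA hw)])) ha h1
  rw [h.s1.cm_mul ht hp (cents_symm h.s1.cV ha), e1, e2, e0, mul_assoc, mul_right_inj,
    mul_right_inj] at e3
  exact hv1 (mul_eq_right.1 e3)

end Cfg

/-- the points are `ℤ₄ × ℤ₄` -/
structure Fu (Δ : Set (Subgroup G)) : Prop where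
  st : St Δ
  ex4 : Ex4 Δ
  sq : Sq Δ
  q4 : ∀ A ∈ Δ, ∀ v ∈ Om A, ∀ w ∈ Om A, ∀ x ∈ Om A, v ≠ 1 → w ≠ 1 → v ≠ w →
    x = 1 ∨ x = v ∨ x = w ∨ x = v * w
  cfg : ∀ A ∈ Δ, ∃ B D, Cfg Δ A B D

theorem Cfg.fu (h : Cfg Δ A B D) : Fu Δ :=
  ⟨h.s1.st, h.s1.ex4, h.sq, fun P hP v hv w hw x hx => by
    obtain ⟨g, rfl⟩ := h.s1.st.tr A h.s1.mA P hP
    exact (h.cj g).q3 hv hw hx, fun P hP => by
    obtain ⟨g, rfl⟩ := h.s1.st.tr A h.s1.mA P hP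
    exact ⟨_, _, h.cj g⟩⟩

namespace Fu

variable (h : Fu Δ)
include h

theorem ex_sq (hA : A ∈ Δ) (x : G) : ∃ t ∈ A, t * t ≠ 1 ∧ t * t ≠ x := by
  obtain ⟨v, hv, h1, h2⟩ := h.st.ex_ne hA x
  obtain ⟨t, ht, rfl⟩ := h.sq A hA v hv
  exact ⟨t, ht, h1, h2⟩

theorem inv_congr (hA : A ∈ Δ) (hu : u ∈ C[Om A]) (hs : s ∈ A) (hp : p ∈ A) (e : s * s = p * p)
    (i : u * s * u⁻¹ = s⁻¹) : u * p * u⁻¹ = p⁻¹ := by
  have h1 := (h.st.sq_iff hA hs hp).2 e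
  calc _ = u * s * u⁻¹ * (u * (s⁻¹ * p) * u⁻¹) := by group
    _ = (s * s)⁻¹ * p := by rw [i, conj_eq_of_mem_C hu h1]; group
    _ = _ := by rw [e]; group

theorem ninv (s1 : Sp Δ A B) (hu : u ∈ Om B) (hs : s ∈ A) (ht : t ∈ A) (hs2 : s * s ≠ 1)
    (ht2 : t * t ≠ 1) (i1 : u * s * u⁻¹ = s⁻¹) (i2 : u * t * u⁻¹ = t⁻¹) : s * s = t * t := by
  by_contra hn
  have hc := cents_symm s1.cV hu
  have hu1 : u ≠ 1 := fun e => hs2 (by rw [← cm_of_inv i1, e]; group)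
  have key : ∀ p ∈ A, u * p * u⁻¹ = p⁻¹ := fun p hp => by
    rcases h.q4 A s1.mA _ (h.ex4 A s1.mA s hs) _ (h.ex4 A s1.mA t ht) _ (h.ex4 A s1.mA p hp)
      hs2 ht2 hn with e | e | e | e
    · exact h.inv_congr s1.mA hc (one_mem _) hp (by rw [e, mul_one]) (by group)
    · exact h.inv_congr s1.mA hc hs hp e.symm i1
    · exact h.inv_congr s1.mA hc ht hp e.symm i2
    · exact h.inv_congr s1.mA hc (mul_mem hs ht) hp (by rw [e, h.st.mul_sq s1.mA hs ht])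
        (by rw [cj_mul', i1, i2, h.st.comm s1.mA hs ht, mul_inv_rev])
  obtain ⟨w, hw, hw1, hwu⟩ := h.st.ex_ne s1.mB u
  obtain ⟨g, -, -, hg, e⟩ := s1.symm.f4 h.sq hu hu1 hw hw1
  refine hwu (s1.inv_uniq hs hs2 hw hu ?_ i1)
  rw [← e]
  calc _ = g * (u * (g⁻¹ * s * g) * u⁻¹) * g⁻¹ := by group
    _ = _ := by rw [key _ (conj_mem' hg hs)]; group

theorem act (s1 : Sp Δ A B) (hu : u ∈ Om B) (hs : s ∈ A) (ht : t ∈ A) (hs2 : s * s ≠ 1)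
    (ht2 : t * t ≠ 1) (hn : s * s ≠ t * t) (i1 : u * s * u⁻¹ = s⁻¹) :
    t * u * t⁻¹ * u⁻¹ = s * s * (t * t) := by
  have hu1 : u ≠ 1 := fun e => hs2 (by rw [← cm_of_inv i1, e]; group)
  rcases h.q4 A s1.mA _ (h.ex4 A s1.mA s hs) _ (h.ex4 A s1.mA t ht) _
    (h.ex4.cv' h.st s1.mA (cents_symm s1.cV hu) ht) hs2 ht2 hn with e | e | e | e
  · exact absurd (s1.Om_of_comm ht (Om_le B hu) hu1 (comm_of_cj (mul_inv_eq_one.1 e)))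
      (h.st.nOm s1.mA ht2)
  · exact absurd (s1.sq_of_comm hs ht (Om_le B hu) hu1 (comm_of_cm (by rw [e, cm_of_inv i1]))) hn
  · refine absurd (h.ninv s1 hu hs ht hs2 ht2 i1 ?_) hn
    calc _ = (t⁻¹ * (t * u * t⁻¹ * u⁻¹))⁻¹ := by group
      _ = _ := by rw [e]; group
  · exact e

theorem ty2 (s1 : Sp Δ A B) (s2 : Sp Δ A D) (hu : u ∈ Om B) (hw : w ∈ Om D) (hs : s ∈ A)
    (hs2 : s * s ≠ 1) (i1 : u * s * u⁻¹ = s⁻¹) (i2 : w * s * w⁻¹ = s⁻¹) : u⁻¹ * w ∈ C[A] := by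
  refine mem_C'.2 fun p hp => comm_of_cm (inv_injective ?_)
  simp only [mul_inv_rev, inv_inv, ← mul_assoc]
  by_cases e1 : p * p = 1
  · rw [comm_of_cent s1.cV (mem_Om' hp e1) hu, comm_of_cent s2.cV (mem_Om' hp e1) hw]; group
  by_cases e2 : s * s = p * p
  · rw [cm_of_inv (h.inv_congr s1.mA (cents_symm s1.cV hu) hs hp e2 i1),
      cm_of_inv (h.inv_congr s1.mA (cents_symm s2.cV hw) hs hp e2 i2)]
  · rw [h.act s1 hu hs hp hs2 e1 e2 i1, h.act s2 hw hs hp hs2 e1 e2 i2]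

theorem exinv (s1 : Sp Δ A B) (hu : u ∈ Om B) (h1 : u ≠ 1) :
    ∃ s ∈ A, s * s ≠ 1 ∧ u * s * u⁻¹ = s⁻¹ := by
  obtain ⟨s, hs, hs2, -⟩ := h.ex_sq s1.mA 1
  obtain ⟨t, ht, ht2, hn⟩ := h.ex_sq s1.mA (s * s)
  have e0 := h.st.mul_sq s1.mA hs ht
  have hst : s * t * (s * t) ≠ 1 := fun e => hn (by
    rw [e0] at e
    rw [← inv_eq_of_mul_eq_one_right e, h.st.inv s1.mA (h.ex4 A s1.mA s hs)])
  obtain ⟨a, ha, ha1, i1⟩ := s1.ex_inv hs hs2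
  obtain ⟨b, hb, hb1, i2⟩ := s1.ex_inv ht ht2
  obtain ⟨c, hc, hc1, i3⟩ := s1.ex_inv (mul_mem hs ht) hst
  have hab : a ≠ b := fun e => hn (h.ninv s1 ha hs ht hs2 ht2 i1 (e ▸ i2)).symm
  have e1 : c = a * b := by
    rcases h.q4 B s1.mB a ha b hb c hc ha1 hb1 hab with e | e | e | e
    · exact absurd e hc1
    · have := h.ninv s1 hc hs (mul_mem hs ht) hs2 hst (e ▸ i1) i3
      rw [e0] at this
      exact absurd (left_eq_mul.1 this) ht2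
    · have := h.ninv s1 hc ht (mul_mem hs ht) ht2 hst (e ▸ i2) i3
      rw [e0] at this
      exact absurd (right_eq_mul.1 this) hs2
    · exact e
  rcases h.q4 B s1.mB a ha b hb u hu ha1 hb1 hab with e | e | e | e
  · exact absurd e h1
  · exact ⟨s, hs, hs2, e ▸ i1⟩
  · exact ⟨t, ht, ht2, e ▸ i2⟩
  · exact ⟨_, mul_mem hs ht, hst, by rw [e, ← e1]; exact i3⟩

theorem match_ (s1 : Sp Δ A B) (s2 : Sp Δ A D) (hu : u ∈ Om B) : ∃ w ∈ Om D, u⁻¹ * w ∈ C[A] := by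
  by_cases h1 : u = 1
  · exact ⟨1, one_mem _, by simp [h1]⟩
  obtain ⟨s, hs, hs2, i⟩ := h.exinv s1 hu h1
  obtain ⟨w, hw, -, i'⟩ := s2.ex_inv hs hs2
  exact ⟨w, hw, h.ty2 s1 s2 hu hw hs hs2 i i'⟩

end Fu

end TA
end H3
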