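import Mathlib
import Cfsg.Agent.H3.TA5

/-! Abelian TI subgroups `ℤ₄ × ℤ₄`: distinct conjugates do not commute. -/

set_option autoImplicit false
set_option linter.unusedSectionVars false
set_option linter.unusedVariables false

namespace H3
namespace TA

open H24 H26 Subgroup MulAction Cfsg

universe u

variable {G : Type u} [Group G] [Finite G] {Δ : Set (Subgroup G)}
  {A B D D' E F J K P X Y : Subgroup G} {a b c d e g p r s t u v w x y z : G}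

theorem cj_le_C (hg : g ∈ N[A]) (h : D ≤ C[A]) : cj g D ≤ C[A] := by
  rw [← cj_of_mem_N hg]; exact cent_cj h g

theorem Cfg.ex_ne (h : Cfg Δ A B D) : ∃ a ∈ Om B, ∃ u ∈ Om D, a * u * a⁻¹ * u⁻¹ ≠ 1 := by
  by_contra hn
  refine h.ur (le_C_iff.2 fun a ha u hu => comm_of_cj (mul_inv_eq_one.1 ?_))
  by_contra e
  exact hn ⟨a, ha, u, hu, e⟩

theorem Cfg.le_C (h : Cfg Δ A B D) (hP : P ∈ Δ) (h1 : Om B ≤ C[P]) (h2 : ∀ a ∈ Om B, ∀ u ∈ Om D,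
    u * a⁻¹ * u⁻¹ ∈ C[P]) : A ≤ C[P] := by
  obtain ⟨a, ha, u, hu, h3⟩ := h.ex_ne
  refine cents_symm (h.s1.st.C_of_cent hP h.s1.mA (Om_le A (h.cm a ha u hu)) h3 ?_)
  simpa only [mul_assoc] using mul_mem (h1 ha) (h2 a ha u hu)

namespace Fu

variable (h : Fu Δ)
include h

theorem o1 (s1 : Sp Δ A B) (hD : D ∈ Δ) (hc : Om D ≤ C[Ln A B]) (hn : ¬ Om D ≤ Ln A B) :
    ∃ P ∈ Δ, Om P ≤ Ln A B ∧ P ≤ C[D] := by
  by_cases e : A ≤ C[D]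
  · exact ⟨A, s1.mA, le_sup_left, e⟩
  have s2 : Sp Δ A D := ⟨h.st, s1.mA, hD, e, cents_symm (cents_of_le hc le_sup_left)⟩
  obtain ⟨x, hx, hx1⟩ := h.st.ex1 hD
  obtain ⟨u, hu, h1⟩ := h.match_ s2 s1 hx
  obtain ⟨v, hv, h2⟩ := s1.ax (mul_mem (inv_mem (hc hx)) (s1.EC (mem_sup_right hu))) h1
  have hm : u * v ∈ Ln A B := mul_mem (mem_sup_right hu) (mem_sup_left hv)
  have e1 : x = u * v * (v * (x⁻¹ * u))⁻¹ := by
    rw [mul_assoc, mem_C.1 (inv_mem h2) v (mem_sup_left (Om_le A hv))]; group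
  by_cases h3 : u * v = 1
  · rw [h3, one_mul] at e1
    exact absurd (s2.one_of_C (Om_le D hx) (e1 ▸ inv_mem (C_anti le_sup_left h2))) hx1
  obtain ⟨P, hP, hle, hm'⟩ := s1.spread h.sq hm h3
  refine ⟨P, hP, hle, h.st.C_of_cent hP hD (Om_le D hx) hx1 ?_⟩
  rw [e1]
  exact mul_mem (h.st.Om_C' hP hm') (inv_mem (C_anti (s1.le_X h.sq hP hle) h2))

theorem OmQ (hA : A ∈ Δ) (hD : D ∈ Δ) (hc : D ≤ C[A]) : Om D ≤ O[{2}, N[A]] := fun v hv => by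
  obtain ⟨b, hb, rfl⟩ := h.sq D hD v hv
  exact h.st.sq_mem_O2 hA hD (hc.trans (C_le_N A)) hb

theorem b1 (hA : A ∈ Δ) (hD : D ∈ Δ) (hD' : D' ∈ Δ) (h1 : D ≤ C[A]) (h2 : D' ≤ C[A]) :
    Om D ≤ C[Om D'] := le_C_iff.2 fun a ha w hw => by
  by_contra hn
  have hQ := pcore_pi {2} N[A]
  obtain ⟨k, hk⟩ := exists_pow_two hQ (mul_mem (h.OmQ hA hD h1 ha) (h.OmQ hA hD' h2 hw))
  obtain ⟨B, hB, D, hD, P, c⟩ := h.st.cf (Ω := {D | D ∈ Δ ∧ D ≤ C[A]}) (fun D hD => hD.1)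
    (fun B hB D hD w hw => ⟨h.st.cjm B hB.1 w, cj_le_C (C_le_N A (hD.2 (Om_le D hw))) hB.2⟩) k
    D ⟨hD, h1⟩ D' ⟨hD', h2⟩ a ha w hw hk hn
  have h3 : P ≤ C[A] := c.le_C hA ((Om_le B).trans hB.2) fun a ha u hu =>
    mul_mem (mul_mem (hD.2 (Om_le D hu)) (inv_mem (hB.2 (Om_le B ha)))) (inv_mem (hD.2 (Om_le D hu)))
  obtain ⟨x, hx, e⟩ := c.s1.symm.tau
  rw [sup_comm] at hx
  obtain ⟨u, hu, hu1⟩ := h.st.ex1 hD.1
  have huN := c.symm.normB hu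
  have huQ := h.OmQ hA hD.1 hD.2 hu
  have key : ∀ e ∈ Ln P B, u * e = e * u → e ∈ P := fun e he hc => by
    obtain ⟨v, hv, a, ha, rfl⟩ := c.s1.memE.1 he
    rw [← mul_assoc, ← comm_of_cent c.s2.cV hv hu, mul_assoc, mul_assoc] at hc
    by_cases h4 : a = 1
    · rw [h4, mul_one]; exact Om_le P hv
    · exact absurd (h.st.rel' hB.1 hD.1 (Om_le B ha) h4 (Om_le D hu) hu1
        (mul_left_cancel hc).symm) c.ur
  have hxN := c.s1.normX hx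
  obtain ⟨y, hy, hy1⟩ := exists_ne_one (IsPi.inf_C_ne_bot Nat.prime_two
    (hQ.inf_left N[Ln P B]) c.s1.twoE inf_le_right
    (ne_bot_of_le (h.st.Om_ne_bot hB.1) le_sup_right))
  refine hy1 (c.s1.one (key y hy.1 (mem_C.1 hy.2 u ⟨huQ, huN⟩)) ?_)
  rw [← e, mem_cj]
  refine key _ (conj_mem' hxN hy.1) ?_
  have := mem_C.1 hy.2 (x * u * x⁻¹) (mem_inf.2 ⟨conj_mem ((pcore_nml _ _).norm
    (C_le_N A ((sup_le h3 hB.2 : P ⊔ B ≤ C[A]) hx))) huQ,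
    mul_mem (mul_mem hxN huN) (inv_mem hxN)⟩)
  calc _ = x⁻¹ * (x * u * x⁻¹ * y) * x := by group
    _ = _ := by rw [this]; group

theorem b2 (s1 : Sp Δ A B) (hD : D ∈ Δ) (hD' : D' ∈ Δ) (h1 : Om D ≤ C[Ln A B])
    (h2 : Om D' ≤ C[Ln A B]) : Om D ≤ C[Om D'] := by
  by_cases e1 : Om D ≤ Ln A B
  · exact cents_symm (cents_of_le h2 e1)
  by_cases e2 : Om D' ≤ Ln A B
  · exact cents_of_le h1 e2
  obtain ⟨P, hP, l1, c1⟩ := h.o1 s1 hD h1 e1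
  obtain ⟨P', hP', l2, c2⟩ := h.o1 s1 hD' h2 e2
  obtain ⟨x, hx, rfl⟩ := s1.trX h.sq hP l1
  obtain ⟨y, hy, rfl⟩ := s1.trX h.sq hP' l2
  have hg : y * x⁻¹ ∈ A ⊔ B := mul_mem hy (inv_mem hx)
  have h3 := h.b1 hP' (h.st.cjm D hD (y * x⁻¹)) hD' (by
    have := cent_cj (cents_symm c1) (y * x⁻¹)
    rwa [← cj_mul, inv_mul_cancel_right] at this) (cents_symm c2)
  intro z hz
  have h4 := mul_mem (inv_mem (cents_symm h2 (s1.commX hg (h1 hz)))) (h3 (cj_mem_Om _ hz))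
  convert h4 using 1
  group

theorem perp (hP : P ∈ Δ) (s1 : Sp Δ A B) (hA : A ≤ C[P]) (hB : B ≤ C[P]) (hD : D ∈ Δ)
    (hc : Om D ≤ C[Ln A B]) : D ≤ C[P] := by
  have k1 : ∀ D ∈ Δ, D ≤ C[P] → Om D ≤ C[Ln A B] := fun D hD hc =>
    cents_sup (h.b1 hP hD s1.mA hc hA) (h.b1 hP hD s1.mB hc hB)
  have k2 : ∀ D ∈ {D | D ∈ Δ ∧ ∀ D' ∈ Δ, D' ≤ C[P] → Om D ≤ C[Om D']}, Om D ≤ C[Ln A B] :=
    fun D hD => cents_sup (hD.2 A s1.mA hA) (hD.2 B s1.mB hB)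
  have k3 : D ∈ {D | D ∈ Δ ∧ ∀ D' ∈ Δ, D' ≤ C[P] → Om D ≤ C[Om D']} :=
    ⟨hD, fun D' hD' hc' => h.b2 s1 hD hD' hc (k1 D' hD' hc')⟩
  have k4 := abl_JO fun D hD D' hD' => h.b2 s1 hD.1 hD'.1 (k2 D hD) (k2 D' hD')
  refine h.st.C_of_le_N hD hP ((h.ex4.norm h.st hD (le_JO k3) (k4.cents le_rfl (le_JO k3))).trans
    (h.st.max P hP _ (h.st.two_JO (fun D hD => hD.1) k4)
      (ne_bot_of_le (h.st.Om_ne_bot hD) (le_JO k3)) fun g hg => mem_N_JO fun D hD =>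
        ⟨h.st.cjm D hD.1 g, fun D' hD' hc' => ?_⟩))
  have := cent_cj (hD.2 _ (h.st.cjm D' hD' g⁻¹) (cj_le_C (inv_mem hg) hc')) g
  rwa [cj_Om, cj_Om, cj_cj_inv] at this

theorem b3 (hP : P ∈ Δ) (s1 : Sp Δ A B) (hA : A ≤ C[P]) (hB : B ≤ C[P]) : False := by
  obtain ⟨R, -, ⟨s2, -, -, -⟩⟩ := h.cfg P hP
  obtain ⟨D, hD, hc, ur⟩ : ∃ D ∈ Δ, D ≤ C[P] ∧ ¬ Om D ≤ C[Om R] := by
    by_contra hn
    have k : ∀ D ∈ Δ, D ≤ C[P] → Om R ≤ C[Om D] := fun D hD hc => cents_symm (by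
      by_contra e
      exact hn ⟨D, hD, hc, e⟩)
    exact s2.nc (cents_symm (h.perp hP s1 hA hB s2.mB (cents_sup (k A s1.mA hA) (k B s1.mB hB))))
  have hRP : Om R ≤ N[P] := (cents_symm s2.cV).trans (h.st.C_Om_le hP)
  obtain ⟨w, hw, hw1⟩ := h.st.ex1 s2.mB
  obtain ⟨Z, c⟩ := h.st.cl hD s2.mB ur hw hw1
    (h.b1 hP (h.st.cjm D hD w) hD (cj_le_C (hRP hw) hc) hc)
  have hZ : Z ≤ C[P] := c.le_C hP ((Om_le D).trans hc) fun a ha u hu =>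
    conj_mem (N_le_NC P (hRP hu)) (inv_mem (hc (Om_le D ha)))
  have mZ := c.s1.mA
  obtain ⟨s, hs, hs2, -⟩ := h.ex_sq mZ 1
  obtain ⟨v, hv, hv1, hvs⟩ := h.st.ex_ne mZ (s * s)
  obtain ⟨g, hg, hgZ, -, eg⟩ := c.s2.f4 h.sq (h.ex4 Z mZ s hs) hs2 hv hv1
  have s3 := c.s1.cjN hgZ
  have key : ∀ s ∈ Z, ∀ a ∈ Om D, s * s ≠ 1 → s⁻¹ * a ∈ C[Ln Z R] → g * a * g⁻¹ ∈ C[Ln Z D] ∧
      (g * a * g⁻¹ ∈ C[P] → g * (s * s) * g⁻¹ = s * s) := fun s hs a ha hs2 h1 => by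
    have ht := conj_mem hgZ hs
    have ht2 : g * s * g⁻¹ * (g * s * g⁻¹) ≠ 1 := by rw [← cj_mul']; exact cj_ne g hs2
    obtain ⟨v, hv, u, hu, e⟩ := c.s2.memE.1 (c.s2.commX hg h1)
    have e1 : g * a * g⁻¹ = g * s * g⁻¹ * v * (u * s⁻¹) * a := by
      calc _ = g * s * g⁻¹ * (g * (s⁻¹ * a) * g⁻¹ * (s⁻¹ * a)⁻¹) * s⁻¹ * a := by group
        _ = _ := by rw [e]; group
    obtain ⟨b, hb, h2⟩ := c.symm.exa hs
    obtain ⟨d, hd, h3⟩ := c.symm.exa ht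
    have i1 := c.inv hs ha h1
    have i2 : g * a * g⁻¹ * (g * s * g⁻¹) * (g * a * g⁻¹)⁻¹ = (g * s * g⁻¹)⁻¹ := by
      calc _ = g * (a * s * a⁻¹) * g⁻¹ := by group
        _ = _ := by rw [i1]; group
    have i3 := c.symm.inv hs hb h2
    have i4 := c.symm.inv ht hd h3
    have c1 := h.ty2 c.s2 c.s1 hb ha hs hs2 i3 i1
    have c2 := h.ty2 c.s2 s3 hd (cj_mem_Om g ha) ht ht2 i4 i2
    have hZC := (h.st.abl Z mZ).le_C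
    have hN : ∀ u ∈ Om R, u ∈ N[C[Z]] := fun u hu =>
      N_le_NC Z (h.st.C_Om_le mZ (cents_symm c.s2.cV hu))
    have e2 : d⁻¹ * u * b = 1 := c.s2.one_of_C (Om_le R (mul_mem (mul_mem (inv_mem hd) hu) hb)) (by
      have c3 := mul_mem (mul_mem (inv_mem (conj_mem' (hN d hd) (hZC (mul_mem ht (Om_le Z hv)))))
        (mul_mem c2 (inv_mem c1))) (conj_mem' (hN b hb) (hZC hs))
      convert c3 using 1
      rw [e1]; group)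
    have e3 : u = d * b⁻¹ := by
      calc u = d * (d⁻¹ * u * b) * b⁻¹ := by group
        _ = _ := by rw [e2, mul_one]
    refine ⟨?_, fun h4 => ?_⟩
    · have c3 := mul_mem (mul_mem (mul_mem
        (mem_C_cj (c.s1.normA ht) (mul_mem (c.s1.EC (mem_sup_left hv))
          (c.s1.EC (mem_sup_left (h.ex4 Z mZ _ ht))))) h3)
        (mul_mem (inv_mem h2) (inv_mem (c.s1.EC (mem_sup_left (h.ex4 Z mZ _ hs))))))
        (c.s1.EC (mem_sup_right ha))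
      convert c3 using 1
      rw [e1, e3]; group
    · have c3 : u ∈ C[P] := by
        have := mul_mem (mul_mem (inv_mem (hZ (mul_mem ht (Om_le Z hv)))) h4)
          (mul_mem (inv_mem (hc (Om_le D ha))) (hZ hs))
        convert this using 1
        rw [e1]; group
      rw [s2.one_of_C (Om_le R hu) c3, eq_comm, mul_inv_eq_one] at e3
      rw [cj_mul']
      exact c.symm.sq_eq ht hs h3 (e3 ▸ h2)
  have h5 := h.perp hP c.s1 hZ hc s3.mB fun a1 ha1 => by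
    obtain ⟨a, ha, rfl⟩ := mem_Om_cj.1 ha1
    obtain ⟨s, hs, h1⟩ := c.exs ha
    by_cases h2 : s * s = 1
    · rw [c.one_of_C ha ((mul_mem_cancel_left (inv_mem
        (c.s2.EC (mem_sup_left (mem_Om' hs h2))))).1 h1)]
      simp
    · exact (key s hs a ha h2 h1).1
  obtain ⟨a, ha, h1⟩ := c.exa hs
  exact hvs (eg.symm.trans ((key s hs a ha hs2 h1).2 (h5 (conj_mem_cj g (Om_le D ha)))))

theorem nocm (hA : A ∈ Δ) (hB : B ∈ Δ) (hc : A ≤ C[B]) : A = B := by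
  have hall : ∀ P ∈ Δ, ∀ D ∈ Δ, ∀ D' ∈ Δ, D ≤ C[P] → D' ≤ C[P] → D ≤ C[D'] :=
    fun P hP D hD D' hD' h1 h2 => by
      by_contra e
      exact h.b3 hP ⟨h.st, hD, hD', e, h.b1 hP hD hD' h1 h2⟩ h1 h2
  have k : ∀ A ∈ Δ, N[A] ≤ N[JO {D | D ∈ Δ ∧ D ≤ C[A]}] := fun A hA g hg =>
    mem_N_JO fun D hD => ⟨h.st.cjm D hD.1 g, cj_le_C hg hD.2⟩
  have e : {D | D ∈ Δ ∧ D ≤ C[B]} = {D | D ∈ Δ ∧ D ≤ C[A]} :=
    Set.ext fun D => ⟨fun hD => ⟨hD.1, hall B hB D hD.1 A hA hD.2 hc⟩,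
      fun hD => ⟨hD.1, hall A hA D hD.1 B hB hD.2 (cents_symm hc)⟩⟩
  exact h.st.eq_of_norm hA hB (h.st.two_JO (fun D hD => hD.1)
    (abl_JO fun D hD D' hD' => h.b1 hA hD.1 hD'.1 hD.2 hD'.2))
    (ne_bot_of_le (h.st.Om_ne_bot hA) (le_JO (by exact ⟨hA, (h.st.abl A hA).le_C⟩))) (k A hA)
    (e ▸ k B hB)

theorem perp0 (s1 : Sp Δ A B) (hD : D ∈ Δ) (hc : Om D ≤ C[Ln A B]) : Om D ≤ Ln A B := by
  by_contra hn
  obtain ⟨P, hP, h1, h2⟩ := h.o1 s1 hD hc hn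
  exact hn (h.nocm hP hD h2 ▸ h1)

theorem eq_or_sp (hA : A ∈ Δ) (hD : D ∈ Δ) (hx : x ∈ D) (h1 : x ≠ 1) (hN : x ∈ N[A]) :
    D = A ∨ Sp Δ A D :=
  (h.st.sp_or hD hA hx h1 hN).imp (h.nocm hD hA) Sp.symm

theorem eq_of_le_N (hA : A ∈ Δ) (hD : D ∈ Δ) (hN : D ≤ N[A]) : D = A :=
  h.nocm hD hA (h.st.C_of_le_N hD hA hN)

end Fu

end TA
end H3
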