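import Mathlib
import Cfsg.Agent.H3.TA6

/-! Abelian TI subgroups `ℤ₄ × ℤ₄`: the structure of the normaliser. -/

set_option autoImplicit false
set_option linter.unusedSectionVars false
set_option linter.unusedVariables false

namespace H3
namespace TA

open H24 H26 Subgroup MulAction Cfsg

universe u

variable {G : Type u} [Group G] [Finite G] {Δ : Set (Subgroup G)}
  {A B D D' E F J K P S X Y : Subgroup G} {a b c d e g m p r s t u v w x y z : G}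

theorem inv_of_mul_sq (ha : a * a = 1) (h : b * a * (b * a) = 1) : a * b * a⁻¹ = b⁻¹ := by
  rw [inv_of_sq ha]
  refine eq_inv_of_mul_eq_one_right ?_
  rw [← h]; group

theorem mul_sq_of_inv (ha : a * a = 1) (h : a * b * a⁻¹ = b⁻¹) : b * a * (b * a) = 1 := by
  calc _ = b * (a * b * a⁻¹) * (a * a) := by group
    _ = 1 := by rw [h, ha]; group

namespace Sp

variable (h : Sp Δ A B)
include h

theorem OmN : Om B ≤ N[A] := (cents_symm h.cV).trans (h.st.C_Om_le h.mA)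

theorem memT : x ∈ A ⊔ Om B ↔ ∃ b ∈ A, ∃ a ∈ Om B, x = b * a := mem_sup_of_norm h.OmN

theorem ET : Ln A B ≤ A ⊔ Om B := sup_le_sup_right (Om_le A) _

theorem TX : A ⊔ Om B ≤ A ⊔ B := sup_le_sup_left (Om_le B) _

theorem TN : A ⊔ Om B ≤ N[A] := sup_le (norm_self A) h.OmN

theorem TC : A ⊔ Om B ≤ C[Om A] := sup_le (h.st.le_C_Om h.mA) (cents_symm h.cV)

theorem twoT : IsPi {2} (A ⊔ Om B) := (h.st.two A h.mA).sup (h.st.Om_two h.mB) h.OmN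

theorem mem_of_T (hx : x ∈ A ⊔ Om B) (hc : x ∈ C[A]) : x ∈ A := by
  obtain ⟨b, hb, a, ha, rfl⟩ := h.memT.1 hx
  rw [h.one_of_C (Om_le B ha) ((mul_mem_cancel_left ((h.st.abl A h.mA).le_C hb)).1 hc), mul_one]
  exact hb

theorem one_of_T (hx : x ∈ A ⊔ Om B) (hc : x ∈ C[A ⊔ B]) : x = 1 :=
  h.symm.one_of_C (h.mem_of_T hx (C_anti le_sup_left hc)) (C_anti le_sup_right hc)

end Sp

namespace Fu

variable (h : Fu Δ)
include h

theorem form (s1 : Sp Δ A B) (s2 : Sp Δ A D) (hN : Om D ≤ N[Ln A B]) (ur : ¬ Om D ≤ C[Om B])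
    (hu : u ∈ Om D) (h1 : u ≠ 1) : ∃ b ∈ A, ∃ a ∈ Om B, ∃ e ∈ C[A ⊔ B], b * b ≠ 1 ∧
      a * b * a⁻¹ = b⁻¹ ∧ u * b * u⁻¹ = b⁻¹ ∧ u = b * a * e := by
  have hc := cents_symm s2.cV hu
  obtain ⟨s, hs, h2⟩ := s1.sig (hN hu) hc
  have hs2 : s * s ≠ 1 := fun e => ur (h.st.rel s2.mB s1.mB (Om_le D hu) h1
    (h.st.C_Om_le s1.mB (C_anti le_sup_right ((mul_mem_cancel_left
      (inv_mem (s1.EC (mem_sup_left (mem_Om' hs e))))).1 h2))))
  have i1 := s1.inverts hs h2 (h.st.sq s2.mB hu)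
  obtain ⟨a, ha, -, i2⟩ := s1.ex_inv hs hs2
  obtain ⟨v, hv, h3⟩ := s1.ax (mul_mem (inv_mem (s1.EC (mem_sup_right ha))) h2) (by
    convert mul_mem ((h.st.abl A s1.mA).le_C (conj_mem' (s1.OmN ha) (inv_mem hs)))
      (h.ty2 s1 s2 ha hu hs hs2 i2 i1) using 1
    group)
  have hb := mul_mem hs (inv_mem (Om_le A hv))
  have e0 : s * s = s * v⁻¹ * (s * v⁻¹) := by
    rw [h.st.mul_sq s1.mA hs (inv_mem (Om_le A hv)), h.st.sq s1.mA (inv_mem hv), mul_one]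
  refine ⟨_, hb, a, ha, _, h3, e0 ▸ hs2, h.inv_congr s1.mA (cents_symm s1.cV ha) hs hb e0 i2,
    h.inv_congr s1.mA hc hs hb e0 i1, ?_⟩
  rw [mul_assoc s, comm_of_cent s1.cV (inv_mem hv) ha]; group

theorem pt (s1 : Sp Δ A B) (s2 : Sp Δ A D) (hN : Om D ≤ N[Ln A B]) : Om D ≤ A ⊔ Om B := by
  by_cases ur : Om D ≤ C[Om B]
  · exact (h.perp0 s1 s2.mB (cents_sup (cents_symm s2.cV) ur)).trans s1.ET
  have key : ∀ u ∈ Om D, ∀ w ∈ Om D, u ≠ 1 → w ≠ 1 → u ≠ w → u * w ∈ A ⊔ Om B :=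
    fun u hu w hw hu1 hw1 hne => by
    obtain ⟨b, hb, a, ha, e, he, hb2, i1, j1, rfl⟩ := h.form s1 s2 hN ur hu hu1
    obtain ⟨c, hc, d, hd, f, hf, hc2, i2, j2, rfl⟩ := h.form s1 s2 hN ur hw hw1
    have hba : b * a ∈ A ⊔ Om B := mul_mem (mem_sup_left hb) (mem_sup_right ha)
    have hcd : c * d ∈ A ⊔ Om B := mul_mem (mem_sup_left hc) (mem_sup_right hd)
    have k : ∀ x ∈ A ⊔ Om B, ∀ y ∈ A ⊔ Om B, ∀ e ∈ C[A ⊔ B], ∀ f,
        x * e * (y * f) = x * y * (e * f) := fun x hx y hy e he f => by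
      rw [mul_assoc, ← mul_assoc e, ← mem_C.1 he y (s1.TX hy)]; group
    have c1 : e * f = f * e := by
      have c0 := h.st.comm s2.mB (Om_le D hu) (Om_le D hw)
      rw [k _ hba _ hcd e he, k _ hcd _ hba f hf] at c0
      have : f * e * (e * f)⁻¹ = (c * d * (b * a))⁻¹ * (b * a * (c * d)) := by
        calc _ = (c * d * (b * a))⁻¹ * (c * d * (b * a) * (f * e)) * (e * f)⁻¹ := by group
          _ = _ := by rw [← c0]; group
      exact (mul_inv_eq_one.1 (s1.one_of_T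
        (this ▸ mul_mem (inv_mem (mul_mem hcd hba)) (mul_mem hba hcd))
        (mul_mem (mul_mem hf he) (inv_mem (mul_mem he hf))))).symm
    obtain ⟨g, hg, hgA, hgB, eg⟩ := s1.f4 h.sq (h.ex4 A s1.mA b hb) hb2 (h.ex4 A s1.mA c hc) hc2
    rw [cj_mul'] at eg
    have hb' := conj_mem hgA hb
    have e1 : g * a * g⁻¹ = d := s1.inv_uniq hc hc2 (conj_Om hgB ha) hd
      (h.inv_congr s1.mA (cents_symm s1.cV (conj_Om hgB ha)) hb' hc eg (by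
        calc _ = g * (a * b * a⁻¹) * g⁻¹ := by group
          _ = _ := by rw [i1]; group)) i2
    have hv := (h.st.sq_iff s1.mA hc hb').2 eg.symm
    set v := c⁻¹ * (g * b * g⁻¹) with hvd
    have e2 : g * (b * a * e) * g⁻¹ = v * (c * d) * e := by
      rw [cj_mul', cj_mul', e1, cj_of_comm (mem_C.1 he g hg), ← mul_assoc,
        h.st.comm s1.mA (Om_le A hv) hc, hvd]; group
    have e3 := mul_sq_of_inv (h.st.sq s1.mB hd) i2
    have hvT := s1.ET (mem_sup_left hv)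
    have e4 : v * (c * d) * e * (c * d * f) = v * (e * f) := by
      rw [k _ (mul_mem hvT hcd) _ hcd e he, mul_assoc v, e3, mul_one]
    have e5 : c * d * f * (v * (c * d) * e) = v * (e * f) := by
      rw [k _ hcd _ (mul_mem hvT hcd) f hf, ← mul_assoc (c * d), mem_C'.1 (s1.TC hcd) v hv,
        mul_assoc v, e3, mul_one, c1]
    have s3 := s2.cjN hgA
    have h3 := h.perp0 s2 s3.mB (cents_sup (cents_symm s3.cV) (h.st.rel' s3.mB s2.mB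
      (conj_mem_cj g (Om_le D hu)) (cj_ne g hu1) (Om_le D hw) hw1 (by rw [e2, e4, e5])))
      (cj_mem_Om g hu)
    have h4 := mul_mem h3 (mem_sup_right hw)
    rw [e2, e4] at h4
    have h5 := s1.one_of_T (s1.ET (mem_sup_left (s2.Om_of_EC
      ((mul_mem_cancel_left (mem_sup_left hv)).1 h4) (C_anti le_sup_left (mul_mem he hf)))))
      (mul_mem he hf)
    rw [k _ hba _ hcd e he, h5, mul_one]
    exact mul_mem hba hcd
  intro x hx
  by_cases h1 : x = 1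
  · rw [h1]; exact one_mem _
  obtain ⟨u, hu, hu1, hux⟩ := h.st.ex_ne s2.mB x
  have := key u hu _ (mul_mem hu hx) hu1
    (fun e => hux (by rw [← inv_eq_of_mul_eq_one_right e, h.st.inv s2.mB hu]))
    (fun e => h1 (left_eq_mul.1 e))
  rwa [mm (h.st.sq s2.mB hu)] at this

end Fu

namespace Cfg

variable (h : Cfg Δ A B D)
include h

theorem DT : Om D ≤ A ⊔ Om B := h.fu.pt h.s1 h.s2 h.symm.normB

theorem T_eq : A ⊔ Om D = A ⊔ Om B :=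
  le_antisymm (sup_le le_sup_left h.DT) (sup_le le_sup_left h.symm.DT)

theorem one_of_E (ha : a ∈ Om B) (he : a ∈ Ln A D) : a = 1 := h.one_of_C ha (h.s2.EC he)

theorem E_ne : Ln A B ≠ Ln A D := fun e => by
  obtain ⟨a, ha, h1⟩ := h.s1.st.ex1 h.s1.mB
  exact h1 (h.one_of_E ha (e ▸ mem_sup_right ha))

theorem Om_of_EE (h1 : x ∈ Ln A B) (h2 : x ∈ Ln A D) : x ∈ Om A := by
  obtain ⟨v, hv, a, ha, rfl⟩ := h.s1.memE.1 h1
  rwa [h.one_of_E ha ((mul_mem_cancel_left (mem_sup_left hv)).1 h2), mul_one]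

theorem invT (hx : x ∈ A ⊔ Om B) (h2 : x * x = 1) : x ∈ Ln A B ∨ x ∈ Ln A D := by
  have st := h.s1.st
  obtain ⟨b, hb, a, ha, rfl⟩ := h.s1.memT.1 hx
  by_cases hb2 : b * b = 1
  · exact Or.inl (mul_mem (mem_sup_left (mem_Om' hb hb2)) (mem_sup_right ha))
  right
  have i1 := inv_of_mul_sq (st.sq h.s1.mB ha) h2
  obtain ⟨u, hu, hu1, i2⟩ := h.s2.ex_inv hb hb2
  obtain ⟨c, hc, d, hd, rfl⟩ := h.s1.memT.1 (h.DT hu)
  have e1 : d = a := h.s1.inv_uniq hb hb2 hd ha (by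
    calc _ = c⁻¹ * (c * d * b * (c * d)⁻¹) * c⁻¹⁻¹ := by group
      _ = _ := by rw [i2, cj_of_comm (st.comm h.s1.mA (inv_mem hc) (inv_mem hb))]) i1
  subst e1
  have hc2 : c * c ≠ 1 := fun e =>
    hu1 (h.symm.one_of_E hu (mul_mem (mem_sup_left (mem_Om' hc e)) (mem_sup_right ha)))
  have hv := (st.sq_iff h.s1.mA hc hb).2 (h.fu.ninv h.s1 ha hc hb hc2 hb2
    (inv_of_mul_sq (st.sq h.s1.mB ha) (st.sq h.s2.mB hu)) i1)
  convert mul_mem (mem_sup_left hv : _ ∈ Ln A D) (mem_sup_right hu) using 1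
  rw [mul_assoc, ← mul_assoc b, st.comm h.s1.mA hb hc]; group

theorem T_le : A ⊔ Om B ≤ Ln A B ⊔ Ln A D := by
  refine sup_le (fun b hb => ?_) (le_sup_right.trans le_sup_left)
  by_cases hb2 : b * b = 1
  · exact mem_sup_left (mem_sup_left (mem_Om' hb hb2))
  obtain ⟨a, ha, -, i⟩ := h.s1.ex_inv hb hb2
  refine (mul_mem_cancel_right (mem_sup_left (mem_sup_right ha))).1 ?_
  exact (h.invT (mul_mem (mem_sup_left hb) (mem_sup_right ha))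
    (mul_sq_of_inv (h.s1.st.sq h.s1.mB ha) i)).elim mem_sup_left mem_sup_right

theorem lt (hP : P ∈ Δ) (hle : Om P ≤ A ⊔ Om B) : Om P ≤ Ln A B ∨ Om P ≤ Ln A D := by
  obtain ⟨x, hx, h1⟩ := h.s1.st.ex1 hP
  exact (h.invT (hle hx) (h.s1.st.sq hP hx)).imp (h.s1.on_line h.sq hP (Om_le P hx) h1)
    (h.s2.on_line h.sq hP (Om_le P hx) h1)

theorem ln (s : Sp Δ A P) (hle : Om P ≤ A ⊔ Om B) : Ln A P = Ln A B ∨ Ln A P = Ln A D :=
  (h.lt s.mB hle).imp (fun e => (h.s1.line s.mB e s.ne.symm).2)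
    fun e => (h.s2.line s.mB e s.ne.symm).2

theorem perm (hg : g ∈ N[A]) (hT : g ∈ N[A ⊔ Om B]) :
    H24.cj g (Ln A B) = Ln A B ∨ H24.cj g (Ln A B) = Ln A D := by
  rw [cj_Ln, cj_of_mem_N hg]
  exact h.ln (h.s1.cjN hg) (by rw [← cj_Om]; exact cj_le_of_mem_N le_sup_right hT)

theorem perm_not (hg : g ∈ N[A]) (hT : g ∈ N[A ⊔ Om B]) (hn : g ∉ N[Ln A B]) :
    H24.cj g (Ln A B) = Ln A D ∧ H24.cj g (Ln A D) = Ln A B := by
  have e := (h.perm hg hT).resolve_left fun e => hn (mem_N_iff_cj.2 e)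
  exact ⟨e, (h.symm.perm hg (h.T_eq ▸ hT)).resolve_left fun e' =>
    h.E_ne (cj_inj.1 (e.trans e'.symm))⟩

theorem perm_N (hg : g ∈ N[A]) (hT : g ∈ N[A ⊔ Om B]) (hn : g ∈ N[Ln A B]) : g ∈ N[Ln A D] := by
  by_contra e
  exact h.E_ne ((cj_of_mem_N hn).symm.trans (h.symm.perm_not hg (h.T_eq ▸ hT) e).2)

theorem perm_mul (hg : g ∈ N[A]) (hT : g ∈ N[A ⊔ Om B]) (hn : g ∉ N[Ln A B]) (hx : x ∈ N[A])
    (hT' : x ∈ N[A ⊔ Om B]) (hn' : x ∉ N[Ln A B]) : g * x ∈ N[Ln A B] := by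
  rw [mem_N_iff_cj, cj_mul, (h.perm_not hx hT' hn').1, (h.perm_not hg hT hn).2]

theorem sw (hx : x ∈ C[Om A]) (hT : x ∈ N[A ⊔ Om B]) (hn : x ∉ N[Ln A B]) (hs : s ∈ A)
    (hs2 : s * s ≠ 1) (ha : a ∈ Om B) (i : a * s * a⁻¹ = s⁻¹) :
    x * a * x⁻¹ * a⁻¹ ∈ A ∧ x * a * x⁻¹ * a⁻¹ * (x * a * x⁻¹ * a⁻¹) = s * s := by
  have st := h.s1.st
  have h1 : x * a * x⁻¹ * a⁻¹ ∈ A := h.s1.mem_of_T
    (mul_mem (conj_mem hT (mem_sup_right ha)) (mem_sup_right (inv_mem ha)))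
    (h.s1.ex4.comm st h.s1.mA hx (cents_symm h.s1.cV ha))
  refine ⟨h1, h.fu.ninv h.s1 ha h1 hs (fun e => hs2 ?_) hs2
    (inv_of_mul_sq (st.sq h.s1.mB ha) ?_) i⟩
  · have h2 : x * a * x⁻¹ ∈ Ln A D :=
      (h.perm_not (st.C_Om_le h.s1.mA hx) hT hn).1 ▸ conj_mem_cj x (mem_sup_right ha)
    have h3 := h.one_of_E ha (by
      convert mul_mem (inv_mem (mem_sup_left (mem_Om' h1 e) : _ ∈ Ln A D)) h2 using 1
      group)
    rw [← cm_of_inv i, h3]; group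
  · rw [inv_mul_cancel_right]
    exact cj_sq x (st.sq h.s1.mB ha)

theorem d1 (hP : P ∈ Δ) (h1 : Om P ≤ N[A]) (h2 : Om P ≤ N[A ⊔ Om B]) : Om P ≤ A ⊔ Om B := by
  have st := h.s1.st
  obtain ⟨x, hx, hx1⟩ := st.ex1 hP
  rcases h.fu.eq_or_sp h.s1.mA hP (Om_le P hx) hx1 (h1 hx) with e | s
  · exact e ▸ (Om_le P).trans le_sup_left
  refine h.fu.pt h.s1 s fun u hu => ?_
  by_contra hn
  have hc := cents_symm s.cV hu
  have key : ∀ s ∈ A, s * s ≠ 1 → u * s * u⁻¹ = s⁻¹ := fun s hs hs2 => by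
    obtain ⟨a, ha, -, i⟩ := h.s1.ex_inv hs hs2
    obtain ⟨k1, k2⟩ := h.sw hc (h2 hu) hn hs hs2 ha i
    refine h.fu.inv_congr h.s1.mA hc k1 hs k2 ?_
    calc _ = u * u * a * (u⁻¹ * a⁻¹ * u⁻¹) := by group
      _ = a * (u * a⁻¹ * u⁻¹) := by rw [st.sq hP hu, st.inv hP hu, one_mul]
      _ = _ := by group
  obtain ⟨s, hs, hs2, -⟩ := h.fu.ex_sq h.s1.mA 1
  obtain ⟨t, ht, ht2, hne⟩ := h.fu.ex_sq h.s1.mA (s * s)
  exact hne (h.fu.ninv ‹Sp Δ A P› hu ht hs ht2 hs2 (key t ht ht2) (key s hs hs2))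

theorem mem_N_T (hg : g ∈ N[A]) (h1 : Om (H24.cj g B) ≤ A ⊔ Om B) : g ∈ N[A ⊔ Om B] :=
  mem_N_of_cj_le (by rw [cj_sup, cj_of_mem_N hg, cj_Om]; exact sup_le le_sup_left h1)

theorem d2 (hS : IsPi {2} S) (h1 : A ⊔ Om B ≤ S) (h2 : S ≤ N[A]) : S ≤ N[A ⊔ Om B] := by
  rw [← (hS.nil Nat.prime_two).eq_of_norm_le (K := S ⊓ N[A ⊔ Om B]) inf_le_left fun g hg => ?_]
  · exact inf_le_right
  have h3 : Om (H24.cj g B) ≤ S ⊓ N[A ⊔ Om B] := by
    rw [← cj_Om]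
    exact cj_le_of_mem_N (le_sup_right.trans (le_inf h1 (norm_self _))) hg.2
  exact ⟨hg.1, h.mem_N_T (h2 hg.1) (h.d1 (h.s1.st.cjm B h.s1.mB g) (h3.trans (inf_le_left.trans h2))
    (h3.trans inf_le_right))⟩

theorem e1 (hc : c ∈ C[A]) (hT : c ∈ N[A ⊔ Om B]) : c ∈ N[Ln A B] := by
  by_contra hn
  have hc' := C_anti (Om_le A) hc
  obtain ⟨r, hr, h1⟩ := h.s1.sig (h.perm_mul (C_le_N A hc) hT hn (C_le_N A hc) hT hn)
    (mul_mem hc' hc')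
  have key : ∀ s ∈ A, s * s ≠ 1 → s * s = r * r := fun s hs hs2 => by
    obtain ⟨a, ha, ha1, i⟩ := h.s1.ex_inv hs hs2
    obtain ⟨k1, k2⟩ := h.sw hc' hT hn hs hs2 ha i
    refine h.s1.sq_of_comm hs hr (Om_le B ha) ha1 (comm_of_cm ?_)
    rw [cm_of_inv i, ← k2]
    calc _ = c * (c * a * c⁻¹ * a⁻¹) * c⁻¹ * (c * a * c⁻¹ * a⁻¹) := by
          rw [conj_eq_of_mem_C hc k1]
      _ = r * (r⁻¹ * (c * c) * a * (r⁻¹ * (c * c))⁻¹) * r⁻¹ * a⁻¹ := by group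
      _ = _ := by rw [conj_eq_of_mem_C h1 (mem_sup_right ha)]
  obtain ⟨s, hs, hs2, -⟩ := h.fu.ex_sq h.s1.mA 1
  obtain ⟨t, ht, ht2, hne⟩ := h.fu.ex_sq h.s1.mA (s * s)
  exact hne ((key t ht ht2).trans (key s hs hs2).symm)

theorem all_T (s : Sp Δ A P) : Om P ≤ A ⊔ Om B := by
  have st := h.s1.st
  have mA := h.s1.mA
  obtain ⟨S, hS, hTS⟩ := Sylow_superset Nat.prime_two h.s1.twoT h.s1.TN
  have hST := h.d2 hS.pi hTS hS.le
  have hQS := pcore_le_Hall hS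
  have R1 : JO {P | Sp Δ A P} ≤ stabz C[Om A] (Om A) (O[{2}, N[A]] ⊓ C[A] : Subgroup G)
      (C_le_N _) := JO_le fun P (s : Sp Δ A P) u hu => ⟨cents_symm s.cV hu, fun c hc => by
    obtain ⟨m, hm, h1⟩ := Sylow_Jsub Nat.prime_two hS (st.Om_two s.mB) s.OmN
    rw [cj_Om] at h1
    have h2 := conj_mem ((pcore_nml _ _).norm hm) (mem_inf.1 hc).1
    have h3 := conj_mem (N_le_NC A hm) (mem_inf.1 hc).2
    have h4 : m * c * m⁻¹ ∈ N[Ln A (H24.cj m P)] := by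
      rcases h.ln (s.cjN hm) (h.d1 (s.cjN hm).mB (h1.trans hS.le) (h1.trans hST)) with e | e
      · rw [e]; exact h.e1 h3 (hST (hQS h2))
      · rw [e]; exact h.symm.e1 h3 (h.T_eq ▸ hST (hQS h2))
    rw [← cj_of_mem_N hm, ← cj_Ln, ← cj_N, conj_mem_cj_iff] at h4
    have := inv_mem (s.t3 h4 (C_anti (Om_le A) (mem_inf.1 hc).2) (mem_sup_right hu))
    simpa only [mul_inv_rev, inv_inv, mul_assoc] using this⟩
  have R2 : IsPi {2} (JO {P | Sp Δ A P}) := two_of_odd fun r hr ho =>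
    st.odd_eq_one mA (st.two A mA) (norm_self A) ho (st.C_Om_le mA (R1 hr).1)
      (mem_of_sq_mem ho (h.s1.ex4.sq st mA (R1 hr).1)) fun q hq hq' =>
        fix_of_odd ho (st.Om_two mA) ((R1 hr).2 q ⟨hq, hq'⟩)
          (mem_C'.1 (R1 hr).1 _ ((R1 hr).2 q ⟨hq, hq'⟩)) (by group)
  have R3 : Om P ≤ S := (le_JO s).trans ((pcore_max' R2 (JO_le fun P (s : Sp Δ A P) => s.OmN)
    fun g hg => mem_N_JO fun P (s : Sp Δ A P) => s.cjN hg).trans hQS)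
  exact h.d1 s.mB s.OmN (R3.trans hST)

theorem NT : N[A] ≤ N[A ⊔ Om B] := fun g hg => h.mem_N_T hg (h.all_T (h.s1.cjN hg))

end Cfg

end TA
end H3
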