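import Mathlib
import Cfsg.Agent.H3.TA7
import Cfsg.Agent.H23.T0
import Cfsg.Agent.H26.GAlm

/-! Abelian TI subgroups `ℤ₄ × ℤ₄`: centralisers of involutions. -/

set_option autoImplicit false
set_option linter.unusedSectionVars false
set_option linter.unusedVariables false

namespace H3
namespace TA

open H24 H26 Subgroup MulAction Cfsg H23.TC

universe u

variable {G : Type u} [Group G] [Finite G] {Δ : Set (Subgroup G)}
  {A B D D' E F J K P Q R S X Y : Subgroup G} {a b c d e g m p r s t u v w x y z : G}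

theorem ix2_iff (h : Ix2 Q S) (ha : a ∈ S) (hb : b ∈ S) : a * b ∈ Q ↔ (a ∈ Q ↔ b ∈ Q) := by
  by_cases h1 : a ∈ Q
  · simp [h1, mul_mem_cancel_left h1]
  by_cases h2 : b ∈ Q
  · simp [h1, h2, mul_mem_cancel_right h2]
  · simp [h1, h2, h a ha b hb h1 h2]

/-- the third subgroup of index two -/
def third (h1 : Ix2 Q S) (h2 : Ix2 R S) : Subgroup G where
  carrier := {g | g ∈ S ∧ (g ∈ Q ↔ g ∈ R)}
  one_mem' := ⟨one_mem _, by simp⟩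
  mul_mem' := fun {x y} hx hy => ⟨mul_mem hx.1 hy.1, by
    rw [ix2_iff h1 hx.1 hy.1, ix2_iff h2 hx.1 hy.1, hx.2, hy.2]⟩
  inv_mem' := fun {x} hx => ⟨inv_mem hx.1, by rw [inv_mem_iff, inv_mem_iff, hx.2]⟩

theorem ix2_third (h1 : Ix2 Q S) (h2 : Ix2 R S) : Ix2 (third h1 h2) S := fun a ha b hb n1 n2 =>
  ⟨mul_mem ha hb, by
    rw [ix2_iff h1 ha hb, ix2_iff h2 ha hb]
    have e1 : ¬ (a ∈ Q ↔ a ∈ R) := fun e => n1 ⟨ha, e⟩
    have e2 : ¬ (b ∈ Q ↔ b ∈ R) := fun e => n2 ⟨hb, e⟩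
    tauto⟩

namespace Fu

variable (h : Fu Δ)
include h

theorem C1_le (hA : A ∈ Δ) (hv : v ∈ Om A) (h1 : v ≠ 1) : C{v} ≤ N[A] := fun g hg =>
  h.st.N_of_comm hA (Om_le A hv) h1 (mem_C1.1 hg)

theorem mem_C_Om (hA : A ∈ Δ) (hv : v ∈ Om A) (hw : w ∈ Om A) (h1 : v ≠ 1) (h2 : w ≠ 1)
    (hne : v ≠ w) (c1 : g * v = v * g) (c2 : g * w = w * g) : g ∈ C[Om A] :=
  mem_C'.2 fun x hx => by
    rcases h.q4 A hA v hv w hw x hx h1 h2 hne with e | e | e | e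
    · simp [e]
    · rwa [e]
    · rwa [e]
    · rw [e, ← mul_assoc, c1, mul_assoc, c2, mul_assoc]

theorem mv (hA : A ∈ Δ) (hv : v ∈ Om A) (hw : w ∈ Om A) (h1 : v ≠ 1) (h2 : w ≠ 1)
    (hne : v ≠ w) (hg : g ∈ C{v}) (hn : g ∉ C[Om A]) : g * w * g⁻¹ = v * w := by
  rcases h.q4 A hA v hv w hw _ (conj_Om (h.C1_le hA hv h1 hg) hw) h1 h2 hne with e | e | e | e
  · exact absurd e (cj_ne g h2)
  · rw [← mem_C1_iff_conj.1 hg, mul_left_inj, mul_right_inj] at e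
    exact absurd e.symm hne
  · exact absurd (h.mem_C_Om hA hv hw h1 h2 hne (mem_C1.1 hg) (comm_of_cj e)) hn
  · exact e

theorem ixV (hA : A ∈ Δ) (hv : v ∈ Om A) (h1 : v ≠ 1) : Ix2 C[Om A] C{v} := fun a ha b hb n1 n2 => by
  obtain ⟨w, hw, h2, hne⟩ := h.st.ex_ne hA v
  refine h.mem_C_Om hA hv hw h1 h2 hne.symm (mem_C1.1 (mul_mem ha hb)) (comm_of_cj ?_)
  calc _ = a * (b * w * b⁻¹) * a⁻¹ := by group
    _ = _ := by
      rw [h.mv hA hv hw h1 h2 hne.symm hb n2, cj_mul', h.mv hA hv hw h1 h2 hne.symm ha n1,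
        mem_C1_iff_conj.1 ha, mm (h.st.sq hA hv)]

end Fu

namespace Cfg

variable (h : Cfg Δ A B D)
include h

theorem nM : ¬ N[A] ≤ N[Ln A B] := fun e => h.s1.ne (h.fu.eq_of_le_N h.s1.mA h.s1.mB
  (h.s1.normB.trans (h.s1.st.max A h.s1.mA _ h.s1.twoE
    (ne_bot_of_le (h.s1.st.Om_ne_bot h.s1.mA) le_sup_left) e))).symm

theorem ixE : Ix2 N[Ln A B] N[A] := fun a ha b hb n1 n2 =>
  h.perm_mul ha (h.NT ha) n1 hb (h.NT hb) n2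

theorem cjX (hg : g ∈ N[A]) (s : Sp Δ A P) (e : H24.cj g (Ln A B) = Ln A P) :
    H24.cj g (A ⊔ B) = A ⊔ P := by
  rw [cj_sup, cj_of_mem_N hg]
  refine s.sup_eq h.sq (h.s1.cjN hg).mB ?_ (h.s1.cjN hg).ne.symm
  rw [← e, ← cj_Om]; exact cj_mono g le_sup_right

theorem CX : C[A ⊔ D] ≤ C[A ⊔ B] := fun y hy => by
  have hT : y ∈ C[A ⊔ Om B] := h.T_eq ▸ C_anti h.s2.TX hy
  obtain ⟨v, hv, h1⟩ := h.s1.ax (C_anti h.s1.ET hT) (C_anti le_sup_left hy)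
  by_cases h2 : v = 1
  · rwa [h2, one_mul] at h1
  obtain ⟨w, hw, h3, hne⟩ := h.s1.st.ex_ne h.s1.mA v
  obtain ⟨g, hg, hgA, hgD, e⟩ := h.s2.f4 h.sq hv h2 hw h3
  have h4 : g ∈ N[A ⊔ B] := mem_N_iff_cj.2 (h.cjX hgA h.s1 (cj_of_mem_N
    (h.symm.perm_N hgA (h.symm.NT hgA) (h.s2.mem_N_E hgA hgD))))
  have h5 := mem_C_cj h4 h1
  rw [cj_mul', e, cj_of_comm (mem_C.1 hy g hg)] at h5
  have h6 : w * v⁻¹ ∈ C[A ⊔ B] := by
    convert mul_mem h5 (inv_mem h1) using 1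
    group
  exact absurd (mul_inv_eq_one.1 (h.s1.one_of_T
    (h.s1.ET (mem_sup_left (mul_mem hw (inv_mem hv)))) h6)) hne

theorem CX_bot : C[A ⊔ B] = ⊥ := by
  by_contra hn
  have hY : C[A ⊔ B] ⊴ N[A] := ⟨(C_anti le_sup_left).trans (C_le_N A), fun g hg => by
    rw [mem_N_iff_cj, cj_C]
    rcases h.perm hg (h.NT hg) with e | e
    · rw [h.cjX hg h.s1 e]
    · rw [h.cjX hg h.s2 e]; exact le_antisymm h.CX h.symm.CX⟩
  exact h.s1.ne (h.fu.eq_of_le_N h.s1.mA h.s1.mB (((norm_of_cent (cents_symm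
    ((pcore_le _ _).trans (C_anti le_sup_right)))).trans (h.s1.st.max A h.s1.mA _ (pcore_pi _ _)
      (h.s1.st.O2_ne_bot h.s1.mA hY hn) (hY.norm.trans (N_le_N_pcore _ _)))))).symm

theorem CT : C[A ⊔ Om B] ≤ Om A := fun y hy => by
  obtain ⟨v, hv, h1⟩ := h.s1.ax (C_anti h.s1.ET hy) (C_anti le_sup_left hy)
  rw [h.CX_bot, mem_bot] at h1
  rw [eq_inv_of_mul_eq_one_right h1]; exact inv_mem hv

theorem CE : C[Ln A B] ≤ Ln A B := fun d hd => by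
  have h1 := C_anti le_sup_left hd
  have h2 := h.s1.st.C_Om_le h.s1.mA h1
  obtain ⟨s, hs, h3⟩ := h.s2.sig (h.perm_N h2 (h.NT h2) (C_le_N _ hd)) h1
  obtain ⟨a, ha, h4⟩ := h.exa hs
  have h5 : a⁻¹ * d ∈ C[Ln A B ⊔ Ln A D] := by
    rw [C_sup]
    refine mem_inf.2 ⟨mul_mem (inv_mem (h.s1.EC (mem_sup_right ha))) hd, ?_⟩
    convert mul_mem (inv_mem h4) h3 using 1
    group
  exact (mul_mem_cancel_left (inv_mem (mem_sup_right ha))).1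
    (mem_sup_left (h.CT (C_anti h.T_le h5)))

theorem mem_T (hc : c ∈ C[Om A]) (hN : c ∈ N[Ln A B]) : c ∈ A ⊔ Om B := by
  obtain ⟨a, ha, h1⟩ := h.s1.sig hN hc
  exact (mul_mem_cancel_left (inv_mem (mem_sup_left ha))).1 (h.s1.ET (h.CE h1))

theorem twoC (hv : v ∈ Om A) (h1 : v ≠ 1) : IsPi {2} C{v} := two_of_odd fun g hg ho => by
  have h2 := h.fu.C1_le h.s1.mA hv h1 hg
  refine eq_one_of_odd h.s1.twoT (h.mem_T (mem_of_sq_mem ho ?_) (mem_of_sq_mem ho ?_)) ho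
  · exact (ix2_iff (h.fu.ixV h.s1.mA hv h1) hg hg).2 Iff.rfl
  · exact (ix2_iff h.ixE h2 h2).2 Iff.rfl

theorem TC1 (hv : v ∈ Om A) : A ⊔ Om B ≤ C{v} := h.s1.TC.trans (C_le_C1 hv)

theorem sylC (hv : v ∈ Om A) (h1 : v ≠ 1) : Syl 2 ⊤ C{v} :=
  syl_of_max Nat.prime_two (h.twoC hv h1) le_top fun R hR hle _ => by
    obtain ⟨w, hw, h2⟩ := exists_ne_one (IsPi.inf_C_ne_bot Nat.prime_two hR hR (norm_self R)
      (ne_bot_of_mem (hle (self_mem_C1 v)) h1))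
    have h3 := h.CT (C_anti ((h.TC1 hv).trans hle) hw.2)
    obtain ⟨g, -, -, -, e⟩ := h.s1.f4 h.sq hv h1 h3 h2
    have h4 : R ≤ C{w} := mem_C_iff_le_C1.1 hw.2
    rw [eq_of_card_eq (hle.trans h4) (by rw [← e, ← cj_C1, card_cj])]
    exact h4

theorem pt_inv (hP : P ∈ Δ) (hx : x ∈ Om P) (hN : x ∈ N[A]) : x ∈ Ln A B ∨ x ∈ Ln A D := by
  by_cases h1 : x = 1
  · exact Or.inl (h1 ▸ one_mem _)
  rcases h.fu.eq_or_sp h.s1.mA hP (Om_le P hx) h1 hN with e | s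
  · exact Or.inl (mem_sup_left (e ▸ hx))
  · exact h.invT (h.all_T s hx) (h.s1.st.sq hP hx)

theorem inv_pt (hx : x ∈ A ⊔ Om B) (h1 : x ≠ 1) (h2 : x * x = 1) : ∃ P ∈ Δ, x ∈ Om P := by
  rcases h.invT hx h2 with e | e
  · obtain ⟨P, hP, -, e⟩ := h.s1.spread h.sq e h1
    exact ⟨P, hP, e⟩
  · obtain ⟨P, hP, -, e⟩ := h.s2.spread h.sq e h1
    exact ⟨P, hP, e⟩

theorem tc (hv : v ∈ Om A) (h1 : v ≠ 1) (ht : t ∈ C{v}) (n1 : t ∉ N[Ln A B]) (n2 : t ∉ C[Om A])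
    (hP : P ∈ Δ) : ¬ Om P ≤ C{t} := fun hc => by
  have st := h.s1.st
  have hN := h.fu.C1_le h.s1.mA hv h1
  obtain ⟨e1, e2⟩ := h.perm_not (hN ht) (h.NT (hN ht)) n1
  have key : ∀ P ∈ Δ, ∀ x ∈ Om P, x ≠ 1 → x ∈ N[A] → x ∈ C{t} → x = v := fun P hP x hx x1 xN xt => by
    have e3 : t * x * t⁻¹ = x := mem_C1_iff_conj.1 (mem_C1_comm.1 xt)
    have h2 : x ∈ Om A := by
      rcases h.pt_inv hP hx xN with e | e
      · exact h.Om_of_EE e (by rw [← e1, ← e3]; exact conj_mem_cj t e)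
      · exact h.Om_of_EE (by rw [← e2, ← e3]; exact conj_mem_cj t e) e
    by_contra hne
    exact n2 (h.fu.mem_C_Om h.s1.mA hv h2 h1 x1 (Ne.symm hne) (mem_C1.1 ht) (comm_of_cj e3))
  obtain ⟨R, hR, hvR⟩ := Sylow_superset Nat.prime_two (zp_two (st.sq h.s1.mA hv))
    (zpowers_le.2 (mem_C1_comm.1 ht))
  have hv' := zpowers_le.1 hvR
  have hRA : R ≤ N[A] := by
    rw [← (hR.pi.nil Nat.prime_two).eq_of_norm_le (K := R ⊓ N[A]) inf_le_left fun g hg => ?_]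
    · exact inf_le_right
    have h2 := conj_mem (mem_inf.1 hg).2 (mem_inf.2 ⟨hv', hN (self_mem_C1 v)⟩)
    exact ⟨hg.1, hN (mem_C1_iff_conj.2 (key _ (st.cjm A h.s1.mA g) _ (cj_mem_Om g hv) (cj_ne g h1)
      (mem_inf.1 h2).2 (hR.le (mem_inf.1 h2).1)))⟩
  obtain ⟨k, -, hk⟩ := Sylow_Jsub Nat.prime_two hR (st.Om_two hP) hc
  rw [cj_Om] at hk
  obtain ⟨x, hx, x1, xv⟩ := st.ex_ne (st.cjm P hP k) v
  exact xv (key _ (st.cjm P hP k) x hx x1 (hRA (hk hx)) (hR.le (hk hx)))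

theorem T_JO : A ⊔ Om B ≤ JO Δ := h.T_le.trans
  (sup_le (sup_le (le_JO h.s1.mA) (le_JO h.s1.mB)) (sup_le (le_JO h.s1.mA) (le_JO h.s2.mB)))

theorem nv (h1 : A ⊔ Om B ≤ N[K]) (h2 : A ⊔ B ≤ N[K]) (h3 : K ≠ ⊥) : Om A ≤ K := by
  have st := h.s1.st
  have h4 : ¬ Odd ♯K := fun ho => by
    obtain ⟨u, hu, w, hw, u1, w1, hne⟩ := st.four A h.s1.mA
    refine h3 (eq_bot_iff.2 (B71.gen_four ⟨u1, st.sq h.s1.mA hu⟩ ⟨w1, st.sq h.s1.mA hw⟩ hne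
      (st.comm h.s1.mA (Om_le A hu) (Om_le A hw)) ho (h2 (mem_sup_left (Om_le A hu)))
      (h2 (mem_sup_left (Om_le A hw))) fun x hx hx' y hy => ?_))
    exact eq_one_of_odd (h.twoC ((sup_le (zpowers_le.2 hu) (zpowers_le.2 hw) : _ ≤ Om A) hx) hx'.1)
      hy.2 (Odd.of_dvd_nat ho (orderOf_dvd_card' hy.1))
  obtain ⟨R, hR, hTR⟩ := Sylow_superset Nat.prime_two h.s1.twoT
    (le_sup_right : A ⊔ Om B ≤ K ⊔ (A ⊔ Om B))
  have h5 := hR.inf_nml (nml_sup_left h1)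
  obtain ⟨v, hv, v1⟩ := exists_ne_one (IsPi.inf_C_ne_bot Nat.prime_two h.s1.twoT h5.pi
    (norm_inf (norm_of_le hTR) h1) (h5.ne_bot Nat.prime_two rfl
      (even_iff_two_dvd.1 (Nat.not_odd_iff_even.1 h4))))
  intro w hw
  by_cases w1 : w = 1
  · exact w1 ▸ one_mem _
  obtain ⟨g, hg, -, -, e⟩ := h.s1.f4 h.sq (h.CT hv.2) v1 hw w1
  exact e ▸ conj_mem (h2 hg) hv.1.2

end Cfg

namespace Fu

variable (h : Fu Δ)
include h

theorem le_L (hA : A ∈ Δ) : A ≤ JO Δ := by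
  obtain ⟨B, D, c⟩ := h.cfg A hA
  exact le_sup_left.trans c.T_JO

theorem twoC (hA : A ∈ Δ) (hv : v ∈ Om A) (h1 : v ≠ 1) : IsPi {2} C{v} := by
  obtain ⟨B, D, c⟩ := h.cfg A hA
  exact c.twoC hv h1

theorem as (hA : A ∈ Δ) : Gold.AS (JO Δ) := by
  obtain ⟨B, D, c⟩ := h.cfg A hA
  refine ⟨fun g _ => mem_N_JO fun D hD => h.st.cjm D hD g, fun K hK => ?_, fun e => c.s1.nc
    (e.cents (h.le_L hA) (h.le_L c.s1.mB)), eq_bot_of_le c.CX_bot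
      (C_anti (sup_le (h.le_L hA) (h.le_L c.s1.mB)))⟩
  by_cases e : K = ⊥
  · exact Or.inl e
  refine Or.inr (le_antisymm hK.le (JO_le fun P hP => ?_))
  obtain ⟨B, D, c⟩ := h.cfg P hP
  exact c.nv (c.T_JO.trans hK.norm) ((sup_le (h.le_L hP) (h.le_L c.s1.mB)).trans hK.norm) e

theorem cit (hA : A ∈ Δ) (ht : t ∈ JO Δ) (h1 : t ≠ 1) (h2 : t * t = 1) : IsPi {2} C{t} := by
  obtain ⟨B, D, c⟩ := h.cfg A hA
  obtain ⟨v, hv, v1⟩ := h.st.ex1 hA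
  have as := h.as hA
  have hU := (c.sylC hv v1).inf_nml (K := JO Δ) ⟨le_top, as.nml⟩
  obtain ⟨k, -, hk⟩ := Sylow_Jsub Nat.prime_two hU (zp_two h2) (zpowers_le.2 ht)
  rw [cj_zpowers, zpowers_le] at hk
  have i1 := h.ixV hA hv v1
  have i2 := c.ixE.mono (h.C1_le hA hv v1)
  obtain ⟨x, -, hx⟩ := thompson as.perf hU (i1.mono inf_le_left) hk (cj_sq k h2)
  obtain ⟨y, -, hy⟩ := thompson as.perf hU ((ix2_third i1 i2).mono inf_le_left) hk (cj_sq k h2)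
  by_cases h3 : y * (k * t * k⁻¹) * y⁻¹ ∈ C[Om A]
  · obtain ⟨P, hP, h4⟩ := c.inv_pt (c.mem_T h3 (hy.2.1 h3)) (cj_ne y (cj_ne k h1))
      (cj_sq y (cj_sq k h2))
    have := h.twoC hP h4 (cj_ne y (cj_ne k h1))
    rw [← cj_C1, ← cj_C1] at this
    exact isPi_cj.1 (isPi_cj.1 this)
  · refine absurd ?_ (c.tc hv v1 hy.1 (fun e => h3 (hy.2.2 e)) h3 (h.st.cjm A hA (y * x⁻¹)))
    rw [← cj_Om, cj_mul, ← cj_C1, cj_le_cj, cj_le_iff, inv_inv, cj_C1]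
    exact mem_C_iff_le_C1.1 hx

end Fu

end TA
end H3
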