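import Mathlib
import Cfsg.Agent.H3.TA8
import Cfsg.Agent.H16.PSL2Inv
import Cfsg.Agent.H18.PSL2Ev
import Cfsg.Agent.S0348

/-! Abelian TI subgroups `ℤ₄ × ℤ₄`: the identification. -/

set_option autoImplicit false
set_option linter.unusedSectionVars false
set_option linter.unusedVariables false

namespace H3
namespace TA

open H24 H26 Subgroup MulAction Cfsg H23.TC
open scoped MatrixGroups

universe u

theorem psl2_no {F : Type} [Field F] {s v : PSL(2, F)} (h1 : s * s ≠ 1) (h2 : s * s * (s * s) = 1)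
    (h3 : v ≠ 1) (h4 : v * v = 1) (h5 : s * v = v * s) : v = s * s := by
  by_cases h : (2 : F) = 0
  · exact absurd (H18.psl2_sq_of_comm h h4 h3 h5) h1
  obtain ⟨x, ex, hx⟩ := H16.exists_lift_of_involution h _ h1 h2
  obtain ⟨y, rfl, hy⟩ := H16.exists_lift_of_involution h _ h3 h4
  induction s using QuotientGroup.induction_on with | H z =>
  rw [← QuotientGroup.mk_mul, ← QuotientGroup.mk_mul, H16.psl2_mk_eq_iff] at h5
  rw [← QuotientGroup.mk_mul, H16.psl2_mk_eq_iff] at ex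
  have e1 : y * (z * z) = z * z * y := by
    rcases h5 with e | e
    · rw [← mul_assoc, e, mul_assoc, e, mul_assoc]
    · rw [← mul_assoc, e, neg_mul, mul_assoc, e, mul_neg, neg_neg, mul_assoc]
  have e2 : z * z * (z * z) = -1 := by
    rcases ex with e | e
    · rw [e, hx]
    · rw [e, neg_mul_neg, hx]
  rw [← QuotientGroup.mk_mul]
  rcases H16.eq_of_comm_of_sq h _ _ e2 hy e1 with e | e
  · rw [e]
  · rw [e, H16.mk_neg]

theorem not_three (m : ℕ) :
    ¬ 3 ∣ (2 ^ (2 * m + 1)) ^ 2 * ((2 ^ (2 * m + 1)) ^ 2 + 1) * (2 ^ (2 * m + 1) - 1) := by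
  obtain ⟨k, hk⟩ : ∃ k, 2 ^ (2 * m + 1) = 3 * k + 2 := by
    induction m with
    | zero => exact ⟨0, rfl⟩
    | succ m ih =>
      obtain ⟨k, hk⟩ := ih
      exact ⟨4 * k + 2, by rw [show 2 * (m + 1) + 1 = 2 * m + 1 + 2 by ring, pow_add, hk]; ring⟩
  rw [hk, Nat.prime_three.dvd_mul, Nat.prime_three.dvd_mul]
  have e1 : (3 * k + 2) ^ 2 = 3 * (3 * k * k + 4 * k + 1) + 1 := by ring
  rw [e1]
  omega

variable {G : Type u} [Group G] [Finite G] {Δ : Set (Subgroup G)}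
  {A B D L : Subgroup G} {a b c d e g m p r s t u v w x y z : G}

theorem fstar_eq (h : Gold.AS L) : generalizedFittingSubgroup G = L := by
  have hn : L.Normal := nml_top_iff.1 ⟨le_top, h.nml⟩
  refine le_antisymm (sup_le (H23.layer_le_of_centralizer_le hn.isSubnormal (h.cent ▸ bot_le)) ?_)
    ((H23.le_layer ⟨hn.isSubnormal, H23.isQuasisimple_subgroup_iff.2 ⟨h.perf,
      fun e => h.nab (e ▸ abl_bot), fun N h1 h2 => (h.simple N ⟨h1, h2⟩).symm.imp_right fun e => by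
        rw [e, commutator_bot_left]⟩⟩).trans le_sup_left)
  rw [← Fitting_top, h.eq_bot_of_sol (Fitting_nil ⊤).sol (le_top.trans (Fitting_nml ⊤).norm)]
  exact bot_le

namespace Fu

variable (h : Fu Δ)
include h

theorem three (hA : A ∈ Δ) : 3 ∣ ♯(JO Δ) := by
  obtain ⟨B, D, c⟩ := h.cfg A hA
  obtain ⟨v, hv, w, hw, v1, w1, hne⟩ := h.st.four A hA
  have hL : A ⊔ B ≤ JO Δ := sup_le (h.le_L hA) (h.le_L c.s1.mB)
  have key : ∀ v ∈ Om A, ∀ w ∈ Om A, v ≠ 1 → w ≠ 1 → v ≠ w → ∀ g ∈ JO Δ, g * v * g⁻¹ = w →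
      g * w * g⁻¹ = v * w → 3 ∣ ♯(JO Δ) := fun v hv w hw v1 w1 hne g hg e1 e2 => by
    by_contra hn
    have h1 : g ^ 3 ∈ C{v} := mem_C1_iff_conj.2 (by
      calc _ = g * (g * (g * v * g⁻¹) * g⁻¹) * g⁻¹ := by rw [pow_three]; group
        _ = _ := by
          rw [e1, e2, cj_mul', e1, e2, h.st.comm hA (Om_le A hv) (Om_le A hw), mm (h.st.sq hA hw)])
    have h2 : (3 : ℕ).Coprime (orderOf g) := (Nat.Prime.coprime_iff_not_dvd Nat.prime_three).2
      fun e => hn (e.trans (orderOf_dvd_card' hg))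
    obtain ⟨k, hk⟩ := exists_pow_eq_self_of_coprime h2
    have h3 := mem_C1_iff_conj.1 (hk ▸ pow_mem h1 k)
    exact hne (h3.symm.trans e1)
  have step : ∀ v ∈ Om A, ∀ w ∈ Om A, v ≠ 1 → w ≠ 1 → v ≠ w → ∀ g ∈ N[A], g * v * g⁻¹ = w →
      g * w * g⁻¹ = v * w ∨ g * w * g⁻¹ = v := fun v hv w hw v1 w1 hne g hg e1 => by
    rcases h.q4 A hA v hv w hw _ (conj_Om hg hw) v1 w1 hne with e | e | e | e
    · exact absurd e (cj_ne g w1)
    · exact Or.inr e
    · rw [← e1, mul_left_inj, mul_right_inj] at e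
      exact absurd (e.symm.trans e1) hne
    · exact Or.inl e
  have sv := h.st.sq hA hv
  have sw := h.st.sq hA hw
  have cm := h.st.comm hA (Om_le A hv) (Om_le A hw)
  have n1 : v * w ≠ 1 := fun e => hne (by rw [← inv_eq_of_mul_eq_one_right e, inv_of_sq sv])
  have n2 : v ≠ v * w := fun e => w1 (left_eq_mul.1 e)
  obtain ⟨g, hg, hgA, -, e1⟩ := c.s1.f4 h.sq hv v1 hw w1
  obtain ⟨k, hk, hkA, -, e2⟩ := c.s1.f4 h.sq hv v1 (mul_mem hv hw) n1
  rcases step v hv w hw v1 w1 hne g hgA e1 with e3 | e3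
  · exact key v hv w hw v1 w1 hne g (hL hg) e1 e3
  rcases step v hv _ (mul_mem hv hw) v1 n1 n2 k hkA e2 with e4 | e4
  · exact key v hv _ (mul_mem hv hw) v1 n1 n2 k (hL hk) e2 e4
  refine key v hv _ (mul_mem hv hw) v1 n1 n2 (g * k) (hL (mul_mem hg hk)) ?_ ?_
  · calc _ = g * (k * v * k⁻¹) * g⁻¹ := by group
      _ = _ := by rw [e2, cj_mul', e1, e3, cm]
  · calc _ = g * (k * (v * w) * k⁻¹) * g⁻¹ := by group
      _ = _ := by rw [e4, e1, mm sv]

theorem psl3 (hA : A ∈ Δ) : ∃ (F : Type) (_ : Field F) (_ : Fintype F), Fintype.card F = 4 ∧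
    Nonempty (↥(generalizedFittingSubgroup G) ≃* Matrix.ProjectiveSpecialLinearGroup (Fin 3) F) := by
  have as := h.as hA
  have := as.isSimpleGroup
  rw [fstar_eq as]
  rcases Cfsg.Agent.S0348.result (G := JO Δ) (by
      by_contra hn
      exact as.nab (abl_iff.2 (le_C_iff.2 fun a ha b hb => by
        by_contra e
        exact hn ⟨⟨a, ha⟩, ⟨b, hb⟩, fun e' => e (congrArg Subtype.val e')⟩)))
    (fun t ht => by
      have h1 : (t : G) ≠ 1 := fun e => by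
        rw [(Subtype.ext e : t = 1), orderOf_one] at ht
        omega
      have h2 : (t : G) * t = 1 := by
        rw [← pow_two, ← ht, ← Subgroup.coe_pow, pow_orderOf_eq_one, Subgroup.coe_one]
      refine ((isPi_subgroupOf (h.cit hA t.2 h1 h2) (JO Δ)).of_le fun g hg => ?_).isPGroup
        Nat.prime_two
      exact mem_C1.2 (congrArg Subtype.val (mem_C1.1 hg))) with
    ⟨F, _, _, -, ⟨e⟩⟩ | e | ⟨-, m, -, e⟩
  · exfalso
    obtain ⟨s, hs, hs2, -⟩ := h.ex_sq hA 1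
    obtain ⟨v, hv, v1, hne⟩ := h.st.ex_ne hA (s * s)
    have hs' := h.le_L hA hs
    have hv' := h.le_L hA (Om_le A hv)
    refine hne (congrArg Subtype.val (e.injective (a₁ := ⟨v, hv'⟩) (a₂ := ⟨s, hs'⟩ * ⟨s, hs'⟩) ?_))
    rw [map_mul]
    refine psl2_no (fun e' => hs2 ?_) ?_ (fun e' => v1 ?_) ?_ ?_
    · rw [← map_mul, map_eq_one_iff _ e.injective] at e'
      exact congrArg Subtype.val e'
    · rw [← map_mul, ← map_mul, map_eq_one_iff _ e.injective]
      exact Subtype.ext (h.st.sq hA (h.ex4 A hA s hs))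
    · rw [map_eq_one_iff _ e.injective] at e'
      exact congrArg Subtype.val e'
    · rw [← map_mul, map_eq_one_iff _ e.injective]
      exact Subtype.ext (h.st.sq hA hv)
    · rw [← map_mul, ← map_mul]
      exact congrArg e (Subtype.ext (h.st.comm hA hs (Om_le A hv)))
  · exact e
  · exact absurd (e ▸ h.three hA) (not_three m)

end Fu

/-- the homomorphism from `ℤ₄` given by an element of exponent four -/
def z4 {H : Type*} [CommGroup H] (s : H) (h : s ^ 4 = 1) : Multiplicative (ZMod 4) →* H :=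
  AddMonoidHom.toMultiplicativeLeft
    (ZMod.lift 4 ⟨zmultiplesHom (Additive H) (Additive.ofMul s), by
      simp only [zmultiplesHom_apply]
      rw [← ofMul_zpow]; exact congrArg Additive.ofMul (by rw [zpow_natCast, h])⟩)

theorem z4_apply {H : Type*} [CommGroup H] (s : H) (h : s ^ 4 = 1) (n : ℤ) :
    z4 s h (Multiplicative.ofAdd (n : ZMod 4)) = s ^ n := by
  simp [z4]

theorem z2_aux {H : Type*} [CommGroup H] {u w : H} (hu : u ^ 2 = 1) (hw : w ^ 2 = 1) (u1 : u ≠ 1)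
    (w1 : w ≠ 1) (hne : u ≠ w) {n m : ℤ} (h : u ^ n * w ^ m = 1) : 2 ∣ n ∧ 2 ∣ m := by
  have k : ∀ x : H, x ^ 2 = 1 → ∀ k : ℤ, x ^ (2 * k) = 1 := fun x hx k => by
    rw [zpow_mul, zpow_ofNat, hx, one_zpow]
  obtain ⟨a, rfl | rfl⟩ := Int.even_or_odd' n <;> obtain ⟨b, rfl | rfl⟩ := Int.even_or_odd' m
  · exact ⟨⟨a, rfl⟩, ⟨b, rfl⟩⟩
  · exact absurd (by simpa [zpow_add, k u hu, k w hw] using h) w1
  · exact absurd (by simpa [zpow_add, k u hu, k w hw] using h) u1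
  · simp only [zpow_add, k u hu, k w hw, one_mul, zpow_one] at h
    exact absurd (by rw [eq_inv_of_mul_eq_one_left h, inv_of_sq (by rw [← pow_two, hw])]) hne

theorem z44_of {H : Type*} [CommGroup H] {s t : H} (hs : s ^ 4 = 1) (ht : t ^ 4 = 1)
    (s1 : s ^ 2 ≠ 1) (t1 : t ^ 2 ≠ 1) (hne : s ^ 2 ≠ t ^ 2)
    (hg : ∀ K : Subgroup H, s ∈ K → t ∈ K → K = ⊤) :
    Nonempty (H ≃* Multiplicative (ZMod 4) × Multiplicative (ZMod 4)) := by
  refine ⟨(MulEquiv.ofBijective ((z4 s hs).coprod (z4 t ht)) ⟨?_, ?_⟩).symm⟩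
  · rw [injective_iff_map_eq_one]
    rintro ⟨a, b⟩ h
    obtain ⟨n, hn⟩ := ZMod.intCast_surjective (Multiplicative.toAdd a)
    obtain ⟨m, hm⟩ := ZMod.intCast_surjective (Multiplicative.toAdd b)
    obtain rfl : a = Multiplicative.ofAdd (n : ZMod 4) := by rw [hn]; rfl
    obtain rfl : b = Multiplicative.ofAdd (m : ZMod 4) := by rw [hm]; rfl
    rw [MonoidHom.coprod_apply, z4_apply, z4_apply] at h
    have k : ∀ {n m : ℤ}, s ^ (2 * n) * t ^ (2 * m) = 1 → 2 ∣ n ∧ 2 ∣ m := fun h =>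
      z2_aux (by rw [← pow_mul, hs]) (by rw [← pow_mul, ht]) s1 t1 hne
        (by rwa [zpow_mul, zpow_mul, zpow_ofNat, zpow_ofNat] at h)
    obtain ⟨⟨a, rfl⟩, ⟨b, rfl⟩⟩ := k (n := n) (m := m) (by
      rw [mul_comm 2 n, mul_comm 2 m, zpow_mul, zpow_mul, ← mul_zpow, h, one_zpow])
    obtain ⟨⟨c, rfl⟩, ⟨d, rfl⟩⟩ := k h
    have e : ∀ c : ℤ, ((2 * (2 * c) : ℤ) : ZMod 4) = 0 := fun c =>
      (ZMod.intCast_zmod_eq_zero_iff_dvd _ 4).2 ⟨c, by push_cast; ring⟩
    rw [e, e]; rfl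
  · rw [← MonoidHom.range_eq_top]
    refine hg _ ⟨(Multiplicative.ofAdd ((1 : ℤ) : ZMod 4), 1), ?_⟩
      ⟨(1, Multiplicative.ofAdd ((1 : ℤ) : ZMod 4)), ?_⟩
    · rw [MonoidHom.coprod_apply, z4_apply, map_one, mul_one, zpow_one]
    · rw [MonoidHom.coprod_apply, z4_apply, map_one, one_mul, zpow_one]

theorem Fu.z44 (h : Fu Δ) (hA : A ∈ Δ) :
    Nonempty (↥A ≃* Multiplicative (ZMod 4) × Multiplicative (ZMod 4)) := by
  obtain ⟨s, hs, hs2, -⟩ := h.ex_sq hA 1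
  obtain ⟨t, ht, ht2, hne⟩ := h.ex_sq hA (s * s)
  let : CommGroup A := { mul_comm := fun a b => Subtype.ext (h.st.comm hA a.2 b.2) }
  have k : ∀ s (hs : s ∈ A), (⟨s, hs⟩ : A) ^ 4 = 1 := fun s hs => Subtype.ext (by
    rw [Subgroup.coe_one, ← h.st.sq hA (h.ex4 A hA s hs)]
    simp only [pow_succ, pow_zero, one_mul, mul_assoc, Subgroup.coe_mul])
  refine z44_of (k s hs) (k t ht) (fun e => hs2 ?_) (fun e => ht2 ?_) (fun e => hne ?_)
    fun K h1 h2 => ?_
  · rw [pow_two] at e; exact congrArg Subtype.val e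
  · rw [pow_two] at e; exact congrArg Subtype.val e
  · rw [pow_two, pow_two] at e; exact congrArg Subtype.val e.symm
  have h3 : s ∈ K.map A.subtype := ⟨_, h1, rfl⟩
  have h4 : t ∈ K.map A.subtype := ⟨_, h2, rfl⟩
  have q := h.q4 A hA _ (h.ex4 A hA s hs) _ (h.ex4 A hA t ht)
  have h5 : Om A ≤ K.map A.subtype := fun x hx => by
    rcases q x hx hs2 ht2 hne.symm with e | e | e | e <;> rw [e]
    exacts [one_mem _, mul_mem h3 h3, mul_mem h4 h4, mul_mem (mul_mem h3 h3) (mul_mem h4 h4)]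
  have h6 : A ≤ K.map A.subtype := fun x hx => by
    have k : ∀ r ∈ A, r ∈ K.map A.subtype → x * x = r * r → x ∈ K.map A.subtype :=
      fun r hr hr' e => (mul_mem_cancel_left (inv_mem hr')).1 (h5 ((h.st.sq_iff hA hr hx).2 e.symm))
    rcases q _ (h.ex4 A hA x hx) hs2 ht2 hne.symm with e | e | e | e
    · exact h5 (mem_Om' hx e)
    · exact k s hs h3 e
    · exact k t ht h4 e
    · exact k _ (mul_mem hs ht) (mul_mem h3 h4) (by rw [e, h.st.mul_sq hA hs ht])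
  refine eq_top_iff.2 fun x _ => ?_
  obtain ⟨y, hy, e⟩ := h6 x.2
  exact (Subtype.ext e : y = x) ▸ hy

end TA
end H3
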