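import Mathlib
import Cfsg.Prelude.Def_Classical
import Cfsg.Agent.H7.DCE
import Cfsg.Agent.H19.PM

/-! Tools for two presentations of orthogonal groups in dimension eight. -/

set_option autoImplicit false
set_option linter.all false

namespace H3.Z0

open H29 H7.Cay H19 Matrix

variable {G : Type*} [Group G]

/-- The inverses of the letters. -/
def ivl : List ℕ := [0, 1, 2, 3, 4, 5, 6, 7, 8, 9, 10, 11, 12, 14, 13, 16, 15, 18, 17]
/-- All letters. -/
def LL : List ℕ := [0, 1, 2, 3, 4, 5, 6, 7, 8, 9, 10, 11, 12, 13, 14, 15, 16, 17, 18]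
/-- The inverses of the letters outside the Sylow subgroup. -/
noncomputable def iv7 : ℕ → ℕ := ivOf [0, 2, 1, 4, 3, 6, 5]

theorem ivOf_ge {l : List ℕ} {c : ℕ} (h : l.length ≤ c) : ivOf l c = c := by
  rw [ivOf, nth_eq, List.getD_eq_default _ _ h]

theorem hii : ∀ c, ivOf ivl (ivOf ivl c) = c := fun c => by
  by_cases h : c < 19
  · exact (by decide : ∀ c < 19, ivOf ivl (ivOf ivl c) = c) c h
  · rw [ivOf_ge (l := ivl) (c := c) (not_lt.1 h), ivOf_ge (l := ivl) (c := c) (not_lt.1 h)]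

theorem hLL : ∀ c ∈ LL, ivOf ivl c ∈ LL := by decide

theorem iv7_ok {e : ℕ → G} (h : IvOK e (ivOf ivl)) : IvOK (fun l => e (l + 12)) iv7 := fun l => by
  have : iv7 l + 12 = ivOf ivl (l + 12) := by
    by_cases hl : l < 7
    · exact (by decide : ∀ l < 7, iv7 l + 12 = ivOf ivl (l + 12)) l hl
    · rw [iv7, ivOf_ge (not_lt.1 hl), ivOf_ge (l := ivl) (by change 19 ≤ _; omega)]
  change e _ = _
  rw [this, h]

theorem ok_of_known {C : Tab} {e : ℕ → G} (h : C.Known e (ones (Nat.mul C.n C.nl)))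
    (h1 : C.n = 2 ^ C.b) : C.OK e := by
  refine ⟨h1 ▸ Nat.two_pow_pos _, fun c _ l _ => h1 ▸ pk_lt _ _ _, fun c hc l hl => h l hl c ?_⟩
  rw [tb_eq, testBit_ones, decide_eq_true_eq]
  change _ < C.n * C.nl
  nlinarith

/-- The end of a trace. -/
noncomputable def fin0 (j _p : ℕ) (R : List (ℕ × ℕ)) : Bool :=
  List.rec (motive := fun _ => Bool) (Nat.beq j 0) (fun _ _ _ => false) R

theorem trace {D : DC} {H : Subgroup G} {φ g : ℕ → G} (h : D.Hyp H φ g) {i : ℕ}
    (hu : D.Upto H φ g i) {R : List (ℕ × ℕ)} {ops : List ℕ} (hR : ∀ a ∈ R, a.2 < D.M.n)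
    (hc : D.walk i fin0 ops 0 0 R = true) : evR φ g R ∈ H := by
  obtain ⟨j, p, R', a1, a2⟩ := DC.walk_spec (x0 := evR φ g R) h hu ops 0 0 R
    ⟨h.snd.pos, hR, by rw [mul_inv_cancel, DC.rep_zero, h.snd.zero, mul_one]; exact RC.refl _ _⟩ hc
  cases R' with
  | cons _ _ => exact absurd a2 (by simp [fin0])
  | nil =>
    obtain rfl : j = 0 := nbeq.1 a2
    have := H.mul_mem a1.2.2 (h.mem _ a1.1)
    simpa [DC.rep_zero, evR] using this

/-- A word as a code times a template. -/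
noncomputable def toT (M : GM) (cd : ℕ → ℕ) (w : List ℕ) : ℕ × List (ℕ × ℕ) :=
  List.rec (motive := fun _ => ℕ × List (ℕ × ℕ)) (0, []) (fun y _ ih =>
    Bool.rec (0, (Nat.sub y 12, ih.1) :: ih.2) (M.mul (cd y) ih.1, ih.2) (lt y 12)) w

theorem toT_spec {M : GM} {φ e : ℕ → G} (s : M.Sound φ) {cd : ℕ → ℕ}
    (hcd : ∀ y < 12, cd y < M.n ∧ φ (cd y) = e y) : ∀ w : List ℕ, (toT M cd w).1 < M.n ∧
      (∀ a ∈ (toT M cd w).2, a.2 < M.n) ∧
      ev e w = φ (toT M cd w).1 * evR φ (fun l => e (l + 12)) (toT M cd w).2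
  | [] => ⟨s.pos, by simp [toT], by simp [toT, evR, s.zero]⟩
  | y :: w => by
    obtain ⟨a1, a2, a3⟩ := toT_spec s hcd w
    have e1 : toT M cd (y :: w) = Bool.rec (0, (y - 12, (toT M cd w).1) :: (toT M cd w).2)
      (M.mul (cd y) (toT M cd w).1, (toT M cd w).2) (lt y 12) := rfl
    rw [e1, ev_cons, a3]
    cases h : lt y 12 with
    | true =>
      obtain ⟨b1, b2⟩ := hcd y (lt_true.1 h)
      exact ⟨s.mul_lt _ b1 _ a1, a2, by
        change _ = φ (M.mul _ _) * _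
        rw [s.map_mul _ b1 _ a1, b2, mul_assoc]⟩
    | false =>
      have b : 12 ≤ y := not_lt.1 fun k => by rw [lt_true.2 k] at h; exact absurd h (by simp)
      refine ⟨s.pos, by simpa using ⟨a1, fun x y hxy => a2 (x, y) hxy⟩, ?_⟩
      change _ = φ 0 * (e (y - 12 + 12) * φ _ * _)
      rw [s.zero, one_mul, Nat.sub_add_cancel b, mul_assoc]

theorem good_of_words {M : GM} {φ e : ℕ → G} (s : M.Sound φ) {cd : ℕ → ℕ}
    (hcd : ∀ y < 12, cd y < M.n ∧ φ (cd y) = e y) {W : List (List ℕ)} (hW : ∀ r ∈ W, ev e r = 1)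
    {B : List (List (ℕ × ℕ))} (h : W.map (toT M cd) = B.map (Prod.mk 0)) :
    ∀ R ∈ B, Good M.n φ (fun l => e (l + 12)) R := fun R hR => by
  obtain ⟨w, hw, e1⟩ := List.mem_map.1 (h ▸ List.mem_map_of_mem hR : (0, R) ∈ W.map (toT M cd))
  obtain ⟨-, a2, a3⟩ := toT_spec s hcd w
  rw [e1] at a2 a3
  exact ⟨a2, by simpa [s.zero, hW w hw] using a3.symm⟩

theorem word_mem {M : GM} {φ e : ℕ → G} (s : M.Sound φ) {cd : ℕ → ℕ}
    (hcd : ∀ y < 12, cd y < M.n ∧ φ (cd y) = e y) {w : List ℕ} {R : List (ℕ × ℕ)}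
    (h : toT M cd w = (0, R)) (k : (∀ a ∈ R, a.2 < M.n) → evR φ (fun l => e (l + 12)) R ∈ s.sub) :
    ev e w ∈ s.sub := by
  obtain ⟨-, a2, a3⟩ := toT_spec s hcd w
  rw [h] at a2 a3
  rw [a3, s.zero, one_mul]
  exact k a2

theorem good_two {M : GM} {φ g : ℕ → G} (s : M.Sound φ) {iv : ℕ → ℕ} (hiv : IvOK g iv) {l m m' : ℕ}
    (h : Good M.n φ g [(l, m), (l, m)]) (h' : Good M.n φ g [(l, m'), (l, m')]) :
    Good M.n φ g [(l, M.mul m (M.inv m')), (iv l, M.mul (M.inv m') m)] := by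
  have a := h.1 (l, m) (by simp)
  have a' := h'.1 (l, m') (by simp)
  have b := s.inv_lt _ a'
  refine ⟨by simpa using ⟨s.mul_lt _ a _ b, s.mul_lt _ b _ a⟩, ?_⟩
  have c := h.2
  have c' := h'.2
  simp only [evR, mul_one] at c c' ⊢
  rw [s.map_mul _ a _ b, s.map_mul _ b _ a, s.map_inv _ a', hiv]
  have d : (φ m')⁻¹ * (g l)⁻¹ * (φ m')⁻¹ = g l := by
    have := eq_inv_of_mul_eq_one_left c'
    calc _ = (g l * φ m')⁻¹ * (φ m')⁻¹ := by group
      _ = _ := by rw [← this]; group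
  calc _ = g l * φ m * ((φ m')⁻¹ * (g l)⁻¹ * (φ m')⁻¹) * φ m := by group
    _ = 1 := by rw [d, mul_assoc, c]

theorem hY_of {M : GM} {φ g : ℕ → G} (s : M.Sound φ) {iv : ℕ → ℕ} (hiv : IvOK g iv)
    {B : List (List (ℕ × ℕ))} (hB : ∀ R ∈ B, Good M.n φ g R) {l : ℕ} {Y : List (ℕ × ℕ)}
    (h : ∀ y ∈ Y, (y.1 < M.n ∧ y.2 < M.n) ∧ ([(l, y.2), (iv l, M.inv y.1)] ∈ B ∨
      [(iv l, y.1), (l, M.inv y.2)] ∈ B)) : ∀ y ∈ Y, φ y.1 * g l = g l * φ y.2 := fun y hy => by
  obtain ⟨⟨a1, a2⟩, a | a⟩ := h y hy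
  · have c := (hB _ a).2
    simp only [evR, mul_one, hiv l, s.map_inv _ a1] at c
    calc _ = (g l * φ y.2 * ((g l)⁻¹ * (φ y.1)⁻¹)) * (φ y.1 * g l) := by rw [c, one_mul]
      _ = _ := by group
  · have c := (hB _ a).2
    simp only [evR, mul_one, hiv l, s.map_inv _ a2] at c
    calc _ = g l * ((g l)⁻¹ * φ y.1 * (g l * (φ y.2)⁻¹)) * φ y.2 := by group
      _ = _ := by rw [c, mul_one]

/-- The conjugation tables. -/
noncomputable def alF (A : List ℕ) (l c : ℕ) : ℕ := Bool.rec 4096 (pk (nth 0 A l) 13 c) (lt l 7)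

theorem al_all {M : GM} {φ g : ℕ → G} (s : M.Sound φ) (hn : M.n = 4096) {A K : List ℕ}
    {Y : List (List (ℕ × ℕ))} (hY : ∀ l < 7, ∀ y ∈ nth [] Y l, φ y.1 * g l = g l * φ y.2)
    (h : ∀ l < 7, chkAl M (alF A l) (pk (nth 0 K l) 4) (nth [] Y l) = true) :
    ∀ l, ∀ c < M.n, alF A l c < M.n → φ c * g l = g l * φ (alF A l c) := fun l => by
  by_cases hl : l < 7
  · exact al_sound s (hY l hl) (h l hl)
  · intro c _ k
    have : lt l 7 = false := by rw [← Bool.not_eq_true, lt_true]; exact hl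
    rw [alF, this, hn] at k
    exact absurd k (lt_irrefl _)

/-- The search for a representative. -/
noncomputable def ctF (M : GM) (A : List ℕ) (T : List (List ℕ)) (l p : ℕ) : ℕ :=
  List.rec (motive := fun _ => ℕ) 0 (fun t _ ih =>
    Bool.rec ih t (lt (alF A l (M.mul (M.inv t) p)) M.n)) (nth [] T l)

/-- Unpack a list of pairs. -/
noncomputable def unp (k : ℕ) : ℕ → List (ℕ × ℕ) :=
  Nat.rec (motive := fun _ => ℕ → List (ℕ × ℕ)) (fun _ => []) (fun _ ih X =>
    lit (Nat.mod X 33554432) fun y => seqN (Nat.shiftRight X 25) fun X' =>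
      (Nat.div y 4096, Nat.mod y 4096) :: ih X') k

theorem allL_app {α : Type} {l l' : List α} {f : α → Bool} (h : allL l f = true)
    (h' : allL l' f = true) : allL (l ++ l') f = true := by
  rw [allL_true] at h h' ⊢
  exact fun a ha => (List.mem_append.1 ha).elim (h a) (h' a)

theorem all7 {p : ℕ → Prop} (h0 : p 0) (h1 : p 1) (h2 : p 2) (h3 : p 3) (h4 : p 4) (h5 : p 5)
    (h6 : p 6) : ∀ l < 7, p l := fun l hl => by interval_cases l <;> assumption

theorem bd_gen {M : GM} {φ e : ℕ → G} (s : M.Sound φ) {cd : ℕ → ℕ}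
    (hcd : ∀ y < 12, cd y < M.n ∧ φ (cd y) = e y) {n : ℕ}
    (h : Bd (s.sub ⊔ Subgroup.closure ((fun l => e (l + 12)) '' Set.Iio 7)) n) : Bd (gen e LL) n := by
  have k : gen e LL ≤ s.sub ⊔ Subgroup.closure ((fun l => e (l + 12)) '' Set.Iio 7) :=
    gen_le.2 fun c hc => by
      have h19 := (by decide : ∀ c ∈ LL, c < 19) c hc
      by_cases h12 : c < 12
      · exact Subgroup.mem_sup_left ⟨_, (hcd c h12).1, (hcd c h12).2⟩
      · exact Subgroup.mem_sup_right (Subgroup.subset_closure ⟨c - 12, show c - 12 < 7 by omega,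
          congrArg e (by omega)⟩)
  have := h.1
  exact ⟨Finite.of_injective _ (Subgroup.inclusion_injective k), (Subgroup.card_le_of_le k).trans h.2⟩

theorem rel_of_mem {K : Type*} [Group K] {C : Tab} {M : GM} {e : ℕ → G} (π : G →* K)
    (s : M.Sound (C.val e)) (hi : M.Inj (C.val fun c => π (e c))) {w : List ℕ}
    (h : ev (fun c => π (e c)) w = 1) (k : ev e w ∈ s.sub) : ev e w = 1 := by
  obtain ⟨c, hc, e1⟩ := k
  have : c = 0 := hi c hc 0 s.pos (by rw [← Tab.map_val, e1, map_ev, h, Tab.val_zero])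
  rw [← e1, this, Tab.val_zero]

theorem inj_of_map {K : Type*} [Group K] {C : Tab} {M : GM} {e : ℕ → G} (π : G →* K)
    (hi : M.Inj (C.val fun c => π (e c))) : M.Inj (C.val e) := fun a ha b hb h =>
  hi a ha b hb (by rw [← Tab.map_val, ← Tab.map_val, h])

/-! ### Lower bounds for the order -/

theorem card_step {X : Type*} {K L : Subgroup G} [Finite L] (hKL : K ≤ L) (π : G → X)
    (hπ : ∀ g, ∀ k ∈ K, π (g * k) = π g) {m : ℕ} (f : Fin m → G) (hf : ∀ i, f i ∈ L)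
    (hi : Function.Injective fun i => π (f i)) : m * Nat.card K ≤ Nat.card L := by
  let F : Fin m × K → L := fun a => ⟨f a.1 * a.2, L.mul_mem (hf _) (hKL a.2.2)⟩
  have : Function.Injective F := fun a b e => by
    have e1 : f a.1 * a.2 = f b.1 * b.2 := congrArg Subtype.val e
    have e2 : a.1 = b.1 := hi (by
      change π _ = π _
      rw [← hπ _ _ a.2.2, e1, hπ _ _ b.2.2])
    rw [e2] at e1
    exact Prod.ext e2 (Subtype.ext (mul_left_cancel e1))
  simpa using Nat.card_le_card_of_injective F this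

section

variable {P : PM} {I : Type} [Fintype I] [DecidableEq I] {ε : I ≃ Fin P.n}

/-- The code of a conjugate. -/
noncomputable def cjc (P : PM) (lc : ℕ → ℕ) (X : ℕ) (w : List ℕ) : ℕ :=
  P.mul (P.mul (evC P.mul P.one lc w) X) (evC P.mul P.one lc (invW (ivOf ivl) w))

theorem step (h : P.OK) [Finite (GL I (ZMod P.p))] {σ : ℕ → GL I (ZMod P.p)} {lc : ℕ → ℕ}
    (hσ : ∀ c, P.Rep ε (σ c) (lc c)) (hiv : IvOK σ (ivOf ivl)) {L K : List ℕ} {X : ℕ}
    {ws : List (List ℕ)} {m : ℕ} (hc : P.chkRed 1 X = true ∧ (∀ c ∈ K, c ∈ L ∧ P.mul (lc c) X = P.mul X (lc c)) ∧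
      (∀ w ∈ ws, ∀ c ∈ w, c ∈ L) ∧ ws.length = m ∧ (ws.map (cjc P lc X)).IsChain (· < ·)) :
    m * Nat.card (gen σ K) ≤ Nat.card (gen σ L) := by
  obtain ⟨h1, h2, h3, rfl, h4⟩ := hc
  have hX := h.red_of_chk h1
  let π : GL I (ZMod P.p) → Matrix I I (ZMod P.p) := fun g => g.val * P.dec ε X * (g⁻¹).val
  have hK : ∀ k ∈ gen σ K, k.val * P.dec ε X = P.dec ε X * k.val := fun k hk => by
    induction hk using Subgroup.closure_induction with
    | mem x hx =>
      obtain ⟨c, hc, rfl⟩ := hx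
      rw [(hσ c).2, ← h.dec_mul (hσ c).1 hX, ← h.dec_mul hX (hσ c).1, (h2 c hc).2]
    | one => simp
    | mul x y _ _ hx hy => rw [Units.val_mul, mul_assoc, hy, ← mul_assoc, hx, mul_assoc]
    | inv x _ hx =>
      calc _ = (x⁻¹).val * (P.dec ε X * x.val) * (x⁻¹).val := by simp [mul_assoc]
        _ = _ := by rw [← hx]; simp [← mul_assoc]
  have hr := (h.codes ε 1).rep_evC hσ
  have hπ : ∀ w, P.Red (cjc P lc X w) ∧ π (ev σ w) = P.dec ε (cjc P lc X w) := fun w => by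
    have a1 : P.Rep ε _ (evC P.mul P.one lc _) := hr w
    have a2 : P.Rep ε _ (evC P.mul P.one lc _) := hr (invW (ivOf ivl) w)
    rw [ev_invW hiv] at a2
    exact ⟨h.red_mul (h.red_mul a1.1 hX) a2.1, by
      rw [cjc, h.dec_mul (h.red_mul a1.1 hX) a2.1, h.dec_mul a1.1 hX, ← a1.2, ← a2.2]⟩
  refine card_step (gen_mono fun c hc => (h2 c hc).1) π (fun g k hk => ?_)
    (fun i : Fin ws.length => ev σ ws[i]) (fun i => ev_mem_gen (h3 _ (List.getElem_mem _))) fun i j e => ?_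
  · change (g * k).val * _ * ((g * k)⁻¹).val = g.val * _ * (g⁻¹).val
    rw [_root_.mul_inv_rev, Units.val_mul, Units.val_mul, mul_assoc g.val, hK k hk]
    simp [mul_assoc]
  · have e1 : cjc P lc X ws[i] = cjc P lc X ws[j] :=
      h.dec_inj (ε := ε) (hπ _).1 (hπ _).1 ((hπ _).2.symm.trans (e.trans (hπ _).2))
    have h5 := List.pairwise_iff_getElem.1 (List.isChain_iff_pairwise.1 h4)
    rcases lt_trichotomy i j with k | k | k
    · have := h5 i j (by simp) (by simp) k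
      simp only [List.getElem_map] at this
      exact absurd e1 this.ne
    · exact k
    · have := h5 j i (by simp) (by simp) k
      simp only [List.getElem_map] at this
      exact absurd e1 this.ne'

end

theorem mem_isometry {I : Type} [Fintype I] [DecidableEq I] {F : Type} [Field F] {q : (I → F) → F}
    {B : Matrix I I F} (hq : ∀ v, q v = v ⬝ᵥ B *ᵥ v) {g : GL I F}
    (h1 : ∀ i j, (g.valᵀ * B * g.val) i j + (g.valᵀ * B * g.val) j i = B i j + B j i)
    (h2 : ∀ i, (g.valᵀ * B * g.val) i i = B i i) : g ∈ Cfsg.isometryGroup F q := by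
  intro u _
  change q (g.val *ᵥ u) = q u
  have e1 : (g.val *ᵥ u) ⬝ᵥ B *ᵥ (g.val *ᵥ u) = u ⬝ᵥ (g.valᵀ * B * g.val) *ᵥ u := by
    rw [← mulVec_mulVec, ← mulVec_mulVec, dotProduct_mulVec u, vecMul_transpose]
  rw [hq, hq, e1, ← sub_eq_zero, ← dotProduct_sub, ← sub_mulVec]
  generalize g.valᵀ * B * g.val = A at h1 h2
  simp only [dotProduct, mulVec, Finset.mul_sum]
  rw [← Finset.sum_product']
  refine Finset.sum_involution (fun a _ => a.swap) (fun a _ => ?_) (fun a _ k e => k ?_)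
    (fun _ _ => by simp) (fun _ _ => rfl)
  · simp only [Prod.fst_swap, Prod.snd_swap, Matrix.sub_apply]
    linear_combination (u a.1 * u a.2) * h1 a.1 a.2
  · have : a.2 = a.1 := congrArg Prod.fst e
    simp [this, h2]

theorem omega_equiv {I : Type} [Fintype I] [DecidableEq I] {F : Type} [Field F] {q : (I → F) → F}
    {N : ℕ} (h0 : 0 < N) (hO : Nat.card (Cfsg.isometryGroup F q) = 2 * N)
    (hP : Nat.card (Cfsg.POmega F q) = N) {M : Subgroup (GL I F)} (hM : M ≤ Cfsg.isometryGroup F q)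
    (hc : Nat.card M = N) : Nonempty (M ≃* Cfsg.POmega F q) := by
  have : Finite (Cfsg.isometryGroup F q) := Nat.finite_of_card_ne_zero (by omega)
  have e0 := Subgroup.subgroupOfEquivOfLe hM
  have c1 : Nat.card (M.subgroupOf (Cfsg.isometryGroup F q)) = N := by
    rw [Nat.card_congr e0.toEquiv, hc]
  have c2 := (M.subgroupOf (Cfsg.isometryGroup F q)).index_mul_card
  rw [c1, hO] at c2
  have c3 := Nat.eq_of_mul_eq_mul_right h0 c2
  have c4 : Cfsg.Omega F q ≤ M.subgroupOf (Cfsg.isometryGroup F q) := by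
    rw [Cfsg.Omega, commutator_def, Subgroup.commutator_le]
    intro a _ b _
    simp only [commutatorElement_def, Subgroup.mul_mem_iff_of_index_two c3, inv_mem_iff]
    tauto
  have c5 := (Subgroup.center (Cfsg.Omega F q)).index_mul_card
  rw [Subgroup.index_eq_card, hP] at c5
  have c6 := Subgroup.card_le_of_le c4
  have c7 : 0 < Nat.card (Subgroup.center (Cfsg.Omega F q)) := Nat.card_pos
  have c8 : Nat.card (Subgroup.center (Cfsg.Omega F q)) = 1 := by nlinarith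
  have c9 := Subgroup.eq_of_le_of_card_ge c4 (by rw [c1, ← c5, c8, mul_one])
  exact ⟨(e0.symm.trans (MulEquiv.subgroupCongr c9.symm)).trans ((QuotientGroup.quotientMulEquivOfEq
    (Subgroup.eq_bot_of_card_eq _ c8)).trans QuotientGroup.quotientBot).symm⟩

theorem final {K X : Type*} [Group K] [Group X] [IsSimpleGroup X] [Nontrivial G] {e : ℕ → G}
    {σ : ℕ → K} (h1 : IvOK e (ivOf ivl)) (h2 : IvOK σ (ivOf ivl)) (top : gen e LL = ⊤) {N : ℕ}
    (hb : Bd (gen (fun c => (e c, σ c)) LL) N) (hN : N ≤ Nat.card (gen σ LL))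
    (hX : Nat.card (gen σ LL) = N → Nonempty (gen σ LL ≃* X)) : Nonempty (G ≃* X) := by
  have a1 : IvOK (fun c => (e c, σ c)) (ivOf ivl) := fun c => Prod.ext (h1 c) (h2 c)
  have t1 : Tr (fun c => (e c, σ c)) σ LL := Tr.of_hom (MonoidHom.snd G K) fun _ _ => rfl
  obtain ⟨x⟩ := hX (le_antisymm (t1.bd a1 h2 hLL hb).2 hN)
  have t2 : Tr (fun c => (e c, σ c)) e LL := Tr.of_hom (MonoidHom.fst G K) fun _ _ => rfl
  obtain ⟨f, hf, -⟩ := ((t1.symm_of_card a1 h2 hLL hb hN).trans t2).exists_surj h2 h1 hLL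
  have := x.isSimpleGroup
  let y : gen e LL ≃* G := (MulEquiv.subgroupCongr top).trans Subgroup.topEquiv
  refine ⟨y.symm.trans ((MulEquiv.ofBijective f ⟨(MonoidHom.ker_eq_bot_iff f).1
    ((MonoidHom.normal_ker f).eq_bot_or_eq_top.resolve_right fun t => ?_), hf⟩).symm.trans x)⟩
  obtain ⟨a, ha⟩ := exists_ne (1 : G)
  obtain ⟨b, hb⟩ := hf (y.symm a)
  have : f b = 1 := (t ▸ Subgroup.mem_top b : b ∈ f.ker)
  exact ha (by rw [← y.apply_symm_apply a, ← hb, this, map_one])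

end H3.Z0
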