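import Mathlib
import Cfsg.Agent.H3.Z27B
import Cfsg.Agent.H11.C3Gen

/-! Tools for a presentation of an orthogonal group in dimension eight over the field with three
elements. -/

set_option autoImplicit false
set_option maxRecDepth 100000
set_option linter.all false

namespace H3.Z1

open H29 H7 H7.Cay H3.Z0

variable {G : Type*} [Group G]

/-- The inverses of the letters. -/
def ivl : List ℕ := [0, 1, 2, 3, 4, 5, 6, 7, 8, 9, 10, 11, 12, 14, 13, 16, 15, 18, 17, 20, 19]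
/-- The inverses of the letters outside the Sylow subgroup. -/
noncomputable def iv9 : ℕ → ℕ := ivOf [0, 2, 1, 4, 3, 6, 5, 8, 7]

theorem hLL : ∀ c ∈ List.range 21, ivOf ivl c ∈ List.range 21 := by decide

theorem iv9_ok {e : ℕ → G} (h : IvOK e (ivOf ivl)) : IvOK (fun l => e (l + 12)) iv9 := fun l => by
  have : iv9 l + 12 = ivOf ivl (l + 12) := by
    by_cases hl : l < 9
    · exact (by decide : ∀ l < 9, iv9 l + 12 = ivOf ivl (l + 12)) l hl
    · rw [iv9, ivOf_ge (not_lt.1 hl), ivOf_ge (l := ivl) (by change 21 ≤ _; omega)]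
  change e _ = _
  rw [this, h]

/-- The letters of the Sylow subgroup. -/
def cut (e : ℕ → G) (c : ℕ) : G := if c < 12 then e c else 1

theorem cut_iv {e : ℕ → G} (h : IvOK e (ivOf ivl)) : IvOK (cut e) (ivOf Z0.ivl) := fun c => by
  by_cases hc : c < 12
  · have a := (by decide : ∀ c < 12, ivOf Z0.ivl c = c ∧ ivOf ivl c = c) c hc
    have b := h c
    rw [a.2] at b
    rw [a.1, cut, if_pos hc]
    exact b
  · have a : ¬ ivOf Z0.ivl c < 12 := by
      by_cases h19 : c < 19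
      · exact (by decide : ∀ c < 19, ¬ c < 12 → ¬ ivOf Z0.ivl c < 12) c h19 hc
      · rwa [ivOf_ge (l := Z0.ivl) (not_lt.1 h19)]
    rw [cut, cut, if_neg hc, if_neg a, inv_one]

theorem ev_cut {e : ℕ → G} {w : List ℕ} (h : ∀ c ∈ w, c < 12) : ev (cut e) w = ev e w :=
  ev_congr fun c hc => if_pos (h c hc)

theorem map_cut {K : Type*} [Group K] (π : G →* K) (e : ℕ → G) :
    (fun c => π (cut e c)) = cut fun c => π (e c) := funext fun c => by
  unfold cut
  split_ifs
  · rfl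
  · exact map_one π

/-- The elements of the Sylow subgroup. -/
noncomputable def vl (e : ℕ → G) : ℕ → G := Z27.C.val (cut e)

theorem map_vl {K : Type*} [Group K] (π : G →* K) (e : ℕ → G) (c : ℕ) :
    π (vl e c) = vl (fun c => π (e c)) c := by
  rw [vl, Tab.map_val, map_cut, vl]

theorem ok {e : ℕ → G} (h : IvOK e (ivOf ivl)) (h3 : ∀ r ∈ Z27.RR, ev (cut e) r = 1) :
    Z27.C.OK (cut e) :=
  have h1 := cut_iv h
  open Z27 in ok_of_known ((((((((((((((((((((((((((((((((((((((((((Tab.known_tree h1 k0).next h1 h3 k1).next h1 h3 k2).next h1 h3 k3).next h1 h3 k4).next h1 h3 k5).next h1 h3 k6).next h1 h3 k7).next h1 h3 k8).next h1 h3 k9).next h1 h3 k10).next h1 h3 k11).next h1 h3 k12).next h1 h3 k13).next h1 h3 k14).next h1 h3 k15).next h1 h3 k16).next h1 h3 k17).next h1 h3 k18).next h1 h3 k19).next h1 h3 k20).next h1 h3 k21).next h1 h3 k22).next h1 h3 k23).next h1 h3 k24).next h1 h3 k25).next h1 h3 k26).next h1 h3 k27).next h1 h3 k28).next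 h1 h3 k29).next h1 h3 k30).next h1 h3 k31).next h1 h3 k32).next h1 h3 k33).next h1 h3 k34).next h1 h3 k35).next h1 h3 k36).next h1 h3 k37).next h1 h3 k38).next h1 h3 k39).next h1 h3 k40).next h1 h3 k41) rfl

theorem word_mem' {M : GM} {φ e : ℕ → G} (s : M.Sound φ) {cd : ℕ → ℕ}
    (hcd : ∀ y < 12, cd y < M.n ∧ φ (cd y) = e y) {w : List ℕ} {c : ℕ} {R : List (ℕ × ℕ)}
    (h : toT M cd w = (c, R)) (k : (∀ a ∈ R, a.2 < M.n) → evR φ (fun l => e (l + 12)) R ∈ s.sub) :
    ev e w ∈ s.sub := by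
  obtain ⟨a1, a2, a3⟩ := toT_spec s hcd w
  rw [h] at a1 a2 a3
  rw [a3]
  exact s.sub.mul_mem (s.mem a1) (k a2)

/-- The conjugation tables. -/
noncomputable def alG (A : List ℕ) (l c : ℕ) : ℕ := Bool.rec 4096 (pk (nth 0 A l) 13 c) (lt l 9)

theorem al_all9 {M : GM} {φ g : ℕ → G} (s : M.Sound φ) (hn : M.n = 4096) {A K : List ℕ}
    {Y : List (List (ℕ × ℕ))} (hY : ∀ l < 9, ∀ y ∈ nth [] Y l, φ y.1 * g l = g l * φ y.2)
    (h : ∀ l < 9, chkAl M (alG A l) (pk (nth 0 K l) 4) (nth [] Y l) = true) :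
    ∀ l, ∀ c < M.n, alG A l c < M.n → φ c * g l = g l * φ (alG A l c) := fun l => by
  by_cases hl : l < 9
  · exact al_sound s (hY l hl) (h l hl)
  · intro c _ k
    have : lt l 9 = false := by rw [← Bool.not_eq_true, lt_true]; exact hl
    rw [alG, this, hn] at k
    exact absurd k (lt_irrefl _)

/-- The search for a representative. -/
noncomputable def ctG (M : GM) (A : List ℕ) (T : List (List ℕ)) (l p : ℕ) : ℕ :=
  List.rec (motive := fun _ => ℕ) 0 (fun t _ ih =>
    Bool.rec ih t (lt (alG A l (M.mul (M.inv t) p)) M.n)) (nth [] T l)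

theorem all9 {p : ℕ → Prop} (h0 : p 0) (h1 : p 1) (h2 : p 2) (h3 : p 3) (h4 : p 4) (h5 : p 5)
    (h6 : p 6) (h7 : p 7) (h8 : p 8) : ∀ l < 9, p l := fun l hl => by
  interval_cases l <;> assumption

theorem upto_ax {D : DC} {H : Subgroup G} {φ g : ℕ → G} (h : D.Hyp H φ g) {n : ℕ}
    (hl : ∀ l < n, g l ∈ H) (hc : allF n (fun f => and2 (Nat.beq (D.fl (D.ft f) 4) (Nat.succ f))
      (allF 4 fun a => Nat.beq (D.fl (D.ft f) a) 0)) = true) : D.Upto H φ g n := by
  simp only [and2_true, nbeq, allF_true] at hc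
  intro f hf
  obtain ⟨c1, c2⟩ := hc f hf
  refine ⟨by rw [c2 1 (by omega)]; exact h.snd.pos, by rw [c2 3 (by omega)]; exact h.snd.pos,
    fun h0 => by omega, fun l' hl' => ?_⟩
  obtain rfl : f = l' := by omega
  rw [c2 0 (by omega), c2 1 (by omega), c2 2 (by omega), c2 3 (by omega), DC.rep_zero, h.snd.zero]
  simpa [RC] using hl f hf

theorem bd_gen9 {M : GM} {φ e : ℕ → G} (s : M.Sound φ) {cd : ℕ → ℕ}
    (hcd : ∀ y < 12, cd y < M.n ∧ φ (cd y) = e y) {n : ℕ}
    (h : Bd (s.sub ⊔ Subgroup.closure ((fun l => e (l + 12)) '' Set.Iio 9)) n) :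
    Bd (gen e (List.range 21)) n := by
  have k : gen e (List.range 21) ≤ s.sub ⊔ Subgroup.closure ((fun l => e (l + 12)) '' Set.Iio 9) :=
    gen_le.2 fun c hc => by
      have h19 := List.mem_range.1 hc
      by_cases h12 : c < 12
      · exact Subgroup.mem_sup_left ⟨_, (hcd c h12).1, (hcd c h12).2⟩
      · exact Subgroup.mem_sup_right (Subgroup.subset_closure ⟨c - 12, show c - 12 < 9 by omega,
          congrArg e (by omega)⟩)
  have := h.1
  exact ⟨Finite.of_injective _ (Subgroup.inclusion_injective k), (Subgroup.card_le_of_le k).trans h.2⟩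

theorem rel_of_mem' {K : Type*} [Group K] {M : GM} {e : ℕ → G} (π : G →* K)
    (s : M.Sound (vl e)) (hi : M.Inj (vl fun c => π (e c))) {w : List ℕ}
    (h : ev (fun c => π (e c)) w = 1) (k : ev e w ∈ s.sub) : ev e w = 1 := by
  obtain ⟨c, hc, e1⟩ := k
  have : c = 0 := hi c hc 0 s.pos (by rw [← map_vl, e1, map_ev, h, vl, Tab.val_zero])
  rw [← e1, this, vl, Tab.val_zero]

theorem inj_of_map' {K : Type*} [Group K] {M : GM} {e : ℕ → G} (π : G →* K)
    (hi : M.Inj (vl fun c => π (e c))) : M.Inj (vl e) := fun a ha b hb h =>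
  hi a ha b hb (by rw [← map_vl, ← map_vl, h])

theorem final' {X : Type*} [Group X] [IsSimpleGroup X] [Nontrivial G] {e : ℕ → G} {σ : ℕ → X}
    {iv : ℕ → ℕ} {L : List ℕ} (hL : ∀ c ∈ L, iv c ∈ L) (h1 : IvOK e iv) (h2 : IvOK σ iv)
    (top : gen e L = ⊤) (top' : gen σ L = ⊤) (hb : Bd (gen (fun c => (e c, σ c)) L) (Nat.card X)) :
    Nonempty (G ≃* X) := by
  have a1 : IvOK (fun c => (e c, σ c)) iv := fun c => Prod.ext (h1 c) (h2 c)
  have t1 : Tr (fun c => (e c, σ c)) σ L := Tr.of_hom (MonoidHom.snd G X) fun _ _ => rfl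
  let x : gen σ L ≃* X := (MulEquiv.subgroupCongr top').trans Subgroup.topEquiv
  have t2 : Tr (fun c => (e c, σ c)) e L := Tr.of_hom (MonoidHom.fst G X) fun _ _ => rfl
  obtain ⟨f, hf, -⟩ := ((t1.symm_of_card a1 h2 hL hb
    (Nat.card_congr x.toEquiv).ge).trans t2).exists_surj h2 h1 hL
  have := x.isSimpleGroup
  let y : gen e L ≃* G := (MulEquiv.subgroupCongr top).trans Subgroup.topEquiv
  refine ⟨y.symm.trans ((MulEquiv.ofBijective f ⟨(MonoidHom.ker_eq_bot_iff f).1
    ((MonoidHom.normal_ker f).eq_bot_or_eq_top.resolve_right fun t => ?_), hf⟩).symm.trans x)⟩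
  obtain ⟨a, ha⟩ := exists_ne (1 : G)
  obtain ⟨b, hb⟩ := hf (y.symm a)
  have : f b = 1 := (t ▸ Subgroup.mem_top b : b ∈ f.ker)
  exact ha (by rw [← y.apply_symm_apply a, ← hb, this, map_one])

end H3.Z1
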